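import Mathlib

namespace Cfsg.Agent.Lib.Helper6

open scoped Pointwise

/-- class size equals index of centralizer -/
theorem ncard_class_eq_index {G : Type*} [Group G] [Finite G] (x : G) :
    (ConjClasses.mk x).carrier.ncard = (Subgroup.centralizer ({x} : Set G)).index := by
  rw [← ConjAct.orbit_eq_carrier_conjClasses, ← MulAction.index_stabilizer, ConjAct.stabilizer_eq_centralizer]
  rfl

/-- a finite group is not the union of the conjugates of a proper subgroup -/
theorem exists_forall_conj_not_mem {G : Type*} [Group G] [Finite G] (H : Subgroup G) (hH : H ≠ ⊤) :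
    ∃ g : G, ∀ x : G, x⁻¹ * g * x ∉ H := by
  classical
  by_contra hcon
  push Not at hcon
  haveI : Fintype G := Fintype.ofFinite G
  haveI : Fintype (G ⧸ H) := Fintype.ofFinite _
  have hB := MulAction.sum_card_fixedBy_eq_card_orbits_mul_card_group G (G ⧸ H)
  have horb : Fintype.card (Quotient (MulAction.orbitRel G (G ⧸ H))) = 1 := by
    rw [Fintype.card_eq_one_iff]
    refine ⟨Quotient.mk'' (QuotientGroup.mk 1), ?_⟩
    intro q
    induction q using Quotient.inductionOn' with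
    | h a =>
      apply Quotient.sound'
      exact MulAction.exists_smul_eq G _ _
  rw [horb, one_mul] at hB
  have h1 : ∀ g : G, 1 ≤ Fintype.card (MulAction.fixedBy (G ⧸ H) g) := by
    intro g
    obtain ⟨x, hx⟩ := hcon g
    rw [Nat.succ_le_iff, Fintype.card_pos_iff]
    refine ⟨⟨QuotientGroup.mk x, ?_⟩⟩
    rw [MulAction.mem_fixedBy]
    show ((g * x : G) : G ⧸ H) = (x : G ⧸ H)
    rw [QuotientGroup.eq]
    have : (g * x)⁻¹ * x = (x⁻¹ * g⁻¹ * x) := by group
    rw [this]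
    have h2 := H.inv_mem hx
    have : (x⁻¹ * g * x)⁻¹ = x⁻¹ * g⁻¹ * x := by group
    rwa [this] at h2
  have h2 : 2 ≤ Fintype.card (MulAction.fixedBy (G ⧸ H) (1 : G)) := by
    have : MulAction.fixedBy (G ⧸ H) (1 : G) = Set.univ := by
      ext q; simp [MulAction.mem_fixedBy]
    have hidx : 2 ≤ H.index := by
      have h0 : H.index ≠ 0 := Subgroup.index_ne_zero_of_finite
      have h1 : H.index ≠ 1 := fun h => hH (Subgroup.index_eq_one.mp h)
      omega
    have : Fintype.card (MulAction.fixedBy (G ⧸ H) (1 : G)) = H.index := by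
      rw [Subgroup.index, Nat.card_eq_fintype_card]
      exact Fintype.card_congr ((Equiv.setCongr this).trans (Equiv.Set.univ _))
    omega
  have hsum : Fintype.card G + 1 ≤ ∑ a : G, Fintype.card (MulAction.fixedBy (G ⧸ H) a) := by
    have : ∑ a : G, (1 : ℕ) + 1 ≤ ∑ a : G, Fintype.card (MulAction.fixedBy (G ⧸ H) a) := by
      rw [← Finset.add_sum_erase Finset.univ (fun a : G => Fintype.card (MulAction.fixedBy (G ⧸ H) a)) (Finset.mem_univ (1 : G))]
      rw [← Finset.add_sum_erase Finset.univ (fun _ : G => (1 : ℕ)) (Finset.mem_univ (1 : G))]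
      have : ∑ x ∈ Finset.univ.erase (1 : G), (1 : ℕ) ≤ ∑ x ∈ Finset.univ.erase (1 : G), Fintype.card (MulAction.fixedBy (G ⧸ H) x) :=
        Finset.sum_le_sum (fun g _ => h1 g)
      omega
    simpa using this
  omega

/-- p-part / p'-part decomposition -/
theorem exists_pparts {G : Type*} [Group G] [Finite G] (p : ℕ) [hp : Fact p.Prime] (y : G) :
    ∃ y1 y2 : G, y = y1 * y2 ∧ Commute y1 y2 ∧ (∃ k : ℕ, y1 ^ (p ^ k) = 1) ∧ (orderOf y2).Coprime p := by
  obtain ⟨a, m, hm, hn⟩ := Nat.exists_eq_pow_mul_and_not_dvd (orderOf_pos y).ne' p hp.1.ne_one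
  have hcop : Nat.Coprime (p ^ a) m := (Nat.Coprime.pow_left a ((Nat.Prime.coprime_iff_not_dvd hp.1).mpr hm))
  have hbez := Nat.gcd_eq_gcd_ab (p ^ a) m
  rw [hcop.gcd_eq_one] at hbez
  refine ⟨y ^ ((m : ℤ) * Nat.gcdB (p ^ a) m), y ^ (((p ^ a : ℕ) : ℤ) * Nat.gcdA (p ^ a) m), ?_, ?_, ⟨a, ?_⟩, ?_⟩
  · rw [← zpow_add, add_comm, ← hbez]; simp
  · exact (Commute.refl y).zpow_zpow _ _
  · rw [← zpow_natCast, ← zpow_mul, mul_comm, ← mul_assoc]
    have : ((p ^ a : ℕ) : ℤ) * (m : ℤ) = ((orderOf y : ℕ) : ℤ) := by rw [hn]; push_cast; ring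
    rw [this, zpow_mul, zpow_natCast, pow_orderOf_eq_one, one_zpow]
  · have h1 : (y ^ (((p ^ a : ℕ) : ℤ) * Nat.gcdA (p ^ a) m)) ^ m = 1 := by
      rw [← zpow_natCast, ← zpow_mul, mul_comm, ← mul_assoc]
      have : (m : ℤ) * ((p ^ a : ℕ) : ℤ) = ((orderOf y : ℕ) : ℤ) := by rw [hn]; push_cast; ring
      rw [this, zpow_mul, zpow_natCast, pow_orderOf_eq_one, one_zpow]
    have h2 : orderOf (y ^ (((p ^ a : ℕ) : ℤ) * Nat.gcdA (p ^ a) m)) ∣ m := orderOf_dvd_of_pow_eq_one h1
    exact Nat.Coprime.coprime_dvd_left h2 ((Nat.Prime.coprime_iff_not_dvd hp.1).mpr hm).symm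

end Cfsg.Agent.Lib.Helper6
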