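import Mathlib

set_option autoImplicit false

namespace Cfsg.Agent.Lib.Helper6

section QuatRec
variable {G : Type*} [Group G]

/-- powers indexed by `ZMod N` -/
noncomputable def zpN (N : ℕ) (ρ : G) (i : ZMod N) : G := ρ ^ (ZMod.cast i : ℤ)

theorem zpN_of_intCast {N : ℕ} {ρ : G} (hρ : orderOf ρ = N) (k : ℤ) (i : ZMod N)
    (h : (k : ZMod N) = i) : ρ ^ k = zpN N ρ i := by
  unfold zpN
  rw [zpow_eq_zpow_iff_modEq, hρ, ← ZMod.intCast_eq_intCast_iff, h, ZMod.intCast_zmod_cast]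

theorem zpN_add {N : ℕ} {ρ : G} (hρ : orderOf ρ = N) (i j : ZMod N) :
    zpN N ρ (i + j) = zpN N ρ i * zpN N ρ j := by
  rw [← zpN_of_intCast hρ ((ZMod.cast i : ℤ) + (ZMod.cast j : ℤ)) (i + j)
    (by push_cast; simp), zpow_add]
  rfl

theorem zpN_neg {N : ℕ} {ρ : G} (hρ : orderOf ρ = N) (i : ZMod N) :
    zpN N ρ (-i) = (zpN N ρ i)⁻¹ := by
  rw [← zpN_of_intCast hρ (-(ZMod.cast i : ℤ)) (-i) (by push_cast; simp), zpow_neg]
  rfl

theorem zpN_sub {N : ℕ} {ρ : G} (hρ : orderOf ρ = N) (i j : ZMod N) :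
    zpN N ρ (j - i) = (zpN N ρ i)⁻¹ * zpN N ρ j := by
  rw [sub_eq_add_neg, add_comm, zpN_add hρ, zpN_neg hρ]

theorem zpN_natCast {N : ℕ} {ρ : G} (hρ : orderOf ρ = N) (k : ℕ) :
    zpN N ρ (k : ZMod N) = ρ ^ k := by
  rw [← zpN_of_intCast hρ (k : ℤ) (k : ZMod N) (by push_cast; rfl), zpow_natCast]

theorem zpN_eq_one {N : ℕ} {ρ : G} (hρ : orderOf ρ = N) (i : ZMod N) (h : zpN N ρ i = 1) :
    i = 0 := by
  unfold zpN at h
  have := (orderOf_dvd_iff_zpow_eq_one).2 h
  rw [hρ, ← ZMod.intCast_zmod_eq_zero_iff_dvd, ZMod.intCast_zmod_cast] at this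
  exact this

theorem zpN_mem_zpowers (N : ℕ) (ρ : G) (i : ZMod N) : zpN N ρ i ∈ Subgroup.zpowers ρ :=
  ⟨_, rfl⟩

/-- recognition of generalized quaternion groups by generators and relations -/
theorem nonempty_mulEquiv_quaternion [Finite G] (m : ℕ) [NeZero m] (α β : G)
    (hα : orderOf α = 2 * m) (hβ2 : β ^ 2 = α ^ m) (hconj : β * α * β⁻¹ = α⁻¹)
    (hβ : β ∉ Subgroup.zpowers α) (hcard : Nat.card G = 4 * m) :
    Nonempty (G ≃* QuaternionGroup m) := by
  have hc : ∀ i : ZMod (2 * m), zpN (2 * m) α i * β = β * (zpN (2 * m) α i)⁻¹ := by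
    intro i
    unfold zpN
    have h1 : β * α ^ (ZMod.cast i : ℤ) * β⁻¹ = (α ^ (ZMod.cast i : ℤ))⁻¹ := by
      rw [← conj_zpow, hconj, inv_zpow]
    calc α ^ (ZMod.cast i : ℤ) * β = ((α ^ (ZMod.cast i : ℤ))⁻¹)⁻¹ * β := by rw [inv_inv]
      _ = (β * α ^ (ZMod.cast i : ℤ) * β⁻¹)⁻¹ * β := by rw [h1]
      _ = β * (α ^ (ZMod.cast i : ℤ))⁻¹ := by group
  have hm : zpN (2 * m) α (m : ZMod (2 * m)) = β * β := by
    rw [zpN_natCast hα, ← hβ2, pow_two]
  let f : QuaternionGroup m →* G := MonoidHom.mk'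
    (fun g => match g with
      | QuaternionGroup.a i => zpN (2 * m) α i
      | QuaternionGroup.xa i => β * zpN (2 * m) α i)
    (by
      intro x y
      rcases x with i | i <;> rcases y with j | j
      · show zpN (2 * m) α (i + j) = _
        rw [zpN_add hα]
      · show β * zpN (2 * m) α (j - i) = zpN (2 * m) α i * (β * zpN (2 * m) α j)
        rw [zpN_sub hα, ← mul_assoc, ← mul_assoc, hc i]
      · show β * zpN (2 * m) α (i + j) = β * zpN (2 * m) α i * zpN (2 * m) α j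
        rw [zpN_add hα, mul_assoc]
      · show zpN (2 * m) α (m + j - i) = β * zpN (2 * m) α i * (β * zpN (2 * m) α j)
        rw [add_sub_assoc, zpN_add hα, zpN_sub hα, hm]
        have := hc i
        calc β * β * ((zpN (2 * m) α i)⁻¹ * zpN (2 * m) α j)
            = β * (β * (zpN (2 * m) α i)⁻¹) * zpN (2 * m) α j := by group
          _ = β * (zpN (2 * m) α i * β) * zpN (2 * m) α j := by rw [this]
          _ = β * zpN (2 * m) α i * (β * zpN (2 * m) α j) := by group)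
  have hfa : ∀ i, f (QuaternionGroup.a i) = zpN (2 * m) α i := fun i => rfl
  have hfxa : ∀ i, f (QuaternionGroup.xa i) = β * zpN (2 * m) α i := fun i => rfl
  have hinj : Function.Injective f := by
    rw [injective_iff_map_eq_one]
    intro g hg
    rcases g with i | i
    · rw [hfa] at hg
      rw [zpN_eq_one hα i hg]
      rfl
    · exfalso
      rw [hfxa] at hg
      apply hβ
      have h1 : β = (zpN (2 * m) α i)⁻¹ := eq_inv_of_mul_eq_one_left hg
      rw [h1]
      exact Subgroup.inv_mem _ (zpN_mem_zpowers _ _ _)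
  have hbij : Function.Bijective f := by
    rw [Nat.bijective_iff_injective_and_card]
    refine ⟨hinj, ?_⟩
    rw [Nat.card_eq_fintype_card, QuaternionGroup.card, hcard]
  exact ⟨(MulEquiv.ofBijective f hbij).symm⟩

end QuatRec

end Cfsg.Agent.Lib.Helper6
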