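import Mathlib
import Cfsg.Agent.Lib.Helper6.TwoCyc

set_option autoImplicit false

namespace Cfsg.Agent.Lib.Helper6

theorem card_ker_pow_two_le {H : Type*} [CommGroup H] [Finite H] (z : H)
    (hz : ∀ x : H, x ^ 2 = 1 → x = 1 ∨ x = z) (j : ℕ) :
    Nat.card (powMonoidHom (2 ^ j) : H →* H).ker ≤ 2 ^ j := by
  induction j with
  | zero =>
    have : (powMonoidHom (2 ^ 0) : H →* H).ker = ⊥ := by
      ext x
      simp [MonoidHom.mem_ker]
    rw [this, Subgroup.card_bot, pow_zero]
  | succ j ih =>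
    obtain ⟨K', hK'⟩ : ∃ K' : Subgroup H, K' = (powMonoidHom (2 ^ (j + 1)) : H →* H).ker :=
      ⟨_, rfl⟩
    rw [← hK']
    let f : K' →* H := (powMonoidHom (2 ^ j) : H →* H).comp K'.subtype
    have h1 : Nat.card f.ker ≤ Nat.card (powMonoidHom (2 ^ j) : H →* H).ker := by
      apply Nat.card_le_card_of_injective
        (fun x : f.ker => (⟨(x : K').1, by
          have := x.2
          rw [MonoidHom.mem_ker] at this ⊢
          exact this⟩ : (powMonoidHom (2 ^ j) : H →* H).ker))
      intro x y hxy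
      apply Subtype.ext
      apply Subtype.ext
      exact congrArg (fun k : (powMonoidHom (2 ^ j) : H →* H).ker => (k : H)) hxy
    have h2 : Nat.card f.range ≤ 2 := by
      have hsub : (f.range : Set H) ⊆ {1, z} := by
        rintro y ⟨x, rfl⟩
        have hx : (x : H) ^ 2 ^ (j + 1) = 1 := by
          have h0 : (x : H) ∈ (powMonoidHom (2 ^ (j + 1)) : H →* H).ker := hK' ▸ x.2
          rw [MonoidHom.mem_ker] at h0
          exact h0
        have hy : (f x) ^ 2 = 1 := by
          show ((x : H) ^ 2 ^ j) ^ 2 = 1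
          rw [← pow_mul, ← pow_succ]
          exact hx
        rcases hz _ hy with h | h
        · rw [h]; exact Set.mem_insert _ _
        · rw [h]; exact Set.mem_insert_of_mem _ rfl
      have h3 := Set.ncard_le_ncard hsub (Set.toFinite _)
      have h4 : ({1, z} : Set H).ncard ≤ 2 := Set.ncard_insert_le 1 {z} |>.trans (by simp)
      rw [← Nat.card_coe_set_eq] at h3
      exact h3.trans h4
    have h5 := Subgroup.card_mul_index f.ker
    rw [Subgroup.index_ker] at h5
    rw [← h5, pow_succ]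
    exact Nat.mul_le_mul (h1.trans ih) h2

theorem isCyclic_of_comm_of_unique_involution {H : Type*} [Group H] [Finite H]
    (hH : IsPGroup 2 H) (hc : ∀ a b : H, a * b = b * a) (z : H)
    (hz : ∀ x : H, x ^ 2 = 1 → x = 1 ∨ x = z) : IsCyclic H := by
  classical
  letI : CommGroup H := { (inferInstance : Group H) with mul_comm := hc }
  haveI : Fintype H := Fintype.ofFinite H
  obtain ⟨m, hm⟩ := (IsPGroup.iff_card (p := 2)).1 hH
  apply isCyclic_of_card_pow_eq_one_le
  intro n hn
  obtain ⟨j, hjm, hj⟩ := (Nat.dvd_prime_pow Nat.prime_two).1 (Nat.gcd_dvd_right n (2 ^ m))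
  have hjn : 2 ^ j ≤ n := by
    rw [← hj]; exact Nat.le_of_dvd hn (Nat.gcd_dvd_left n (2 ^ m))
  have hsub : (Finset.univ.filter (fun a : H => a ^ n = 1)) ⊆
      (Finset.univ.filter (fun a : H => a ^ 2 ^ j = 1)) := by
    intro a ha
    rw [Finset.mem_filter] at ha ⊢
    refine ⟨ha.1, ?_⟩
    have h1 : orderOf a ∣ n := orderOf_dvd_of_pow_eq_one ha.2
    have h2 : orderOf a ∣ 2 ^ m := by rw [← hm]; exact orderOf_dvd_natCard a
    rw [← orderOf_dvd_iff_pow_eq_one, ← hj]
    exact Nat.dvd_gcd h1 h2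
  refine (Finset.card_le_card hsub).trans (le_trans ?_ hjn)
  have h3 := card_ker_pow_two_le z hz j
  rw [Nat.card_eq_fintype_card] at h3
  have h4 : Fintype.card (powMonoidHom (2 ^ j) : H →* H).ker
      = (Finset.univ.filter (fun a : H => a ^ 2 ^ j = 1)).card := by
    rw [← Fintype.card_subtype]
    apply Fintype.card_congr
    exact Equiv.subtypeEquivRight (fun a => by rw [MonoidHom.mem_ker]; rfl)
  rw [← h4]
  exact h3

theorem exists_involution_of_modular {G : Type*} [Group G] (a t : G) (q r : ℕ) (hq : q = 4 * r)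
    (hqpos : 0 < q)
    (hao : orderOf a = 2 * q) (hconj : t * a * t⁻¹ = a ^ (q + 1)) (s : ℕ) (hs : a ^ s = t * t) :
    ∃ i : ℕ, (t * a ^ i) ^ 2 = 1 := by
  have ha2q : a ^ (2 * q) = 1 := by rw [← hao]; exact pow_orderOf_eq_one a
  have hconjk : ∀ k : ℕ, t * a ^ k * t⁻¹ = a ^ ((q + 1) * k) := by
    intro k
    rw [← conj_pow, hconj, ← pow_mul]
  have hus : a ^ ((q + 1) * s) = a ^ s := by
    rw [← hconjk, hs]
    group
  have hsq : ∀ k : ℕ, (t * a ^ k) ^ 2 = a ^ ((q + 1) * k + s + k) := by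
    intro k
    rw [pow_add, pow_add, ← hconjk, hs, pow_two]
    group
  have hmod : (q + 1) * s ≡ s [MOD 2 * q] := by
    rw [← hao, ← pow_eq_pow_iff_modEq]
    exact hus
  have hqs0 : q * s ≡ 0 [MOD 2 * q] := by
    have h1 : q * s + s ≡ 0 + s [MOD 2 * q] := by
      rw [zero_add]
      have : q * s + s = (q + 1) * s := by ring
      rw [this]
      exact hmod
    exact Nat.ModEq.add_right_cancel' s h1
  have h2s : 2 ∣ s := by
    have h1 : 2 * q ∣ q * s := (Nat.modEq_zero_iff_dvd).1 hqs0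
    rw [mul_comm 2 q] at h1
    exact Nat.dvd_of_mul_dvd_mul_left hqpos h1
  obtain ⟨s', hs'⟩ := h2s
  obtain ⟨m, hm⟩ : ∃ m, m + s' = s' * q := by
    refine ⟨s' * (q - 1), ?_⟩
    have : q = (q - 1) + 1 := by omega
    nth_rewrite 2 [this]
    ring
  refine ⟨(2 * r + 1) * m, ?_⟩
  rw [hsq]
  have hE : (q + 1) * ((2 * r + 1) * m) + s + (2 * r + 1) * m
      = 2 * q * ((r + 1) * m + s') := by
    rw [hs', hq]
    have h1 : (4 * r + 1) * ((2 * r + 1) * m) + 2 * s' + (2 * r + 1) * m
        = 8 * r * (r + 1) * m + 2 * (m + s') := by ring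
    rw [h1, hm, hq]
    ring
  rw [hE, pow_mul, ha2q, one_pow]

end Cfsg.Agent.Lib.Helper6
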