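import Mathlib
import Cfsg.Agent.Lib.Helper6.UniqInv
import Cfsg.Agent.Lib.Helper6.QuatRec
import Cfsg.Agent.S0015

set_option autoImplicit false

namespace Cfsg.Agent.Lib.Helper6

/-- the key step: with a cyclic self-centralizing normal subgroup `A = ⟨a⟩` of order `2^k`,
`k ≥ 2`, in a 2-group with unique involution, an element centralizing the subgroup of order 4
lies in `A`. -/
theorem mem_of_centralizes_four {G : Type*} [Group G] [Finite G]
    (z : G) (hinv : ∀ x : G, x ^ 2 = 1 → x = 1 ∨ x = z)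
    (A : Subgroup G) [hAn : A.Normal] (hCA : Subgroup.centralizer (A : Set G) = A)
    (a : G) (hAz : A = Subgroup.zpowers a) (k : ℕ) (hk : 2 ≤ k) (hao : orderOf a = 2 ^ k)
    (g : G) (hg2 : g * g ∈ A) (hgc : g * a ^ 2 ^ (k - 2) * g⁻¹ = a ^ 2 ^ (k - 2)) : g ∈ A := by
  by_contra hgA
  have haA : a ∈ A := by rw [hAz]; exact Subgroup.mem_zpowers a
  have hApow : ∀ c ∈ A, ∃ j : ℕ, a ^ j = c := by
    intro c hc
    rw [hAz] at hc
    exact (Submonoid.mem_powers_iff _ _).1 (mem_powers_iff_mem_zpowers.2 hc)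
  obtain ⟨u0, hu0⟩ := hApow (g * a * g⁻¹) (hAn.conj_mem a haA g)
  obtain ⟨u, hu⟩ : ∃ u, u = u0 % (2 ^ k) := ⟨_, rfl⟩
  have hult : u < 2 ^ k := by rw [hu]; exact Nat.mod_lt _ (by positivity)
  have hua : a ^ u = g * a * g⁻¹ := by
    rw [hu, ← hao, pow_mod_orderOf, hu0]
  have hconj : ∀ j : ℕ, g * a ^ j * g⁻¹ = a ^ (u * j) := by
    intro j
    rw [← conj_pow, ← hua, ← pow_mul]
  obtain ⟨s, hs⟩ := hApow (g * g) hg2
  have huu : u * u ≡ 1 [MOD 2 ^ k] := by
    rw [← hao, ← pow_eq_pow_iff_modEq, pow_one]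
    have h1 : (g * g) * a * (g * g)⁻¹ = a := by
      rw [← hs]
      have : Commute (a ^ s) a := (Commute.refl a).pow_left s
      rw [this.eq, mul_inv_cancel_right]
    have h2 : (g * g) * a * (g * g)⁻¹ = g * (g * a * g⁻¹) * g⁻¹ := by group
    rw [h2, ← hua, hconj] at h1
    exact h1
  have hu1 : u ≠ 1 := by
    intro h
    rw [h, pow_one] at hua
    apply hgA
    rw [← hCA, Subgroup.mem_centralizer_iff]
    intro c hc
    obtain ⟨j, rfl⟩ := hApow c hc
    have hcomm : Commute g a := by
      have : g * a = a * g := by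
        calc g * a = (g * a * g⁻¹) * g := by group
          _ = a * g := by rw [← hua]
      exact this
    exact (hcomm.pow_right j).eq.symm
  have hu4 : u ≡ 1 [MOD 4] := by
    have h1 : a ^ (u * 2 ^ (k - 2)) = a ^ (2 ^ (k - 2)) := by rw [← hconj, hgc]
    rw [pow_eq_pow_iff_modEq, hao] at h1
    have h2 : 2 ^ k = 4 * 2 ^ (k - 2) := by
      rw [show (4 : ℕ) = 2 ^ 2 by norm_num, ← pow_add]; congr 1; omega
    rw [h2] at h1
    have h3 : u * 2 ^ (k - 2) ≡ 1 * 2 ^ (k - 2) [MOD 4 * 2 ^ (k - 2)] := by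
      rw [one_mul]; exact h1
    exact Nat.ModEq.mul_right_cancel' (by positivity) h3
  have hu4' : u % 4 = 1 := hu4
  by_cases hk2 : k = 2
  · rw [hk2] at hult
    omega
  have hk3 : 3 ≤ k := by omega
  obtain ⟨q, hq⟩ : ∃ q, q = 2 ^ (k - 1) := ⟨_, rfl⟩
  have hq2 : 2 ^ k = 2 * q := by
    rw [hq, ← pow_succ']; congr 1; omega
  obtain ⟨r, hr⟩ : ∃ r, q = 4 * r := by
    refine ⟨2 ^ (k - 3), ?_⟩
    rw [hq, show k - 1 = (k - 3) + 2 by omega, pow_add]
    ring
  have hrpos : 1 ≤ r := by
    have : 0 < q := by rw [hq]; positivity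
    omega
  rw [hq2] at hult huu hao
  have huq : u = q + 1 := by
    rcases nt_two (k - 1) q u hq hult huu with h | h | h | h
    · exact absurd h hu1
    · omega
    · exact h
    · omega
  rw [huq] at hua
  obtain ⟨i, hi⟩ := exists_involution_of_modular a g q r hr (by omega) hao hua.symm s hs
  have hga : g * a ^ i ∉ A := by
    intro h
    apply hgA
    have := A.mul_mem h (A.inv_mem (A.pow_mem haA i))
    simpa using this
  have haq : a ^ q ∈ A := A.pow_mem haA q
  have haq2 : (a ^ q) ^ 2 = 1 := by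
    rw [← pow_mul, mul_comm, ← hao]; exact pow_orderOf_eq_one a
  have haq1 : a ^ q ≠ 1 := by
    intro h
    have := orderOf_dvd_of_pow_eq_one h
    rw [hao] at this
    have := Nat.le_of_dvd (by omega) this
    omega
  have hzA : z ∈ A := by
    rcases hinv _ haq2 with h | h
    · exact absurd h haq1
    · rw [← h]; exact haq
  rcases hinv _ hi with h | h
  · exact hga (h ▸ A.one_mem)
  · exact hga (h ▸ hzA)


/-- structure of non-cyclic 2-groups with a unique involution -/
theorem unique_involution_structure {G : Type*} [Group G] [Finite G] (hG : IsPGroup 2 G)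
    (z : G) (hinv : ∀ x : G, x ^ 2 = 1 → x = 1 ∨ x = z) (hnc : ¬ IsCyclic G) :
    ∃ n : ℕ, 3 ≤ n ∧ Nat.card G = 2 ^ n ∧ ∃ a b : G, orderOf a = 2 ^ (n - 1) ∧
      b ∉ Subgroup.zpowers a ∧ b ^ 2 = a ^ (2 ^ (n - 2)) ∧ b * a * b⁻¹ = a⁻¹ := by
  classical
  haveI : Group.IsNilpotent G := hG.isNilpotent
  obtain ⟨n, hn⟩ := (IsPGroup.iff_card (p := 2)).1 hG
  -- maximal normal abelian subgroup
  obtain ⟨A, hAmax⟩ := Set.Finite.exists_maximal
    (s := {M : Subgroup G | M.Normal ∧ IsMulCommutative M}) (Set.toFinite _)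
    ⟨⊥, inferInstance, inferInstance⟩
  obtain ⟨⟨hAn, hAc⟩, hAm⟩ := hAmax
  haveI := hAn
  haveI := hAc
  have hCA : Subgroup.centralizer (A : Set G) = A :=
    Cfsg.Agent.S0015.result A (fun M hMn hMc hle => le_antisymm (hAm ⟨hMn, hMc⟩ hle) hle)
  have hAcyc : IsCyclic A := by
    by_cases hzA : z ∈ A
    · refine isCyclic_of_comm_of_unique_involution (hG.to_subgroup A)
        (fun a b => hAc.is_comm.comm a b) ⟨z, hzA⟩ ?_
      intro x hx
      have hx' : (x : G) ^ 2 = 1 := by
        have := congrArg Subtype.val hx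
        simpa using this
      rcases hinv _ hx' with h | h
      · left; exact Subtype.ext h
      · right; exact Subtype.ext h
    · refine isCyclic_of_comm_of_unique_involution (hG.to_subgroup A)
        (fun a b => hAc.is_comm.comm a b) 1 ?_
      intro x hx
      have hx' : (x : G) ^ 2 = 1 := by
        have := congrArg Subtype.val hx
        simpa using this
      rcases hinv _ hx' with h | h
      · left; exact Subtype.ext h
      · exact absurd (h ▸ x.2) hzA
  obtain ⟨g0, hg0⟩ := hAcyc.exists_generator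
  obtain ⟨a, ha⟩ : ∃ a : G, a = (g0 : G) := ⟨_, rfl⟩
  have hAz : A = Subgroup.zpowers a := by
    ext x
    constructor
    · intro hx
      obtain ⟨k, hk⟩ := Subgroup.mem_zpowers_iff.1 (hg0 ⟨x, hx⟩)
      rw [ha]
      refine Subgroup.mem_zpowers_iff.2 ⟨k, ?_⟩
      have := congrArg Subtype.val hk
      simpa using this
    · intro hx
      obtain ⟨k, hk⟩ := Subgroup.mem_zpowers_iff.1 hx
      rw [← hk, ha]
      exact A.zpow_mem g0.2 k
  have haA : a ∈ A := by rw [hAz]; exact Subgroup.mem_zpowers a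
  obtain ⟨k, hk⟩ := (IsPGroup.iff_card (p := 2)).1 (hG.to_subgroup A)
  have hao : orderOf a = 2 ^ k := by rw [← Nat.card_zpowers, ← hAz, hk]
  have hAtop : A ≠ ⊤ := by
    intro h
    apply hnc
    refine ⟨a, fun x => ?_⟩
    show x ∈ Subgroup.zpowers a
    rw [← hAz, h]
    exact Subgroup.mem_top x
  -- index at most two
  have hidx : ∀ g h : G, g ∉ A → h ∉ A → g⁻¹ * h ∈ A := by
    by_cases hk2 : 2 ≤ k
    swap
    · -- A central
      exfalso
      apply hAtop
      rw [Subgroup.eq_top_iff']
      intro g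
      rw [← hCA, Subgroup.mem_centralizer_iff]
      have ha2 : a ^ 2 = 1 := by
        rw [← orderOf_dvd_iff_pow_eq_one, hao]
        exact (pow_dvd_pow 2 (show k ≤ 1 by omega)).trans (by norm_num)
      have hga2 : (g * a * g⁻¹) ^ 2 = 1 := by rw [conj_pow, ha2]; group
      have hcomm : g * a * g⁻¹ = a := by
        rcases hinv _ hga2 with h2 | h2
        · have ha1 : a = 1 := by
            have : a = g⁻¹ * (g * a * g⁻¹) * g := by group
            rw [this, h2]; group
          rw [h2, ha1]
        · rcases hinv _ ha2 with h1 | h1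
          · rw [h1]; group
          · rw [h2, h1]
      intro c hc
      rw [hAz] at hc
      obtain ⟨j, rfl⟩ := Subgroup.mem_zpowers_iff.1 hc
      have hcomm' : Commute g a := by
        have : g * a = a * g := by
          calc g * a = (g * a * g⁻¹) * g := by group
            _ = a * g := by rw [hcomm]
        exact this
      exact (hcomm'.zpow_right j).eq.symm
    obtain ⟨c, hc⟩ : ∃ c, c = a ^ 2 ^ (k - 2) := ⟨_, rfl⟩
    have hcA : c ∈ A := by rw [hc]; exact A.pow_mem haA _
    have hc4 : c ^ 4 = 1 := by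
      rw [hc, ← pow_mul, ← orderOf_dvd_iff_pow_eq_one, hao]
      rw [show (4 : ℕ) = 2 ^ 2 by norm_num, ← pow_add]
      exact pow_dvd_pow 2 (by omega)
    have hc2 : c ^ 2 ≠ 1 := by
      rw [hc, ← pow_mul]
      intro h
      have := orderOf_dvd_of_pow_eq_one h
      rw [hao, ← pow_succ] at this
      have := Nat.pow_dvd_pow_iff_le_right (show 1 < 2 by norm_num) |>.1 this
      omega
    have hc2z : c ^ 2 = z := by
      have : (c ^ 2) ^ 2 = 1 := by rw [← pow_mul]; exact hc4
      rcases hinv _ this with h | h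
      · exact absurd h hc2
      · exact h
    have hconjc : ∀ g : G, g * c * g⁻¹ = c ∨ g * c * g⁻¹ = c⁻¹ := by
      intro g
      obtain ⟨y, hy⟩ : ∃ y, y = g * c * g⁻¹ := ⟨_, rfl⟩
      rw [← hy]
      have hyA : y ∈ A := by rw [hy]; exact hAn.conj_mem c hcA g
      have hy2 : y ^ 2 = z := by
        have h1 : (y ^ 2) ^ 2 = 1 := by
          rw [← pow_mul, hy, conj_pow, hc4]; group
        have h2 : y ^ 2 ≠ 1 := by
          rw [hy, conj_pow]
          intro h
          apply hc2
          have : c ^ 2 = g⁻¹ * (g * c ^ 2 * g⁻¹) * g := by group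
          rw [this, h]; group
        rcases hinv _ h1 with h | h
        · exact absurd h h2
        · exact h
      have hcomm : Commute y c := by
        have := hAc.is_comm.comm ⟨y, hyA⟩ ⟨c, hcA⟩
        exact congrArg Subtype.val this
      have h3 : (y * c⁻¹) ^ 2 = 1 := by
        rw [(hcomm.inv_right).mul_pow, hy2, inv_pow, hc2z, mul_inv_cancel]
      rcases hinv _ h3 with h | h
      · left
        exact mul_inv_eq_one.1 h
      · right
        have : y = z * c := by rw [← h]; group
        rw [this, ← hc2z, pow_two]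
        have hc3 : c * c * c * c = 1 := by
          have := hc4
          rw [show (4 : ℕ) = 1 + 1 + 1 + 1 by norm_num, pow_add, pow_add, pow_add, pow_one] at this
          exact this
        exact eq_inv_of_mul_eq_one_left hc3
    have hkey : ∀ g : G, g * c * g⁻¹ = c → g ∈ A := by
      intro g hgc
      by_contra hgA
      have hex : ∃ j : ℕ, g ^ 2 ^ j ∈ A := ⟨n, by
        rw [← hn, pow_card_eq_one']; exact A.one_mem⟩
      have hj0 : Nat.find hex ≠ 0 := by
        intro h
        have := Nat.find_spec hex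
        rw [h, pow_zero, pow_one] at this
        exact hgA this
      obtain ⟨j, hj⟩ : ∃ j, Nat.find hex = j + 1 := ⟨Nat.find hex - 1, by omega⟩
      have h1 : g ^ 2 ^ j ∉ A := Nat.find_min hex (by omega)
      have h2 : g ^ 2 ^ j * g ^ 2 ^ j ∈ A := by
        have := Nat.find_spec hex
        rw [hj, pow_succ, pow_mul, pow_two] at this
        exact this
      apply h1
      refine mem_of_centralizes_four z hinv A hCA a hAz k hk2 hao (g ^ 2 ^ j) h2 ?_
      rw [← hc]
      have hcomm : Commute g c := by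
        have : g * c = c * g := by
          calc g * c = (g * c * g⁻¹) * g := by group
            _ = c * g := by rw [hgc]
        exact this
      rw [(hcomm.pow_left _).eq, mul_inv_cancel_right]
    intro g h hg hh
    apply hkey
    have hg' : g * c * g⁻¹ = c⁻¹ := by
      rcases hconjc g with h1 | h1
      · exact absurd (hkey g h1) hg
      · exact h1
    have hh' : h * c * h⁻¹ = c⁻¹ := by
      rcases hconjc h with h1 | h1
      · exact absurd (hkey h h1) hh
      · exact h1
    have hg'' : g⁻¹ * c⁻¹ * g = c := by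
      rw [← hg']; group
    calc g⁻¹ * h * c * (g⁻¹ * h)⁻¹ = g⁻¹ * (h * c * h⁻¹) * g := by group
      _ = c := by rw [hh', hg'']
  obtain ⟨t, ht⟩ : ∃ t : G, t ∉ A := by
    by_contra hcon
    push Not at hcon
    exact hAtop ((Subgroup.eq_top_iff' A).2 hcon)
  have hAi : A.index = 2 := by
    rw [Subgroup.index_eq_two_iff]
    refine ⟨t, fun b => ?_⟩
    by_cases hb : b ∈ A
    · right
      refine ⟨hb, fun h => ht ?_⟩
      have := A.mul_mem (A.inv_mem hb) h
      simpa using this
    · left
      refine ⟨?_, hb⟩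
      have := hidx b⁻¹ t (fun h => hb (by simpa using A.inv_mem h)) ht
      simpa using this
  have hna : ∃ x y : G, x * y ≠ y * x := by
    by_contra hcon
    push Not at hcon
    apply hAtop
    rw [Subgroup.eq_top_iff']
    intro g
    rw [← hCA, Subgroup.mem_centralizer_iff]
    intro c _
    exact hcon c g
  have hn3 : 3 ≤ n := by
    by_contra hcon
    push Not at hcon
    obtain ⟨x, y, hxy⟩ := hna
    apply hxy
    have hcomm : IsMulCommutative G := by
      interval_cases n
      · haveI : Subsingleton G := (Nat.card_eq_one_iff_unique.1 (by rw [hn]; rfl)).1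
        exact ⟨⟨fun a b => Subsingleton.elim _ _⟩⟩
      · haveI : IsCyclic G := isCyclic_of_prime_card (p := 2) (by rw [hn]; rfl)
        exact IsCyclic.isMulCommutative
      · exact IsPGroup.isMulCommutative_of_card_eq_prime_sq (p := 2) hn
    exact hcomm.is_comm.comm x y
  obtain ⟨a', b', hao', hb', hcases⟩ := cyclic_max_two_classification n hn3 hn A hAcyc hAi hna
  refine ⟨n, hn3, hn, a', b', hao', hb', ?_⟩
  have hq1 : (a' ^ 2 ^ (n - 2)) ^ 2 = 1 := by
    rw [← pow_mul, ← pow_succ, show n - 2 + 1 = n - 1 by omega, ← hao']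
    exact pow_orderOf_eq_one a'
  have hq2 : a' ^ 2 ^ (n - 2) ≠ 1 := by
    intro h
    have := orderOf_dvd_of_pow_eq_one h
    rw [hao'] at this
    have := Nat.pow_dvd_pow_iff_le_right (show 1 < 2 by norm_num) |>.1 this
    omega
  have hzq : a' ^ 2 ^ (n - 2) = z := by
    rcases hinv _ hq1 with h | h
    · exact absurd h hq2
    · exact h
  have hbad : b' ^ 2 = 1 → False := by
    intro h
    rcases hinv _ h with h1 | h1
    · exact hb' (h1 ▸ Subgroup.one_mem _)
    · apply hb'
      rw [h1, ← hzq]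
      exact Subgroup.pow_mem _ (Subgroup.mem_zpowers a') _
  rcases hcases with ⟨h1, -⟩ | ⟨h1, h2⟩ | ⟨-, h1, -⟩ | ⟨-, h1, -⟩
  · exact absurd h1 hbad
  · exact ⟨h1, h2⟩
  · exact absurd h1 hbad
  · exact absurd h1 hbad


/-- a 2-group with a unique subgroup of order two is cyclic or generalized quaternion -/
theorem two_group_unique_involution {G : Type*} [Group G] [Finite G] (hG : IsPGroup 2 G)
    (huniq : ∀ H K : Subgroup G, Nat.card H = 2 → Nat.card K = 2 → H = K) (hnc : ¬ IsCyclic G) :
    ∃ n : ℕ, 3 ≤ n ∧ Nat.card G = 2 ^ n ∧ ∃ a b : G, orderOf a = 2 ^ (n - 1) ∧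
      b ∉ Subgroup.zpowers a ∧ b ^ 2 = a ^ (2 ^ (n - 2)) ∧ b * a * b⁻¹ = a⁻¹ := by
  obtain ⟨m, hm⟩ := (IsPGroup.iff_card (p := 2)).1 hG
  have hm1 : 1 ≤ m := by
    by_contra hcon
    push Not at hcon
    have hm0 : m = 0 := by omega
    rw [hm0, pow_zero] at hm
    haveI : Subsingleton G := (Nat.card_eq_one_iff_unique.1 hm).1
    exact hnc isCyclic_of_subsingleton
  obtain ⟨z, hz⟩ := exists_prime_orderOf_dvd_card' (G := G) 2
    (by rw [hm]; exact dvd_pow_self 2 (by omega))
  have hz2 : z ^ 2 = 1 := by rw [← hz]; exact pow_orderOf_eq_one z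
  have hinv : ∀ x : G, x ^ 2 = 1 → x = 1 ∨ x = z := by
    intro x hx2
    by_cases hx1 : x = 1
    · left; exact hx1
    · right
      have hox : orderOf x = 2 := orderOf_eq_prime hx2 hx1
      have h1 := huniq (Subgroup.zpowers x) (Subgroup.zpowers z)
        (by rw [Nat.card_zpowers, hox]) (by rw [Nat.card_zpowers, hz])
      have hx : x ∈ Subgroup.zpowers z := h1 ▸ Subgroup.mem_zpowers x
      obtain ⟨k, hk⟩ := (Submonoid.mem_powers_iff _ _).1 (mem_powers_iff_mem_zpowers.2 hx)
      rcases Nat.even_or_odd k with ⟨d, hd⟩ | ⟨d, hd⟩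
      · exfalso
        apply hx1
        rw [← hk, hd, ← two_mul, pow_mul, hz2, one_pow]
      · rw [← hk, hd, pow_succ, pow_mul, hz2, one_pow, one_mul]
  exact unique_involution_structure hG z hinv hnc

end Cfsg.Agent.Lib.Helper6
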