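import Mathlib
import Cfsg.Prelude.Def_Transfer
import Cfsg.Agent.Lib.Helper1.Class2
import Cfsg.Agent.Lib.Helper1.NilpCenter
set_option autoImplicit false

namespace Cfsg.Agent.Lib.Helper6
open Cfsg Cfsg.Agent.Lib.Helper1
open scoped commutatorElement
universe u

theorem card_comap_mk' {R : Type*} [Group R] [Finite R] (Z : Subgroup R) [Z.Normal]
    (K : Subgroup (R ⧸ Z)) :
    Nat.card (K.comap (QuotientGroup.mk' Z)) = Nat.card Z * Nat.card K := by
  have h1 : (K.comap (QuotientGroup.mk' Z)).index = K.index :=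
    Subgroup.index_comap_of_surjective K (QuotientGroup.mk'_surjective Z)
  have h2 := Subgroup.card_mul_index (K.comap (QuotientGroup.mk' Z))
  have h3 := Subgroup.card_mul_index K
  have h4 : Nat.card R = Nat.card (R ⧸ Z) * Nat.card Z := Subgroup.card_eq_card_quotient_mul_card_subgroup Z
  rw [h1, h4, ← h3] at h2
  have hpos : 0 < K.index := Nat.pos_of_ne_zero Subgroup.index_ne_zero_of_finite
  have : Nat.card (K.comap (QuotientGroup.mk' Z)) * K.index = (Nat.card Z * Nat.card K) * K.index := by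
    rw [h2]; ring
  exact Nat.eq_of_mul_eq_mul_right hpos this

/-- lemma: preimage of a normal subgroup of order p, of exponent p, is elementary abelian of order p^2 -/
theorem ea_sq_of_comap {R : Type*} [Group R] [Finite R] {p : ℕ} [Fact p.Prime] (Z : Subgroup R) [Z.Normal]
    (hZ : Nat.card Z = p) (K : Subgroup (R ⧸ Z)) (hKn : K.Normal) (hK : Nat.card K = p)
    (hexp : ∀ x : R, (x : R ⧸ Z) ∈ K → x ^ p = 1) :
    ∃ A : Subgroup R, A.Normal ∧ Cfsg.IsElementaryAbelian p A ∧ Nat.card A = p ^ 2 := by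
  refine ⟨K.comap (QuotientGroup.mk' Z), hKn.comap _, ⟨?_, ?_⟩, ?_⟩
  · have hc : Nat.card (K.comap (QuotientGroup.mk' Z)) = p ^ 2 := by
      rw [card_comap_mk', hZ, hK, pow_two]
    exact IsPGroup.isMulCommutative_of_card_eq_prime_sq hc
  · intro a ha
    exact hexp a ha
  · rw [card_comap_mk', hZ, hK, pow_two]


/-- the abelian case with cyclic quotient -/
theorem nea_cyclic_quot_case {R : Type*} [Group R] [Finite R] {p : ℕ} [Fact p.Prime]
    (hR : IsPGroup p R) (hnc : ¬ IsCyclic R) (z : R) (hzc : z ∈ Subgroup.center R)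
    (hzo : orderOf z = p) [hZn : (Subgroup.zpowers z).Normal]
    (hQ : IsCyclic (R ⧸ Subgroup.zpowers z)) :
    ∃ A : Subgroup R, A.Normal ∧ Cfsg.IsElementaryAbelian p A ∧ Nat.card A = p ^ 2 := by
  have hp : p.Prime := Fact.out
  have hZc : Subgroup.zpowers z ≤ Subgroup.center R := Subgroup.zpowers_le.2 hzc
  have hcomm : ∀ a b : R, a * b = b * a := by
    have := MonoidHom.isMulCommutative_of_isCyclic_of_ker_le_center (QuotientGroup.mk' (Subgroup.zpowers z))
      (by rw [QuotientGroup.ker_mk']; exact hZc)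
    exact fun a b => this.is_comm.comm a b
  have hZcard : Nat.card (Subgroup.zpowers z) = p := by rw [Nat.card_zpowers, hzo]
  obtain ⟨g, hg⟩ := IsCyclic.exists_generator (α := R ⧸ Subgroup.zpowers z)
  obtain ⟨r, rfl⟩ := QuotientGroup.mk_surjective g
  -- every x is r^k * z^j
  have hdecomp : ∀ x : R, ∃ k : ℤ, (r ^ k)⁻¹ * x ∈ Subgroup.zpowers z := by
    intro x
    obtain ⟨k, hk⟩ := Subgroup.mem_zpowers_iff.1 (hg (x : R ⧸ Subgroup.zpowers z))
    refine ⟨k, ?_⟩
    rw [← QuotientGroup.eq]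
    rw [← hk]; simp
  -- existence of w of order p outside Z
  have hw : ∃ w : R, orderOf w = p ∧ w ∉ Subgroup.zpowers z := by
    by_contra hcon
    push Not at hcon
    apply hnc
    obtain ⟨k, hk⟩ := (IsPGroup.iff_orderOf.1 hR) r
    rcases Nat.eq_zero_or_pos k with h0 | hpos
    · -- r = 1
      have hr1 : r = 1 := by rw [← orderOf_eq_one_iff, hk, h0, pow_zero]
      refine ⟨⟨z, fun x => ?_⟩⟩
      obtain ⟨j, hj⟩ := hdecomp x
      rw [hr1] at hj
      have h6 : x ∈ Subgroup.zpowers z := by simpa using hj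
      exact Subgroup.mem_zpowers_iff.1 h6
    · -- w = r^(p^(k-1)) has order p, lies in Z, so z ∈ zpowers r
      have hwo : orderOf (r ^ (p ^ (k - 1))) = p := by
        rw [orderOf_pow' _ (pow_ne_zero _ hp.ne_zero : p ^ (k - 1) ≠ 0), hk]
        rw [Nat.gcd_eq_right (pow_dvd_pow p (by omega))]
        rw [Nat.pow_div (by omega) hp.pos]
        have : k - (k - 1) = 1 := by omega
        rw [this, pow_one]
      have hwZ := hcon _ hwo
      have hzr : z ∈ Subgroup.zpowers r := by
        have h1 : Subgroup.zpowers (r ^ (p ^ (k - 1))) ≤ Subgroup.zpowers z := Subgroup.zpowers_le.2 hwZ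
        have h2 : Subgroup.zpowers (r ^ (p ^ (k - 1))) = Subgroup.zpowers z := by
          apply Subgroup.eq_of_le_of_card_ge h1
          rw [Nat.card_zpowers, Nat.card_zpowers, hwo, hzo]
        have h3 : z ∈ Subgroup.zpowers (r ^ (p ^ (k - 1))) := by rw [h2]; exact Subgroup.mem_zpowers z
        exact (Subgroup.zpowers_le.2 (Subgroup.pow_mem _ (Subgroup.mem_zpowers r) _)) h3
      refine ⟨⟨r, fun x => ?_⟩⟩
      obtain ⟨j, hj⟩ := hdecomp x
      have h4 : (r ^ j)⁻¹ * x ∈ Subgroup.zpowers r := (Subgroup.zpowers_le.2 hzr) hj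
      have h5 : x = r ^ j * ((r ^ j)⁻¹ * x) := by group
      rw [h5]
      exact Subgroup.mul_mem _ (Subgroup.zpow_mem _ (Subgroup.mem_zpowers r) _) h4
  obtain ⟨w, hwo, hwZ⟩ := hw
  have hwbar : orderOf ((w : R ⧸ Subgroup.zpowers z)) = p := by
    apply orderOf_eq_prime
    · rw [← QuotientGroup.mk_pow, ← hwo, pow_orderOf_eq_one]; rfl
    · intro h
      rw [QuotientGroup.eq_one_iff] at h
      exact hwZ h
  apply ea_sq_of_comap (Subgroup.zpowers z) hZcard (Subgroup.zpowers ((w : R ⧸ Subgroup.zpowers z)))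
  · haveI : IsMulCommutative (R ⧸ Subgroup.zpowers z) := ⟨⟨fun a b => by
      obtain ⟨a, rfl⟩ := QuotientGroup.mk_surjective a
      obtain ⟨b, rfl⟩ := QuotientGroup.mk_surjective b
      rw [← QuotientGroup.mk_mul, ← QuotientGroup.mk_mul, hcomm]⟩⟩
    exact Subgroup.normal_of_isMulCommutative _
  · rw [Nat.card_zpowers, hwbar]
  · intro x hx
    obtain ⟨j, hj⟩ := Subgroup.mem_zpowers_iff.1 hx
    have h1 : (w ^ j)⁻¹ * x ∈ Subgroup.zpowers z := by
      rw [← QuotientGroup.eq, ← hj]; simp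
    obtain ⟨i, hi⟩ := Subgroup.mem_zpowers_iff.1 h1
    have h2 : x = w ^ j * z ^ i := by rw [hi]; group
    rw [h2, (show Commute (w ^ j) (z ^ i) from hcomm _ _).mul_pow, ← zpow_natCast, ← zpow_mul, mul_comm j,
      zpow_mul, zpow_natCast, ← hwo, pow_orderOf_eq_one, one_zpow, one_mul, ← zpow_natCast, ← zpow_mul,
      mul_comm i, zpow_mul, zpow_natCast, hwo, ← hzo, pow_orderOf_eq_one, one_zpow]


theorem normal_zpowers_of_mem_center {R : Type*} [Group R] (z : R) (hz : z ∈ Subgroup.center R) :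
    (Subgroup.zpowers z).Normal := by
  have hZc : Subgroup.zpowers z ≤ Subgroup.center R := Subgroup.zpowers_le.2 hz
  refine ⟨fun x hx g => ?_⟩
  have h1 := Subgroup.mem_center_iff.1 (hZc hx) g
  have : g * x * g⁻¹ = x := by rw [h1]; group
  rw [this]; exact hx

theorem nea_noncyclic_quot_case {R : Type*} [Group R] [Finite R] {p : ℕ} [Fact p.Prime] (hp2 : p ≠ 2)
    (hR : IsPGroup p R) (z : R) (hzc : z ∈ Subgroup.center R) (hzo : orderOf z = p)
    [hZn : (Subgroup.zpowers z).Normal]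
    (Bbar : Subgroup (R ⧸ Subgroup.zpowers z)) (hBn : Bbar.Normal)
    (hBe : Cfsg.IsElementaryAbelian p Bbar) (hBc : Nat.card Bbar = p ^ 2) :
    ∃ A : Subgroup R, A.Normal ∧ Cfsg.IsElementaryAbelian p A ∧ Nat.card A = p ^ 2 := by
  classical
  have hp : p.Prime := Fact.out
  have hZc : Subgroup.zpowers z ≤ Subgroup.center R := Subgroup.zpowers_le.2 hzc
  have hZcard : Nat.card (Subgroup.zpowers z) = p := by rw [Nat.card_zpowers, hzo]
  have hZpow : ∀ c ∈ Subgroup.zpowers z, c ^ p = 1 := by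
    intro c hc
    obtain ⟨i, rfl⟩ := Subgroup.mem_zpowers_iff.1 hc
    rw [← zpow_natCast, ← zpow_mul, mul_comm, zpow_mul, zpow_natCast, ← hzo, pow_orderOf_eq_one, one_zpow]
  obtain ⟨B, hB⟩ : ∃ B, B = Bbar.comap (QuotientGroup.mk' (Subgroup.zpowers z)) := ⟨_, rfl⟩
  haveI hBnorm : B.Normal := by rw [hB]; exact hBn.comap _
  have hBcard : Nat.card B = p ^ 3 := by
    rw [hB, card_comap_mk', hZcard, hBc]; ring
  have hBmem : ∀ x : R, x ∈ B ↔ (x : R ⧸ Subgroup.zpowers z) ∈ Bbar := by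
    intro x; rw [hB]; rfl
  have hBpow : ∀ x ∈ B, x ^ p ∈ Subgroup.zpowers z := by
    intro x hx
    rw [← QuotientGroup.eq_one_iff, QuotientGroup.mk_pow]
    exact hBe.2 _ ((hBmem x).1 hx)
  have hBcomm : ∀ x ∈ B, ∀ y ∈ B, ⁅y, x⁆ ∈ Subgroup.zpowers z := by
    intro x hx y hy
    rw [← QuotientGroup.eq_one_iff]
    have h1 := hBe.1.is_comm.comm ⟨(y : R ⧸ Subgroup.zpowers z), (hBmem y).1 hy⟩
      ⟨(x : R ⧸ Subgroup.zpowers z), (hBmem x).1 hx⟩
    have h2 : (y : R ⧸ Subgroup.zpowers z) * x = x * y := congrArg Subtype.val h1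
    rw [commutatorElement_def]
    simp only [QuotientGroup.mk_mul, QuotientGroup.mk_inv]
    rw [h2]; group
  have hmul : ∀ x ∈ B, ∀ y ∈ B, (x * y) ^ p = x ^ p * y ^ p := by
    intro x hx y hy
    have hc := hBcomm x hx y hy
    have hcc := Subgroup.mem_center_iff.1 (hZc hc)
    rw [mul_pow_of_commute_commutator x y (hcc x).symm (hcc y).symm p]
    have hdvd : p ∣ p.choose 2 := hp.dvd_choose_self (by norm_num) (by
      have := hp.two_le; omega)
    obtain ⟨m, hm⟩ := hdvd
    rw [hm, pow_mul, hZpow _ hc, one_pow, mul_one]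
  let Ω : Subgroup R :=
    { carrier := {x | x ∈ B ∧ x ^ p = 1}
      mul_mem' := by
        rintro a b ⟨ha, ha'⟩ ⟨hb, hb'⟩
        exact ⟨B.mul_mem ha hb, by rw [hmul a ha b hb, ha', hb', one_mul]⟩
      one_mem' := ⟨B.one_mem, one_pow _⟩
      inv_mem' := by
        rintro a ⟨ha, ha'⟩
        exact ⟨B.inv_mem ha, by rw [inv_pow, ha', inv_one]⟩ }
  have hΩmem : ∀ x, x ∈ Ω ↔ x ∈ B ∧ x ^ p = 1 := fun x => Iff.rfl
  have hΩB : Ω ≤ B := fun x hx => hx.1
  haveI hΩn : Ω.Normal := by
    refine ⟨fun x hx g => ?_⟩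
    refine ⟨hBnorm.conj_mem x hx.1 g, ?_⟩
    rw [conj_pow, hx.2]; group
  -- the power hom
  let φ : B →* Subgroup.zpowers z :=
    { toFun := fun x => ⟨(x : R) ^ p, hBpow x x.2⟩
      map_one' := by ext; simp
      map_mul' := by
        intro a b
        ext
        simp only [Subgroup.coe_mul]
        exact hmul a a.2 b b.2 }
  have hker : φ.ker = Ω.subgroupOf B := by
    ext x
    rw [MonoidHom.mem_ker, Subgroup.mem_subgroupOf, hΩmem]
    constructor
    · intro h
      exact ⟨x.2, congrArg Subtype.val h⟩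
    · intro h
      exact Subtype.ext h.2
  have hcardker : Nat.card φ.ker = Nat.card Ω := by
    rw [hker]
    exact Nat.card_congr (Subgroup.subgroupOfEquivOfLe hΩB).toEquiv
  have h1 : Nat.card φ.ker * φ.ker.index = Nat.card B := Subgroup.card_mul_index _
  have h2 : φ.ker.index = Nat.card φ.range := Subgroup.index_ker φ
  have h3 : Nat.card φ.range ≤ p := by
    rw [← hZcard]; exact Subgroup.card_le_card_group _
  have hΩge : p ^ 2 ≤ Nat.card Ω := by
    rw [h2, hcardker, hBcard] at h1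
    have : p ^ 3 ≤ Nat.card Ω * p := by
      rw [← h1]; exact Nat.mul_le_mul_left _ h3
    have hpp : p ^ 3 = p ^ 2 * p := by ring
    rw [hpp] at this
    exact Nat.le_of_mul_le_mul_right this hp.pos
  have hΩdvd : Nat.card Ω ∣ p ^ 3 := by
    rw [← hBcard]; exact Subgroup.card_dvd_of_le hΩB
  obtain ⟨j, hj3, hj⟩ := (Nat.dvd_prime_pow hp).1 hΩdvd
  have hj2 : 2 ≤ j := by
    by_contra hcon
    push Not at hcon
    have : p ^ j < p ^ 2 := Nat.pow_lt_pow_right hp.one_lt hcon
    omega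
  have hjcases : j = 2 ∨ j = 3 := by omega
  rcases hjcases with rfl | rfl
  · refine ⟨Ω, hΩn, ⟨IsPGroup.isMulCommutative_of_card_eq_prime_sq hj, fun a ha => ha.2⟩, hj⟩
  · have hΩeq : Ω = B := Subgroup.eq_of_le_of_card_ge hΩB (by rw [hj, hBcard])
    have hBexp : ∀ x ∈ B, x ^ p = 1 := by
      intro x hx
      rw [← hΩeq] at hx
      exact hx.2
    haveI : Group.IsNilpotent (R ⧸ Subgroup.zpowers z) :=
      (hR.to_quotient (Subgroup.zpowers z)).isNilpotent
    have hBne : Bbar ≠ ⊥ := by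
      intro h
      rw [h, Subgroup.card_bot] at hBc
      have : 1 < p ^ 2 := Nat.one_lt_pow (by norm_num) hp.one_lt
      omega
    haveI := hBn
    obtain ⟨a, haB, haZ, ha1⟩ := exists_mem_center_of_isNilpotent Bbar hBne
    have hao : orderOf a = p := orderOf_eq_prime (hBe.2 a haB) ha1
    apply ea_sq_of_comap (Subgroup.zpowers z) hZcard (Subgroup.zpowers a)
      (normal_zpowers_of_mem_center a haZ) (by rw [Nat.card_zpowers, hao])
    intro x hx
    apply hBexp
    rw [hBmem]
    exact (Subgroup.zpowers_le.2 haB) hx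

theorem exists_normal_ea_sq {p : ℕ} [Fact p.Prime] (hp2 : p ≠ 2) : ∀ (n : ℕ) (R : Type u) [Group R] [Finite R],
    Nat.card R = n → IsPGroup p R → ¬ IsCyclic R →
    ∃ A : Subgroup R, A.Normal ∧ Cfsg.IsElementaryAbelian p A ∧ Nat.card A = p ^ 2 := by
  intro n
  induction n using Nat.strong_induction_on with
  | _ n ih =>
    intro R _ _ hn hR hnc
    have hp : p.Prime := Fact.out
    haveI : Nontrivial R := by
      by_contra h
      rw [not_nontrivial_iff_subsingleton] at h
      exact hnc isCyclic_of_subsingleton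
    haveI := hR.center_nontrivial
    have hdvd : p ∣ Nat.card (Subgroup.center R) := by
      obtain ⟨k, hk⟩ := IsPGroup.iff_card.1 (hR.to_subgroup (Subgroup.center R))
      have hk0 : k ≠ 0 := by
        intro h0
        rw [h0, pow_zero] at hk
        have := Finite.one_lt_card (α := Subgroup.center R)
        omega
      rw [hk]; exact dvd_pow_self p hk0
    obtain ⟨z0, hz0⟩ := exists_prime_orderOf_dvd_card' p hdvd
    obtain ⟨z, hz⟩ : ∃ z : R, z = (z0 : R) := ⟨_, rfl⟩
    have hzc : z ∈ Subgroup.center R := by rw [hz]; exact z0.2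
    have hzo : orderOf z = p := by rw [hz, Subgroup.orderOf_coe, hz0]
    haveI hZn : (Subgroup.zpowers z).Normal := normal_zpowers_of_mem_center z hzc
    by_cases hQ : IsCyclic (R ⧸ Subgroup.zpowers z)
    · exact nea_cyclic_quot_case hR hnc z hzc hzo hQ
    · have hcardQ : Nat.card (R ⧸ Subgroup.zpowers z) < n := by
        have h4 : Nat.card R = Nat.card (R ⧸ Subgroup.zpowers z) * Nat.card (Subgroup.zpowers z) :=
          Subgroup.card_eq_card_quotient_mul_card_subgroup _
        rw [Nat.card_zpowers, hzo, hn] at h4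
        have hpos : 0 < Nat.card (R ⧸ Subgroup.zpowers z) := Nat.card_pos
        have := hp.one_lt
        nlinarith
      obtain ⟨Bbar, hBn, hBe, hBc⟩ := ih _ hcardQ (R ⧸ Subgroup.zpowers z) rfl
        (hR.to_quotient _) hQ
      exact nea_noncyclic_quot_case hp2 hR z hzc hzo Bbar hBn hBe hBc

end Cfsg.Agent.Lib.Helper6
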