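import Mathlib

set_option autoImplicit false

namespace Cfsg.Agent.Lib.Helper6

/-- a finite group all of whose elements of odd prime order are trivial is a `2`-group -/
theorem isPGroup_two_of_no_odd_prime {A : Type*} [Group A] [Finite A]
    (h : ∀ (q : ℕ) (β : A), q.Prime → q ≠ 2 → orderOf β = q → False) : IsPGroup 2 A := by
  haveI : Fact (Nat.Prime 2) := ⟨Nat.prime_two⟩
  have hpos : Nat.card A ≠ 0 := Nat.card_pos.ne'
  have key : Nat.card A = 2 ^ (Nat.card A).primeFactorsList.length := by
    apply Nat.eq_prime_pow_of_unique_prime_dvd hpos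
    intro q hq hqd
    by_contra hq2
    haveI : Fact q.Prime := ⟨hq⟩
    obtain ⟨β, hβ⟩ := exists_prime_orderOf_dvd_card' (G := A) q hqd
    exact h q β hq hq2 hβ
  exact IsPGroup.of_card key

/-- a finite `2`-group with a cyclic subgroup of index two containing all elements of its order has
a `2`-group as automorphism group -/
theorem isPGroup_mulAut_of_char_cyclic {X : Type*} [Group X] [Finite X] (h2 : IsPGroup 2 X) (a : X)
    (hidx : (Subgroup.zpowers a).index = 2)
    (hchar : ∀ x : X, orderOf x = orderOf a → x ∈ Subgroup.zpowers a) :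
    IsPGroup 2 (MulAut X) := by
  classical
  haveI : Fact (Nat.Prime 2) := ⟨Nat.prime_two⟩
  apply isPGroup_two_of_no_odd_prime
  intro q β hq hq2 hβ
  haveI : Fact q.Prime := ⟨hq⟩
  obtain ⟨e, he⟩ := (IsPGroup.iff_orderOf.1 h2) a
  -- the action of `zpowers β` on the elements of order `orderOf a`
  have hB : IsPGroup q (Subgroup.zpowers β) := by
    apply IsPGroup.of_card (n := 1)
    rw [Nat.card_zpowers, hβ, pow_one]
  let S : SubMulAction (Subgroup.zpowers β) X :=
    { carrier := {x | orderOf x = orderOf a}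
      smul_mem' := by
        intro c x hx
        show orderOf (c • x) = orderOf a
        rw [Subgroup.smul_def, MulAut.smul_def, MulEquiv.orderOf_eq]
        exact hx }
  have hScard : Nat.card S = Nat.totient (orderOf a) := by
    haveI := Fintype.ofFinite (Subgroup.zpowers a)
    have h1 := IsCyclic.card_orderOf_eq_totient (α := Subgroup.zpowers a) (d := orderOf a)
      (by rw [← Nat.card_eq_fintype_card, Nat.card_zpowers])
    rw [← h1, ← Fintype.card_subtype, ← Nat.card_eq_fintype_card]
    apply Nat.card_congr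
    refine ⟨fun x => ⟨⟨x.1, hchar x.1 x.2⟩, by rw [Subgroup.orderOf_mk]; exact x.2⟩,
      fun c => ⟨c.1.1, by
        show orderOf (c.1 : X) = orderOf a
        rw [Subgroup.orderOf_coe]; exact c.2⟩, ?_, ?_⟩
    · intro x; rfl
    · intro c; rfl
  have hqS : ¬ q ∣ Nat.card S := by
    rw [hScard, he]
    intro hd
    rcases e with _ | e
    · rw [pow_zero, Nat.totient_one] at hd
      exact hq.one_lt.ne' (Nat.dvd_one.1 hd)
    · rw [Nat.totient_prime_pow Nat.prime_two (Nat.succ_pos e)] at hd
      simp only [Nat.reduceSub, mul_one] at hd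
      exact hq2 ((Nat.prime_dvd_prime_iff_eq hq Nat.prime_two).1 (hq.dvd_of_dvd_pow hd))
  obtain ⟨g, hg⟩ := hB.nonempty_fixed_point_of_prime_not_dvd_card S hqS
  have hgfix : β (g : X) = g := by
    have := hg ⟨β, Subgroup.mem_zpowers β⟩
    exact congrArg Subtype.val this
  have hgo : orderOf (g : X) = orderOf a := g.2
  have hgC : (g : X) ∈ Subgroup.zpowers a := hchar _ hgo
  have hgen : Subgroup.zpowers (g : X) = Subgroup.zpowers a := by
    apply Subgroup.eq_of_le_of_card_ge
    · rw [Subgroup.zpowers_le]; exact hgC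
    · rw [Nat.card_zpowers, Nat.card_zpowers, hgo]
  have hfixC : ∀ c ∈ Subgroup.zpowers a, β c = c := by
    intro c hc
    rw [← hgen] at hc
    obtain ⟨k, rfl⟩ := Subgroup.mem_zpowers_iff.1 hc
    rw [map_zpow, hgfix]
  -- an element outside
  have hex : ∃ b : X, b ∉ Subgroup.zpowers a := by
    by_contra hcon
    push Not at hcon
    have : Subgroup.zpowers a = ⊤ := by
      rw [eq_top_iff]; intro x _; exact hcon x
    rw [this, Subgroup.index_top] at hidx
    omega
  obtain ⟨b, hb⟩ := hex
  have hβb : β b ∉ Subgroup.zpowers a := by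
    intro hcon
    apply hb
    have h1 := hfixC _ hcon
    have h2 : β b = b := β.injective h1
    rw [← h2]; exact hcon
  have hc : b⁻¹ * β b ∈ Subgroup.zpowers a := by
    have h1 := (Subgroup.mul_mem_iff_of_index_two hidx (a := b⁻¹) (b := β b))
    rw [h1]
    constructor
    · intro h; exact absurd (by simpa using Subgroup.inv_mem _ h) hb
    · intro h; exact absurd h hβb
  have hpow : ∀ i : ℕ, (β ^ i) b = b * (b⁻¹ * β b) ^ i := by
    intro i
    induction i with
    | zero => simp
    | succ i ih =>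
      rw [pow_succ', MulAut.mul_apply, ih, map_mul, map_pow, hfixC _ hc, pow_succ', ← mul_assoc]
      congr 1
      group
  have hβq : β ^ q = 1 := by rw [← hβ]; exact pow_orderOf_eq_one β
  have hcq : (b⁻¹ * β b) ^ q = 1 := by
    have := hpow q
    rw [hβq, MulAut.one_apply] at this
    have h3 : b * 1 = b * (b⁻¹ * β b) ^ q := by rw [mul_one]; exact this
    exact (mul_left_cancel h3).symm
  have hc1 : b⁻¹ * β b = 1 := by
    obtain ⟨k, hk⟩ := (IsPGroup.iff_orderOf.1 h2) (b⁻¹ * β b)
    have h1 : orderOf (b⁻¹ * β b) ∣ q := orderOf_dvd_of_pow_eq_one hcq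
    rw [hk] at h1
    rcases k with _ | k
    · rw [pow_zero] at hk; exact orderOf_eq_one_iff.1 hk
    · exfalso
      have : 2 ∣ q := (dvd_pow_self 2 (Nat.succ_ne_zero k)).trans h1
      exact hq2 ((Nat.prime_dvd_prime_iff_eq Nat.prime_two hq).1 this).symm
  have hβb' : β b = b := by
    have : β b = b * (b⁻¹ * β b) := by group
    rw [this, hc1, mul_one]
  have hβ1 : β = 1 := by
    ext x
    rw [MulAut.one_apply]
    by_cases hx : x ∈ Subgroup.zpowers a
    · exact hfixC x hx
    · have h1 : b⁻¹ * x ∈ Subgroup.zpowers a := by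
        rw [Subgroup.mul_mem_iff_of_index_two hidx]
        constructor
        · intro h; exact absurd (by simpa using Subgroup.inv_mem _ h) hb
        · intro h; exact absurd h hx
      have h2 : x = b * (b⁻¹ * x) := by group
      rw [h2, map_mul, hβb', hfixC _ h1]
  rw [hβ1, orderOf_one] at hβ
  exact hq.one_lt.ne hβ


/-- outside a cyclic subgroup of index two every element is `b * a ^ k` -/
theorem exists_eq_mul_zpow_of_index_two {X : Type*} [Group X] (a b : X)
    (hidx : (Subgroup.zpowers a).index = 2) (hb : b ∉ Subgroup.zpowers a) (x : X)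
    (hx : x ∉ Subgroup.zpowers a) : ∃ k : ℤ, x = b * a ^ k := by
  have h1 : b⁻¹ * x ∈ Subgroup.zpowers a := by
    rw [Subgroup.mul_mem_iff_of_index_two hidx]
    constructor
    · intro h; exact absurd (by simpa using Subgroup.inv_mem _ h) hb
    · intro h; exact absurd h hx
  obtain ⟨k, hk⟩ := Subgroup.mem_zpowers_iff.1 h1
  exact ⟨k, by rw [hk]; group⟩

theorem sq_mul_zpow {X : Type*} [Group X] (a b : X) (k : ℤ) :
    (b * a ^ k) ^ 2 = (b * a * b⁻¹) ^ k * b ^ 2 * a ^ k := by
  rw [conj_zpow, pow_two, pow_two]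
  group

/-- dihedral relations: elements outside the cyclic subgroup are involutions -/
theorem sq_eq_one_of_dihedral_rel {X : Type*} [Group X] (a b : X) (hb2 : b ^ 2 = 1)
    (hconj : b * a * b⁻¹ = a⁻¹) (k : ℤ) : (b * a ^ k) ^ 2 = 1 := by
  rw [sq_mul_zpow, hconj, hb2, mul_one, inv_zpow, inv_mul_cancel]

/-- quaternion relations: elements outside the cyclic subgroup have fourth power one -/
theorem pow_four_eq_one_of_quaternion_rel {X : Type*} [Group X] (a b : X) (N : ℕ)
    (ha : a ^ (2 * N) = 1) (hb2 : b ^ 2 = a ^ N) (hconj : b * a * b⁻¹ = a⁻¹) (k : ℤ) :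
    (b * a ^ k) ^ 4 = 1 := by
  have h1 : (b * a ^ k) ^ 2 = a ^ N := by
    rw [sq_mul_zpow, hconj, hb2, inv_zpow]
    have hc : Commute (a ^ N) (a ^ k) := by
      rw [← zpow_natCast]; exact Commute.zpow_zpow_self a _ _
    rw [mul_assoc, hc.eq, ← mul_assoc, inv_mul_cancel, one_mul]
  rw [show 4 = 2 * 2 from rfl, pow_mul, h1, ← pow_mul, mul_comm, ha]

/-- semidihedral relations: elements outside the cyclic subgroup have fourth power one -/
theorem pow_four_eq_one_of_semidihedral_rel {X : Type*} [Group X] (a b : X) (N : ℕ)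
    (hN : 1 ≤ N) (ha : a ^ (2 * N) = 1) (hb2 : b ^ 2 = 1) (hconj : b * a * b⁻¹ = a ^ (N - 1))
    (k : ℤ) : (b * a ^ k) ^ 4 = 1 := by
  have h1 : (b * a ^ k) ^ 2 = a ^ ((N : ℤ) * k) := by
    rw [sq_mul_zpow, hconj, hb2, mul_one, ← zpow_natCast, ← zpow_mul, ← zpow_add,
      Nat.cast_sub hN]
    congr 1
    push_cast
    ring
  rw [show 4 = 2 * 2 from rfl, pow_mul, h1, ← zpow_natCast, ← zpow_mul]
  have : (N : ℤ) * k * ((2 : ℕ) : ℤ) = ((2 * N : ℕ) : ℤ) * k := by push_cast; ring
  rw [this, zpow_mul, zpow_natCast, ha, one_zpow]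

end Cfsg.Agent.Lib.Helper6
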