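import Mathlib

set_option autoImplicit false

namespace Cfsg.Agent.Lib.Helper6

open Subgroup

/-- normal form in a finite subgroup having a cyclic subgroup of index two -/
theorem index_two_normal_form {G : Type*} [Group G] (T : Subgroup G) [Finite T] (c d : G)
    (hc : c ∈ T) (hd : d ∈ T) (hcard : Nat.card T = 2 * orderOf c) (hdc : d ∉ zpowers c) :
    ∀ u ∈ T, ∃ i : ℕ, u = c ^ i ∨ u = c ^ i * d := by
  classical
  have hcfin : IsOfFinOrder c := by
    have : IsOfFinOrder (⟨c, hc⟩ : T) := isOfFinOrder_of_finite _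
    rw [← Submonoid.isOfFinOrder_coe] at this
    exact this
  have hle : zpowers c ≤ T := by rw [zpowers_le]; exact hc
  have hidx : ((zpowers c).subgroupOf T).index = 2 := by
    have h1 := ((zpowers c).subgroupOf T).card_mul_index
    have h2 : Nat.card ((zpowers c).subgroupOf T) = orderOf c := by
      rw [Nat.card_congr (Subgroup.subgroupOfEquivOfLe hle).toEquiv, Nat.card_zpowers]
    rw [h2, hcard] at h1
    have hpos : 0 < orderOf c := hcfin.orderOf_pos
    nlinarith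
  intro u hu
  by_cases huc : u ∈ zpowers c
  · rw [← hcfin.mem_powers_iff_mem_zpowers] at huc
    obtain ⟨i, hi⟩ := huc
    exact ⟨i, Or.inl hi.symm⟩
  · have hmem : (⟨u, hu⟩ : T) * (⟨d, hd⟩ : T)⁻¹ ∈ (zpowers c).subgroupOf T := by
      rw [Subgroup.mul_mem_iff_of_index_two hidx]
      simp only [Subgroup.mem_subgroupOf, inv_mem_iff]
      exact ⟨fun h => absurd h huc, fun h => absurd h hdc⟩
    rw [Subgroup.mem_subgroupOf] at hmem
    simp only [Subgroup.coe_mul, Subgroup.coe_inv] at hmem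
    rw [← hcfin.mem_powers_iff_mem_zpowers] at hmem
    obtain ⟨i, hi⟩ := hmem
    refine ⟨i, Or.inr ?_⟩
    have : c ^ i = u * d⁻¹ := hi
    rw [this]; group

section modular

variable {G : Type*} [Group G] {a b : G} {n : ℕ}

theorem mod_z_order (hn : 3 ≤ n) (hao : orderOf a = 2 ^ n) : orderOf (a ^ (2 ^ (n - 1))) = 2 := by
  rw [orderOf_pow' a (by positivity), hao, Nat.gcd_eq_right (pow_dvd_pow 2 (by omega)),
    Nat.pow_div (by omega) (by norm_num)]
  have : n - (n - 1) = 1 := by omega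
  rw [this, pow_one]

theorem mod_ba (hrel : b * a * b⁻¹ = a ^ (2 ^ (n - 1) + 1)) :
    b * a = a ^ (2 ^ (n - 1)) * a * b := by
  have : b * a = (b * a * b⁻¹) * b := by group
  rw [this, hrel, pow_succ]

theorem mod_zb (hn : 3 ≤ n) (hao : orderOf a = 2 ^ n)
    (hrel : b * a * b⁻¹ = a ^ (2 ^ (n - 1) + 1)) :
    Commute (a ^ (2 ^ (n - 1))) b := by
  set z := a ^ (2 ^ (n - 1)) with hz
  have hzo : orderOf z = 2 := mod_z_order hn hao
  have hza : Commute z a := (Commute.refl a).pow_left _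
  have h1 : b * z * b⁻¹ = (b * a * b⁻¹) ^ (2 ^ (n - 1)) := by
    rw [hz, conj_pow]
  have h2 : b * a * b⁻¹ = z * a := by rw [hrel, pow_succ]
  rw [h2, hza.mul_pow] at h1
  have h3 : z ^ (2 ^ (n - 1)) = 1 := by
    rw [← orderOf_dvd_iff_pow_eq_one, hzo]
    exact dvd_pow_self 2 (by omega)
  rw [h3, one_mul] at h1
  -- b z b⁻¹ = z
  show z * b = b * z
  have : b * z = (b * z * b⁻¹) * b := by group
  rw [this, h1]

theorem mod_bai (hn : 3 ≤ n) (hao : orderOf a = 2 ^ n)
    (hrel : b * a * b⁻¹ = a ^ (2 ^ (n - 1) + 1)) (i : ℕ) :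
    b * a ^ i = a ^ i * (a ^ (2 ^ (n - 1))) ^ i * b := by
  set z := a ^ (2 ^ (n - 1)) with hz
  have hza : Commute z a := (Commute.refl a).pow_left _
  have hzb : Commute z b := mod_zb hn hao hrel
  have hba : b * a = z * a * b := mod_ba hrel
  induction i with
  | zero => simp
  | succ i ih =>
    calc b * a ^ (i + 1) = (b * a ^ i) * a := by rw [pow_succ, mul_assoc]
      _ = a ^ i * z ^ i * (b * a) := by rw [ih]; simp only [mul_assoc]
      _ = a ^ i * z ^ i * (z * a * b) := by rw [hba]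
      _ = a ^ (i + 1) * z ^ (i + 1) * b := by
        have e1 : z ^ i * (z * a * b) = a * z ^ (i + 1) * b := by
          rw [← mul_assoc, ← mul_assoc, ← pow_succ, (hza.pow_left (i + 1)).eq]
        rw [mul_assoc (a ^ i), e1, pow_succ a i]; simp only [mul_assoc]

/-- the `2^(n-1)`-th power map on elements `a^i` -/
theorem mod_pow_ai (i : ℕ) : (a ^ i) ^ (2 ^ (n - 1)) = (a ^ (2 ^ (n - 1))) ^ i := by
  rw [← pow_mul, ← pow_mul, mul_comm]

/-- the `2^(n-1)`-th power map on elements `a^i b` -/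
theorem mod_pow_aib (hn : 3 ≤ n) (hao : orderOf a = 2 ^ n) (hb2 : b * b = 1)
    (hrel : b * a * b⁻¹ = a ^ (2 ^ (n - 1) + 1)) (i : ℕ) :
    (a ^ i * b) ^ (2 ^ (n - 1)) = (a ^ (2 ^ (n - 1))) ^ i := by
  set z := a ^ (2 ^ (n - 1)) with hz
  have hzo : orderOf z = 2 := mod_z_order hn hao
  have hza : Commute z a := (Commute.refl a).pow_left _
  have hsq : (a ^ i * b) ^ 2 = a ^ (2 * i) * z ^ i := by
    rw [pow_two]
    calc a ^ i * b * (a ^ i * b) = a ^ i * (b * a ^ i) * b := by simp only [mul_assoc]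
      _ = a ^ i * (a ^ i * z ^ i * b) * b := by rw [mod_bai hn hao hrel i]
      _ = a ^ (2 * i) * z ^ i * (b * b) := by rw [two_mul, pow_add]; simp only [mul_assoc]
      _ = a ^ (2 * i) * z ^ i := by rw [hb2, mul_one]
  have h2 : 2 ^ (n - 1) = 2 * 2 ^ (n - 2) := by
    rw [← pow_succ']; congr 1; omega
  rw [h2, pow_mul, hsq]
  have hc : Commute (a ^ (2 * i)) (z ^ i) := ((hza.pow_left i).pow_right (2 * i)).symm
  rw [hc.mul_pow, ← pow_mul a, ← pow_mul z]
  have h3 : z ^ (i * 2 ^ (n - 2)) = 1 := by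
    rw [← orderOf_dvd_iff_pow_eq_one, hzo]
    exact Dvd.dvd.mul_left (dvd_pow_self 2 (by omega)) i
  rw [h3, mul_one, hz, ← pow_mul]
  congr 1
  rw [h2]; ring

end modular


/-- a `p`-element normalizing a Sylow `p`-subgroup lies in it -/
theorem mem_sylow_of_mem_normalizer_of_pow {K : Type*} [Group K] [Finite K] {p : ℕ} [Fact p.Prime]
    (Q : Sylow p K) (g : K) (hg : g ∈ Subgroup.normalizer ((Q : Subgroup K) : Set K)) (r : ℕ)
    (hgo : g ^ (p ^ r) = 1) : g ∈ (Q : Subgroup K) := by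
  have hP : IsPGroup p (zpowers g) := by
    intro x
    obtain ⟨x, hx⟩ := x
    obtain ⟨j, rfl⟩ := Subgroup.mem_zpowers_iff.mp hx
    refine ⟨r, ?_⟩
    apply Subtype.ext
    simp only [Subgroup.coe_pow, Subgroup.coe_one]
    rw [← zpow_natCast, ← zpow_mul, mul_comm, zpow_mul, zpow_natCast, hgo, one_zpow]
  have h : zpowers g ⊓ Subgroup.normalizer ((Q : Subgroup K) : Set K) = zpowers g ⊓ (Q : Subgroup K) :=
    IsPGroup.inf_normalizer_sylow hP Q
  have hmem : g ∈ zpowers g ⊓ Subgroup.normalizer ((Q : Subgroup K) : Set K) :=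
    ⟨mem_zpowers g, hg⟩
  rw [h] at hmem
  exact hmem.2

end Cfsg.Agent.Lib.Helper6
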