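import Mathlib
import Cfsg.Agent.Lib.Helper6.Modular

set_option autoImplicit false

namespace Cfsg.Agent.Lib.Helper6

open Subgroup

/-- an element of odd order normalizing a cyclic 2-subgroup centralizes it -/
theorem centralizes_cyclic_two_group {X : Type*} [Group X] (A : Subgroup X) [Finite A]
    (hcyc : IsCyclic A) (hA : IsPGroup 2 A) (g : X)
    (hg : g ∈ Subgroup.normalizer (A : Set X)) (k : ℕ) (hk : Odd k) (hgk : g ^ k = 1) :
    g ∈ Subgroup.centralizer (A : Set X) := by
  classical
  let ψ := A.normalizerMonoidHom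
  let gN : Subgroup.normalizer (A : Set X) := ⟨g, hg⟩
  have h1 : orderOf (ψ gN) ∣ k := by
    apply orderOf_dvd_of_pow_eq_one
    rw [← map_pow]
    have : gN ^ k = 1 := by
      apply Subtype.ext
      simp only [Subgroup.coe_pow, Subgroup.coe_one]; exact hgk
    rw [this, map_one]
  have hfin : Finite (MulAut A) := by
    have := hcyc.card_mulAut
    apply Nat.finite_of_card_ne_zero
    rw [this]
    exact (Nat.totient_pos.mpr Nat.card_pos).ne'
  have h2 : orderOf (ψ gN) ∣ Nat.card (MulAut A) := orderOf_dvd_natCard _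
  obtain ⟨j, hj⟩ := (IsPGroup.iff_card).mp hA
  have h3 : Nat.card (MulAut A) ∣ 2 ^ j := by
    rw [hcyc.card_mulAut, hj]
    rcases Nat.eq_zero_or_pos j with h0 | h0
    · rw [h0]; simp
    · rw [Nat.totient_prime_pow Nat.prime_two h0]
      have : 2 ^ j = 2 ^ (j - 1) * 2 := by rw [← pow_succ]; congr 1; omega
      rw [this]; exact mul_dvd_mul_left _ (by norm_num)
  have hcop : Nat.Coprime k (2 ^ j) := Nat.Coprime.pow_right j hk.coprime_two_right
  have h4 : orderOf (ψ gN) = 1 := Nat.eq_one_of_dvd_coprimes hcop h1 (h2.trans h3)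
  have h5 : gN ∈ ψ.ker := by
    rw [MonoidHom.mem_ker]; exact orderOf_eq_one_iff.mp h4
  rw [Subgroup.normalizerMonoidHom_ker, Subgroup.mem_subgroupOf] at h5
  exact h5

/-- an element of odd order normalizing a finite 2-subgroup `R` and commuting with a generator of a
cyclic subgroup of index two centralizes `R` -/
theorem commute_of_commute_index_two' {X : Type*} [Group X] (R : Subgroup X) [Finite R]
    (hR : IsPGroup 2 R) (w : X) (hw : w ∈ R) (hcard : Nat.card R = 2 * orderOf w)
    (y : X) (hy : y ∈ Subgroup.normalizer (R : Set X)) (hyw : Commute y w)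
    (m : ℕ) (hm : Odd m) (hym : y ^ m = 1) :
    ∀ v ∈ R, Commute y v := by
  classical
  have hwfin : IsOfFinOrder w := by
    have : IsOfFinOrder (⟨w, hw⟩ : R) := isOfFinOrder_of_finite _
    rw [← Submonoid.isOfFinOrder_coe] at this
    exact this
  have hle : zpowers w ≤ R := by rw [zpowers_le]; exact hw
  obtain ⟨d', hd'R, hd'w⟩ : ∃ d' ∈ R, d' ∉ zpowers w := by
    by_contra hcon
    push Not at hcon
    have hRle : R ≤ zpowers w := hcon
    have hfinz : Finite (zpowers w) := Finite.of_injective _ (Subgroup.inclusion_injective hle)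
    have := Subgroup.card_le_of_le hRle
    rw [hcard, Nat.card_zpowers] at this
    have := hwfin.orderOf_pos
    omega
  have hNF := index_two_normal_form R w d' hw hd'R hcard hd'w
  have hidx : ((zpowers w).subgroupOf R).index = 2 := by
    have h1 := ((zpowers w).subgroupOf R).card_mul_index
    have h2 : Nat.card ((zpowers w).subgroupOf R) = orderOf w := by
      rw [Nat.card_congr (Subgroup.subgroupOfEquivOfLe hle).toEquiv, Nat.card_zpowers]
    rw [h2, hcard] at h1
    have := hwfin.orderOf_pos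
    nlinarith
  have hyd : Commute y d' := by
    have hconjR : y * d' * y⁻¹ ∈ R := (Subgroup.mem_normalizer_iff.mp hy d').mp hd'R
    have hconj_not : y * d' * y⁻¹ ∉ zpowers w := by
      intro h
      apply hd'w
      obtain ⟨k, hk⟩ := Subgroup.mem_zpowers_iff.mp h
      have : d' = y⁻¹ * (w ^ k) * y := by rw [hk]; group
      rw [this, mul_assoc, ← (hyw.zpow_right k).eq, inv_mul_cancel_left]
      exact Subgroup.zpow_mem_zpowers w k
    have hw' : (y * d' * y⁻¹) * d'⁻¹ ∈ zpowers w := by
      have := Subgroup.mul_mem_iff_of_index_two hidx (a := ⟨y * d' * y⁻¹, hconjR⟩)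
        (b := ⟨d'⁻¹, inv_mem hd'R⟩)
      simp only [Subgroup.mem_subgroupOf, Subgroup.coe_mul, inv_mem_iff] at this
      rw [this]
      exact ⟨fun h => absurd h hconj_not, fun h => absurd h hd'w⟩
    obtain ⟨c, hcdef⟩ : ∃ c, c = (y * d' * y⁻¹) * d'⁻¹ := ⟨_, rfl⟩
    rw [← hcdef] at hw'
    have hyc : Commute y c := by
      obtain ⟨k, hk⟩ := Subgroup.mem_zpowers_iff.mp hw'
      rw [← hk]; exact hyw.zpow_right k
    have hconj : y * d' * y⁻¹ = c * d' := by rw [hcdef]; group
    have hpow : ∀ j : ℕ, y ^ j * d' * (y ^ j)⁻¹ = c ^ j * d' := by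
      intro j
      induction j with
      | zero => simp
      | succ j ih =>
        have : y ^ (j + 1) * d' * (y ^ (j + 1))⁻¹ = y * (y ^ j * d' * (y ^ j)⁻¹) * y⁻¹ := by
          rw [pow_succ', mul_inv_rev]; simp only [mul_assoc]
        rw [this, ih]
        have : y * (c ^ j * d') * y⁻¹ = (y * c ^ j * y⁻¹) * (y * d' * y⁻¹) := by
          simp only [mul_assoc, inv_mul_cancel_left]
        rw [this, hconj]
        have : y * c ^ j * y⁻¹ = c ^ j := by
          rw [(hyc.pow_right j).eq, mul_assoc, mul_inv_cancel, mul_one]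
        rw [this, pow_succ, mul_assoc]
    have h1 := hpow m
    rw [hym] at h1
    simp only [one_mul, inv_one, mul_one] at h1
    have hcm : c ^ m = 1 := by
      have : c ^ m * d' = 1 * d' := by rw [one_mul]; exact h1.symm
      exact mul_right_cancel this
    have hcR : c ∈ R := hle hw'
    obtain ⟨j, hj⟩ := hR ⟨c, hcR⟩
    have hc2 : c ^ (2 ^ j) = 1 := congrArg Subtype.val hj
    have hc1 : c = 1 := by
      have h1 : orderOf c ∣ m := orderOf_dvd_of_pow_eq_one hcm
      have h2 : orderOf c ∣ 2 ^ j := orderOf_dvd_of_pow_eq_one hc2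
      have hcop : Nat.Coprime m (2 ^ j) := (Nat.Coprime.pow_right j hm.coprime_two_right)
      have := Nat.eq_one_of_dvd_coprimes hcop h1 h2
      exact orderOf_eq_one_iff.mp this
    rw [hc1, one_mul] at hconj
    show y * d' = d' * y
    have : y * d' = (y * d' * y⁻¹) * y := by group
    rw [this, hconj]
  intro v hv
  obtain ⟨i, hi | hi⟩ := hNF v hv
  · rw [hi]; exact hyw.pow_right i
  · rw [hi]; exact (hyw.pow_right i).mul_right hyd


/-- structure of a group isomorphic to a generalized quaternion group -/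
theorem quaternion_structure {T : Type*} [Group T] (m : ℕ) [NeZero m]
    (e : T ≃* QuaternionGroup m) :
    ∃ a₀ : T, orderOf a₀ = 2 * m ∧
      ∀ t : T, t ∈ zpowers a₀ ∨ (t * a₀ * t⁻¹ = a₀⁻¹ ∧ t ^ 4 = 1) := by
  refine ⟨e.symm (QuaternionGroup.a 1), ?_, ?_⟩
  · rw [MulEquiv.orderOf_eq, QuaternionGroup.orderOf_a_one]
  · intro t
    rcases h : e t with i | i
    · left
      have : t = (e.symm (QuaternionGroup.a 1)) ^ (i.val) := by
        apply e.injective
        rw [map_pow, MulEquiv.apply_symm_apply, QuaternionGroup.a_one_pow, h]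
        congr 1
        simp
      rw [this]; exact Subgroup.pow_mem _ (mem_zpowers _) _
    · right
      have hinv : (QuaternionGroup.a 1 : QuaternionGroup m)⁻¹ = QuaternionGroup.a (-1) := by
        apply inv_eq_of_mul_eq_one_right
        rw [QuaternionGroup.a_mul_a, add_neg_cancel, QuaternionGroup.a_zero]
      constructor
      · apply e.injective
        rw [map_mul, map_mul, map_inv, map_inv, MulEquiv.apply_symm_apply, h]
        rw [mul_inv_eq_iff_eq_mul, hinv, QuaternionGroup.xa_mul_a, QuaternionGroup.a_mul_xa]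
        congr 1; ring
      · apply e.injective; rw [map_pow, h, map_one]; exact QuaternionGroup.xa_pow_four i

/-- transport of the quaternion structure along an injective homomorphism -/
theorem quaternion_structure_map {T X : Type*} [Group T] [Group X] (f : T →* X)
    (hf : Function.Injective f) (m : ℕ) (a₀ : T) (h1 : orderOf a₀ = 2 * m)
    (h2 : ∀ t : T, t ∈ zpowers a₀ ∨ (t * a₀ * t⁻¹ = a₀⁻¹ ∧ t ^ 4 = 1)) :
    orderOf (f a₀) = 2 * m ∧ ∀ u ∈ f.range,
      u ∈ zpowers (f a₀) ∨ (u * f a₀ * u⁻¹ = (f a₀)⁻¹ ∧ u ^ 4 = 1) := by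
  refine ⟨by rw [orderOf_injective f hf, h1], ?_⟩
  rintro u ⟨t, rfl⟩
  rcases h2 t with h | ⟨h, h4⟩
  · left
    obtain ⟨k, rfl⟩ := Subgroup.mem_zpowers_iff.mp h
    rw [map_zpow]; exact Subgroup.zpow_mem_zpowers _ _
  · right
    constructor
    · rw [← map_inv, ← map_inv, ← map_mul, ← map_mul, h]
    · rw [← map_pow, h4, map_one]

/-- a cyclic subgroup is generated by one of its elements -/
theorem exists_zpowers_eq_of_isCyclic {X : Type*} [Group X] (A : Subgroup X) (hA : IsCyclic A) :
    ∃ w ∈ A, A = zpowers w := by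
  obtain ⟨⟨w, hwA⟩, hw⟩ := hA.exists_generator
  refine ⟨w, hwA, ?_⟩
  apply le_antisymm
  · intro z hz
    have := hw ⟨z, hz⟩
    rw [Subgroup.mem_zpowers_iff] at this ⊢
    obtain ⟨k, hk⟩ := this
    refine ⟨k, ?_⟩
    have := congrArg Subtype.val hk
    simpa using this
  · rw [Subgroup.zpowers_le]; exact hwA

end Cfsg.Agent.Lib.Helper6
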