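import Mathlib
import Cfsg.Agent.Lib.Helper1.NilpCenter

set_option autoImplicit false

namespace Cfsg.Agent.Lib.Helper6
open Cfsg.Agent.Lib.Helper1
open scoped commutatorElement

/-- commutativity from a cyclic central quotient, stated with cardinalities -/
theorem comm_of_card_quotient_center_le {X : Type*} [Group X] [Finite X] {p : ℕ} [Fact p.Prime]
    {k : ℕ} (hk : k ≤ 1) (hQ : Nat.card (X ⧸ Subgroup.center X) = p ^ k) :
    IsMulCommutative X := by
  have hcyc : IsCyclic (X ⧸ Subgroup.center X) := by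
    rcases Nat.le_one_iff_eq_zero_or_eq_one.1 hk with h | h
    · rw [h, pow_zero] at hQ
      haveI : Subsingleton (X ⧸ Subgroup.center X) :=
        (Nat.card_eq_one_iff_unique.1 hQ).1
      exact isCyclic_of_subsingleton
    · rw [h, pow_one] at hQ
      exact isCyclic_of_prime_card hQ
  exact MonoidHom.isMulCommutative_of_isCyclic_of_ker_le_center
    (QuotientGroup.mk' (Subgroup.center X)) (by rw [QuotientGroup.ker_mk'])

/-- a group of order `p^m`, `m ≥ 2`, has class at most `m - 1` -/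
theorem class_le_of_card.{u} {p : ℕ} [hp : Fact p.Prime] :
    ∀ (m : ℕ) (X : Type u) [Group X] [Finite X], 2 ≤ m → Nat.card X = p ^ m →
      Group.nilpotencyClass X ≤ m - 1 := by
  intro m
  induction m using Nat.strong_induction_on with
  | _ m ih =>
    intro X _ _ hm hX
    have hpg : IsPGroup p X := IsPGroup.of_card hX
    haveI : Group.IsNilpotent X := hpg.isNilpotent
    haveI : Nontrivial X := by
      apply Finite.one_lt_card_iff_nontrivial.1
      rw [hX]
      exact Nat.one_lt_pow (by omega) hp.out.one_lt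
    haveI := hpg.center_nontrivial
    have hZ1 : 1 < Nat.card (Subgroup.center X) := Finite.one_lt_card
    have hmul := Subgroup.card_eq_card_quotient_mul_card_subgroup (Subgroup.center X)
    obtain ⟨k, hk⟩ := (IsPGroup.iff_card (p := p)).1
      (hpg.to_quotient (Subgroup.center X))
    obtain ⟨l, hl⟩ := (IsPGroup.iff_card (p := p)).1
      (hpg.to_subgroup (Subgroup.center X))
    rw [hX, hk, hl, ← pow_add] at hmul
    have hkl : m = k + l := Nat.pow_right_injective hp.out.two_le hmul
    have hl1 : 1 ≤ l := by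
      rcases Nat.eq_zero_or_pos l with h | h
      · rw [h, pow_zero] at hl; omega
      · exact h
    rw [Group.nilpotencyClass_eq_quotient_center_plus_one]
    by_cases hk2 : 2 ≤ k
    · have := ih k (by omega) (X ⧸ Subgroup.center X) hk2 hk
      omega
    · have hcomm : IsMulCommutative X := comm_of_card_quotient_center_le (by omega) hk
      have h1 := Group.IsNilpotent.nilpotencyClass_le_one_iff.2 hcomm
      rw [Group.nilpotencyClass_eq_quotient_center_plus_one] at h1
      omega

/-- a group of maximal class is not commutative -/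
theorem not_comm_of_maxClass {X : Type*} [Group X] [Finite X] {p : ℕ} [Fact p.Prime] (n : ℕ)
    (hn : 3 ≤ n) (hX : Nat.card X = p ^ n) (hc : Group.nilpotencyClass X = n - 1) :
    ¬ IsMulCommutative X := by
  intro hcomm
  have hpg : IsPGroup p X := IsPGroup.of_card hX
  haveI : Group.IsNilpotent X := hpg.isNilpotent
  have h1 := Group.IsNilpotent.nilpotencyClass_le_one_iff.2 hcomm
  omega

/-- the centre of a `p`-group of maximal class has order `p`, and the central quotient is again
of maximal class -/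
theorem center_of_maxClass {X : Type*} [Group X] [Finite X] {p : ℕ} [hp : Fact p.Prime] (n : ℕ)
    (hn : 3 ≤ n) (hX : Nat.card X = p ^ n) (hc : Group.nilpotencyClass X = n - 1) :
    Nat.card (Subgroup.center X) = p ∧ Nat.card (X ⧸ Subgroup.center X) = p ^ (n - 1) ∧
      Group.nilpotencyClass (X ⧸ Subgroup.center X) = n - 2 := by
  have hpg : IsPGroup p X := IsPGroup.of_card hX
  haveI : Group.IsNilpotent X := hpg.isNilpotent
  haveI : Nontrivial X := by
    apply Finite.one_lt_card_iff_nontrivial.1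
    rw [hX]
    exact Nat.one_lt_pow (by omega) hp.out.one_lt
  haveI := hpg.center_nontrivial
  have hZ1 : 1 < Nat.card (Subgroup.center X) := Finite.one_lt_card
  have hmul := Subgroup.card_eq_card_quotient_mul_card_subgroup (Subgroup.center X)
  obtain ⟨k, hk⟩ := (IsPGroup.iff_card (p := p)).1 (hpg.to_quotient (Subgroup.center X))
  obtain ⟨l, hl⟩ := (IsPGroup.iff_card (p := p)).1 (hpg.to_subgroup (Subgroup.center X))
  rw [hX, hk, hl, ← pow_add] at hmul
  have hkl : n = k + l := Nat.pow_right_injective hp.out.two_le hmul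
  have hl1 : 1 ≤ l := by
    rcases Nat.eq_zero_or_pos l with h | h
    · rw [h, pow_zero] at hl; omega
    · exact h
  have hq : Group.nilpotencyClass (X ⧸ Subgroup.center X) = n - 2 := by
    rw [Group.nilpotencyClass_quotient_center, hc]
    omega
  have hl' : l = 1 := by
    by_contra hne
    have hl2 : 2 ≤ l := by omega
    by_cases hk2 : 2 ≤ k
    · have := class_le_of_card k (X ⧸ Subgroup.center X) hk2 hk
      omega
    · exact not_comm_of_maxClass n hn hX hc (comm_of_card_quotient_center_le (by omega) hk)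
  refine ⟨by rw [hl, hl', pow_one], ?_, hq⟩
  rw [hk]
  congr 1
  omega

theorem comm_of_sq_eq_one {X : Type*} [Group X] (h : ∀ a : X, a ^ 2 = 1) :
    IsMulCommutative X := by
  refine ⟨⟨fun a b => ?_⟩⟩
  have ha : a⁻¹ = a := by rw [inv_eq_iff_mul_eq_one, ← sq, h]
  have hb : b⁻¹ = b := by rw [inv_eq_iff_mul_eq_one, ← sq, h]
  have hab : (a * b)⁻¹ = a * b := by rw [inv_eq_iff_mul_eq_one, ← sq, h]
  rw [mul_inv_rev, ha, hb] at hab
  exact hab.symm

theorem exists_orderOf_of_maxClass_base {X : Type*} [Group X] [Finite X]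
    (hX : Nat.card X = 2 ^ 3) (hc : Group.nilpotencyClass X = 3 - 1) :
    ∃ a : X, orderOf a = 2 ^ (3 - 1) := by
  by_contra hcon
  push Not at hcon
  apply not_comm_of_maxClass (p := 2) 3 le_rfl hX hc
  apply comm_of_sq_eq_one
  intro a
  have h1 : orderOf a ∣ 2 ^ 3 := hX ▸ orderOf_dvd_natCard a
  obtain ⟨k, hk3, hk⟩ := (Nat.dvd_prime_pow Nat.prime_two).1 h1
  have hk' : k ≤ 1 ∨ k = 2 ∨ k = 3 := by omega
  rcases hk' with h | h | h
  · rw [← orderOf_dvd_iff_pow_eq_one, hk]
    exact pow_dvd_pow 2 h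
  · exact absurd (by rw [hk, h]) (hcon a)
  · exfalso
    have hcyc : IsCyclic X := isCyclic_of_orderOf_eq_card a (by rw [hk, h, hX])
    exact not_comm_of_maxClass (p := 2) 3 le_rfl hX hc IsCyclic.isMulCommutative


theorem exists_orderOf_of_maxClass_step {X : Type*} [Group X] [Finite X] (n : ℕ) (hn : 3 ≤ n)
    (hX : Nat.card X = 2 ^ (n + 1)) (hc : Group.nilpotencyClass X = n + 1 - 1)
    (ih : ∃ b : X ⧸ Subgroup.center X, orderOf b = 2 ^ (n - 1)) :
    ∃ a : X, orderOf a = 2 ^ (n + 1 - 1) := by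
  obtain ⟨hZ, hQ, hQc⟩ := center_of_maxClass (p := 2) (n + 1) (by omega) hX hc
  obtain ⟨b, hb⟩ := ih
  obtain ⟨a, rfl⟩ := QuotientGroup.mk_surjective b
  have hpg : IsPGroup 2 X := IsPGroup.of_card hX
  haveI : Group.IsNilpotent X := hpg.isNilpotent
  have haZ : a ^ 2 ^ (n - 1) ∈ Subgroup.center X := by
    rw [← QuotientGroup.eq_one_iff, QuotientGroup.mk_pow, ← hb]
    exact pow_orderOf_eq_one _
  have hZsq : ∀ z ∈ Subgroup.center X, z ^ 2 = 1 := by
    intro z hz
    have h1 := pow_card_eq_one' (G := Subgroup.center X) (x := ⟨z, hz⟩)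
    rw [hZ] at h1
    exact congrArg Subtype.val h1
  by_cases ha : a ^ 2 ^ (n - 1) = 1
  · exfalso
    have hCcard : Nat.card (Subgroup.zpowers (a : X ⧸ Subgroup.center X)) = 2 ^ (n - 1) := by
      rw [Nat.card_zpowers, hb]
    have hCidx : (Subgroup.zpowers (a : X ⧸ Subgroup.center X)).index = 2 := by
      have h1 := Subgroup.card_mul_index (Subgroup.zpowers (a : X ⧸ Subgroup.center X))
      rw [hCcard, hQ] at h1
      have h2 : 2 ^ (n + 1 - 1) = 2 ^ (n - 1) * 2 := by
        rw [← pow_succ]; congr 1; omega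
      rw [h2] at h1
      exact Nat.eq_of_mul_eq_mul_left (by positivity) h1
    haveI hCn : (Subgroup.zpowers (a : X ⧸ Subgroup.center X)).Normal :=
      Subgroup.normal_of_index_eq_two hCidx
    have hconj : ∀ g : X, ∃ (i : ℤ) (z : X), z ∈ Subgroup.center X ∧
        g * a * g⁻¹ = z * a ^ i := by
      intro g
      have h1 : ((g : X ⧸ Subgroup.center X) * a * (g : X ⧸ Subgroup.center X)⁻¹) ∈
          Subgroup.zpowers (a : X ⧸ Subgroup.center X) :=
        hCn.conj_mem _ (Subgroup.mem_zpowers _) _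
      obtain ⟨i, hi⟩ := Subgroup.mem_zpowers_iff.1 h1
      refine ⟨i, g * a * g⁻¹ * (a ^ i)⁻¹, ?_, by group⟩
      rw [← QuotientGroup.eq_one_iff]
      rw [QuotientGroup.mk_mul, QuotientGroup.mk_inv, QuotientGroup.mk_zpow, hi,
        QuotientGroup.mk_mul, QuotientGroup.mk_mul, QuotientGroup.mk_inv, mul_inv_cancel]
    haveI hN : (Subgroup.zpowers (a ^ 2)).Normal := by
      constructor
      intro w hw g
      obtain ⟨k, rfl⟩ := Subgroup.mem_zpowers_iff.1 hw
      obtain ⟨i, z, hz, hgz⟩ := hconj g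
      have h1 : g * a ^ 2 * g⁻¹ = (a ^ 2) ^ i := by
        have h0 : g * a ^ 2 * g⁻¹ = (g * a * g⁻¹) ^ 2 := by rw [conj_pow]
        rw [h0, hgz]
        have hcomm : Commute z (a ^ i) := (Subgroup.mem_center_iff.1 hz (a ^ i)).symm
        rw [hcomm.mul_pow, hZsq z hz, one_mul, ← zpow_natCast, ← zpow_natCast, ← zpow_mul,
          ← zpow_mul, mul_comm]
      have h2 : g * (a ^ 2) ^ k * g⁻¹ = (g * a ^ 2 * g⁻¹) ^ k := by rw [conj_zpow]
      rw [h2, h1]
      exact Subgroup.zpow_mem _ (Subgroup.zpow_mem _ (Subgroup.mem_zpowers _) _) _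
    have hNne : Subgroup.zpowers (a ^ 2) ≠ ⊥ := by
      intro h
      have h1 : a ^ 2 = 1 := by
        have h0 := Subgroup.mem_zpowers (a ^ 2)
        rw [h] at h0
        exact Subgroup.mem_bot.1 h0
      have h2 : (a : X ⧸ Subgroup.center X) ^ 2 = 1 := by
        rw [← QuotientGroup.mk_pow, h1]; rfl
      have h3 := orderOf_dvd_of_pow_eq_one h2
      rw [hb] at h3
      have h4 : 2 ^ 2 ∣ 2 ^ (n - 1) := pow_dvd_pow 2 (by omega)
      have h5 := Nat.le_of_dvd (by norm_num) (h4.trans h3)
      omega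
    obtain ⟨w, hwN, hwZ, hw1⟩ := exists_mem_center_of_isNilpotent (Subgroup.zpowers (a ^ 2)) hNne
    obtain ⟨k, rfl⟩ := Subgroup.mem_zpowers_iff.1 hwN
    apply hw1
    have h1 : (a : X ⧸ Subgroup.center X) ^ (2 * k) = 1 := by
      have h0 := (QuotientGroup.eq_one_iff _).2 hwZ
      rw [QuotientGroup.mk_zpow, QuotientGroup.mk_pow, ← zpow_natCast, ← zpow_mul] at h0
      simpa using h0
    rw [← orderOf_dvd_iff_zpow_eq_one, hb] at h1
    obtain ⟨j, hj⟩ := h1
    rw [← zpow_natCast, ← zpow_mul]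
    push_cast
    rw [hj, zpow_mul]
    have h6 : a ^ (((2 ^ (n - 1) : ℕ)) : ℤ) = 1 := by
      rw [zpow_natCast]; exact ha
    rw [h6, one_zpow]
  · refine ⟨a, ?_⟩
    have h0 : n + 1 - 1 = (n - 1) + 1 := by omega
    rw [h0]
    apply orderOf_eq_prime_pow ha
    rw [pow_succ, pow_mul]
    exact hZsq _ haZ

theorem exists_orderOf_of_maxClass.{u} : ∀ (n : ℕ), 3 ≤ n → ∀ (X : Type u) [Group X] [Finite X],
    Nat.card X = 2 ^ n → Group.nilpotencyClass X = n - 1 → ∃ a : X, orderOf a = 2 ^ (n - 1) := by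
  intro n hn
  induction n, hn using Nat.le_induction with
  | base =>
    intro X _ _ hX hc
    exact exists_orderOf_of_maxClass_base hX hc
  | succ n hn ih =>
    intro X _ _ hX hc
    obtain ⟨hZ, hQ, hQc⟩ := center_of_maxClass (p := 2) (n + 1) (by omega) hX hc
    apply exists_orderOf_of_maxClass_step n hn hX hc
    exact ih (X ⧸ Subgroup.center X) hQ (by rw [hQc]; omega)

theorem exists_cyclic_index_two_of_maxClass {X : Type*} [Group X] [Finite X] (n : ℕ) (hn : 3 ≤ n)
    (hX : Nat.card X = 2 ^ n) (hc : Group.nilpotencyClass X = n - 1) :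
    ∃ C : Subgroup X, IsCyclic C ∧ C.index = 2 := by
  obtain ⟨a, ha⟩ := exists_orderOf_of_maxClass n hn X hX hc
  refine ⟨Subgroup.zpowers a, inferInstance, ?_⟩
  have h1 := Subgroup.card_mul_index (Subgroup.zpowers a)
  rw [Nat.card_zpowers, ha, hX] at h1
  have h2 : 2 ^ n = 2 ^ (n - 1) * 2 := by
    rw [← pow_succ]; congr 1; omega
  rw [h2] at h1
  exact Nat.eq_of_mul_eq_mul_left (by positivity) h1

theorem isKleinFour_quotient_iff {X : Type*} [Group X] (H : Subgroup X) [H.Normal] :
    IsKleinFour (X ⧸ H) ↔ H.index = 4 ∧ ∀ x : X, x ^ 2 ∈ H := by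
  constructor
  · intro h
    refine ⟨by rw [Subgroup.index_eq_card]; exact h.card_four, fun x => ?_⟩
    rw [← QuotientGroup.eq_one_iff, QuotientGroup.mk_pow, ← h.exponent_two]
    exact Monoid.pow_exponent_eq_one _
  · rintro ⟨h4, hsq⟩
    have hc : Nat.card (X ⧸ H) = 4 := by rw [← Subgroup.index_eq_card]; exact h4
    refine ⟨hc, ?_⟩
    have h1 : Monoid.exponent (X ⧸ H) ∣ 2 := by
      apply Monoid.exponent_dvd_of_forall_pow_eq_one
      intro q
      obtain ⟨x, rfl⟩ := QuotientGroup.mk_surjective q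
      rw [← QuotientGroup.mk_pow]
      exact (QuotientGroup.eq_one_iff _).2 (hsq x)
    rcases (Nat.dvd_prime Nat.prime_two).1 h1 with h | h
    · exfalso
      rw [Monoid.exp_eq_one_iff] at h
      have := Nat.card_eq_one_iff_unique.2 ⟨h, ⟨1⟩⟩
      omega
    · exact h

theorem card_center_mul_card_commutator_le {X : Type*} [Group X] [Finite X] (M : Subgroup X)
    (hM : M.index = 2) (hMc : ∀ a ∈ M, ∀ b ∈ M, a * b = b * a) (hX : ¬ IsMulCommutative X) :
    Nat.card (Subgroup.center X) * Nat.card (commutator X) ≤ Nat.card M := by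
  haveI hMn : M.Normal := Subgroup.normal_of_index_eq_two hM
  obtain ⟨t, htM⟩ : ∃ t : X, t ∉ M := by
    by_contra hcon
    push Not at hcon
    have : M = ⊤ := (Subgroup.eq_top_iff' M).2 hcon
    rw [this, Subgroup.index_top] at hM
    omega
  -- the commutator homomorphism
  have hconjM : ∀ m ∈ M, t * m * t⁻¹ ∈ M := fun m hm => hMn.conj_mem m hm t
  let φ : M →* X := MonoidHom.mk' (fun m => ⁅(m : X), t⁆) (by
    intro a b
    show ⁅((a * b : M) : X), t⁆ = ⁅(a : X), t⁆ * ⁅(b : X), t⁆
    rw [commutatorElement_def, commutatorElement_def, commutatorElement_def, Subgroup.coe_mul]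
    have h1 : (a : X) * b * t * ((a : X) * b)⁻¹ * t⁻¹
        = (a : X) * (b * (t * (b : X)⁻¹ * t⁻¹)) * (t * (a : X)⁻¹ * t⁻¹) := by group
    have h2 : (b : X) * (t * (b : X)⁻¹ * t⁻¹) * (t * (a : X)⁻¹ * t⁻¹)
        = (t * (a : X)⁻¹ * t⁻¹) * ((b : X) * (t * (b : X)⁻¹ * t⁻¹)) := by
      apply hMc
      · exact M.mul_mem b.2 (hconjM _ (M.inv_mem b.2))
      · exact hconjM _ (M.inv_mem a.2)
    rw [h1, mul_assoc, h2]
    group)
  have hφ : ∀ m : M, φ m = ⁅(m : X), t⁆ := fun m => rfl
  -- centre inside M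
  have hZM : Subgroup.center X ≤ M := by
    intro z hz
    by_contra hzM
    apply hX
    refine ⟨⟨fun a b => ?_⟩⟩
    have hz' : ∀ g : X, g * z = z * g := fun g => Subgroup.mem_center_iff.1 hz g
    have hdec : ∀ g : X, ∃ m ∈ M, g = m ∨ g = m * z := by
      intro g
      by_cases hg : g ∈ M
      · exact ⟨g, hg, Or.inl rfl⟩
      · refine ⟨g * z⁻¹, ?_, Or.inr (by group)⟩
        rw [Subgroup.mul_mem_iff_of_index_two hM]
        constructor
        · intro h; exact absurd h hg
        · intro h; exact absurd (by simpa using M.inv_mem h) hzM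
    obtain ⟨m₁, hm₁, h1⟩ := hdec a
    obtain ⟨m₂, hm₂, h2⟩ := hdec b
    have hmm := hMc m₁ hm₁ m₂ hm₂
    rcases h1 with rfl | rfl <;> rcases h2 with rfl | rfl
    · exact hmm
    · rw [← mul_assoc, hmm, mul_assoc, mul_assoc, hz' a]
    · rw [mul_assoc, ← hz' b, ← mul_assoc, hmm, mul_assoc]
    · calc m₁ * z * (m₂ * z) = m₁ * (z * m₂) * z := by group
        _ = m₁ * (m₂ * z) * z := by rw [hz' m₂]
        _ = (m₁ * m₂) * z * z := by group
        _ = (m₂ * m₁) * z * z := by rw [hmm]
        _ = m₂ * (m₁ * z) * z := by group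
        _ = m₂ * (z * m₁) * z := by rw [hz' m₁]
        _ = m₂ * z * (m₁ * z) := by group
  -- centre inside the kernel
  have h1 : Nat.card (Subgroup.center X) ≤ Nat.card φ.ker := by
    apply Nat.card_le_card_of_injective
      (fun z : Subgroup.center X => (⟨⟨z.1, hZM z.2⟩, by
        rw [MonoidHom.mem_ker, hφ]
        show ⁅(z : X), t⁆ = 1
        rw [commutatorElement_eq_one_iff_commute]
        exact (Subgroup.mem_center_iff.1 z.2 t).symm⟩ : φ.ker))
    intro z₁ z₂ h
    apply Subtype.ext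
    have := congrArg (fun k : φ.ker => ((k : M) : X)) h
    exact this
  -- commutator inside the range
  have h2 : commutator X ≤ φ.range := by
    have hdec : ∀ g : X, ∃ m ∈ M, g = m ∨ g = m * t := by
      intro g
      by_cases hg : g ∈ M
      · exact ⟨g, hg, Or.inl rfl⟩
      · refine ⟨g * t⁻¹, ?_, Or.inr (by group)⟩
        rw [Subgroup.mul_mem_iff_of_index_two hM]
        constructor
        · intro h; exact absurd h hg
        · intro h; exact absurd (by simpa using M.inv_mem h) htM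
    have hMt : ∀ m ∈ M, ∀ m' ∈ M, ⁅m, m' * t⁆ = ⁅m, t⁆ := by
      intro m hm m' hm'
      rw [commutatorElement_def, commutatorElement_def]
      have e1 : m * (m' * t) * m⁻¹ * (m' * t)⁻¹ = m * m' * (t * m⁻¹ * t⁻¹) * m'⁻¹ := by group
      have e2 : m * m' * (t * m⁻¹ * t⁻¹) = m' * (m * (t * m⁻¹ * t⁻¹)) := by
        rw [hMc m hm m' hm']; group
      have e3 : m' * (m * (t * m⁻¹ * t⁻¹)) = (m * (t * m⁻¹ * t⁻¹)) * m' :=
        hMc _ hm' _ (M.mul_mem hm (hconjM _ (M.inv_mem hm)))
      rw [e1, e2, e3]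
      group
    rw [commutator_def, Subgroup.commutator_le]
    intro g₁ _ g₂ _
    obtain ⟨m₁, hm₁, h1⟩ := hdec g₁
    obtain ⟨m₂, hm₂, h2⟩ := hdec g₂
    rcases h1 with rfl | rfl <;> rcases h2 with rfl | rfl
    · have : ⁅g₁, g₂⁆ = 1 := by
        rw [commutatorElement_eq_one_iff_commute]; exact hMc _ hm₁ _ hm₂
      rw [this]; exact Subgroup.one_mem _
    · rw [hMt g₁ hm₁ m₂ hm₂]
      exact ⟨⟨g₁, hm₁⟩, rfl⟩
    · rw [← commutatorElement_inv, hMt g₂ hm₂ m₁ hm₁]
      exact Subgroup.inv_mem _ ⟨⟨g₂, hm₂⟩, rfl⟩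
    · -- both outside
      have hy : m₂ * m₁⁻¹ ∈ M := M.mul_mem hm₂ (M.inv_mem hm₁)
      have : ⁅m₁ * t, m₂ * t⁆ = (⁅m₂ * m₁⁻¹, t⁆)⁻¹ := by
        rw [commutatorElement_def, commutatorElement_def]
        have e1 : m₁ * t * (m₂ * t) * (m₁ * t)⁻¹ * (m₂ * t)⁻¹
            = m₁ * (t * (m₂ * m₁⁻¹) * t⁻¹) * m₂⁻¹ := by group
        have e2 : m₁ * (t * (m₂ * m₁⁻¹) * t⁻¹) = (t * (m₂ * m₁⁻¹) * t⁻¹) * m₁ :=
          hMc _ hm₁ _ (hconjM _ hy)
        rw [e1, e2]
        group
      rw [this]
      exact Subgroup.inv_mem _ ⟨⟨m₂ * m₁⁻¹, hy⟩, rfl⟩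
  have h3 : Nat.card (commutator X) ≤ Nat.card φ.range :=
    Nat.card_le_card_of_injective (Subgroup.inclusion h2) (Subgroup.inclusion_injective h2)
  have h4 := Subgroup.card_mul_index φ.ker
  rw [Subgroup.index_ker] at h4
  rw [← h4]
  exact Nat.mul_le_mul h1 h3


theorem comap_commutator_quotient {X : Type*} [Group X] (Z : Subgroup X) [Z.Normal]
    (hZ : Z ≤ commutator X) :
    Subgroup.comap (QuotientGroup.mk' Z) (commutator (X ⧸ Z)) = commutator X := by
  have h1 : commutator (X ⧸ Z) = Subgroup.map (QuotientGroup.mk' Z) (commutator X) := by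
    rw [commutator_def, commutator_def, Subgroup.map_commutator,
      Subgroup.map_top_of_surjective _ (QuotientGroup.mk'_surjective Z)]
  rw [h1, Subgroup.comap_map_eq, QuotientGroup.ker_mk']
  exact sup_eq_left.2 hZ

theorem index_commutator_quotient {X : Type*} [Group X] (Z : Subgroup X) [Z.Normal]
    (hZ : Z ≤ commutator X) : (commutator (X ⧸ Z)).index = (commutator X).index := by
  rw [← comap_commutator_quotient Z hZ,
    Subgroup.index_comap_of_surjective _ (QuotientGroup.mk'_surjective Z)]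

theorem sq_mem_commutator_of_quotient {X : Type*} [Group X] (Z : Subgroup X) [Z.Normal]
    (hZ : Z ≤ commutator X) (h : ∀ q : X ⧸ Z, q ^ 2 ∈ commutator (X ⧸ Z)) (x : X) :
    x ^ 2 ∈ commutator X := by
  rw [← comap_commutator_quotient Z hZ, Subgroup.mem_comap]
  exact h (x : X ⧸ Z)

theorem center_le_commutator_of_card {X : Type*} [Group X] [Finite X] [Group.IsNilpotent X]
    (hZ : Nat.card (Subgroup.center X) = 2) (hX : commutator X ≠ ⊥) :
    Subgroup.center X ≤ commutator X := by
  obtain ⟨w, hw1, hw2, hw3⟩ := exists_mem_center_of_isNilpotent (commutator X) hX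
  have h1 : Subgroup.center X ⊓ commutator X ≠ ⊥ := by
    intro h
    have : w ∈ Subgroup.center X ⊓ commutator X := ⟨hw2, hw1⟩
    rw [h, Subgroup.mem_bot] at this
    exact hw3 this
  have h2 : 1 < Nat.card (Subgroup.center X ⊓ commutator X : Subgroup X) :=
    (Subgroup.one_lt_card_iff_ne_bot _).2 h1
  have h3 : Nat.card (Subgroup.center X ⊓ commutator X : Subgroup X) ∣ 2 := by
    rw [← hZ]; exact Subgroup.card_dvd_of_le inf_le_left
  have h4 : Nat.card (Subgroup.center X ⊓ commutator X : Subgroup X) = 2 := by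
    rcases (Nat.dvd_prime Nat.prime_two).1 h3 with h | h
    · omega
    · exact h
  have h5 : Subgroup.center X ⊓ commutator X = Subgroup.center X :=
    Subgroup.eq_of_le_of_card_ge inf_le_left (by rw [h4, hZ])
  rw [← h5]
  exact inf_le_right

theorem commutator_ne_bot_of_not_comm {X : Type*} [Group X] (h : ¬ IsMulCommutative X) :
    commutator X ≠ ⊥ := by
  intro hb
  apply h
  refine ⟨⟨fun a b => ?_⟩⟩
  have h1 : ⁅a, b⁆ ∈ commutator X := by
    rw [commutator_def]
    exact Subgroup.commutator_mem_commutator (Subgroup.mem_top a) (Subgroup.mem_top b)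
  rw [hb, Subgroup.mem_bot, commutatorElement_eq_one_iff_commute] at h1
  exact h1

theorem sq_eq_one_of_card_four {Q : Type*} [Group Q] [Finite Q] (hQ : Nat.card Q = 4)
    (hc : ¬ IsCyclic Q) (q : Q) : q ^ 2 = 1 := by
  have h1 : orderOf q ∣ 2 ^ 2 := by
    have := orderOf_dvd_natCard q
    rwa [hQ] at this
  obtain ⟨k, hk2, hk⟩ := (Nat.dvd_prime_pow Nat.prime_two).1 h1
  have hk' : k ≤ 1 ∨ k = 2 := by omega
  rcases hk' with h | h
  · rw [← orderOf_dvd_iff_pow_eq_one, hk]
    exact pow_dvd_pow 2 h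
  · exact absurd (isCyclic_of_orderOf_eq_card q (by rw [hk, h, hQ]; norm_num)) hc

/-- maximal class (non-cyclic when the order is four) gives a Klein four commutator quotient -/
theorem kf_of_maxClass.{u} : ∀ (n : ℕ), 2 ≤ n → ∀ (X : Type u) [Group X] [Finite X],
    Nat.card X = 2 ^ n → Group.nilpotencyClass X = n - 1 → ¬ IsCyclic X →
      (commutator X).index = 4 ∧ ∀ x : X, x ^ 2 ∈ commutator X := by
  intro n hn
  induction n, hn using Nat.le_induction with
  | base =>
    intro X _ _ hX hc hcyc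
    have hcomm : IsMulCommutative X :=
      IsPGroup.isMulCommutative_of_card_eq_prime_sq (p := 2) hX
    have hb : commutator X = ⊥ := by
      by_contra hne
      have h1 : ¬ IsMulCommutative X := fun h => by
        apply hne
        rw [commutator_def, Subgroup.commutator_eq_bot_iff_le_centralizer]
        intro a _ b _
        exact (h.is_comm.comm b a)
      exact h1 hcomm
    refine ⟨?_, fun x => ?_⟩
    · rw [hb, Subgroup.index_bot, hX]; norm_num
    · rw [hb, Subgroup.mem_bot]
      exact sq_eq_one_of_card_four (by rw [hX]; norm_num) hcyc x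
  | succ n hn ih =>
    intro X _ _ hX hc hcyc
    obtain ⟨hZ, hQ, hQc⟩ := center_of_maxClass (p := 2) (n + 1) (by omega) hX hc
    have hpg : IsPGroup 2 X := IsPGroup.of_card hX
    haveI : Group.IsNilpotent X := hpg.isNilpotent
    have hnc : ¬ IsMulCommutative X := not_comm_of_maxClass (p := 2) (n + 1) (by omega) hX hc
    have hQcyc : ¬ IsCyclic (X ⧸ Subgroup.center X) := by
      intro h
      exact hnc (MonoidHom.isMulCommutative_of_isCyclic_of_ker_le_center
        (QuotientGroup.mk' (Subgroup.center X)) (by rw [QuotientGroup.ker_mk']))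
    have hZle : Subgroup.center X ≤ commutator X :=
      center_le_commutator_of_card hZ (commutator_ne_bot_of_not_comm hnc)
    obtain ⟨h1, h2⟩ := ih (X ⧸ Subgroup.center X) hQ (by rw [hQc]; omega) hQcyc
    refine ⟨?_, sq_mem_commutator_of_quotient _ hZle h2⟩
    rw [← index_commutator_quotient _ hZle]
    exact h1


theorem class_eq_of_quotient_center {X : Type*} [Group X] [Group.IsNilpotent X] [Nontrivial X]
    (Z₀ : Subgroup X) [Z₀.Normal] (h : Z₀ = Subgroup.center X) (k : ℕ)
    (hk : Group.nilpotencyClass (X ⧸ Z₀) = k) : Group.nilpotencyClass X = k + 1 := by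
  subst h
  rw [Group.nilpotencyClass_eq_quotient_center_plus_one, hk]

theorem commutator_eq_bot_of_comm {X : Type*} [Group X] (h : IsMulCommutative X) :
    commutator X = ⊥ := by
  rw [commutator_def, Subgroup.commutator_eq_bot_iff_le_centralizer]
  intro a _ b _
  exact (h.is_comm.comm b a)

/-- Taussky: a 2-group whose commutator quotient has order four is of maximal class -/
theorem maxClass_of_index_four.{u} : ∀ (n : ℕ), 2 ≤ n → ∀ (X : Type u) [Group X] [Finite X],
    Nat.card X = 2 ^ n → (commutator X).index = 4 → Group.nilpotencyClass X = n - 1 := by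
  intro n hn
  induction n, hn using Nat.le_induction with
  | base =>
    intro X _ _ hX _
    have hpg : IsPGroup 2 X := IsPGroup.of_card hX
    haveI : Group.IsNilpotent X := hpg.isNilpotent
    have hcomm : IsMulCommutative X :=
      IsPGroup.isMulCommutative_of_card_eq_prime_sq (p := 2) hX
    have h1 := Group.IsNilpotent.nilpotencyClass_le_one_iff.2 hcomm
    have h2 : Group.nilpotencyClass X ≠ 0 := by
      intro h0
      rw [Group.nilpotencyClass_zero_iff_subsingleton] at h0
      have := Nat.card_eq_one_iff_unique.2 ⟨h0, ⟨1⟩⟩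
      rw [hX] at this
      norm_num at this
    omega
  | succ n hn ih =>
    intro X _ _ hX hidx
    have hpg : IsPGroup 2 X := IsPGroup.of_card hX
    haveI : Group.IsNilpotent X := hpg.isNilpotent
    haveI : Nontrivial X := by
      apply Finite.one_lt_card_iff_nontrivial.1
      rw [hX]
      exact Nat.one_lt_pow (by omega) (by norm_num)
    have hc' : Nat.card (commutator X) * 4 = 2 ^ (n + 1) := by
      rw [← hidx, Subgroup.card_mul_index, hX]
    have hc'' : Nat.card (commutator X) = 2 ^ (n - 1) := by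
      have h0 : 2 ^ (n + 1) = 2 ^ (n - 1) * 4 := by
        rw [show n + 1 = (n - 1) + 2 by omega, pow_add]; norm_num
      rw [h0] at hc'
      exact Nat.eq_of_mul_eq_mul_right (by norm_num) hc'
    have h2le : 2 ≤ 2 ^ (n - 1) := by
      calc 2 = 2 ^ 1 := by norm_num
        _ ≤ 2 ^ (n - 1) := Nat.pow_le_pow_right (by norm_num) (by omega)
    have hXne : commutator X ≠ ⊥ := by
      intro h
      rw [h, Subgroup.card_bot] at hc''
      omega
    obtain ⟨w, hw1, hw2, hw3⟩ := exists_mem_center_of_isNilpotent (commutator X) hXne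
    obtain ⟨W, hW⟩ : ∃ W : Subgroup X, W = Subgroup.center X ⊓ commutator X := ⟨_, rfl⟩
    have hWne : W ≠ ⊥ := by
      intro h
      have : w ∈ W := by rw [hW]; exact ⟨hw2, hw1⟩
      rw [h, Subgroup.mem_bot] at this
      exact hw3 this
    have hW1 : 1 < Nat.card W := (Subgroup.one_lt_card_iff_ne_bot _).2 hWne
    have hW2 : 2 ∣ Nat.card W := by
      obtain ⟨k, hk⟩ := (IsPGroup.iff_card (p := 2)).1 (hpg.to_subgroup W)
      rw [hk] at hW1 ⊢
      rcases k with _ | k
      · simp at hW1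
      · exact dvd_pow_self 2 (by omega)
    obtain ⟨v, hv⟩ := exists_prime_orderOf_dvd_card' (G := W) 2 hW2
    have hWle1 : W ≤ Subgroup.center X := by rw [hW]; exact inf_le_left
    have hWle2 : W ≤ commutator X := by rw [hW]; exact inf_le_right
    have hvc : (v : X) ∈ Subgroup.center X := hWle1 v.2
    have hvd : (v : X) ∈ commutator X := hWle2 v.2
    obtain ⟨Z₀, hZ₀⟩ : ∃ Z₀ : Subgroup X, Z₀ = Subgroup.zpowers (v : X) := ⟨_, rfl⟩
    have hZ₀c : Z₀ ≤ Subgroup.center X := by
      rw [hZ₀, Subgroup.zpowers_le]; exact hvc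
    have hZ₀d : Z₀ ≤ commutator X := by
      rw [hZ₀, Subgroup.zpowers_le]; exact hvd
    have hZ₀card : Nat.card Z₀ = 2 := by
      rw [hZ₀, Nat.card_zpowers, Subgroup.orderOf_coe, hv]
    haveI hZ₀n : Z₀.Normal := by
      constructor
      intro z hz g
      have hzc := Subgroup.mem_center_iff.1 (hZ₀c hz) g
      rw [hzc, mul_inv_cancel_right]
      exact hz
    have hQ : Nat.card (X ⧸ Z₀) = 2 ^ n := by
      have h0 := Subgroup.card_eq_card_quotient_mul_card_subgroup Z₀
      rw [hX, hZ₀card, pow_succ] at h0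
      exact (Nat.eq_of_mul_eq_mul_right (by norm_num) h0).symm
    have hQidx : (commutator (X ⧸ Z₀)).index = 4 := by
      rw [index_commutator_quotient Z₀ hZ₀d]; exact hidx
    have hQc := ih (X ⧸ Z₀) hQ hQidx
    obtain ⟨b, hb⟩ : ∃ b : X ⧸ Z₀, orderOf b = 2 ^ (n - 1) := by
      by_cases hn3 : 3 ≤ n
      · exact exists_orderOf_of_maxClass n hn3 (X ⧸ Z₀) hQ hQc
      · have hn2 : n = 2 := by omega
        obtain ⟨b, hb⟩ := exists_prime_orderOf_dvd_card' (G := X ⧸ Z₀) 2
          (by rw [hQ]; exact dvd_pow_self 2 (by omega))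
        exact ⟨b, by rw [hb, hn2]; norm_num⟩
    obtain ⟨a, rfl⟩ := QuotientGroup.mk_surjective b
    obtain ⟨M, hMdef⟩ : ∃ M : Subgroup X, M = Subgroup.comap (QuotientGroup.mk' Z₀)
      (Subgroup.zpowers (a : X ⧸ Z₀)) := ⟨_, rfl⟩
    have hMidx : M.index = 2 := by
      rw [hMdef, Subgroup.index_comap_of_surjective _ (QuotientGroup.mk'_surjective Z₀)]
      have h1 := Subgroup.card_mul_index (Subgroup.zpowers (a : X ⧸ Z₀))
      rw [Nat.card_zpowers, hb, hQ] at h1
      have h0 : 2 ^ n = 2 ^ (n - 1) * 2 := by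
        rw [← pow_succ]; congr 1; omega
      rw [h0] at h1
      exact Nat.eq_of_mul_eq_mul_left (by positivity) h1
    have hdec : ∀ m ∈ M, ∃ (k : ℤ) (z : X), z ∈ Subgroup.center X ∧ m = z * a ^ k := by
      intro m hm
      rw [hMdef, Subgroup.mem_comap] at hm
      obtain ⟨k, hk⟩ := Subgroup.mem_zpowers_iff.1 hm
      refine ⟨k, m * (a ^ k)⁻¹, hZ₀c ?_, by group⟩
      rw [← QuotientGroup.eq_one_iff]
      rw [QuotientGroup.mk_mul, QuotientGroup.mk_inv, QuotientGroup.mk_zpow, hk]
      exact mul_inv_cancel _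
    have hMc : ∀ x ∈ M, ∀ y ∈ M, x * y = y * x := by
      intro x hx y hy
      obtain ⟨k₁, z₁, hz₁, rfl⟩ := hdec x hx
      obtain ⟨k₂, z₂, hz₂, rfl⟩ := hdec y hy
      have cz₁ : ∀ g, Commute z₁ g := fun g => (Subgroup.mem_center_iff.1 hz₁ g).symm
      have cz₂ : ∀ g, Commute z₂ g := fun g => (Subgroup.mem_center_iff.1 hz₂ g).symm
      have c1 : Commute (a ^ k₁) (a ^ k₂) := (Commute.refl a).zpow_zpow k₁ k₂
      exact Commute.mul_left (Commute.mul_right (cz₁ z₂) (cz₁ (a ^ k₂)))
        (Commute.mul_right ((cz₂ (a ^ k₁)).symm) c1)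
    have hnc : ¬ IsMulCommutative X := fun h => hXne (commutator_eq_bot_of_comm h)
    have hle := card_center_mul_card_commutator_le M hMidx hMc hnc
    have hMcard : Nat.card M = 2 ^ n := by
      have h0 := Subgroup.card_mul_index M
      rw [hMidx, hX, pow_succ] at h0
      exact Nat.eq_of_mul_eq_mul_right (by norm_num) h0
    rw [hc'', hMcard] at hle
    have hZle : Nat.card (Subgroup.center X) ≤ 2 := by
      have h0 : 2 ^ n = 2 * 2 ^ (n - 1) := by
        rw [← pow_succ']; congr 1; omega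
      rw [h0] at hle
      exact Nat.le_of_mul_le_mul_right hle (by positivity)
    have hZeq : Z₀ = Subgroup.center X :=
      Subgroup.eq_of_le_of_card_ge hZ₀c (by rw [hZ₀card]; exact hZle)
    have := class_eq_of_quotient_center Z₀ hZeq (n - 1) hQc
    rw [this]
    omega

end Cfsg.Agent.Lib.Helper6
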