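import Mathlib
import Cfsg.Agent.Lib.Helper6.MaxClass2
import Cfsg.Agent.Lib.Helper1.Dih2

set_option autoImplicit false

namespace Cfsg.Agent.Lib.Helper6
open Cfsg.Agent.Lib.Helper1
open scoped commutatorElement

theorem sq_mem_center_of_index_two {X : Type*} [Group X] (A : Subgroup X) (hA : A.index = 2)
    (hAc : ∀ a ∈ A, ∀ b ∈ A, a * b = b * a) (t : X) (ht : t ∉ A) :
    t * t ∈ Subgroup.center X := by
  have htt : t * t ∈ A := by
    rw [Subgroup.mul_mem_iff_of_index_two hA]
  rw [Subgroup.mem_center_iff]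
  intro g
  by_cases hg : g ∈ A
  · exact hAc g hg _ htt
  · have hgt : g * t⁻¹ ∈ A := by
      rw [Subgroup.mul_mem_iff_of_index_two hA]
      constructor
      · intro h; exact absurd h hg
      · intro h; exact absurd (by simpa using A.inv_mem h) ht
    have h1 := hAc _ hgt _ htt
    calc g * (t * t) = (g * t⁻¹) * (t * t) * t := by group
      _ = (t * t) * (g * t⁻¹) * t := by rw [h1]
      _ = t * t * g := by group

theorem center_le_of_index_two {X : Type*} [Group X] (M : Subgroup X) (hM : M.index = 2)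
    (hMc : ∀ a ∈ M, ∀ b ∈ M, a * b = b * a) (hX : ¬ IsMulCommutative X) :
    Subgroup.center X ≤ M := by
  intro z hz
  by_contra hzM
  apply hX
  refine ⟨⟨fun a b => ?_⟩⟩
  have hz' : ∀ g : X, g * z = z * g := fun g => Subgroup.mem_center_iff.1 hz g
  have hdec : ∀ g : X, ∃ m ∈ M, g = m ∨ g = m * z := by
    intro g
    by_cases hg : g ∈ M
    · exact ⟨g, hg, Or.inl rfl⟩
    · refine ⟨g * z⁻¹, ?_, Or.inr (by group)⟩
      rw [Subgroup.mul_mem_iff_of_index_two hM]
      constructor
      · intro h; exact absurd h hg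
      · intro h; exact absurd (by simpa using M.inv_mem h) hzM
  obtain ⟨m₁, hm₁, h1⟩ := hdec a
  obtain ⟨m₂, hm₂, h2⟩ := hdec b
  have hmm := hMc m₁ hm₁ m₂ hm₂
  rcases h1 with rfl | rfl <;> rcases h2 with rfl | rfl
  · exact hmm
  · rw [← mul_assoc, hmm, mul_assoc, mul_assoc, hz' a]
  · rw [mul_assoc, ← hz' b, ← mul_assoc, hmm, mul_assoc]
  · calc m₁ * z * (m₂ * z) = m₁ * (z * m₂) * z := by group
      _ = m₁ * (m₂ * z) * z := by rw [hz' m₂]
      _ = (m₁ * m₂) * z * z := by group
      _ = (m₂ * m₁) * z * z := by rw [hmm]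
      _ = m₂ * (m₁ * z) * z := by group
      _ = m₂ * (z * m₁) * z := by rw [hz' m₁]
      _ = m₂ * z * (m₁ * z) := by group

/-- the central quotient of a 2-group of maximal class is dihedral -/
theorem quotient_center_dihedral_of_maxClass {X : Type*} [Group X] [Finite X] (n : ℕ) (hn : 3 ≤ n)
    (hX : Nat.card X = 2 ^ n) (hc : Group.nilpotencyClass X = n - 1) :
    Nonempty (X ⧸ Subgroup.center X ≃* DihedralGroup (2 ^ (n - 2))) := by
  obtain ⟨a, ha⟩ := exists_orderOf_of_maxClass n hn X hX hc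
  obtain ⟨hZ, hQ, -⟩ := center_of_maxClass (p := 2) n hn hX hc
  have hnc : ¬ IsMulCommutative X := not_comm_of_maxClass (p := 2) n hn hX hc
  obtain ⟨A, hAdef⟩ : ∃ A : Subgroup X, A = Subgroup.zpowers a := ⟨_, rfl⟩
  have haA : a ∈ A := by rw [hAdef]; exact Subgroup.mem_zpowers a
  have hAidx : A.index = 2 := by
    have h1 := Subgroup.card_mul_index A
    rw [hAdef, Nat.card_zpowers, ha, hX] at h1
    have h2 : 2 ^ n = 2 ^ (n - 1) * 2 := by
      rw [← pow_succ]; congr 1; omega
    rw [h2] at h1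
    rw [hAdef]
    exact Nat.eq_of_mul_eq_mul_left (by positivity) h1
  have hAc : ∀ x ∈ A, ∀ y ∈ A, x * y = y * x := by
    intro x hx y hy
    rw [hAdef] at hx hy
    obtain ⟨i, rfl⟩ := Subgroup.mem_zpowers_iff.1 hx
    obtain ⟨j, rfl⟩ := Subgroup.mem_zpowers_iff.1 hy
    exact (Commute.refl a).zpow_zpow i j
  have hZA : Subgroup.center X ≤ A := center_le_of_index_two A hAidx hAc hnc
  obtain ⟨t, ht⟩ : ∃ t : X, t ∉ A := by
    by_contra hcon
    push Not at hcon
    have : A = ⊤ := (Subgroup.eq_top_iff' A).2 hcon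
    rw [this, Subgroup.index_top] at hAidx
    omega
  have hta : t * a ∉ A := by
    intro h
    rw [Subgroup.mul_mem_iff_of_index_two hAidx] at h
    exact ht (h.2 haA)
  have htt := sq_mem_center_of_index_two A hAidx hAc t ht
  have htata := sq_mem_center_of_index_two A hAidx hAc (t * a) hta
  have hZsq : ∀ z ∈ Subgroup.center X, z ^ 2 = 1 := by
    intro z hz
    have h1 := pow_card_eq_one' (G := Subgroup.center X) (x := ⟨z, hz⟩)
    rw [hZ] at h1
    exact congrArg Subtype.val h1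
  -- the two involutions
  obtain ⟨x, hxdef⟩ : ∃ x : X ⧸ Subgroup.center X, x = (t : X ⧸ Subgroup.center X) := ⟨_, rfl⟩
  obtain ⟨y, hydef⟩ : ∃ y : X ⧸ Subgroup.center X, y = ((t * a : X) : X ⧸ Subgroup.center X) :=
    ⟨_, rfl⟩
  have hx2 : x * x = 1 := by
    rw [hxdef, ← QuotientGroup.mk_mul]
    exact (QuotientGroup.eq_one_iff _).2 htt
  have hy2 : y * y = 1 := by
    rw [hydef, ← QuotientGroup.mk_mul]
    exact (QuotientGroup.eq_one_iff _).2 htata
  have hx1 : x ≠ 1 := by
    rw [hxdef]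
    intro h
    exact ht (hZA ((QuotientGroup.eq_one_iff _).1 h))
  have hy1 : y ≠ 1 := by
    rw [hydef]
    intro h
    exact hta (hZA ((QuotientGroup.eq_one_iff _).1 h))
  have haZ : a ∉ Subgroup.center X := by
    intro h
    have h1 := orderOf_dvd_of_pow_eq_one (hZsq a h)
    rw [ha] at h1
    have h4 : 2 ^ 2 ∣ 2 ^ (n - 1) := pow_dvd_pow 2 (by omega)
    have h5 := Nat.le_of_dvd (by norm_num) (h4.trans h1)
    omega
  have hxy : x * y = (a : X ⧸ Subgroup.center X) := by
    rw [hxdef, hydef, ← QuotientGroup.mk_mul]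
    have h1 : t * (t * a) = (t * t) * a := by group
    rw [h1, QuotientGroup.mk_mul, (QuotientGroup.eq_one_iff _).2 htt, one_mul]
  have hxney : x ≠ y := by
    intro h
    have h1 : x * y = 1 := by rw [← h]; exact hx2
    rw [hxy] at h1
    exact haZ ((QuotientGroup.eq_one_iff _).1 h1)
  have hinj := dihedralHom_injective hx2 hy2 hx1 hy1 hxney
  -- the order of x * y
  have hrpos : 0 < orderOf (x * y) := orderOf_pos _
  have hr1 : 2 ^ (n - 2) ∣ orderOf (x * y) := by
    have h1 : (a : X ⧸ Subgroup.center X) ^ orderOf (x * y) = 1 := by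
      rw [← hxy]; exact pow_orderOf_eq_one _
    rw [← QuotientGroup.mk_pow] at h1
    have h2 := hZsq _ ((QuotientGroup.eq_one_iff _).1 h1)
    rw [← pow_mul] at h2
    have h3 := orderOf_dvd_of_pow_eq_one h2
    rw [ha, show n - 1 = (n - 2) + 1 by omega, pow_succ] at h3
    exact Nat.dvd_of_mul_dvd_mul_right (by norm_num) h3
  have hr2 : 2 * orderOf (x * y) ≤ 2 ^ (n - 1) := by
    haveI : NeZero (orderOf (x * y)) := ⟨hrpos.ne'⟩
    have h1 := Nat.card_le_card_of_injective _ hinj
    rw [DihedralGroup.nat_card, hQ] at h1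
    exact h1
  have hr : orderOf (x * y) = 2 ^ (n - 2) := by
    apply le_antisymm
    · have h0 : 2 ^ (n - 1) = 2 * 2 ^ (n - 2) := by
        rw [← pow_succ']; congr 1; omega
      rw [h0] at hr2
      omega
    · exact Nat.le_of_dvd hrpos hr1
  rw [← hr]
  haveI : NeZero (orderOf (x * y)) := ⟨hrpos.ne'⟩
  have hbij : Function.Bijective (dihedralHom hx2 hy2) := by
    rw [Nat.bijective_iff_injective_and_card]
    refine ⟨hinj, ?_⟩
    rw [DihedralGroup.nat_card, hQ, hr, ← pow_succ']
    congr 1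
    omega
  exact ⟨(MulEquiv.ofBijective _ hbij).symm⟩

end Cfsg.Agent.Lib.Helper6
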