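import Mathlib
import Cfsg.Agent.Lib.Helper6.MaxClass2b
import Cfsg.Agent.Lib.Helper6.TwoCyc
import Cfsg.Agent.Lib.Helper6.QuatRec

set_option autoImplicit false

namespace Cfsg.Agent.Lib.Helper6
open Cfsg.Agent.Lib.Helper1

/-- 2-groups of maximal class: dihedral, generalized quaternion or semidihedral relations -/
theorem maxClass_two_classification {X : Type*} [Group X] [Finite X] (n : ℕ) (hn : 3 ≤ n)
    (hX : Nat.card X = 2 ^ n) (hc : Group.nilpotencyClass X = n - 1) :
    ∃ a b : X, orderOf a = 2 ^ (n - 1) ∧ b ∉ Subgroup.zpowers a ∧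
      ((b ^ 2 = 1 ∧ b * a * b⁻¹ = a⁻¹) ∨ (b ^ 2 = a ^ (2 ^ (n - 2)) ∧ b * a * b⁻¹ = a⁻¹) ∨
        (4 ≤ n ∧ b ^ 2 = 1 ∧ b * a * b⁻¹ = a ^ (2 ^ (n - 2) - 1))) := by
  obtain ⟨a0, ha0⟩ := exists_orderOf_of_maxClass n hn X hX hc
  have hnc : ¬ IsMulCommutative X := not_comm_of_maxClass (p := 2) n hn hX hc
  have hna : ∃ x y : X, x * y ≠ y * x := by
    by_contra hcon
    push Not at hcon
    exact hnc ⟨⟨hcon⟩⟩
  have hidx : ∀ a : X, orderOf a = 2 ^ (n - 1) → (Subgroup.zpowers a).index = 2 := by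
    intro a ha
    have h1 := Subgroup.card_mul_index (Subgroup.zpowers a)
    rw [Nat.card_zpowers, ha, hX] at h1
    have h2 : 2 ^ n = 2 ^ (n - 1) * 2 := by
      rw [← pow_succ]; congr 1; omega
    rw [h2] at h1
    exact Nat.eq_of_mul_eq_mul_left (by positivity) h1
  obtain ⟨a, b, hao, hb, hcases⟩ := cyclic_max_two_classification n hn hX
    (Subgroup.zpowers a0) inferInstance (hidx a0 ha0) hna
  refine ⟨a, b, hao, hb, ?_⟩
  rcases hcases with h | h | h | h
  · exact Or.inl h
  · exact Or.inr (Or.inl h)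
  · -- modular: impossible
    exfalso
    obtain ⟨hn4, hb2, hconj⟩ := h
    obtain ⟨hZ, -, -⟩ := center_of_maxClass (p := 2) n hn hX hc
    have hAi := hidx a hao
    have ha2n : a ^ (2 ^ (n - 1)) = 1 := by rw [← hao]; exact pow_orderOf_eq_one a
    have ha2c : a ^ 2 ∈ Subgroup.center X := by
      rw [Subgroup.mem_center_iff]
      have hba : b * a ^ 2 * b⁻¹ = a ^ 2 := by
        rw [← conj_pow, hconj, ← pow_mul]
        have h1 : (1 + 2 ^ (n - 2)) * 2 = 2 + 2 ^ (n - 1) := by
          rw [add_mul, one_mul, ← pow_succ]; congr 2; omega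
        rw [h1, pow_add, ha2n, mul_one]
      have hcb : Commute b (a ^ 2) := by
        have : b * a ^ 2 = a ^ 2 * b := by
          calc b * a ^ 2 = (b * a ^ 2 * b⁻¹) * b := by group
            _ = a ^ 2 * b := by rw [hba]
        exact this
      intro g
      by_cases hg : g ∈ Subgroup.zpowers a
      · obtain ⟨k, rfl⟩ := Subgroup.mem_zpowers_iff.1 hg
        exact ((Commute.refl a).zpow_left k).pow_right 2 |>.eq
      · have hgb : g * b⁻¹ ∈ Subgroup.zpowers a := by
          rw [Subgroup.mul_mem_iff_of_index_two hAi]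
          constructor
          · intro h; exact absurd h hg
          · intro h; exact absurd (by simpa using (Subgroup.zpowers a).inv_mem h) hb
        obtain ⟨k, hk⟩ := Subgroup.mem_zpowers_iff.1 hgb
        have hg' : g = a ^ k * b := by rw [hk]; group
        rw [hg']
        have c1 : Commute (a ^ k) (a ^ 2) := ((Commute.refl a).zpow_left k).pow_right 2
        exact (c1.mul_left hcb).eq
    have h1 := pow_card_eq_one' (G := Subgroup.center X) (x := ⟨a ^ 2, ha2c⟩)
    rw [hZ] at h1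
    have h2 : (a ^ 2) ^ 2 = 1 := congrArg Subtype.val h1
    rw [← pow_mul] at h2
    have h3 := orderOf_dvd_of_pow_eq_one h2
    rw [hao] at h3
    have h4 : 2 ^ 3 ∣ 2 ^ (n - 1) := pow_dvd_pow 2 (by omega)
    have h5 := Nat.le_of_dvd (by norm_num) (h4.trans h3)
    omega
  · exact Or.inr (Or.inr h)


/-- recognition of dihedral groups by generators and relations -/
theorem nonempty_mulEquiv_dihedral_of_rel {X : Type*} [Group X] [Finite X] (N : ℕ) (hN : 2 ≤ N)
    (a b : X) (ha : orderOf a = N) (hb : b ∉ Subgroup.zpowers a) (hb2 : b ^ 2 = 1)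
    (hconj : b * a * b⁻¹ = a⁻¹) (hcard : Nat.card X = 2 * N) :
    Nonempty (X ≃* DihedralGroup N) := by
  have hbb : b * b = 1 := by rw [← pow_two]; exact hb2
  have hbinv : b⁻¹ = b := inv_eq_of_mul_eq_one_right hbb
  have hy2 : (b * a) * (b * a) = 1 := by
    calc b * a * (b * a) = (b * a * b⁻¹) * a := by rw [hbinv]; group
      _ = 1 := by rw [hconj]; group
  have hxy : b * (b * a) = a := by rw [← mul_assoc, hbb, one_mul]
  have hx1 : b ≠ 1 := fun h => hb (h ▸ Subgroup.one_mem _)
  have hy1 : b * a ≠ 1 := by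
    intro h
    apply hb
    have : b = a⁻¹ := eq_inv_of_mul_eq_one_left h
    rw [this]
    exact Subgroup.inv_mem _ (Subgroup.mem_zpowers a)
  have ha1 : a ≠ 1 := by
    intro h
    rw [h, orderOf_one] at ha
    omega
  have hxney : b ≠ b * a := by
    intro h
    apply ha1
    have : b * 1 = b * a := by rw [mul_one]; exact h
    exact (mul_left_cancel this).symm
  have hinj := dihedralHom_injective hbb hy2 hx1 hy1 hxney
  have hr : orderOf (b * (b * a)) = N := by rw [hxy, ha]
  rw [← hr]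
  haveI : NeZero (orderOf (b * (b * a))) := ⟨by rw [hr]; omega⟩
  have hbij : Function.Bijective (dihedralHom hbb hy2) := by
    rw [Nat.bijective_iff_injective_and_card]
    refine ⟨hinj, ?_⟩
    rw [DihedralGroup.nat_card, hcard, hr]
  exact ⟨(MulEquiv.ofBijective _ hbij).symm⟩

/-- 2-groups whose commutator quotient is a four-group -/
theorem two_group_abelianization_four {S : Type*} [Group S] [Finite S] (h2 : IsPGroup 2 S)
    (hab : Nat.card (Abelianization S) = 4) :
    Nat.card S = 4 ∨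
    ((∃ k : ℕ, Nonempty (S ≃* DihedralGroup (2 ^ (k + 2)))) ∨
      (∃ k : ℕ, Nat.card S = 2 ^ (k + 4) ∧ ∃ a b : S, orderOf a = 2 ^ (k + 3) ∧ orderOf b = 2 ∧
        b * a * b⁻¹ = a ^ (2 ^ (k + 2) - 1)) ∨
      (∃ k : ℕ, Nonempty (S ≃* QuaternionGroup (2 ^ (k + 1))))) := by
  obtain ⟨n, hn⟩ := (IsPGroup.iff_card (p := 2)).1 h2
  have hidx : (commutator S).index = 4 := by
    rw [Subgroup.index_eq_card]; exact hab
  have h4 : 4 ∣ 2 ^ n := by
    rw [← hn, ← hidx]; exact Subgroup.index_dvd_card _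
  have hn2 : 2 ≤ n := by
    by_contra hcon
    push Not at hcon
    interval_cases n <;> omega
  by_cases hn3 : 3 ≤ n
  swap
  · left
    have : n = 2 := by omega
    rw [hn, this]; norm_num
  right
  have hc := maxClass_of_index_four n hn2 S hn hidx
  obtain ⟨a, b, hao, hb, hcases⟩ := maxClass_two_classification n hn3 hn hc
  have hcard : Nat.card S = 2 * 2 ^ (n - 1) := by
    rw [hn, ← pow_succ']; congr 1; omega
  rcases hcases with ⟨hb2, hconj⟩ | ⟨hb2, hconj⟩ | ⟨hn4, hb2, hconj⟩
  · left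
    refine ⟨n - 3, ?_⟩
    rw [show n - 3 + 2 = n - 1 by omega]
    refine nonempty_mulEquiv_dihedral_of_rel (2 ^ (n - 1)) ?_ a b hao hb hb2 hconj hcard
    calc 2 = 2 ^ 1 := by norm_num
      _ ≤ 2 ^ (n - 1) := Nat.pow_le_pow_right (by norm_num) (by omega)
  · right; right
    refine ⟨n - 3, ?_⟩
    rw [show n - 3 + 1 = n - 2 by omega]
    haveI : NeZero (2 ^ (n - 2)) := ⟨by positivity⟩
    refine nonempty_mulEquiv_quaternion (2 ^ (n - 2)) a b ?_ hb2 hconj hb ?_
    · rw [hao, ← pow_succ']; congr 1; omega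
    · rw [hn, show (4 : ℕ) = 2 ^ 2 by norm_num, ← pow_add]; congr 1; omega
  · right; left
    refine ⟨n - 4, by rw [hn]; congr 1; omega, a, b, ?_, ?_, ?_⟩
    · rw [hao]; congr 1; omega
    · apply orderOf_eq_prime hb2
      intro h
      exact hb (h ▸ Subgroup.one_mem _)
    · rw [hconj, show n - 4 + 2 = n - 2 by omega]

end Cfsg.Agent.Lib.Helper6
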