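import Mathlib

set_option autoImplicit false
set_option maxHeartbeats 4000000
set_option maxRecDepth 100000

namespace Cfsg.Agent.Lib.Helper6

/-- Cayley table of the (2,3,5) triangle group: any group generated with these relations has a
list of sixty elements closed under right multiplication by the generators. -/
theorem a5_table {P : Type*} [Group P] (X Y : P) (hx : X ^ 3 = 1) (hy : Y ^ 5 = 1)
    (hxy : (X * Y) ^ 2 = 1) :
    ∃ l : List P, l.length = 60 ∧ (1 : P) ∈ l ∧ (∀ u ∈ l, u * X ∈ l) ∧ (∀ u ∈ l, u * Y ∈ l) := by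
  have rx : ∀ u : P, u * X * X * X = u := by
    intro u
    have : u * X * X * X = u * X ^ 3 := by simp [pow_succ, mul_assoc]
    rw [this, hx, mul_one]
  have ry : ∀ u : P, u * Y * Y * Y * Y * Y = u := by
    intro u
    have : u * Y * Y * Y * Y * Y = u * Y ^ 5 := by simp [pow_succ, mul_assoc]
    rw [this, hy, mul_one]
  have rxy : ∀ u : P, u * X * Y * X * Y = u := by
    intro u
    have : u * X * Y * X * Y = u * (X * Y) ^ 2 := by simp [pow_succ, mul_assoc]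
    rw [this, hxy, mul_one]
  have ryx : ∀ u : P, u * Y * X * Y * X = u := by
    intro u
    have : u * Y * X * Y * X = u * X⁻¹ * (X * Y) ^ 2 * X := by simp [pow_succ, mul_assoc]
    rw [this, hxy, mul_one]; simp [mul_assoc]
  obtain ⟨w0, d0⟩ : ∃ w0 : P, w0 = 1 := ⟨_, rfl⟩
  obtain ⟨w1, e0X⟩ : ∃ w1 : P, w0 * X = w1 := ⟨_, rfl⟩
  obtain ⟨w2, e0Y⟩ : ∃ w2 : P, w0 * Y = w2 := ⟨_, rfl⟩
  obtain ⟨w3, e1X⟩ : ∃ w3 : P, w1 * X = w3 := ⟨_, rfl⟩
  obtain ⟨w4, e1Y⟩ : ∃ w4 : P, w1 * Y = w4 := ⟨_, rfl⟩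
  obtain ⟨w5, e2X⟩ : ∃ w5 : P, w2 * X = w5 := ⟨_, rfl⟩
  obtain ⟨w6, e2Y⟩ : ∃ w6 : P, w2 * Y = w6 := ⟨_, rfl⟩
  obtain ⟨w7, e3Y⟩ : ∃ w7 : P, w3 * Y = w7 := ⟨_, rfl⟩
  obtain ⟨w8, e4X⟩ : ∃ w8 : P, w4 * X = w8 := ⟨_, rfl⟩
  obtain ⟨w9, e4Y⟩ : ∃ w9 : P, w4 * Y = w9 := ⟨_, rfl⟩
  obtain ⟨w10, e5X⟩ : ∃ w10 : P, w5 * X = w10 := ⟨_, rfl⟩
  obtain ⟨w11, e6X⟩ : ∃ w11 : P, w6 * X = w11 := ⟨_, rfl⟩
  obtain ⟨w12, e6Y⟩ : ∃ w12 : P, w6 * Y = w12 := ⟨_, rfl⟩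
  obtain ⟨w13, e7X⟩ : ∃ w13 : P, w7 * X = w13 := ⟨_, rfl⟩
  obtain ⟨w14, e7Y⟩ : ∃ w14 : P, w7 * Y = w14 := ⟨_, rfl⟩
  obtain ⟨w15, e8X⟩ : ∃ w15 : P, w8 * X = w15 := ⟨_, rfl⟩
  obtain ⟨w16, e9X⟩ : ∃ w16 : P, w9 * X = w16 := ⟨_, rfl⟩
  obtain ⟨w17, e9Y⟩ : ∃ w17 : P, w9 * Y = w17 := ⟨_, rfl⟩
  obtain ⟨w18, e10Y⟩ : ∃ w18 : P, w10 * Y = w18 := ⟨_, rfl⟩
  obtain ⟨w19, e11X⟩ : ∃ w19 : P, w11 * X = w19 := ⟨_, rfl⟩
  obtain ⟨w20, e12X⟩ : ∃ w20 : P, w12 * X = w20 := ⟨_, rfl⟩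
  obtain ⟨w21, e13X⟩ : ∃ w21 : P, w13 * X = w21 := ⟨_, rfl⟩
  obtain ⟨w22, e14X⟩ : ∃ w22 : P, w14 * X = w22 := ⟨_, rfl⟩
  obtain ⟨w23, e14Y⟩ : ∃ w23 : P, w14 * Y = w23 := ⟨_, rfl⟩
  obtain ⟨w24, e15Y⟩ : ∃ w24 : P, w15 * Y = w24 := ⟨_, rfl⟩
  obtain ⟨w25, e16X⟩ : ∃ w25 : P, w16 * X = w25 := ⟨_, rfl⟩
  obtain ⟨w26, e17X⟩ : ∃ w26 : P, w17 * X = w26 := ⟨_, rfl⟩
  obtain ⟨w27, e18Y⟩ : ∃ w27 : P, w18 * Y = w27 := ⟨_, rfl⟩
  obtain ⟨w28, e19Y⟩ : ∃ w28 : P, w19 * Y = w28 := ⟨_, rfl⟩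
  obtain ⟨w29, e21Y⟩ : ∃ w29 : P, w21 * Y = w29 := ⟨_, rfl⟩
  obtain ⟨w30, e22X⟩ : ∃ w30 : P, w22 * X = w30 := ⟨_, rfl⟩
  obtain ⟨w31, e23X⟩ : ∃ w31 : P, w23 * X = w31 := ⟨_, rfl⟩
  obtain ⟨w32, e24Y⟩ : ∃ w32 : P, w24 * Y = w32 := ⟨_, rfl⟩
  obtain ⟨w33, e25Y⟩ : ∃ w33 : P, w25 * Y = w33 := ⟨_, rfl⟩
  obtain ⟨w34, e27X⟩ : ∃ w34 : P, w27 * X = w34 := ⟨_, rfl⟩
  obtain ⟨w35, e27Y⟩ : ∃ w35 : P, w27 * Y = w35 := ⟨_, rfl⟩
  obtain ⟨w36, e28Y⟩ : ∃ w36 : P, w28 * Y = w36 := ⟨_, rfl⟩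
  obtain ⟨w37, e29Y⟩ : ∃ w37 : P, w29 * Y = w37 := ⟨_, rfl⟩
  obtain ⟨w38, e30Y⟩ : ∃ w38 : P, w30 * Y = w38 := ⟨_, rfl⟩
  obtain ⟨w39, e32X⟩ : ∃ w39 : P, w32 * X = w39 := ⟨_, rfl⟩
  obtain ⟨w40, e32Y⟩ : ∃ w40 : P, w32 * Y = w40 := ⟨_, rfl⟩
  obtain ⟨w41, e33Y⟩ : ∃ w41 : P, w33 * Y = w41 := ⟨_, rfl⟩
  obtain ⟨w42, e34X⟩ : ∃ w42 : P, w34 * X = w42 := ⟨_, rfl⟩
  obtain ⟨w43, e35X⟩ : ∃ w43 : P, w35 * X = w43 := ⟨_, rfl⟩
  obtain ⟨w44, e36X⟩ : ∃ w44 : P, w36 * X = w44 := ⟨_, rfl⟩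
  obtain ⟨w45, e37X⟩ : ∃ w45 : P, w37 * X = w45 := ⟨_, rfl⟩
  obtain ⟨w46, e37Y⟩ : ∃ w46 : P, w37 * Y = w46 := ⟨_, rfl⟩
  obtain ⟨w47, e38Y⟩ : ∃ w47 : P, w38 * Y = w47 := ⟨_, rfl⟩
  obtain ⟨w48, e39X⟩ : ∃ w48 : P, w39 * X = w48 := ⟨_, rfl⟩
  obtain ⟨w49, e40X⟩ : ∃ w49 : P, w40 * X = w49 := ⟨_, rfl⟩
  obtain ⟨w50, e41X⟩ : ∃ w50 : P, w41 * X = w50 := ⟨_, rfl⟩
  obtain ⟨w51, e42Y⟩ : ∃ w51 : P, w42 * Y = w51 := ⟨_, rfl⟩
  obtain ⟨w52, e44X⟩ : ∃ w52 : P, w44 * X = w52 := ⟨_, rfl⟩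
  obtain ⟨w53, e45X⟩ : ∃ w53 : P, w45 * X = w53 := ⟨_, rfl⟩
  obtain ⟨w54, e46X⟩ : ∃ w54 : P, w46 * X = w54 := ⟨_, rfl⟩
  obtain ⟨w55, e47X⟩ : ∃ w55 : P, w47 * X = w55 := ⟨_, rfl⟩
  obtain ⟨w56, e50X⟩ : ∃ w56 : P, w50 * X = w56 := ⟨_, rfl⟩
  obtain ⟨w57, e51Y⟩ : ∃ w57 : P, w51 * Y = w57 := ⟨_, rfl⟩
  obtain ⟨w58, e52Y⟩ : ∃ w58 : P, w52 * Y = w58 := ⟨_, rfl⟩
  obtain ⟨w59, e56Y⟩ : ∃ w59 : P, w56 * Y = w59 := ⟨_, rfl⟩
  have e3X : w3 * X = w0 := by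
    calc w3 * X = w0 * X * X * X := by rw [e0X, e1X]
      _ = w0 := rx w0
  have e10X : w10 * X = w2 := by
    calc w10 * X = w2 * X * X * X := by rw [e2X, e5X]
      _ = w2 := rx w2
  have e15X : w15 * X = w4 := by
    calc w15 * X = w4 * X * X * X := by rw [e4X, e8X]
      _ = w4 := rx w4
  have e19X : w19 * X = w6 := by
    calc w19 * X = w6 * X * X * X := by rw [e6X, e11X]
      _ = w6 := rx w6
  have e21X : w21 * X = w7 := by
    calc w21 * X = w7 * X * X * X := by rw [e7X, e13X]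
      _ = w7 := rx w7
  have e25X : w25 * X = w9 := by
    calc w25 * X = w9 * X * X * X := by rw [e9X, e16X]
      _ = w9 := rx w9
  have e30X : w30 * X = w14 := by
    calc w30 * X = w14 * X * X * X := by rw [e14X, e22X]
      _ = w14 := rx w14
  have e42X : w42 * X = w27 := by
    calc w42 * X = w27 * X * X * X := by rw [e27X, e34X]
      _ = w27 := rx w27
  have e48X : w48 * X = w32 := by
    calc w48 * X = w32 * X * X * X := by rw [e32X, e39X]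
      _ = w32 := rx w32
  have e52X : w52 * X = w36 := by
    calc w52 * X = w36 * X * X * X := by rw [e36X, e44X]
      _ = w36 := rx w36
  have e53X : w53 * X = w37 := by
    calc w53 * X = w37 * X * X * X := by rw [e37X, e45X]
      _ = w37 := rx w37
  have e56X : w56 * X = w41 := by
    calc w56 * X = w41 * X * X * X := by rw [e41X, e50X]
      _ = w41 := rx w41
  have e8Y : w8 * Y = w0 := by
    calc w8 * Y = w0 * X * Y * X * Y := by rw [e0X, e1Y, e4X]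
      _ = w0 := rxy w0
  have e13Y : w13 * Y = w1 := by
    calc w13 * Y = w1 * X * Y * X * Y := by rw [e1X, e3Y, e7X]
      _ = w1 := rxy w1
  have e5Y : w5 * Y = w3 := by
    calc w5 * Y = w3 * X * Y * X * Y := by rw [e3X, e0Y, e2X]
      _ = w3 := rxy w3
  have e11Y : w11 * Y = w10 := by
    calc w11 * Y = w10 * X * Y * X * Y := by rw [e10X, e2Y, e6X]
      _ = w10 := rxy w10
  have e16Y : w16 * Y = w15 := by
    calc w16 * Y = w15 * X * Y * X * Y := by rw [e15X, e4Y, e9X]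
      _ = w15 := rxy w15
  have e20Y : w20 * Y = w19 := by
    calc w20 * Y = w19 * X * Y * X * Y := by rw [e19X, e6Y, e12X]
      _ = w19 := rxy w19
  have e22Y : w22 * Y = w21 := by
    calc w22 * Y = w21 * X * Y * X * Y := by rw [e21X, e7Y, e14X]
      _ = w21 := rxy w21
  have e26Y : w26 * Y = w25 := by
    calc w26 * Y = w25 * X * Y * X * Y := by rw [e25X, e9Y, e17X]
      _ = w25 := rxy w25
  have e31Y : w31 * Y = w30 := by
    calc w31 * Y = w30 * X * Y * X * Y := by rw [e30X, e14Y, e23X]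
      _ = w30 := rxy w30
  have e43Y : w43 * Y = w42 := by
    calc w43 * Y = w42 * X * Y * X * Y := by rw [e42X, e27Y, e35X]
      _ = w42 := rxy w42
  have e49Y : w49 * Y = w48 := by
    calc w49 * Y = w48 * X * Y * X * Y := by rw [e48X, e32Y, e40X]
      _ = w48 := rxy w48
  have e54Y : w54 * Y = w53 := by
    calc w54 * Y = w53 * X * Y * X * Y := by rw [e53X, e37Y, e46X]
      _ = w53 := rxy w53
  have e12Y : w12 * Y = w8 := by
    calc w12 * Y = w8 * Y * Y * Y * Y * Y := by rw [e8Y, e0Y, e2Y, e6Y]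
      _ = w8 := ry w8
  have e17Y : w17 * Y = w13 := by
    calc w17 * Y = w13 * Y * Y * Y * Y * Y := by rw [e13Y, e1Y, e4Y, e9Y]
      _ = w13 := ry w13
  have e23Y : w23 * Y = w5 := by
    calc w23 * Y = w5 * Y * Y * Y * Y * Y := by rw [e5Y, e3Y, e7Y, e14Y]
      _ = w5 := ry w5
  have e35Y : w35 * Y = w11 := by
    calc w35 * Y = w11 * Y * Y * Y * Y * Y := by rw [e11Y, e10Y, e18Y, e27Y]
      _ = w11 := ry w11
  have e40Y : w40 * Y = w16 := by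
    calc w40 * Y = w16 * Y * Y * Y * Y * Y := by rw [e16Y, e15Y, e24Y, e32Y]
      _ = w16 := ry w16
  have e46Y : w46 * Y = w22 := by
    calc w46 * Y = w22 * Y * Y * Y * Y * Y := by rw [e22Y, e21Y, e29Y, e37Y]
      _ = w22 := ry w22
  have e18X : w18 * X = w23 := by
    calc w18 * X = w23 * Y * X * Y * X := by rw [e23Y, e5X, e10Y]
      _ = w23 := ryx w23
  have e24X : w24 * X = w12 := by
    calc w24 * X = w12 * Y * X * Y * X := by rw [e12Y, e8X, e15Y]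
      _ = w12 := ryx w12
  have e28X : w28 * X = w35 := by
    calc w28 * X = w35 * Y * X * Y * X := by rw [e35Y, e11X, e19Y]
      _ = w35 := ryx w35
  have e29X : w29 * X = w17 := by
    calc w29 * X = w17 * Y * X * Y * X := by rw [e17Y, e13X, e21Y]
      _ = w17 := ryx w17
  have e33X : w33 * X = w40 := by
    calc w33 * X = w40 * Y * X * Y * X := by rw [e40Y, e16X, e25Y]
      _ = w40 := ryx w40
  have e38X : w38 * X = w46 := by
    calc w38 * X = w46 * Y * X * Y * X := by rw [e46Y, e22X, e30Y]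
      _ = w46 := ryx w46
  have e20X : w20 * X = w24 := by
    calc w20 * X = w24 * X * X * X := by rw [e24X, e12X]
      _ = w24 := rx w24
  have e26X : w26 * X = w29 := by
    calc w26 * X = w29 * X * X * X := by rw [e29X, e17X]
      _ = w29 := rx w29
  have e31X : w31 * X = w18 := by
    calc w31 * X = w18 * X * X * X := by rw [e18X, e23X]
      _ = w18 := rx w18
  have e43X : w43 * X = w28 := by
    calc w43 * X = w28 * X * X * X := by rw [e28X, e35X]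
      _ = w28 := rx w28
  have e49X : w49 * X = w33 := by
    calc w49 * X = w33 * X * X * X := by rw [e33X, e40X]
      _ = w33 := rx w33
  have e54X : w54 * X = w38 := by
    calc w54 * X = w38 * X * X * X := by rw [e38X, e46X]
      _ = w38 := rx w38
  have e39Y : w39 * Y = w20 := by
    calc w39 * Y = w20 * X * Y * X * Y := by rw [e20X, e24Y, e32X]
      _ = w20 := rxy w20
  have e45Y : w45 * Y = w26 := by
    calc w45 * Y = w26 * X * Y * X * Y := by rw [e26X, e29Y, e37X]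
      _ = w26 := rxy w26
  have e34Y : w34 * Y = w31 := by
    calc w34 * Y = w31 * X * Y * X * Y := by rw [e31X, e18Y, e27X]
      _ = w31 := rxy w31
  have e44Y : w44 * Y = w43 := by
    calc w44 * Y = w43 * X * Y * X * Y := by rw [e43X, e28Y, e36X]
      _ = w43 := rxy w43
  have e50Y : w50 * Y = w49 := by
    calc w50 * Y = w49 * X * Y * X * Y := by rw [e49X, e33Y, e41X]
      _ = w49 := rxy w49
  have e55Y : w55 * Y = w54 := by
    calc w55 * Y = w54 * X * Y * X * Y := by rw [e54X, e38Y, e47X]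
      _ = w54 := rxy w54
  have e36Y : w36 * Y = w39 := by
    calc w36 * Y = w39 * Y * Y * Y * Y * Y := by rw [e39Y, e20Y, e19Y, e28Y]
      _ = w39 := ry w39
  have e41Y : w41 * Y = w45 := by
    calc w41 * Y = w45 * Y * Y * Y * Y * Y := by rw [e45Y, e26Y, e25Y, e33Y]
      _ = w45 := ry w45
  have e47Y : w47 * Y = w34 := by
    calc w47 * Y = w34 * Y * Y * Y * Y * Y := by rw [e34Y, e31Y, e30Y, e38Y]
      _ = w34 := ry w34
  have e57Y : w57 * Y = w44 := by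
    calc w57 * Y = w44 * Y * Y * Y * Y * Y := by rw [e44Y, e43Y, e42Y, e51Y]
      _ = w44 := ry w44
  have e51X : w51 * X = w47 := by
    calc w51 * X = w47 * Y * X * Y * X := by rw [e47Y, e34X, e42Y]
      _ = w47 := ryx w47
  have e48Y : w48 * Y = w52 := by
    calc w48 * Y = w52 * X * Y * X * Y := by rw [e52X, e36Y, e39X]
      _ = w52 := rxy w52
  have e58X : w58 * X = w57 := by
    calc w58 * X = w57 * Y * X * Y * X := by rw [e57Y, e44X, e52Y]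
      _ = w57 := ryx w57
  have e53Y : w53 * Y = w56 := by
    calc w53 * Y = w56 * X * Y * X * Y := by rw [e56X, e41Y, e45X]
      _ = w56 := rxy w56
  have e55X : w55 * X = w51 := by
    calc w55 * X = w51 * X * X * X := by rw [e51X, e47X]
      _ = w51 := rx w51
  have e58Y : w58 * Y = w50 := by
    calc w58 * Y = w50 * Y * Y * Y * Y * Y := by rw [e50Y, e49Y, e48Y, e52Y]
      _ = w50 := ry w50
  have e59Y : w59 * Y = w55 := by
    calc w59 * Y = w55 * Y * Y * Y * Y * Y := by rw [e55Y, e54Y, e53Y, e56Y]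
      _ = w55 := ry w55
  have e59X : w59 * X = w58 := by
    calc w59 * X = w58 * Y * X * Y * X := by rw [e58Y, e50X, e56Y]
      _ = w58 := ryx w58
  have e57X : w57 * X = w59 := by
    calc w57 * X = w59 * Y * X * Y * X := by rw [e59Y, e55X, e51Y]
      _ = w59 := ryx w59
  refine ⟨[w0, w1, w2, w3, w4, w5, w6, w7, w8, w9, w10, w11, w12, w13, w14, w15, w16, w17, w18, w19, w20, w21, w22, w23, w24, w25, w26, w27, w28, w29, w30, w31, w32, w33, w34, w35, w36, w37, w38, w39, w40, w41, w42, w43, w44, w45, w46, w47, w48, w49, w50, w51, w52, w53, w54, w55, w56, w57, w58, w59], rfl, ?_, ?_, ?_⟩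
  · rw [← d0]; simp
  · intro u hu
    simp only [List.mem_cons, List.not_mem_nil, or_false] at hu
    rcases hu with rfl | rfl | rfl | rfl | rfl | rfl | rfl | rfl | rfl | rfl | rfl | rfl | rfl | rfl | rfl | rfl | rfl | rfl | rfl | rfl | rfl | rfl | rfl | rfl | rfl | rfl | rfl | rfl | rfl | rfl | rfl | rfl | rfl | rfl | rfl | rfl | rfl | rfl | rfl | rfl | rfl | rfl | rfl | rfl | rfl | rfl | rfl | rfl | rfl | rfl | rfl | rfl | rfl | rfl | rfl | rfl | rfl | rfl | rfl | rfl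
    · rw [e0X]; simp
    · rw [e1X]; simp
    · rw [e2X]; simp
    · rw [e3X]; simp
    · rw [e4X]; simp
    · rw [e5X]; simp
    · rw [e6X]; simp
    · rw [e7X]; simp
    · rw [e8X]; simp
    · rw [e9X]; simp
    · rw [e10X]; simp
    · rw [e11X]; simp
    · rw [e12X]; simp
    · rw [e13X]; simp
    · rw [e14X]; simp
    · rw [e15X]; simp
    · rw [e16X]; simp
    · rw [e17X]; simp
    · rw [e18X]; simp
    · rw [e19X]; simp
    · rw [e20X]; simp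
    · rw [e21X]; simp
    · rw [e22X]; simp
    · rw [e23X]; simp
    · rw [e24X]; simp
    · rw [e25X]; simp
    · rw [e26X]; simp
    · rw [e27X]; simp
    · rw [e28X]; simp
    · rw [e29X]; simp
    · rw [e30X]; simp
    · rw [e31X]; simp
    · rw [e32X]; simp
    · rw [e33X]; simp
    · rw [e34X]; simp
    · rw [e35X]; simp
    · rw [e36X]; simp
    · rw [e37X]; simp
    · rw [e38X]; simp
    · rw [e39X]; simp
    · rw [e40X]; simp
    · rw [e41X]; simp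
    · rw [e42X]; simp
    · rw [e43X]; simp
    · rw [e44X]; simp
    · rw [e45X]; simp
    · rw [e46X]; simp
    · rw [e47X]; simp
    · rw [e48X]; simp
    · rw [e49X]; simp
    · rw [e50X]; simp
    · rw [e51X]; simp
    · rw [e52X]; simp
    · rw [e53X]; simp
    · rw [e54X]; simp
    · rw [e55X]; simp
    · rw [e56X]; simp
    · rw [e57X]; simp
    · rw [e58X]; simp
    · rw [e59X]; simp
  · intro u hu
    simp only [List.mem_cons, List.not_mem_nil, or_false] at hu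
    rcases hu with rfl | rfl | rfl | rfl | rfl | rfl | rfl | rfl | rfl | rfl | rfl | rfl | rfl | rfl | rfl | rfl | rfl | rfl | rfl | rfl | rfl | rfl | rfl | rfl | rfl | rfl | rfl | rfl | rfl | rfl | rfl | rfl | rfl | rfl | rfl | rfl | rfl | rfl | rfl | rfl | rfl | rfl | rfl | rfl | rfl | rfl | rfl | rfl | rfl | rfl | rfl | rfl | rfl | rfl | rfl | rfl | rfl | rfl | rfl | rfl
    · rw [e0Y]; simp
    · rw [e1Y]; simp
    · rw [e2Y]; simp
    · rw [e3Y]; simp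
    · rw [e4Y]; simp
    · rw [e5Y]; simp
    · rw [e6Y]; simp
    · rw [e7Y]; simp
    · rw [e8Y]; simp
    · rw [e9Y]; simp
    · rw [e10Y]; simp
    · rw [e11Y]; simp
    · rw [e12Y]; simp
    · rw [e13Y]; simp
    · rw [e14Y]; simp
    · rw [e15Y]; simp
    · rw [e16Y]; simp
    · rw [e17Y]; simp
    · rw [e18Y]; simp
    · rw [e19Y]; simp
    · rw [e20Y]; simp
    · rw [e21Y]; simp
    · rw [e22Y]; simp
    · rw [e23Y]; simp
    · rw [e24Y]; simp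
    · rw [e25Y]; simp
    · rw [e26Y]; simp
    · rw [e27Y]; simp
    · rw [e28Y]; simp
    · rw [e29Y]; simp
    · rw [e30Y]; simp
    · rw [e31Y]; simp
    · rw [e32Y]; simp
    · rw [e33Y]; simp
    · rw [e34Y]; simp
    · rw [e35Y]; simp
    · rw [e36Y]; simp
    · rw [e37Y]; simp
    · rw [e38Y]; simp
    · rw [e39Y]; simp
    · rw [e40Y]; simp
    · rw [e41Y]; simp
    · rw [e42Y]; simp
    · rw [e43Y]; simp
    · rw [e44Y]; simp
    · rw [e45Y]; simp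
    · rw [e46Y]; simp
    · rw [e47Y]; simp
    · rw [e48Y]; simp
    · rw [e49Y]; simp
    · rw [e50Y]; simp
    · rw [e51Y]; simp
    · rw [e52Y]; simp
    · rw [e53Y]; simp
    · rw [e54Y]; simp
    · rw [e55Y]; simp
    · rw [e56Y]; simp
    · rw [e57Y]; simp
    · rw [e58Y]; simp
    · rw [e59Y]; simp

end Cfsg.Agent.Lib.Helper6
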