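import Mathlib

/-! additive and biadditive maps on finite fields of characteristic two as combinations of
field automorphisms -/

set_option autoImplicit false

namespace Cfsg.Agent.Lib.Helper6

theorem finite_ringAut {F : Type*} [Field F] [Fintype F] : Finite (F ≃+* F) :=
  Finite.of_injective (fun σ : F ≃+* F => (σ : F → F)) DFunLike.coe_injective

/-- ring automorphisms are linearly independent as functions -/
theorem ringAut_linearIndependent {F : Type*} [Field F] :
    LinearIndependent F (fun σ : F ≃+* F => ((σ : F →+* F) : F → F)) := by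
  have h := linearIndependent_monoidHom F F
  have hinj : Function.Injective (fun σ : F ≃+* F => ((σ : F →+* F) : F →* F)) := by
    intro σ τ hστ
    ext x
    exact DFunLike.congr_fun hστ x
  exact h.comp _ hinj

/-- every additive endomorphism is a combination of automorphisms -/
theorem addMap_eq_sum {F : Type*} [Field F] [Fintype F] [CharP F 2] [Fintype (F ≃+* F)]
    (f : F →+ F) :
    ∃ c : (F ≃+* F) → F, ∀ x : F, f x = ∑ σ : F ≃+* F, c σ * σ x := by
  classical
  haveI : Fact (Nat.Prime 2) := ⟨Nat.prime_two⟩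
  letI : Algebra (ZMod 2) F := ZMod.algebra F 2
  -- the family of algebra automorphisms
  have hli : LinearIndependent F (fun σ : F ≃ₐ[ZMod 2] F => (σ : F →ₐ[ZMod 2] F).toLinearMap) := by
    have h := linearIndependent_toLinearMap (ZMod 2) F F
    have hinj : Function.Injective (fun σ : F ≃ₐ[ZMod 2] F => (σ : F →ₐ[ZMod 2] F)) := by
      intro σ τ hστ
      ext x
      exact DFunLike.congr_fun hστ x
    exact h.comp _ hinj
  have hcard : Fintype.card (F ≃ₐ[ZMod 2] F) = Module.finrank F (F →ₗ[ZMod 2] F) := by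
    rw [Module.finrank_linearMap_self, ← IsGalois.card_aut_eq_finrank, Nat.card_eq_fintype_card]
  have hspan := hli.span_eq_top_of_card_eq_finrank' hcard
  have hmem : f.toZModLinearMap 2 ∈ Submodule.span F (Set.range
      (fun σ : F ≃ₐ[ZMod 2] F => (σ : F →ₐ[ZMod 2] F).toLinearMap)) := by
    rw [hspan]; trivial
  rw [Submodule.mem_span_range_iff_exists_fun] at hmem
  obtain ⟨c, hc⟩ := hmem
  -- reindex
  have hcomm : ∀ (ρ : F ≃+* F) (r : ZMod 2), ρ (algebraMap (ZMod 2) F r) = algebraMap (ZMod 2) F r := by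
    intro ρ r
    have : (ρ : F →+* F).comp (algebraMap (ZMod 2) F) = algebraMap (ZMod 2) F :=
      Subsingleton.elim _ _
    exact DFunLike.congr_fun this r
  let e : (F ≃+* F) ≃ (F ≃ₐ[ZMod 2] F) :=
    { toFun := fun ρ => AlgEquiv.ofRingEquiv (f := ρ) (hcomm ρ)
      invFun := fun σ => σ.toRingEquiv
      left_inv := fun ρ => by ext x; rfl
      right_inv := fun σ => by ext x; rfl }
  refine ⟨fun ρ => c (e ρ), ?_⟩
  intro x
  have h1 := DFunLike.congr_fun hc x
  rw [AddMonoidHom.coe_toZModLinearMap] at h1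
  rw [← h1, LinearMap.sum_apply]
  rw [← Equiv.sum_comp e]
  apply Finset.sum_congr rfl
  intro ρ _
  rfl

/-- uniqueness of coefficients -/
theorem ringAut_coeff_unique {F : Type*} [Field F] [Fintype (F ≃+* F)]
    (c c' : (F ≃+* F) → F)
    (h : ∀ x : F, ∑ σ : F ≃+* F, c σ * σ x = ∑ σ : F ≃+* F, c' σ * σ x) : c = c' := by
  have hli := ringAut_linearIndependent (F := F)
  rw [Fintype.linearIndependent_iff] at hli
  funext σ
  have h0 : ∑ τ : F ≃+* F, (c τ - c' τ) • ((τ : F →+* F) : F → F) = 0 := by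
    funext x
    rw [Finset.sum_apply]
    simp only [Pi.smul_apply, smul_eq_mul, Pi.zero_apply, sub_mul]
    rw [Finset.sum_sub_distrib]
    exact sub_eq_zero.2 (h x)
  exact sub_eq_zero.1 (hli _ h0 σ)

/-- every biadditive map is a combination of the maps `σ x * τ y` -/
theorem biaddMap_eq_sum {F : Type*} [Field F] [Fintype F] [CharP F 2] [Fintype (F ≃+* F)]
    (B : F →+ F →+ F) :
    ∃ d : (F ≃+* F) → (F ≃+* F) → F, ∀ x y : F,
      B x y = ∑ σ : F ≃+* F, ∑ τ : F ≃+* F, d σ τ * (σ x * τ y) := by
  have h1 : ∀ x : F, ∃ c : (F ≃+* F) → F, ∀ y : F, B x y = ∑ τ : F ≃+* F, c τ * τ y :=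
    fun x => addMap_eq_sum (B x)
  choose c hc using h1
  have hadd : ∀ x x' : F, c (x + x') = c x + c x' := by
    intro x x'
    apply ringAut_coeff_unique
    intro y
    rw [← hc]
    simp only [Pi.add_apply, add_mul]
    rw [Finset.sum_add_distrib, ← hc, ← hc, map_add]
    rfl
  have h2 : ∀ τ : F ≃+* F, ∃ e : (F ≃+* F) → F, ∀ x : F, c x τ = ∑ σ : F ≃+* F, e σ * σ x := by
    intro τ
    have h0 : c 0 = 0 := by
      have := hadd 0 0
      rw [add_zero] at this
      exact left_eq_add.mp this
    exact addMap_eq_sum (AddMonoidHom.mk' (fun x => c x τ) (fun x x' => by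
      show c (x + x') τ = c x τ + c x' τ
      rw [hadd]; rfl))
  choose e he using h2
  refine ⟨fun σ τ => e τ σ, ?_⟩
  intro x y
  rw [hc, Finset.sum_comm]
  apply Finset.sum_congr rfl
  intro τ _
  rw [he, Finset.sum_mul]
  apply Finset.sum_congr rfl
  intro σ _
  ring

/-- uniqueness of the coefficients of a biadditive map -/
theorem ringAut_coeff_unique₂ {F : Type*} [Field F] [Fintype (F ≃+* F)]
    (d d' : (F ≃+* F) → (F ≃+* F) → F)
    (h : ∀ x y : F, ∑ σ : F ≃+* F, ∑ τ : F ≃+* F, d σ τ * (σ x * τ y) =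
      ∑ σ : F ≃+* F, ∑ τ : F ≃+* F, d' σ τ * (σ x * τ y)) : d = d' := by
  funext σ₀
  -- for each y, the coefficient functions of x agree
  have h1 : ∀ y : F, (fun σ => ∑ τ : F ≃+* F, d σ τ * τ y) =
      (fun σ => ∑ τ : F ≃+* F, d' σ τ * τ y) := by
    intro y
    apply ringAut_coeff_unique
    intro x
    have := h x y
    convert this using 2 with σ _ σ _
    · rw [Finset.sum_mul]
      apply Finset.sum_congr rfl
      intro τ _
      ring
    · rw [Finset.sum_mul]
      apply Finset.sum_congr rfl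
      intro τ _
      ring
  apply ringAut_coeff_unique
  intro y
  exact congrFun (h1 y) σ₀

end Cfsg.Agent.Lib.Helper6
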