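import Mathlib

set_option autoImplicit false

namespace Cfsg.Agent.Lib.Helper6

set_option maxRecDepth 1000000 in
set_option maxHeartbeats 4000000 in
theorem a6_pow_cases : ∀ g : alternatingGroup (Fin 6), g ^ 4 = 1 ∨ g ^ 3 = 1 ∨ g ^ 5 = 1 := by
  decide

theorem order_mem_of_pow_cases {G : Type*} [Group G] (g : G)
    (h : g ^ 4 = 1 ∨ g ^ 3 = 1 ∨ g ^ 5 = 1) : orderOf g ∈ ({1, 2, 3, 4, 5} : Set ℕ) := by
  rcases h with h | h | h
  · have h1 := orderOf_dvd_of_pow_eq_one h
    have h2 : orderOf g ≤ 4 := Nat.le_of_dvd (by norm_num) h1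
    have h3 : orderOf g ≠ 0 := fun h0 => by rw [h0] at h1; omega
    have h4 : orderOf g ≠ 3 := fun h0 => by rw [h0] at h1; omega
    simp only [Set.mem_insert_iff, Set.mem_singleton_iff]
    omega
  · have := orderOf_dvd_of_pow_eq_one h
    rcases (Nat.dvd_prime Nat.prime_three).mp this with h1 | h1 <;> simp [h1]
  · have := orderOf_dvd_of_pow_eq_one h
    rcases (Nat.dvd_prime Nat.prime_five).mp this with h1 | h1 <;> simp [h1]

theorem a6_order_mem (g : alternatingGroup (Fin 6)) : orderOf g ∈ ({1, 2, 3, 4, 5} : Set ℕ) :=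
  order_mem_of_pow_cases g (a6_pow_cases g)

/-- a group with elements of order 3, 4, 5 all of whose elements have order at most 5 -/
theorem spectrum_eq_of {G : Type*} [Group G]
    (h : ∀ g : G, g ^ 4 = 1 ∨ g ^ 3 = 1 ∨ g ^ 5 = 1)
    (h3 : ∃ g : G, orderOf g = 3) (h4 : ∃ g : G, orderOf g = 4) (h5 : ∃ g : G, orderOf g = 5) :
    Set.range (orderOf : G → ℕ) = {1, 2, 3, 4, 5} := by
  ext n
  constructor
  · rintro ⟨g, rfl⟩
    exact order_mem_of_pow_cases g (h g)
  · intro hn
    simp only [Set.mem_insert_iff, Set.mem_singleton_iff] at hn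
    rcases hn with rfl | rfl | rfl | rfl | rfl
    · exact ⟨1, orderOf_one⟩
    · obtain ⟨g, hg⟩ := h4
      refine ⟨g ^ 2, ?_⟩
      rw [orderOf_pow' g (by norm_num), hg]
      norm_num
    · exact h3
    · exact h4
    · exact h5

def a6elt (σ : Equiv.Perm (Fin 6)) (h : Equiv.Perm.sign σ = 1) : alternatingGroup (Fin 6) :=
  ⟨σ, Equiv.Perm.mem_alternatingGroup.mpr h⟩

theorem a6_exists_three : ∃ g : alternatingGroup (Fin 6), orderOf g = 3 := by
  refine ⟨a6elt (Equiv.swap 0 1 * Equiv.swap 1 2) (by decide), ?_⟩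
  have : Fact (Nat.Prime 3) := ⟨Nat.prime_three⟩
  apply orderOf_eq_prime
  · apply Subtype.ext; decide
  · intro h
    have := congrArg Subtype.val h
    revert this; decide

theorem a6_exists_five : ∃ g : alternatingGroup (Fin 6), orderOf g = 5 := by
  refine ⟨a6elt (Equiv.swap 0 1 * Equiv.swap 1 2 * Equiv.swap 2 3 * Equiv.swap 3 4) (by decide), ?_⟩
  have : Fact (Nat.Prime 5) := ⟨Nat.prime_five⟩
  apply orderOf_eq_prime
  · apply Subtype.ext; decide
  · intro h
    have := congrArg Subtype.val h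
    revert this; decide

theorem a6_exists_four : ∃ g : alternatingGroup (Fin 6), orderOf g = 4 := by
  refine ⟨a6elt (Equiv.swap 0 1 * Equiv.swap 1 2 * Equiv.swap 2 3 * Equiv.swap 4 5) (by decide), ?_⟩
  have : Fact (Nat.Prime 2) := ⟨Nat.prime_two⟩
  apply orderOf_eq_prime_pow (p := 2) (n := 1)
  · intro h
    have := congrArg Subtype.val h
    revert this; decide
  · apply Subtype.ext; decide

theorem a6_spectrum : Set.range (orderOf : alternatingGroup (Fin 6) → ℕ) = {1, 2, 3, 4, 5} :=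
  spectrum_eq_of a6_pow_cases a6_exists_three a6_exists_four a6_exists_five

end Cfsg.Agent.Lib.Helper6
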