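import Mathlib
import Cfsg.Agent.Lib.Helper6.SpecA6

set_option autoImplicit false

namespace Cfsg.Agent.Lib.Helper6

theorem affine_ch {F : Type*} [Field F] (M : Matrix (Fin 3) (Fin 3) F) (h20 : M 2 0 = 0)
    (h21 : M 2 1 = 0) (h22 : M 2 2 = 1) (hdet : M.det = 1) :
    (M - 1) * (M * M - (M 0 0 + M 1 1) • M + 1) = 0 := by
  rw [Matrix.det_fin_three, h20, h21, h22] at hdet
  have hdet' : M 0 0 * M 1 1 - M 0 1 * M 1 0 = 1 := by linear_combination hdet
  ext i j
  fin_cases i <;> fin_cases j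
  · simp [Matrix.mul_apply, Fin.sum_univ_three, h20, h21, Matrix.one_apply]
    linear_combination (-(M 0 0 - 1)) * hdet'
  · simp [Matrix.mul_apply, Fin.sum_univ_three, h20, h21, Matrix.one_apply]
    linear_combination (-(M 0 1)) * hdet'
  · simp [Matrix.mul_apply, Fin.sum_univ_three, h20, h21, h22, Matrix.one_apply]
    linear_combination (-(M 0 2)) * hdet'
  · simp [Matrix.mul_apply, Fin.sum_univ_three, h20, h21, Matrix.one_apply]
    linear_combination (-(M 1 0)) * hdet'
  · simp [Matrix.mul_apply, Fin.sum_univ_three, h20, h21, Matrix.one_apply]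
    linear_combination (-(M 1 1 - 1)) * hdet'
  · simp [Matrix.mul_apply, Fin.sum_univ_three, h20, h21, h22, Matrix.one_apply]
    linear_combination (-(M 1 2)) * hdet'
  · simp [Matrix.mul_apply, Fin.sum_univ_three, h20, h21, h22, Matrix.one_apply]
  · simp [Matrix.mul_apply, Fin.sum_univ_three, h20, h21, h22, Matrix.one_apply]
  · simp [Matrix.mul_apply, Fin.sum_univ_three, h20, h21, h22, Matrix.one_apply]

theorem two_eq_zero_of_card_four {F : Type*} [Field F] [Fintype F] (hF : Fintype.card F = 4) :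
    (2 : F) = 0 := by
  have h4 : (4 : F) = 0 := by
    have := Nat.cast_card_eq_zero F
    rw [hF] at this
    exact_mod_cast this
  have : (2 : F) * 2 = 0 := by rw [← h4]; norm_num
  exact mul_self_eq_zero.mp this

theorem trace_cases_of_card_four {F : Type*} [Field F] [Fintype F] (hF : Fintype.card F = 4)
    (t : F) : t = 0 ∨ t = 1 ∨ t ^ 2 + t + 1 = 0 := by
  have ht4 : t ^ 4 = t := by rw [← hF]; exact FiniteField.pow_card t
  have : t * ((t - 1) * (t ^ 2 + t + 1)) = 0 := by linear_combination ht4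
  rcases mul_eq_zero.mp this with h | h
  · left; exact h
  · rcases mul_eq_zero.mp h with h | h
    · right; left; exact sub_eq_zero.mp h
    · right; right; exact h

open Polynomial in
theorem affine_pow_aux {F : Type*} [Field F] [Fintype F] (hF : Fintype.card F = 4)
    (M : Matrix (Fin 3) (Fin 3) F) (h20 : M 2 0 = 0)
    (h21 : M 2 1 = 0) (h22 : M 2 2 = 1) (hdet : M.det = 1) :
    (M 0 0 + M 1 1 = 0 → M ^ 4 = 1) ∧ (M 0 0 + M 1 1 = 1 → M ^ 3 = 1) ∧
      ((M 0 0 + M 1 1) ^ 2 + (M 0 0 + M 1 1) + 1 = 0 → M ^ 5 = 1) := by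
  have hch := affine_ch M h20 h21 h22 hdet
  set t := M 0 0 + M 1 1 with ht
  have h2 : (2 : F) = 0 := two_eq_zero_of_card_four hF
  have h2X : (2 : F[X]) = 0 := by
    have : (2 : F[X]) = C (2 : F) := (map_ofNat (C : F →+* F[X]) 2).symm
    rw [this, h2, C_0]
  have key : ∀ (Q : F[X]) (k : ℕ), (X - 1) * (X ^ 2 - C t * X + 1) * Q = X ^ k - 1 → M ^ k = 1 := by
    intro Q k h
    have := congrArg (aeval M) h
    simp only [map_mul, map_sub, map_add, map_pow, aeval_X, aeval_C, map_one] at this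
    have e : (M - 1) * (M ^ 2 - (algebraMap F _ t) * M + 1) = 0 := by
      rw [pow_two, ← Algebra.smul_def]; exact hch
    rw [e, zero_mul] at this
    exact (sub_eq_zero.mp this.symm)
  refine ⟨fun h => ?_, fun h => ?_, fun h => ?_⟩
  · have hCt : C t = 0 := by rw [h, C_0]
    apply key (X - 1)
    linear_combination (-X ^ 3 + X ^ 2 - X + 1) * h2X + (-X * (X - 1) ^ 2) * hCt
  · have hCt : C t = 1 := by rw [h, C_1]
    apply key 1
    linear_combination (-X ^ 2 + X) * h2X + (-X * (X - 1)) * hCt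
  · have hCt : C t ^ 2 + C t + 1 = 0 := by
      rw [← C_pow, ← C_add, ← C_1, ← C_add, h, C_0]
    apply key (X ^ 2 - (C t + 1) * X + 1)
    linear_combination ((C t + 1) * (-X ^ 4 + X ^ 3 - X ^ 2 + X)) * h2X + (X ^ 2 * (X - 1)) * hCt

theorem affine_pow {F : Type*} [Field F] [Fintype F] (hF : Fintype.card F = 4)
    (M : Matrix (Fin 3) (Fin 3) F) (h20 : M 2 0 = 0)
    (h21 : M 2 1 = 0) (h22 : M 2 2 = 1) (hdet : M.det = 1) :
    M ^ 4 = 1 ∨ M ^ 3 = 1 ∨ M ^ 5 = 1 := by
  obtain ⟨h0, h1, hω⟩ := affine_pow_aux hF M h20 h21 h22 hdet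
  rcases trace_cases_of_card_four hF (M 0 0 + M 1 1) with h | h | h
  · left; exact h0 h
  · right; left; exact h1 h
  · right; right; exact hω h

/-- the affine set -/
def affSet (F : Type*) [Field F] : Set (Matrix.SpecialLinearGroup (Fin 3) F) :=
  {M | (M : Matrix (Fin 3) (Fin 3) F) 2 0 = 0 ∧ (M : Matrix (Fin 3) (Fin 3) F) 2 1 = 0 ∧
    (M : Matrix (Fin 3) (Fin 3) F) 2 2 = 1}

theorem mem_affSet_of_mem_closure {F : Type*} [Field F]
    (g : Matrix.SpecialLinearGroup (Fin 3) F) (hg : g ∈ Subgroup.closure (affSet F)) :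
    g ∈ affSet F := by
  induction hg using Subgroup.closure_induction with
  | mem x hx => exact hx
  | one => simp [affSet]
  | mul x y _ _ hx hy =>
    obtain ⟨hx0, hx1, hx2⟩ := hx
    obtain ⟨hy0, hy1, hy2⟩ := hy
    refine ⟨?_, ?_, ?_⟩ <;>
      simp [Matrix.SpecialLinearGroup.coe_mul, Matrix.mul_apply, Fin.sum_univ_three, hx0, hx1, hx2,
        hy0, hy1, hy2]
  | inv x _ hx =>
    obtain ⟨hx0, hx1, hx2⟩ := hx
    have hmul : (x : Matrix (Fin 3) (Fin 3) F) * ((x⁻¹ : Matrix.SpecialLinearGroup (Fin 3) F) :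
        Matrix (Fin 3) (Fin 3) F) = 1 := by
      rw [← Matrix.SpecialLinearGroup.coe_mul, mul_inv_cancel]; rfl
    have key : ∀ j, ((x⁻¹ : Matrix.SpecialLinearGroup (Fin 3) F) : Matrix (Fin 3) (Fin 3) F) 2 j =
        (1 : Matrix (Fin 3) (Fin 3) F) 2 j := by
      intro j
      rw [← hmul]
      simp [Matrix.mul_apply, Fin.sum_univ_three, hx0, hx1, hx2]
    refine ⟨?_, ?_, ?_⟩
    · rw [key]; simp
    · rw [key]; simp
    · rw [key]; simp

theorem affine_group_pow {F : Type*} [Field F] [Fintype F] (hF : Fintype.card F = 4)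
    (g : Subgroup.closure (affSet F)) : g ^ 4 = 1 ∨ g ^ 3 = 1 ∨ g ^ 5 = 1 := by
  obtain ⟨h0, h1, h2⟩ := mem_affSet_of_mem_closure g.1 g.2
  have := affine_pow hF (g.1 : Matrix (Fin 3) (Fin 3) F) h0 h1 h2 g.1.2
  rcases this with h | h | h
  · left
    apply Subtype.ext; apply Subtype.ext
    simpa using h
  · right; left
    apply Subtype.ext; apply Subtype.ext
    simpa using h
  · right; right
    apply Subtype.ext; apply Subtype.ext
    simpa using h

/-- explicit elements of the affine group -/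
def affElt {F : Type*} [Field F] (a b c d x y : F) (h : a * d - b * c = 1) :
    Subgroup.closure (affSet F) :=
  ⟨⟨!![a, b, x; c, d, y; 0, 0, 1], by rw [Matrix.det_fin_three]; simp; exact h⟩,
    Subgroup.subset_closure ⟨by simp, by simp, by simp⟩⟩

theorem affElt_val {F : Type*} [Field F] (a b c d x y : F) (h : a * d - b * c = 1) :
    ((affElt a b c d x y h).1 : Matrix (Fin 3) (Fin 3) F) = !![a, b, x; c, d, y; 0, 0, 1] := rfl

theorem aff_pow_lift {F : Type*} [Field F] (g : Subgroup.closure (affSet F)) (k : ℕ)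
    (h : (g.1 : Matrix (Fin 3) (Fin 3) F) ^ k = 1) : g ^ k = 1 := by
  apply Subtype.ext; apply Subtype.ext
  simpa using h

theorem aff_pow_unlift {F : Type*} [Field F] (g : Subgroup.closure (affSet F)) (k : ℕ)
    (h : g ^ k = 1) : (g.1 : Matrix (Fin 3) (Fin 3) F) ^ k = 1 := by
  have := congrArg (fun z : Subgroup.closure (affSet F) => (z.1 : Matrix (Fin 3) (Fin 3) F)) h
  simpa using this

theorem aff_ne_one {F : Type*} [Field F] (g : Subgroup.closure (affSet F)) (i j : Fin 3)
    (h : (g.1 : Matrix (Fin 3) (Fin 3) F) i j ≠ (1 : Matrix (Fin 3) (Fin 3) F) i j) : g ≠ 1 := by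
  intro hg
  apply h
  rw [hg]
  rfl

theorem aff_exists_three {F : Type*} [Field F] [Fintype F] (hF : Fintype.card F = 4) :
    ∃ g : Subgroup.closure (affSet F), orderOf g = 3 := by
  have h2 : (2 : F) = 0 := two_eq_zero_of_card_four hF
  have hd : (0 : F) * 1 - 1 * 1 = 1 := by linear_combination (-1 : F) * h2
  refine ⟨affElt 0 1 1 1 0 0 hd, ?_⟩
  have : Fact (Nat.Prime 3) := ⟨Nat.prime_three⟩
  apply orderOf_eq_prime
  · apply aff_pow_lift
    refine (affine_pow_aux hF _ ?_ ?_ ?_ (affElt (0:F) 1 1 1 0 0 hd).1.2).2.1 ?_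
    · simp [affElt_val]
    · simp [affElt_val]
    · simp [affElt_val]
    · simp [affElt_val]
  · apply aff_ne_one _ 0 0
    simp [affElt_val]

theorem aff_exists_five {F : Type*} [Field F] [Fintype F] (hF : Fintype.card F = 4) :
    ∃ g : Subgroup.closure (affSet F), orderOf g = 5 := by
  classical
  have h2 : (2 : F) = 0 := two_eq_zero_of_card_four hF
  -- an element outside {0, 1}
  have hω : ∃ ω : F, ω ^ 2 + ω + 1 = 0 := by
    by_contra hcon
    push Not at hcon
    have hall : ∀ t : F, t = 0 ∨ t = 1 := by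
      intro t
      rcases trace_cases_of_card_four hF t with h | h | h
      · left; exact h
      · right; exact h
      · exact absurd h (hcon t)
    have : (Finset.univ : Finset F) ⊆ {0, 1} := by
      intro t _
      rcases hall t with h | h <;> simp [h]
    have := Finset.card_le_card this
    rw [Finset.card_univ, hF] at this
    have h3 : ({0, 1} : Finset F).card ≤ 2 := Finset.card_le_two
    omega
  obtain ⟨ω, hω⟩ := hω
  have hd : (0 : F) * ω - 1 * 1 = 1 := by linear_combination (-1 : F) * h2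
  refine ⟨affElt 0 1 1 ω 0 0 hd, ?_⟩
  have : Fact (Nat.Prime 5) := ⟨Nat.prime_five⟩
  apply orderOf_eq_prime
  · apply aff_pow_lift
    refine (affine_pow_aux hF _ ?_ ?_ ?_ (affElt (0:F) 1 1 ω 0 0 hd).1.2).2.2 ?_
    · simp [affElt_val]
    · simp [affElt_val]
    · simp [affElt_val]
    · simp [affElt_val]
      exact hω
  · apply aff_ne_one _ 0 0
    simp [affElt_val]

theorem aff_exists_four {F : Type*} [Field F] [Fintype F] (hF : Fintype.card F = 4) :
    ∃ g : Subgroup.closure (affSet F), orderOf g = 4 := by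
  have h2 : (2 : F) = 0 := two_eq_zero_of_card_four hF
  have hd : (1 : F) * 1 - 1 * 0 = 1 := by ring
  refine ⟨affElt 1 1 0 1 0 1 hd, ?_⟩
  have : Fact (Nat.Prime 2) := ⟨Nat.prime_two⟩
  apply orderOf_eq_prime_pow (p := 2) (n := 1)
  · intro h
    have h' := aff_pow_unlift _ _ h
    rw [affElt_val] at h'
    have := congrFun (congrFun h' 0) 2
    simp [pow_succ, Matrix.mul_apply, Fin.sum_univ_three] at this
  · apply aff_pow_lift
    refine (affine_pow_aux hF _ ?_ ?_ ?_ (affElt (1:F) 1 0 1 0 1 hd).1.2).1 ?_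
    · simp [affElt_val]
    · simp [affElt_val]
    · simp [affElt_val]
    · simp [affElt_val]
      linear_combination h2

theorem aff_spectrum {F : Type*} [Field F] [Fintype F] (hF : Fintype.card F = 4) :
    Set.range (orderOf : Subgroup.closure (affSet F) → ℕ) = {1, 2, 3, 4, 5} :=
  spectrum_eq_of (affine_group_pow hF) (aff_exists_three hF) (aff_exists_four hF)
    (aff_exists_five hF)

end Cfsg.Agent.Lib.Helper6
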