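import Mathlib
import Cfsg.Agent.Lib.Helper6.AffineF4

set_option autoImplicit false

namespace Cfsg.Agent.Lib.Helper6

/-- the linear part of an affine matrix -/
def blockHom (F : Type*) [Field F] : Subgroup.closure (affSet F) →* Matrix (Fin 2) (Fin 2) F where
  toFun g := Matrix.of fun i j => (g.1 : Matrix (Fin 3) (Fin 3) F) (Fin.castSucc i) (Fin.castSucc j)
  map_one' := by
    ext i j
    fin_cases i <;> fin_cases j <;> simp
  map_mul' g h := by
    obtain ⟨h0, h1, h2⟩ := mem_affSet_of_mem_closure h.1 h.2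
    ext i j
    fin_cases i <;> fin_cases j <;>
      simp [Matrix.mul_apply, Fin.sum_univ_three, Fin.sum_univ_two, h0, h1]

theorem mem_ker_blockHom {F : Type*} [Field F] (g : Subgroup.closure (affSet F))
    (hg : g ∈ (blockHom F).ker) :
    (g.1 : Matrix (Fin 3) (Fin 3) F) 0 0 = 1 ∧ (g.1 : Matrix (Fin 3) (Fin 3) F) 0 1 = 0 ∧
    (g.1 : Matrix (Fin 3) (Fin 3) F) 1 0 = 0 ∧ (g.1 : Matrix (Fin 3) (Fin 3) F) 1 1 = 1 := by
  rw [MonoidHom.mem_ker] at hg
  have h := fun i j => congrFun (congrFun hg i) j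
  refine ⟨?_, ?_, ?_, ?_⟩
  · simpa [blockHom] using h 0 0
  · simpa [blockHom] using h 0 1
  · simpa [blockHom] using h 1 0
  · simpa [blockHom] using h 1 1

theorem ker_blockHom_comm {F : Type*} [Field F] (g h : Subgroup.closure (affSet F))
    (hg : g ∈ (blockHom F).ker) (hh : h ∈ (blockHom F).ker) : g * h = h * g := by
  obtain ⟨g0, g1, g2⟩ := mem_affSet_of_mem_closure g.1 g.2
  obtain ⟨h0, h1, h2⟩ := mem_affSet_of_mem_closure h.1 h.2
  obtain ⟨g00, g01, g10, g11⟩ := mem_ker_blockHom g hg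
  obtain ⟨h00, h01, h10, h11⟩ := mem_ker_blockHom h hh
  apply Subtype.ext; apply Subtype.ext
  ext i j
  fin_cases i <;> fin_cases j <;>
    simp [Matrix.mul_apply, Fin.sum_univ_three, g0, g1, g2, h0, h1, h2, g00, g01, g10, g11, h00,
      h01, h10, h11, add_comm]

theorem ker_blockHom_ne_bot {F : Type*} [Field F] : (blockHom F).ker ≠ ⊥ := by
  intro hbot
  have hd : (1 : F) * 1 - 0 * 0 = 1 := by ring
  have hmem : affElt (1 : F) 0 0 1 1 0 hd ∈ (blockHom F).ker := by
    rw [MonoidHom.mem_ker]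
    ext i j
    fin_cases i <;> fin_cases j <;> simp [blockHom, affElt_val]
  rw [hbot, Subgroup.mem_bot] at hmem
  have := aff_ne_one (affElt (1 : F) 0 0 1 1 0 hd) 0 2 (by simp [affElt_val])
  exact this hmem

theorem ker_blockHom_solvable {F : Type*} [Field F] : Group.IsSolvable (blockHom F).ker := by
  apply Group.isSolvable_of_comm
  intro a b
  apply Subtype.ext
  exact ker_blockHom_comm a.1 b.1 a.2 b.2

end Cfsg.Agent.Lib.Helper6
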