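import Mathlib
import Cfsg.Agent.Lib.Helper6.AffineKer

set_option autoImplicit false

namespace Cfsg.Agent.Lib.Helper6

theorem blockHom_apply {F : Type*} [Field F] (g : Subgroup.closure (affSet F)) (i j : Fin 2) :
    blockHom F g i j = (g.1 : Matrix (Fin 3) (Fin 3) F) (Fin.castSucc i) (Fin.castSucc j) := rfl

theorem aff_det_block {F : Type*} [Field F] (g : Subgroup.closure (affSet F)) :
    (g.1 : Matrix (Fin 3) (Fin 3) F) 0 0 * (g.1 : Matrix (Fin 3) (Fin 3) F) 1 1 -
      (g.1 : Matrix (Fin 3) (Fin 3) F) 0 1 * (g.1 : Matrix (Fin 3) (Fin 3) F) 1 0 = 1 := by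
  obtain ⟨h0, h1, h2⟩ := mem_affSet_of_mem_closure g.1 g.2
  have hdet := g.1.2
  rw [Matrix.det_fin_three, h0, h1, h2] at hdet
  linear_combination hdet

/-- the projection of the affine group onto `SL₂` -/
def affProj (F : Type*) [Field F] :
    Subgroup.closure (affSet F) →* Matrix.SpecialLinearGroup (Fin 2) F where
  toFun g := ⟨blockHom F g, by
    rw [Matrix.det_fin_two]
    simp only [blockHom_apply]
    exact aff_det_block g⟩
  map_one' := Subtype.ext (map_one (blockHom F))
  map_mul' g h := Subtype.ext (map_mul (blockHom F) g h)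

theorem affProj_apply {F : Type*} [Field F] (g : Subgroup.closure (affSet F)) (i j : Fin 2) :
    (affProj F g : Matrix (Fin 2) (Fin 2) F) i j =
      (g.1 : Matrix (Fin 3) (Fin 3) F) (Fin.castSucc i) (Fin.castSucc j) := rfl

theorem sl2_det {F : Type*} [Field F] (A : Matrix.SpecialLinearGroup (Fin 2) F) :
    (A : Matrix (Fin 2) (Fin 2) F) 0 0 * (A : Matrix (Fin 2) (Fin 2) F) 1 1 -
      (A : Matrix (Fin 2) (Fin 2) F) 0 1 * (A : Matrix (Fin 2) (Fin 2) F) 1 0 = 1 := by
  have := A.2
  rw [Matrix.det_fin_two] at this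
  exact this

/-- the section `SL₂ → ` affine group -/
def affIncl (F : Type*) [Field F] :
    Matrix.SpecialLinearGroup (Fin 2) F →* Subgroup.closure (affSet F) where
  toFun A := affElt ((A : Matrix (Fin 2) (Fin 2) F) 0 0) ((A : Matrix (Fin 2) (Fin 2) F) 0 1)
    ((A : Matrix (Fin 2) (Fin 2) F) 1 0) ((A : Matrix (Fin 2) (Fin 2) F) 1 1) 0 0 (sl2_det A)
  map_one' := by
    apply Subtype.ext; apply Subtype.ext
    ext i j
    fin_cases i <;> fin_cases j <;> simp [affElt_val]
  map_mul' A B := by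
    apply Subtype.ext; apply Subtype.ext
    ext i j
    fin_cases i <;> fin_cases j <;>
      simp [affElt_val, Matrix.mul_apply, Fin.sum_univ_three, Fin.sum_univ_two]

theorem affProj_affIncl {F : Type*} [Field F] (A : Matrix.SpecialLinearGroup (Fin 2) F) :
    affProj F (affIncl F A) = A := by
  apply Subtype.ext
  ext i j
  fin_cases i <;> fin_cases j <;> simp [affProj_apply, affIncl, affElt_val]

theorem affIncl_injective {F : Type*} [Field F] : Function.Injective (affIncl F) :=
  Function.LeftInverse.injective (g := affProj F) affProj_affIncl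

theorem mem_ker_affProj {F : Type*} [Field F] (g : Subgroup.closure (affSet F))
    (hg : g ∈ (affProj F).ker) :
    (g.1 : Matrix (Fin 3) (Fin 3) F) 0 0 = 1 ∧ (g.1 : Matrix (Fin 3) (Fin 3) F) 0 1 = 0 ∧
    (g.1 : Matrix (Fin 3) (Fin 3) F) 1 0 = 0 ∧ (g.1 : Matrix (Fin 3) (Fin 3) F) 1 1 = 1 := by
  rw [MonoidHom.mem_ker] at hg
  have h := fun i j => congrFun (congrFun (congrArg Subtype.val hg) i) j
  refine ⟨?_, ?_, ?_, ?_⟩
  · simpa [affProj_apply] using h 0 0
  · simpa [affProj_apply] using h 0 1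
  · simpa [affProj_apply] using h 1 0
  · simpa [affProj_apply] using h 1 1

theorem ker_affProj_le {F : Type*} [Field F] : (affProj F).ker ≤ (blockHom F).ker := by
  intro g hg
  rw [MonoidHom.mem_ker] at hg ⊢
  exact congrArg Subtype.val hg

theorem ker_affProj_ne_bot {F : Type*} [Field F] : (affProj F).ker ≠ ⊥ := by
  intro hbot
  have hd : (1 : F) * 1 - 0 * 0 = 1 := by ring
  have hmem : affElt (1 : F) 0 0 1 1 0 hd ∈ (affProj F).ker := by
    rw [MonoidHom.mem_ker]
    apply Subtype.ext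
    ext i j
    fin_cases i <;> fin_cases j <;> simp [affProj_apply, affElt_val]
  rw [hbot, Subgroup.mem_bot] at hmem
  have := aff_ne_one (affElt (1 : F) 0 0 1 1 0 hd) 0 2 (by simp [affElt_val])
  exact this hmem

theorem ker_affProj_solvable {F : Type*} [Field F] : Group.IsSolvable (affProj F).ker := by
  apply Group.isSolvable_of_comm
  intro a b
  apply Subtype.ext
  exact ker_blockHom_comm a.1 b.1 (ker_affProj_le a.2) (ker_affProj_le b.2)

/-- in characteristic two the kernel has exponent two -/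
theorem ker_affProj_sq {F : Type*} [Field F] [CharP F 2] (g : Subgroup.closure (affSet F))
    (hg : g ∈ (affProj F).ker) : g * g = 1 := by
  obtain ⟨g0, g1, g2⟩ := mem_affSet_of_mem_closure g.1 g.2
  obtain ⟨g00, g01, g10, g11⟩ := mem_ker_affProj g hg
  apply Subtype.ext; apply Subtype.ext
  ext i j
  fin_cases i <;> fin_cases j <;>
    simp [Matrix.mul_apply, Fin.sum_univ_three, g0, g1, g2, g00, g01, g10, g11,
      CharTwo.add_self_eq_zero]

/-- an element of the kernel commuting with `g` is trivial when `g` has no fixed vectors -/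
theorem ker_affProj_centralizer {F : Type*} [Field F] (g h : Subgroup.closure (affSet F))
    (hh : h ∈ (affProj F).ker) (hcomm : g * h = h * g)
    (hD : ((g.1 : Matrix (Fin 3) (Fin 3) F) 0 0 - 1) * ((g.1 : Matrix (Fin 3) (Fin 3) F) 1 1 - 1) -
      (g.1 : Matrix (Fin 3) (Fin 3) F) 0 1 * (g.1 : Matrix (Fin 3) (Fin 3) F) 1 0 ≠ 0) : h = 1 := by
  obtain ⟨g0, g1, g2⟩ := mem_affSet_of_mem_closure g.1 g.2
  obtain ⟨h0, h1, h2⟩ := mem_affSet_of_mem_closure h.1 h.2
  obtain ⟨h00, h01, h10, h11⟩ := mem_ker_affProj h hh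
  have hc := fun i j => congrFun (congrFun (congrArg
    (fun z : Subgroup.closure (affSet F) => (z.1 : Matrix (Fin 3) (Fin 3) F)) hcomm) i) j
  have e1 := hc 0 2
  have e2 := hc 1 2
  simp [Matrix.mul_apply, Fin.sum_univ_three, g0, g1, g2, h0, h1, h2, h00, h01, h10, h11] at e1 e2
  set D := ((g.1 : Matrix (Fin 3) (Fin 3) F) 0 0 - 1) * ((g.1 : Matrix (Fin 3) (Fin 3) F) 1 1 - 1) -
      (g.1 : Matrix (Fin 3) (Fin 3) F) 0 1 * (g.1 : Matrix (Fin 3) (Fin 3) F) 1 0 with hDdef
  have k1 : D * (h.1 : Matrix (Fin 3) (Fin 3) F) 0 2 = 0 := by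
    rw [hDdef]
    linear_combination ((g.1 : Matrix (Fin 3) (Fin 3) F) 1 1 - 1) * e1 -
      ((g.1 : Matrix (Fin 3) (Fin 3) F) 0 1) * e2
  have k2 : D * (h.1 : Matrix (Fin 3) (Fin 3) F) 1 2 = 0 := by
    rw [hDdef]
    linear_combination (-(g.1 : Matrix (Fin 3) (Fin 3) F) 1 0) * e1 +
      ((g.1 : Matrix (Fin 3) (Fin 3) F) 0 0 - 1) * e2
  have h02 : (h.1 : Matrix (Fin 3) (Fin 3) F) 0 2 = 0 := by
    rcases mul_eq_zero.mp k1 with h | h
    · exact absurd h hD
    · exact h
  have h12 : (h.1 : Matrix (Fin 3) (Fin 3) F) 1 2 = 0 := by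
    rcases mul_eq_zero.mp k2 with h | h
    · exact absurd h hD
    · exact h
  apply Subtype.ext; apply Subtype.ext
  ext i j
  fin_cases i <;> fin_cases j <;> simp [h0, h1, h2, h00, h01, h10, h11, h02, h12]

theorem sl2_sq_of_trace_zero {F : Type*} [Field F] [CharP F 2]
    (A : Matrix.SpecialLinearGroup (Fin 2) F)
    (ht : (A : Matrix (Fin 2) (Fin 2) F) 0 0 + (A : Matrix (Fin 2) (Fin 2) F) 1 1 = 0) :
    A * A = 1 := by
  have hdet := sl2_det A
  have h2 : (2 : F) = 0 := CharTwo.two_eq_zero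
  apply Subtype.ext
  ext i j
  fin_cases i <;> fin_cases j
  · simp [Matrix.mul_apply, Fin.sum_univ_two]
    linear_combination ((A : Matrix (Fin 2) (Fin 2) F) 0 0) * ht - hdet - h2
  · simp [Matrix.mul_apply, Fin.sum_univ_two]
    linear_combination ((A : Matrix (Fin 2) (Fin 2) F) 0 1) * ht
  · simp [Matrix.mul_apply, Fin.sum_univ_two]
    linear_combination ((A : Matrix (Fin 2) (Fin 2) F) 1 0) * ht
  · simp [Matrix.mul_apply, Fin.sum_univ_two]
    linear_combination ((A : Matrix (Fin 2) (Fin 2) F) 1 1) * ht - hdet - h2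

/-- an element of odd order `≠ 1` of `SL₂` in characteristic two has no eigenvalue one -/
theorem sl2_odd_fpf {F : Type*} [Field F] [CharP F 2]
    (A : Matrix.SpecialLinearGroup (Fin 2) F) (hodd : Odd (orderOf A)) (hA : A ≠ 1) :
    ((A : Matrix (Fin 2) (Fin 2) F) 0 0 - 1) * ((A : Matrix (Fin 2) (Fin 2) F) 1 1 - 1) -
      (A : Matrix (Fin 2) (Fin 2) F) 0 1 * (A : Matrix (Fin 2) (Fin 2) F) 1 0 ≠ 0 := by
  intro hD
  have hdet := sl2_det A
  have h2 : (2 : F) = 0 := CharTwo.two_eq_zero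
  have ht : (A : Matrix (Fin 2) (Fin 2) F) 0 0 + (A : Matrix (Fin 2) (Fin 2) F) 1 1 = 0 := by
    linear_combination hdet - hD + h2
  have hsq := sl2_sq_of_trace_zero A ht
  have hdvd : orderOf A ∣ 2 := orderOf_dvd_of_pow_eq_one (by rw [pow_two]; exact hsq)
  rcases (Nat.dvd_prime Nat.prime_two).mp hdvd with h | h
  · exact hA (orderOf_eq_one_iff.mp h)
  · rw [h] at hodd
    exact absurd hodd (by decide)

theorem sl2_center_eq_bot {F : Type*} [Field F] [CharP F 2] :
    Subgroup.center (Matrix.SpecialLinearGroup (Fin 2) F) = ⊥ := by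
  rw [Subgroup.eq_bot_iff_forall]
  intro A hA
  rw [Matrix.SpecialLinearGroup.mem_center_iff] at hA
  obtain ⟨r, hr, hrA⟩ := hA
  have h2 : (2 : F) = 0 := CharTwo.two_eq_zero
  simp only [Fintype.card_fin] at hr
  have : (r - 1) * (r - 1) = 0 := by linear_combination hr - r * h2 + h2
  have hr1 : r = 1 := by
    have := mul_self_eq_zero.mp this
    exact sub_eq_zero.mp this
  apply Subtype.ext
  rw [← hrA, hr1]
  simp

/-- `PSL₂ ≃ SL₂` in characteristic two -/
noncomputable def pslEquiv (F : Type*) [Field F] [CharP F 2] :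
    Matrix.ProjectiveSpecialLinearGroup (Fin 2) F ≃* Matrix.SpecialLinearGroup (Fin 2) F :=
  (QuotientGroup.quotientMulEquivOfEq sl2_center_eq_bot).trans QuotientGroup.quotientBot

theorem prime_dvd_card_iff_mem_spectrum {G : Type*} [Group G] [Finite G] (p : ℕ) (hp : p.Prime) :
    p ∣ Nat.card G ↔ p ∈ Set.range (orderOf : G → ℕ) := by
  have : Fact p.Prime := ⟨hp⟩
  constructor
  · intro h
    obtain ⟨x, hx⟩ := exists_prime_orderOf_dvd_card' p h
    exact ⟨x, hx⟩
  · rintro ⟨x, hx⟩
    rw [← hx]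
    exact orderOf_dvd_natCard x

theorem prime_graph_of_spectrum {G H : Type*} [Group G] [Group H] [Finite G] [Finite H]
    (h : Set.range (orderOf : H → ℕ) = Set.range (orderOf : G → ℕ)) :
    (∀ p : ℕ, p.Prime → (p ∣ Nat.card G ↔ p ∣ Nat.card H)) ∧
      (∀ n : ℕ, (∃ g : G, orderOf g = n) ↔ ∃ g : H, orderOf g = n) := by
  refine ⟨fun p hp => ?_, fun n => ?_⟩
  · rw [prime_dvd_card_iff_mem_spectrum p hp, prime_dvd_card_iff_mem_spectrum p hp, h]
  · have : n ∈ Set.range (orderOf : G → ℕ) ↔ n ∈ Set.range (orderOf : H → ℕ) := by rw [h]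
    exact this

theorem sl2_two_dvd_card {F : Type*} [Field F] [Finite F] [CharP F 2] :
    2 ∣ Nat.card (Matrix.SpecialLinearGroup (Fin 2) F) := by
  let A : Matrix.SpecialLinearGroup (Fin 2) F := ⟨!![1, 1; 0, 1], by simp [Matrix.det_fin_two]⟩
  have hA1 : A ≠ 1 := by
    intro h
    have := congrFun (congrFun (congrArg Subtype.val h) 0) 1
    simp [A] at this
  have hsq : A * A = 1 := by
    apply sl2_sq_of_trace_zero
    simp [A, CharTwo.add_self_eq_zero]
  have : Fact (Nat.Prime 2) := ⟨Nat.prime_two⟩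
  have h2 : orderOf A = 2 := orderOf_eq_prime (by rw [pow_two]; exact hsq) hA1
  have := orderOf_dvd_natCard A
  rwa [h2] at this

theorem aff_order_proj {F : Type*} [Field F] [Finite F] [CharP F 2]
    (g : Subgroup.closure (affSet F)) (p q : ℕ) (hp : p.Prime) (hq : q.Prime) (hpq : p ≠ q)
    (hg : orderOf g = p * q) : orderOf (affProj F g) = p * q := by
  set m := orderOf (affProj F g) with hm
  have hmdvd : m ∣ p * q := by rw [← hg]; exact orderOf_map_dvd _ g
  have hker : g ^ m ∈ (affProj F).ker := by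
    rw [MonoidHom.mem_ker, map_pow, hm, pow_orderOf_eq_one]
  have hsq := ker_affProj_sq _ hker
  have h2m : p * q ∣ 2 * m := by
    rw [← hg]
    apply orderOf_dvd_of_pow_eq_one
    rw [mul_comm, pow_mul, pow_two]; exact hsq
  by_contra hne
  have hpq0 : 0 < p * q := Nat.mul_pos hp.pos hq.pos
  have hm0 : 0 < m := Nat.pos_of_dvd_of_pos hmdvd hpq0
  obtain ⟨c, hc⟩ := hmdvd
  have hc2 : 2 ≤ c := by
    rcases Nat.lt_or_ge c 2 with h | h
    · interval_cases c
      · omega
      · exfalso; apply hne; rw [hc, mul_one]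
    · exact h
  have h2m' : 2 * m = p * q := by
    have h1 : p * q ≤ 2 * m := Nat.le_of_dvd (by omega) h2m
    have h2 : 2 * m ≤ c * m := Nat.mul_le_mul_right m hc2
    rw [mul_comm c m, ← hc] at h2
    omega
  -- m is an odd prime
  have hmodd : Odd m := by
    have h2dvd : 2 ∣ p * q := ⟨m, h2m'.symm⟩
    rcases (Nat.Prime.dvd_mul Nat.prime_two).mp h2dvd with h | h
    · have hp2 : p = 2 := ((Nat.prime_dvd_prime_iff_eq Nat.prime_two hp).mp h).symm
      have hmq : m = q := by rw [hp2] at h2m'; omega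
      rw [hmq]
      exact hq.odd_of_ne_two (fun h2 => hpq (hp2.trans h2.symm))
    · have hq2 : q = 2 := ((Nat.prime_dvd_prime_iff_eq Nat.prime_two hq).mp h).symm
      have hmp : m = p := by rw [hq2] at h2m'; omega
      rw [hmp]
      exact hp.odd_of_ne_two (fun h2 => hpq (h2.trans hq2.symm))
  have hm1 : m ≠ 1 := by
    intro h1
    rw [h1] at h2m'
    have := Nat.Prime.two_le hp
    have := Nat.Prime.two_le hq
    nlinarith
  have hA1 : affProj F g ≠ 1 := fun h => hm1 (by rw [hm, h, orderOf_one])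
  have hD := sl2_odd_fpf (affProj F g) hmodd hA1
  have hcomm : g * g ^ m = g ^ m * g := by rw [← pow_succ', ← pow_succ]
  have hone := ker_affProj_centralizer g (g ^ m) hker hcomm hD
  have : p * q ∣ m := by rw [← hg]; exact orderOf_dvd_of_pow_eq_one hone
  have := Nat.le_of_dvd hm0 this
  omega

theorem aff_same_prime_graph (F : Type*) [Field F] [Finite F] [CharP F 2] :
    (∀ p : ℕ, p.Prime → (p ∣ Nat.card (Matrix.ProjectiveSpecialLinearGroup (Fin 2) F) ↔
      p ∣ Nat.card (Subgroup.closure (affSet F)))) ∧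
    (∀ p q : ℕ, p.Prime → q.Prime → p ≠ q →
      ((∃ g : Matrix.ProjectiveSpecialLinearGroup (Fin 2) F, orderOf g = p * q) ↔
        ∃ g : Subgroup.closure (affSet F), orderOf g = p * q)) := by
  have hcard : Nat.card (Matrix.ProjectiveSpecialLinearGroup (Fin 2) F) =
      Nat.card (Matrix.SpecialLinearGroup (Fin 2) F) := Nat.card_congr (pslEquiv F).toEquiv
  refine ⟨fun p hp => ?_, fun p q hp hq hpq => ?_⟩
  · rw [hcard]
    have : Fact p.Prime := ⟨hp⟩
    constructor
    · intro h
      exact dvd_trans h (Subgroup.card_dvd_of_injective (affIncl F) affIncl_injective)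
    · intro h
      obtain ⟨g, hg⟩ := exists_prime_orderOf_dvd_card' p h
      have hdvd : orderOf (affProj F g) ∣ p := by rw [← hg]; exact orderOf_map_dvd _ g
      rcases (Nat.dvd_prime hp).mp hdvd with h1 | h1
      · have hker : g ∈ (affProj F).ker := by
          rw [MonoidHom.mem_ker]; exact orderOf_eq_one_iff.mp h1
        have hsq := ker_affProj_sq g hker
        have : p ∣ 2 := by
          rw [← hg]; apply orderOf_dvd_of_pow_eq_one; rw [pow_two]; exact hsq
        have hp2 : p = 2 := (Nat.prime_dvd_prime_iff_eq hp Nat.prime_two).mp this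
        rw [hp2]
        exact sl2_two_dvd_card
      · rw [← h1]
        exact orderOf_dvd_natCard _
  · constructor
    · rintro ⟨g, hg⟩
      refine ⟨affIncl F (pslEquiv F g), ?_⟩
      rw [orderOf_injective (affIncl F) affIncl_injective, MulEquiv.orderOf_eq, hg]
    · rintro ⟨g, hg⟩
      refine ⟨(pslEquiv F).symm (affProj F g), ?_⟩
      rw [MulEquiv.orderOf_eq]
      exact aff_order_proj g p q hp hq hpq hg

end Cfsg.Agent.Lib.Helper6
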