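import Mathlib

set_option autoImplicit false

namespace Cfsg.Agent.Lib.Helper6
open scoped Pointwise

variable {G : Type*} [Group G]

theorem mem_conj_iff (M : Subgroup G) (g x : G) :
    x ∈ M.map (MulAut.conj g).toMonoidHom ↔ g⁻¹ * x * g ∈ M := by
  rw [Subgroup.mem_map_equiv]
  simp [MulAut.conj_symm_apply]

theorem isCoatom_conj (M : Subgroup G) (g : G) (hM : IsCoatom M) :
    IsCoatom (M.map (MulAut.conj g).toMonoidHom) :=
  ((MulEquiv.mapSubgroup (MulAut.conj g)).isCoatom_iff M).2 hM

theorem mem_smul_sylow {r : ℕ} (g : G) (P : Sylow r G) (y : G) :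
    y ∈ ((g • P : Sylow r G) : Subgroup G) ↔ g⁻¹ * y * g ∈ (P : Subgroup G) := by
  show y ∈ MulAut.conj g • (P : Subgroup G) ↔ _
  rw [Subgroup.mem_pointwise_smul_iff_inv_smul_mem]
  simp [MulAut.smul_def]

theorem exists_conj_ge [Finite G] {r : ℕ} [Fact r.Prime] (R : Sylow r G) (M : Subgroup G)
    (hM : ¬ r ∣ M.index) : ∃ g : G, (R : Subgroup G) ≤ M.map (MulAut.conj g).toMonoidHom := by
  have hfix := (R.isPGroup').nonempty_fixed_point_of_prime_not_dvd_card (G ⧸ M)
    (by rwa [← Subgroup.index_eq_card])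
  obtain ⟨q, hq⟩ := hfix
  induction q using QuotientGroup.induction_on with
  | H g =>
    refine ⟨g, fun x hx => ?_⟩
    rw [mem_conj_iff]
    have h1 := hq ⟨x, hx⟩
    have h2 : ((x * g : G) : G ⧸ M) = (g : G ⧸ M) := h1
    rw [QuotientGroup.eq] at h2
    have h3 := M.inv_mem h2
    have : ((x * g)⁻¹ * g)⁻¹ = g⁻¹ * x * g := by group
    rwa [this] at h3

theorem simple_pgroup_comm {T : Type*} [Group T] [Finite T] (hT : IsSimpleGroup T) {r : ℕ}
    [Fact r.Prime] (hpT : IsPGroup r T) : IsMulCommutative T := by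
  haveI := hT.toNontrivial
  have hc := hpT.center_nontrivial
  have hcn : (Subgroup.center T).Normal := inferInstance
  rcases hcn.eq_bot_or_eq_top with h2 | h2
  · rw [Subgroup.nontrivial_iff_ne_bot] at hc
    exact absurd h2 hc
  · refine ⟨⟨fun a b => ?_⟩⟩
    have ha : a ∈ Subgroup.center T := by rw [h2]; trivial
    exact ((Subgroup.mem_center_iff.1 ha) b).symm

theorem not_normal_of_almost_simple [Finite G] (T : Subgroup G) [T.Normal] (hT : IsSimpleGroup T)
    (hna : ¬ IsMulCommutative T) {r : ℕ} [Fact r.Prime] (R : Sylow r G)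
    (hR0 : (R : Subgroup G) ⊓ T ≠ ⊥) : ¬ (R : Subgroup G).Normal := by
  intro hRn
  have hn : (((R : Subgroup G) ⊓ T).subgroupOf T).Normal := by
    haveI : ((R : Subgroup G) ⊓ T).Normal := Subgroup.normal_inf_normal _ _
    infer_instance
  rcases hn.eq_bot_or_eq_top with h | h
  · apply hR0
    rw [Subgroup.subgroupOf_eq_bot] at h
    have := h.eq_bot
    rwa [inf_eq_left.2 (inf_le_right : (R : Subgroup G) ⊓ T ≤ T)] at this
  · rw [Subgroup.subgroupOf_eq_top] at h
    have hTR : T ≤ (R : Subgroup G) := fun x hx => (h hx).1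
    have hpT : IsPGroup r T := R.isPGroup'.to_le hTR
    haveI := hT.toNontrivial
    have hc := hpT.center_nontrivial
    have hcn : (Subgroup.center T).Normal := inferInstance
    rcases hcn.eq_bot_or_eq_top with h2 | h2
    · rw [Subgroup.nontrivial_iff_ne_bot] at hc
      exact hc h2
    · apply hna
      refine ⟨⟨fun a b => ?_⟩⟩
      have ha : a ∈ Subgroup.center T := by rw [h2]; trivial
      exact ((Subgroup.mem_center_iff.1 ha) b).symm

end Cfsg.Agent.Lib.Helper6
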