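import Mathlib

set_option autoImplicit false

namespace Cfsg.Agent.Lib.Helper6

open Equiv Equiv.Perm

variable {Ω : Type*} [Fintype Ω] [DecidableEq Ω]

/-- two permutations whose supports meet in exactly one point have a 3-cycle as commutator -/
theorem isThreeCycle_commutator_of_support_inter (x y : Perm Ω) (γ : Ω)
    (h : ∀ p, x p ≠ p → y p ≠ p → p = γ) (hxγ : x γ ≠ γ) (hyγ : y γ ≠ γ) :
    IsThreeCycle (x * y * x⁻¹ * y⁻¹) := by
  obtain ⟨a, ha⟩ : ∃ a, a = x γ := ⟨_, rfl⟩
  obtain ⟨b, hb⟩ : ∃ b, b = y γ := ⟨_, rfl⟩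
  have haγ : a ≠ γ := ha ▸ hxγ
  have hbγ : b ≠ γ := hb ▸ hyγ
  -- a is moved by x, b by y
  have hxa : x a ≠ a := by
    rw [ha]; intro h1; exact hxγ (x.injective h1)
  have hyb : y b ≠ b := by
    rw [hb]; intro h1; exact hyγ (y.injective h1)
  have hya : y a = a := by
    by_contra h1; exact haγ (h a hxa h1)
  have hxb : x b = b := by
    by_contra h1; exact hbγ (h b h1 hyb)
  have hab : a ≠ b := by
    intro h1; rw [h1] at hxa; exact hxa hxb
  -- general facts
  have hx_of_y : ∀ p, y p ≠ p → p ≠ γ → x p = p := by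
    intro p hp hpγ; by_contra h1; exact hpγ (h p h1 hp)
  have hy_of_x : ∀ p, x p ≠ p → p ≠ γ → y p = p := by
    intro p hp hpγ; by_contra h1; exact hpγ (h p hp h1)
  have hinv_fix : ∀ (σ : Perm Ω) (p : Ω), σ p = p → σ⁻¹ p = p := by
    intro σ p hp
    rw [Perm.inv_eq_iff_eq, hp]
  have hkey : x * y * x⁻¹ * y⁻¹ = swap a γ * swap a b := by
    ext p
    simp only [Perm.mul_apply]
    by_cases hpγ : p = γ
    · -- c γ = a
      subst hpγ
      rw [swap_apply_of_ne_of_ne haγ.symm hbγ.symm, swap_apply_right]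
      obtain ⟨b', hb'⟩ : ∃ b', b' = y⁻¹ p := ⟨_, rfl⟩
      rw [← hb']
      have hyb' : y b' = p := by rw [hb']; simp
      have hb'γ : b' ≠ p := by
        intro h1; rw [h1] at hyb'; exact hyγ hyb'
      have hb'y : y b' ≠ b' := by rw [hyb']; exact hb'γ.symm
      have hxb' : x b' = b' := hx_of_y b' hb'y hb'γ
      rw [hinv_fix x b' hxb', hyb', ← ha]
    by_cases hpa : p = a
    · subst hpa
      rw [swap_apply_left, swap_apply_of_ne_of_ne hab.symm hbγ]
      rw [hinv_fix y p hya]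
      have : x⁻¹ p = γ := by rw [Perm.inv_eq_iff_eq, ha]
      rw [this, ← hb, hxb]
    by_cases hpb : p = b
    · subst hpb
      rw [swap_apply_right, swap_apply_left]
      have : y⁻¹ p = γ := by rw [Perm.inv_eq_iff_eq, hb]
      rw [this]
      obtain ⟨a', ha'⟩ : ∃ a', a' = x⁻¹ γ := ⟨_, rfl⟩
      rw [← ha']
      have hxa' : x a' = γ := by rw [ha']; simp
      have ha'γ : a' ≠ γ := by
        intro h1; rw [h1] at hxa'; exact hxγ hxa'
      have ha'x : x a' ≠ a' := by rw [hxa']; exact ha'γ.symm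
      rw [hy_of_x a' ha'x ha'γ, hxa']
    · rw [swap_apply_of_ne_of_ne hpa hpb, swap_apply_of_ne_of_ne hpa hpγ]
      by_cases hyp : y p = p
      · rw [hinv_fix y p hyp]
        by_cases hxp : x p = p
        · rw [hinv_fix x p hxp, hyp, hxp]
        · obtain ⟨r, hr⟩ : ∃ r, r = x⁻¹ p := ⟨_, rfl⟩
          rw [← hr]
          have hxr : x r = p := by rw [hr]; simp
          have hrγ : r ≠ γ := by
            intro h1; rw [h1, ← ha] at hxr; exact hpa hxr.symm
          have hrx : x r ≠ r := by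
            rw [hxr]; intro h1; rw [← h1] at hxr; exact hxp hxr
          rw [hy_of_x r hrx hrγ, hxr]
      · obtain ⟨q, hq⟩ : ∃ q, q = y⁻¹ p := ⟨_, rfl⟩
        rw [← hq]
        have hyq : y q = p := by rw [hq]; simp
        have hqγ : q ≠ γ := by
          intro h1; rw [h1, ← hb] at hyq; exact hpb hyq.symm
        have hqy : y q ≠ q := by
          rw [hyq]; intro h1; rw [← h1] at hyq; exact hyp hyq
        have hxq : x q = q := hx_of_y q hqy hqγ
        rw [hinv_fix x q hxq, hyq, hx_of_y p hyp hpγ]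
  rw [hkey]
  exact isThreeCycle_swap_mul_swap_same haγ hab hbγ.symm


/-- `P` meets the symmetric group on `Δ` trivially -/
def FreeSet (P : Subgroup (Perm Ω)) (Δ : Finset Ω) : Prop :=
  ∀ σ ∈ P, (∀ x ∉ Δ, σ x = x) → σ = 1

theorem card_mul_factorial_le_of_freeSet (P : Subgroup (Perm Ω)) (Δ : Finset Ω)
    (hΔ : FreeSet P Δ) : Nat.card P * Nat.factorial Δ.card ≤ Nat.factorial (Fintype.card Ω) := by
  classical
  let f : Perm {x // x ∈ Δ} × P → Perm Ω := fun tp => ofSubtype tp.1 * tp.2.1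
  have hf : Function.Injective f := by
    rintro ⟨τ, p⟩ ⟨τ', p'⟩ heq
    simp only [f] at heq
    have h1 : ofSubtype (τ'⁻¹ * τ) = p'.1 * p.1⁻¹ := by
      rw [map_mul, map_inv]
      have : ofSubtype τ = ofSubtype τ' * p'.1 * p.1⁻¹ := by rw [← heq]; group
      rw [this]; group
    have h2 : p'.1 * p.1⁻¹ ∈ P := P.mul_mem p'.2 (P.inv_mem p.2)
    have h3 : p'.1 * p.1⁻¹ = 1 := by
      apply hΔ _ h2
      intro x hx
      rw [← h1]
      exact ofSubtype_apply_of_not_mem _ hx
    have h4 : τ'⁻¹ * τ = 1 := by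
      apply ofSubtype_injective
      rw [h1, h3, map_one]
    have h5 : τ = τ' := by
      have : τ = τ' * (τ'⁻¹ * τ) := by group
      rw [this, h4, mul_one]
    have h6 : p = p' := by
      apply Subtype.ext
      have : p'.1 = (p'.1 * p.1⁻¹) * p.1 := by group
      rw [this, h3, one_mul]
    rw [h5, h6]
  have hcard := Fintype.card_le_of_injective f hf
  rw [Fintype.card_prod, Fintype.card_perm, Fintype.card_perm, Fintype.card_coe] at hcard
  rw [Nat.card_eq_fintype_card, mul_comm]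
  exact hcard

open MulAction in
/-- the complement of a free set of maximal size is free -/
theorem freeSet_compl (P : Subgroup (Perm Ω)) (hprim : IsPreprimitive P Ω)
    (hA : ¬ alternatingGroup Ω ≤ P) (Δ : Finset Ω) (hΔ : FreeSet P Δ)
    (hmax : ∀ Δ' : Finset Ω, FreeSet P Δ' → Δ'.card ≤ Δ.card) : FreeSet P Δᶜ := by
  classical
  intro y hyP hy
  by_contra hy1
  -- y moves some γ ∉ Δ
  obtain ⟨γ, hγ⟩ : ∃ γ, y γ ≠ γ := by
    by_contra hcon
    push Not at hcon
    exact hy1 (Perm.ext hcon)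
  have hγΔ : γ ∉ Δ := by
    intro h1
    exact hγ (hy γ (by simpa using h1))
  have hnot : ¬ FreeSet P (insert γ Δ) := by
    intro h1
    have := hmax _ h1
    rw [Finset.card_insert_of_notMem hγΔ] at this
    omega
  unfold FreeSet at hnot
  push Not at hnot
  obtain ⟨x, hxP, hx, hx1⟩ := hnot
  have hxγ : x γ ≠ γ := by
    intro h1
    apply hx1
    apply hΔ x hxP
    intro p hp
    by_cases hpγ : p = γ
    · rw [hpγ]; exact h1
    · exact hx p (by simp [hpγ, hp])
  have hinter : ∀ p, x p ≠ p → y p ≠ p → p = γ := by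
    intro p hxp hyp
    by_contra hpγ
    have hpΔ : p ∈ Δ := by
      by_contra hpΔ
      exact hxp (hx p (by simp [hpγ, hpΔ]))
    exact hyp (hy p (by simpa using hpΔ))
  have h3 := isThreeCycle_commutator_of_support_inter x y γ hinter hxγ hγ
  have hmem : x * y * x⁻¹ * y⁻¹ ∈ P :=
    P.mul_mem (P.mul_mem (P.mul_mem hxP hyP) (P.inv_mem hxP)) (P.inv_mem hyP)
  exact hA (alternatingGroup_le_of_isPreprimitive_of_isThreeCycle_mem hprim h3 hmem)

open MulAction in
/-- Bochert's bound for primitive subgroups of the symmetric group -/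
theorem bochert_subgroup (P : Subgroup (Perm Ω)) (hprim : IsPreprimitive P Ω)
    (hA : ¬ alternatingGroup Ω ≤ P) :
    Nat.card P * Nat.factorial ((Fintype.card Ω + 1) / 2) ≤ Nat.factorial (Fintype.card Ω) := by
  classical
  have hne : (Finset.univ.filter (fun Δ : Finset Ω => FreeSet P Δ)).Nonempty := by
    refine ⟨∅, ?_⟩
    rw [Finset.mem_filter]
    refine ⟨Finset.mem_univ _, ?_⟩
    intro σ _ hσ
    exact Perm.ext (fun x => hσ x (by simp))
  obtain ⟨Δ, hΔmem, hΔmax⟩ := Finset.exists_max_image _ (fun Δ : Finset Ω => Δ.card) hne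
  rw [Finset.mem_filter] at hΔmem
  have hΔ := hΔmem.2
  have hmax : ∀ Δ' : Finset Ω, FreeSet P Δ' → Δ'.card ≤ Δ.card := by
    intro Δ' hΔ'
    exact hΔmax Δ' (by rw [Finset.mem_filter]; exact ⟨Finset.mem_univ _, hΔ'⟩)
  have hc := freeSet_compl P hprim hA Δ hΔ hmax
  have h1 := hmax _ hc
  rw [Finset.card_compl] at h1
  have h2 : (Fintype.card Ω + 1) / 2 ≤ Δ.card := by
    have := Finset.card_le_univ Δ
    omega
  calc Nat.card P * Nat.factorial ((Fintype.card Ω + 1) / 2)
      ≤ Nat.card P * Nat.factorial Δ.card := Nat.mul_le_mul_left _ (Nat.factorial_le h2)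
    _ ≤ Nat.factorial (Fintype.card Ω) := card_mul_factorial_le_of_freeSet P Δ hΔ

end Cfsg.Agent.Lib.Helper6
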