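import Mathlib

set_option autoImplicit false

namespace Cfsg.Agent.Lib.Helper6

open MulAction
open scoped Classical

/-- Burnside's lemma with `Nat.card`. -/
theorem burnside_nat (G X : Type*) [Group G] [Fintype G] [MulAction G X] [Finite X] :
    ∑ g : G, Nat.card (fixedBy X g) = Nat.card (orbitRel.Quotient G X) * Nat.card G := by
  have : Fintype X := Fintype.ofFinite X
  have : Fintype (orbitRel.Quotient G X) := Fintype.ofFinite _
  have h := MulAction.sum_card_fixedBy_eq_card_orbits_mul_card_group G X
  rw [Nat.card_eq_fintype_card, Nat.card_eq_fintype_card]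
  rw [← h]
  apply Finset.sum_congr rfl
  intro g _
  rw [Nat.card_eq_fintype_card]

/-- Burnside's lemma for a subgroup, summing over the elements of the subgroup. -/
theorem burnside_subgroup {G X : Type*} [Group G] [Fintype G] [MulAction G X] [Finite X]
    (K : Subgroup G) :
    ∑ k : K, Nat.card (fixedBy X (k : G)) = Nat.card (orbitRel.Quotient K X) * Nat.card K := by
  have h := burnside_nat K X
  rw [← h]
  rfl

/-- Splitting the Burnside sum of `G` along a subgroup `K`. -/
theorem burnside_split {G X : Type*} [Group G] [Fintype G] [MulAction G X] [Finite X]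
    (K : Subgroup G) :
    Nat.card (orbitRel.Quotient G X) * Nat.card G =
      Nat.card (orbitRel.Quotient K X) * Nat.card K +
        ∑ g : {g : G // g ∉ K}, Nat.card (fixedBy X (g : G)) := by
  rw [← burnside_nat G X, ← burnside_subgroup K]
  exact (Fintype.sum_subtype_add_sum_subtype (fun g : G => g ∈ K)
    (fun g => Nat.card (fixedBy X g))).symm

theorem card_compl_subgroup {G : Type*} [Group G] [Fintype G] (K : Subgroup G) :
    Fintype.card {g : G // g ∉ K} = Nat.card G - Nat.card K := by
  rw [Fintype.card_subtype_compl, Nat.card_eq_fintype_card, Nat.card_eq_fintype_card]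

/-- The subgroup generated by the derangements. -/
def derangeSubgroup (G Ω : Type*) [Group G] [MulAction G Ω] : Subgroup G :=
  Subgroup.closure {g : G | ∀ ω : Ω, g • ω ≠ ω}

theorem fixedBy_pos_of_not_mem {G Ω : Type*} [Group G] [MulAction G Ω] [Finite Ω] (g : G)
    (hg : g ∉ derangeSubgroup G Ω) : 1 ≤ Nat.card (fixedBy Ω g) := by
  have : ¬ ∀ ω : Ω, g • ω ≠ ω := fun h => hg (Subgroup.subset_closure h)
  push Not at this
  obtain ⟨ω, hω⟩ := this
  have : Nonempty (fixedBy Ω g) := ⟨⟨ω, hω⟩⟩
  exact Finite.card_pos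

/-- Main facts: in a transitive action on a nonempty finite set, the derangement subgroup has a
single orbit and every element outside it has exactly one fixed point. -/
theorem derange_main {G Ω : Type*} [Group G] [Finite G] [MulAction G Ω] [Finite Ω] [Nonempty Ω]
    (htrans : IsPretransitive G Ω) :
    Nat.card (orbitRel.Quotient (derangeSubgroup G Ω) Ω) = 1 ∧
      ∀ g : G, g ∉ derangeSubgroup G Ω → Nat.card (fixedBy Ω g) = 1 := by
  have : Fintype G := Fintype.ofFinite G
  set D := derangeSubgroup G Ω with hD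
  have hG1 : Nat.card (orbitRel.Quotient G Ω) = 1 := by
    rw [Nat.card_eq_one_iff_unique]
    exact ⟨(pretransitive_iff_subsingleton_quotient G Ω).mp htrans,
      ⟨Quotient.mk'' (Classical.arbitrary Ω)⟩⟩
  have hsplit := burnside_split (X := Ω) D
  rw [hG1, one_mul] at hsplit
  set r := Nat.card (orbitRel.Quotient D Ω) with hr
  have hrpos : 1 ≤ r := by
    have : Nonempty (orbitRel.Quotient D Ω) := ⟨Quotient.mk'' (Classical.arbitrary Ω)⟩
    exact Finite.card_pos
  have hge : ∀ g : {g : G // g ∉ D}, 1 ≤ Nat.card (fixedBy Ω (g : G)) :=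
    fun g => fixedBy_pos_of_not_mem g.1 g.2
  have hsum_ge : Nat.card G - Nat.card D ≤ ∑ g : {g : G // g ∉ D}, Nat.card (fixedBy Ω (g : G)) := by
    rw [← card_compl_subgroup D]
    calc Fintype.card {g : G // g ∉ D} = ∑ _g : {g : G // g ∉ D}, 1 := by simp
      _ ≤ _ := Finset.sum_le_sum (fun g _ => hge g)
  have hDle : Nat.card D ≤ Nat.card G := Subgroup.card_le_card_group D
  have hDpos : 0 < Nat.card D := Nat.card_pos
  have hr1 : r = 1 := by
    have h1 : r * Nat.card D ≤ Nat.card D := by omega
    have h2 : r ≤ 1 := by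
      by_contra hcon
      have : 2 ≤ r := by omega
      have : 2 * Nat.card D ≤ r * Nat.card D := Nat.mul_le_mul_right _ this
      omega
    omega
  refine ⟨hr1, ?_⟩
  rw [hr1, one_mul] at hsplit
  have hsum_eq : ∑ g : {g : G // g ∉ D}, Nat.card (fixedBy Ω (g : G)) =
      ∑ _g : {g : G // g ∉ D}, 1 := by
    have : ∑ _g : {g : G // g ∉ D}, 1 = Nat.card G - Nat.card D := by
      rw [← card_compl_subgroup D]; simp
    rw [this]; omega
  have := (Finset.sum_eq_sum_iff_of_le (s := Finset.univ)
    (f := fun _ : {g : G // g ∉ D} => 1) (g := fun g => Nat.card (fixedBy Ω (g : G)))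
    (fun g _ => hge g)).mp hsum_eq.symm
  intro g hg
  exact (this ⟨g, hg⟩ (Finset.mem_univ _)).symm

theorem card_fixedBy_prod {G Ω : Type*} [Group G] [MulAction G Ω] (g : G) :
    Nat.card (fixedBy (Ω × Ω) g) = Nat.card (fixedBy Ω g) ^ 2 := by
  rw [pow_two, ← Nat.card_prod]
  apply Nat.card_congr
  exact
    { toFun := fun x => (⟨x.1.1, congrArg Prod.fst x.2⟩, ⟨x.1.2, congrArg Prod.snd x.2⟩)
      invFun := fun y => ⟨(y.1.1, y.2.1), Prod.ext y.1.2 y.2.2⟩
      left_inv := fun x => rfl
      right_inv := fun y => rfl }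

/-- rank formula: `r_G * m = r_D + m - 1` in the form `r_G * |G| = r_D * |D| + (|G| - |D|)`. -/
theorem derange_rank {G Ω : Type*} [Group G] [Finite G] [MulAction G Ω] [Finite Ω] [Nonempty Ω]
    (htrans : IsPretransitive G Ω) :
    Nat.card (orbitRel.Quotient G (Ω × Ω)) * Nat.card G =
      Nat.card (orbitRel.Quotient (derangeSubgroup G Ω) (Ω × Ω)) * Nat.card (derangeSubgroup G Ω) +
        (Nat.card G - Nat.card (derangeSubgroup G Ω)) := by
  have : Fintype G := Fintype.ofFinite G
  obtain ⟨-, h2⟩ := derange_main htrans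
  have hsplit := burnside_split (X := Ω × Ω) (derangeSubgroup G Ω)
  rw [hsplit]
  congr 1
  rw [← card_compl_subgroup]
  have : ∀ g : {g : G // g ∉ derangeSubgroup G Ω}, Nat.card (fixedBy (Ω × Ω) (g : G)) = 1 := by
    intro g
    rw [card_fixedBy_prod, h2 g.1 g.2, one_pow]
  simp [this]

end Cfsg.Agent.Lib.Helper6
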