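import Mathlib
import Cfsg.Agent.Lib.Helper6.Derange

set_option autoImplicit false

namespace Cfsg.Agent.Lib.Helper6

open MulAction

theorem derange_normal (G Ω : Type*) [Group G] [MulAction G Ω] : (derangeSubgroup G Ω).Normal := by
  constructor
  intro x hx g
  unfold derangeSubgroup at hx ⊢
  induction hx using Subgroup.closure_induction with
  | mem y hy =>
    apply Subgroup.subset_closure
    intro ω h
    apply hy (g⁻¹ • ω)
    have : g⁻¹ • (g * y * g⁻¹) • ω = g⁻¹ • ω := by rw [h]
    rw [← mul_smul] at this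
    rw [← mul_smul]
    have h2 : g⁻¹ * (g * y * g⁻¹) = y * g⁻¹ := by group
    rw [h2] at this
    exact this
  | one => simp
  | mul y z _ _ hy hz =>
    have : g * (y * z) * g⁻¹ = (g * y * g⁻¹) * (g * z * g⁻¹) := by group
    rw [this]
    exact Subgroup.mul_mem _ hy hz
  | inv y _ hy =>
    have : g * y⁻¹ * g⁻¹ = (g * y * g⁻¹)⁻¹ := by group
    rw [this]
    exact Subgroup.inv_mem _ hy

theorem derange_trans {G Ω : Type*} [Group G] [Finite G] [MulAction G Ω] [Finite Ω] [Nonempty Ω]
    (htrans : IsPretransitive G Ω) : IsPretransitive (derangeSubgroup G Ω) Ω := by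
  rw [pretransitive_iff_subsingleton_quotient]
  exact (Nat.card_eq_one_iff_unique.mp (derange_main htrans).1).1

theorem two_fixed_mem {G Ω : Type*} [Group G] [Finite G] [MulAction G Ω] [Finite Ω]
    (htrans : IsPretransitive G Ω) {a b : Ω} (hab : a ≠ b) {g : G} (ha : g • a = a) (hb : g • b = b) :
    g ∈ derangeSubgroup G Ω := by
  have : Nonempty Ω := ⟨a⟩
  by_contra hcon
  have h1 := (derange_main htrans).2 g hcon
  have hs := (Nat.card_eq_one_iff_unique.mp h1).1
  have : (⟨a, ha⟩ : fixedBy Ω g) = ⟨b, hb⟩ := Subsingleton.elim _ _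
  exact hab (congrArg Subtype.val this)

theorem derange_sup_stab {G Ω : Type*} [Group G] [Finite G] [MulAction G Ω] [Finite Ω]
    (htrans : IsPretransitive G Ω) (a : Ω) : derangeSubgroup G Ω ⊔ stabilizer G a = ⊤ := by
  have : Nonempty Ω := ⟨a⟩
  have := derange_trans htrans
  rw [eq_top_iff]
  intro g _
  obtain ⟨d, hd⟩ := exists_smul_eq (derangeSubgroup G Ω) a (g • a)
  have h1 : (d : G)⁻¹ * g ∈ stabilizer G a := by
    rw [mem_stabilizer_iff, mul_smul, ← hd]
    change (d : G)⁻¹ • ((d : G) • a) = a
    rw [inv_smul_smul]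
  have : g = (d : G) * ((d : G)⁻¹ * g) := by group
  rw [this]
  exact Subgroup.mul_mem _ (Subgroup.mem_sup_left d.2) (Subgroup.mem_sup_right h1)

theorem derange_relIndex_stab {G Ω : Type*} [Group G] [Finite G] [MulAction G Ω] [Finite Ω]
    (htrans : IsPretransitive G Ω) (a : Ω) :
    (derangeSubgroup G Ω).relIndex (stabilizer G a) = (derangeSubgroup G Ω).index := by
  have := derange_normal G Ω
  rw [← Subgroup.relIndex_sup_left, derange_sup_stab htrans a, Subgroup.relIndex_top_right]

/-- the key factorisation of orbit lengths of a point stabilizer -/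
theorem orbit_stab_factor {G Ω : Type*} [Group G] [Finite G] [MulAction G Ω] [Finite Ω]
    (htrans : IsPretransitive G Ω) {a b : Ω} (hab : a ≠ b) :
    (stabilizer G a ⊓ stabilizer G b).relIndex (derangeSubgroup G Ω ⊓ stabilizer G a) *
      (derangeSubgroup G Ω).index = (orbit (stabilizer G a) b).ncard := by
  have hle1 : stabilizer G a ⊓ stabilizer G b ≤ derangeSubgroup G Ω ⊓ stabilizer G a := by
    intro g hg
    exact ⟨two_fixed_mem htrans hab hg.1 hg.2, hg.1⟩
  have hle2 : derangeSubgroup G Ω ⊓ stabilizer G a ≤ stabilizer G a := inf_le_right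
  have h1 := Subgroup.relIndex_mul_relIndex _ _ _ hle1 hle2
  rw [Subgroup.inf_relIndex_right, derange_relIndex_stab htrans a, Subgroup.inf_relIndex_left] at h1
  rw [h1, ← index_stabilizer]
  have : stabilizer (stabilizer G a) b = (stabilizer G b).subgroupOf (stabilizer G a) := by
    ext x; rfl
  rw [this]
  rfl

/-- a group acting on a finite set with a fixed point `a`, all other orbits of length divisible
by `m`: then `m` divides `|X| - 1`. -/
theorem dvd_card_sub_one {H X : Type*} [Group H] [MulAction H X] [Finite X] (a : X)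
    (ha : ∀ h : H, h • a = a) (m : ℕ) (hm : ∀ b : X, b ≠ a → m ∣ (orbit H b).ncard) :
    m ∣ Nat.card X - 1 := by
  classical
  have : Fintype (orbitRel.Quotient H X) := Fintype.ofFinite _
  have h1 : Nat.card X = ∑ q : orbitRel.Quotient H X, Nat.card (orbit H q.out) := by
    rw [← Nat.card_sigma]
    exact Nat.card_congr (selfEquivSigmaOrbits H X)
  have hq0 : (Quotient.mk'' a : orbitRel.Quotient H X).out = a := by
    have : (Quotient.mk'' a : orbitRel.Quotient H X).out ∈ orbit H a := by
      have := Quotient.out_eq' (Quotient.mk'' a : orbitRel.Quotient H X)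
      have := Quotient.exact' this
      exact this
    obtain ⟨h, hh⟩ := this
    rw [← hh]
    exact ha h
  have horb : orbit H a = {a} := by
    ext x
    constructor
    · rintro ⟨h, rfl⟩
      exact ha h
    · intro hx
      rw [Set.mem_singleton_iff] at hx
      rw [hx]; exact mem_orbit_self a
  rw [← Finset.add_sum_erase _ _ (Finset.mem_univ (Quotient.mk'' a : orbitRel.Quotient H X))] at h1
  rw [hq0, horb] at h1
  have hone : Nat.card (({a} : Set X)) = 1 := by simp
  rw [hone] at h1
  have h2 : m ∣ ∑ q ∈ Finset.univ.erase (Quotient.mk'' a : orbitRel.Quotient H X),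
      Nat.card (orbit H q.out) := by
    apply Finset.dvd_sum
    intro q hq
    have hne : q.out ≠ a := by
      intro h
      apply (Finset.mem_erase.mp hq).1
      rw [← Quotient.out_eq' q, h]
    have := hm _ hne
    rwa [← Nat.card_coe_set_eq] at this
  rw [h1, Nat.add_sub_cancel_left]
  exact h2

end Cfsg.Agent.Lib.Helper6
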