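import Mathlib
import Cfsg.Agent.Lib.Helper6.Derange2

set_option autoImplicit false

namespace Cfsg.Agent.Lib.Helper6

open MulAction

theorem derange_index_dvd {G Ω : Type*} [Group G] [Finite G] [MulAction G Ω] [Finite Ω]
    (htrans : IsPretransitive G Ω) (a : Ω) : (derangeSubgroup G Ω).index ∣ Nat.card Ω - 1 := by
  have key : ∀ b : Ω, b ≠ a → (derangeSubgroup G Ω).index ∣ (orbit (stabilizer G a) b).ncard :=
    fun b hb => Dvd.intro_left _ (orbit_stab_factor htrans hb.symm)
  exact dvd_card_sub_one (H := stabilizer G a) a (fun h => h.2) _ key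

theorem derange_index_eq {G Ω : Type*} [Group G] [Finite G] [MulAction G Ω] [FaithfulSMul G Ω]
    [Finite Ω] (htrans : IsPretransitive G Ω) (hΩ : 2 ≤ Nat.card Ω)
    (hm : (derangeSubgroup G Ω).index = Nat.card Ω - 1) : IsPrimePow (Nat.card Ω) := by
  classical
  have hnt : Nontrivial Ω := by
    rw [← Finite.one_lt_card_iff_nontrivial]; omega
  obtain ⟨a⟩ : Nonempty Ω := inferInstance
  have hDn : (derangeSubgroup G Ω).Normal := derange_normal G Ω
  have hsub : ∀ b : Ω, b ≠ a → orbit (stabilizer G a) b ⊆ ({a}ᶜ : Set Ω) := by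
    intro b hb x hx
    obtain ⟨h, rfl⟩ := hx
    intro hxa
    apply hb
    have h1 : (h : G) • b = a := hxa
    have h2 : (h : G) • a = a := h.2
    exact MulAction.injective (h : G) (h1.trans h2.symm)
  have hcompl : ({a}ᶜ : Set Ω).ncard = Nat.card Ω - 1 := by
    rw [Set.ncard_compl, Set.ncard_singleton]
  have hfact : ∀ b : Ω, b ≠ a →
      (stabilizer G a ⊓ stabilizer G b).relIndex (derangeSubgroup G Ω ⊓ stabilizer G a) = 1 ∧
      orbit (stabilizer G a) b = ({a}ᶜ : Set Ω) := by
    intro b hb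
    have h1 := orbit_stab_factor htrans hb.symm
    have h2 : (orbit (stabilizer G a) b).ncard ≤ Nat.card Ω - 1 := by
      rw [← hcompl]; exact Set.ncard_le_ncard (hsub b hb) (Set.toFinite _)
    have h3 : 0 < (orbit (stabilizer G a) b).ncard := by
      rw [Set.ncard_pos]; exact ⟨b, mem_orbit_self b⟩
    rw [hm] at h1
    set k := (stabilizer G a ⊓ stabilizer G b).relIndex (derangeSubgroup G Ω ⊓ stabilizer G a)
    have hk : k = 1 := by
      rcases Nat.lt_or_ge k 2 with h | h
      · interval_cases k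
        · simp at h1; omega
        · rfl
      · exfalso
        have : 2 * (Nat.card Ω - 1) ≤ k * (Nat.card Ω - 1) := Nat.mul_le_mul_right _ h
        omega
    refine ⟨hk, ?_⟩
    apply Set.eq_of_subset_of_ncard_le (hsub b hb) _ (Set.toFinite _)
    rw [hcompl, ← h1, hk, one_mul]
  have hbot : ∀ g : G, g ∈ derangeSubgroup G Ω → g • a = a → g = 1 := by
    intro g hgD hga
    apply FaithfulSMul.eq_of_smul_eq_smul (α := Ω)
    intro b
    rw [one_smul]
    by_cases hb : b = a
    · rw [hb]; exact hga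
    · have := (Subgroup.relIndex_eq_one.mp (hfact b hb).1) ⟨hgD, hga⟩
      exact this.2
  have htr : ∀ b c : Ω, b ≠ a → c ≠ a → ∃ h : G, h • a = a ∧ h • b = c := by
    intro b c hb hc
    have : c ∈ orbit (stabilizer G a) b := by rw [(hfact b hb).2]; exact hc
    obtain ⟨h, hh⟩ := this
    exact ⟨h, h.2, hh⟩
  obtain ⟨b, hb⟩ := exists_ne a
  have hDt := derange_trans htrans
  obtain ⟨d, hd⟩ := exists_smul_eq (derangeSubgroup G Ω) a b
  have hd1 : (d : G) ≠ 1 := by
    intro h
    apply hb
    rw [← hd]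
    change (d : G) • a = a
    rw [h, one_smul]
  have hord : orderOf (d : G) ≠ 1 := by rwa [Ne, orderOf_eq_one_iff]
  set p := (orderOf (d : G)).minFac with hp
  have hpp : p.Prime := Nat.minFac_prime hord
  have : Fact p.Prime := ⟨hpp⟩
  set x : G := (d : G) ^ (orderOf (d : G) / p) with hx
  have hxo : orderOf x = p := orderOf_pow_orderOf_div (orderOf_pos _).ne' (Nat.minFac_dvd _)
  have hxD : x ∈ derangeSubgroup G Ω := Subgroup.pow_mem _ d.2 _
  have hx1 : x ≠ 1 := by
    intro h
    rw [h, orderOf_one] at hxo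
    exact hpp.one_lt.ne hxo
  have hxa : x • a ≠ a := fun h => hx1 (hbot x hxD h)
  have hall : ∀ y ∈ derangeSubgroup G Ω, y ≠ 1 → orderOf y = p := by
    intro y hyD hy1
    have hya : y • a ≠ a := fun h => hy1 (hbot y hyD h)
    obtain ⟨h, hha, hh⟩ := htr (x • a) (y • a) hxa hya
    have hconj : y⁻¹ * (h * x * h⁻¹) = 1 := by
      apply hbot
      · exact Subgroup.mul_mem _ (Subgroup.inv_mem _ hyD) (hDn.conj_mem x hxD h)
      · have h3 : h⁻¹ • a = a := by rw [inv_smul_eq_iff, hha]
        rw [mul_smul, mul_smul, mul_smul, h3, hh, inv_smul_smul]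
    have : y = h * x * h⁻¹ := by
      rw [inv_mul_eq_one] at hconj; exact hconj
    rw [this, ← hxo]
    exact (MulAut.conj h).orderOf_eq x
  have hpg : IsPGroup p (derangeSubgroup G Ω) := by
    intro g
    by_cases hg : (g : G) = 1
    · refine ⟨0, ?_⟩
      ext; simp [hg]
    · refine ⟨1, ?_⟩
      ext
      have := hall g g.2 hg
      simp [← this, pow_orderOf_eq_one]
  obtain ⟨k, hk⟩ := (IsPGroup.iff_card).mp hpg
  have hcard : Nat.card Ω ∣ p ^ k := by
    rw [← hk]
    have h1 : (orbit (derangeSubgroup G Ω) a) = Set.univ := by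
      ext c; simp only [Set.mem_univ, iff_true]
      obtain ⟨e, he⟩ := exists_smul_eq (derangeSubgroup G Ω) a c
      exact ⟨e, he⟩
    have h2 := index_stabilizer (derangeSubgroup G Ω) a
    rw [h1, Set.ncard_univ] at h2
    rw [← h2]
    exact Subgroup.index_dvd_card _
  obtain ⟨j, _, hj⟩ := (Nat.dvd_prime_pow hpp).mp hcard
  rw [hj]
  have hj0 : j ≠ 0 := by
    rintro rfl
    rw [pow_zero] at hj; omega
  exact (Nat.Prime.isPrimePow hpp).pow hj0

end Cfsg.Agent.Lib.Helper6
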