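import Mathlib
import Cfsg.Agent.Lib.Helper6.Derange3

set_option autoImplicit false

namespace Cfsg.Agent.Lib.Helper6

open MulAction

/-- set version of `dvd_card_sub_one` -/
theorem dvd_ncard_sub_one {H X : Type*} [Group H] [MulAction H X] (S : Set X) [Finite S]
    (hS : ∀ h : H, ∀ x ∈ S, h • x ∈ S) (a : X) (haS : a ∈ S)
    (ha : ∀ h : H, h • a = a) (m : ℕ) (hm : ∀ b ∈ S, b ≠ a → m ∣ (orbit H b).ncard) :
    m ∣ S.ncard - 1 := by
  let sub : SubMulAction H X := ⟨S, fun h x hx => hS h _ hx⟩
  have hfin : Finite sub := (inferInstance : Finite S)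
  have key := dvd_card_sub_one (H := H) (X := sub) ⟨a, haS⟩ (fun h => Subtype.ext (ha h)) m ?_
  · have : Nat.card sub = S.ncard := (Nat.card_coe_set_eq S)
    rwa [this] at key
  · intro b hb
    have hne : (b : X) ≠ a := fun h => hb (Subtype.ext h)
    have h1 := hm b b.2 hne
    have h2 : (orbit H (b : X)).ncard = (orbit H b).ncard := by
      rw [← SubMulAction.val_image_orbit, Set.ncard_image_of_injective _ Subtype.val_injective]
    rwa [h2] at h1

/-- The derangement subgroup has index dividing `[G : K] - 1` for any subgroup `K` containing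
a point stabilizer. -/
theorem derange_index_dvd_index {G Ω : Type*} [Group G] [Finite G] [MulAction G Ω] [Finite Ω]
    (htrans : IsPretransitive G Ω) (a : Ω) (K : Subgroup G) (hK : stabilizer G a ≤ K) :
    (derangeSubgroup G Ω).index ∣ K.index - 1 := by
  have h1 := derange_index_dvd (G := G) (Ω := G ⧸ K) inferInstance (QuotientGroup.mk 1)
  have h2 : Nat.card (G ⧸ K) = K.index := rfl
  rw [h2] at h1
  refine dvd_trans (Subgroup.index_dvd_of_le ?_) h1
  unfold derangeSubgroup
  apply Subgroup.closure_mono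
  intro g hg ω hω
  obtain ⟨x, hx⟩ := exists_smul_eq G a ω
  apply hg (QuotientGroup.mk x)
  have : x⁻¹ * g * x ∈ stabilizer G a := by
    rw [mem_stabilizer_iff, mul_smul, mul_smul, hx, hω, ← hx, inv_smul_smul]
  have h3 := hK this
  rw [MulAction.Quotient.smul_mk, QuotientGroup.eq]
  have e : (g • x)⁻¹ * x = (x⁻¹ * g * x)⁻¹ := by
    rw [smul_eq_mul]; group
  rw [e]
  exact K.inv_mem h3

/-- The derangement subgroup has index dividing `[K : G_a] - 1` for any subgroup `K` containing
the point stabilizer `G_a`. -/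
theorem derange_index_dvd_relIndex {G Ω : Type*} [Group G] [Finite G] [MulAction G Ω] [Finite Ω]
    (htrans : IsPretransitive G Ω) (a : Ω) (K : Subgroup G) (hK : stabilizer G a ≤ K) :
    (derangeSubgroup G Ω).index ∣ (stabilizer G a).relIndex K - 1 := by
  have hB : (orbit K a).ncard = (stabilizer G a).relIndex K := by
    rw [← index_stabilizer]
    rfl
  rw [← hB]
  apply dvd_ncard_sub_one (H := stabilizer G a) (orbit K a) ?_ a (mem_orbit_self a)
    (fun h => h.2) _ ?_
  · rintro h _ ⟨k, rfl⟩
    refine ⟨⟨h, hK h.2⟩ * k, ?_⟩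
    change ((⟨(h : G), hK h.2⟩ : K) * k) • a = (h : G) • ((k : G) • a)
    rw [mul_smul]; rfl
  · intro b _ hb
    exact Dvd.intro_left _ (orbit_stab_factor htrans hb.symm)

end Cfsg.Agent.Lib.Helper6
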