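import Mathlib
import Cfsg.Agent.Lib.Helper6.Derange

set_option autoImplicit false

namespace Cfsg.Agent.Lib.Helper6

open MulAction
open scoped Classical

/-- indicator: `g` fixes the two distinct points `α`, `β` -/
noncomputable def ind2 {G Ω : Type*} [Group G] [MulAction G Ω] (g : G) (α β : Ω) : ℕ :=
  if α ≠ β ∧ g • α = α ∧ g • β = β then 1 else 0

/-- indicator: `g` is a derangement mapping `α` to `β` -/
noncomputable def ind1 {G Ω : Type*} [Group G] [MulAction G Ω] (g : G) (α β : Ω) : ℕ :=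
  if (∀ ω : Ω, g • ω ≠ ω) ∧ g • α = β then 1 else 0

theorem sum_ind1 {G Ω : Type*} [Group G] [MulAction G Ω] [Fintype Ω] (g : G) :
    ∑ α : Ω, ∑ β : Ω, ind1 g α β = if (∀ ω : Ω, g • ω ≠ ω) then Fintype.card Ω else 0 := by
  by_cases h : ∀ ω : Ω, g • ω ≠ ω
  · simp [ind1, h]
  · simp [ind1, h]

theorem sum_ind2 {G Ω : Type*} [Group G] [MulAction G Ω] [Fintype Ω] (g : G) :
    ∑ α : Ω, ∑ β : Ω, ind2 g α β =
      Nat.card (fixedBy Ω g) * (Nat.card (fixedBy Ω g) - 1) := by
  have hcard : Nat.card (fixedBy Ω g) = (Finset.univ.filter (fun ω : Ω => g • ω = ω)).card := by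
    rw [Nat.card_eq_fintype_card, Fintype.card_subtype]
    rfl
  have inner : ∀ α : Ω, ∑ β : Ω, ind2 g α β =
      if g • α = α then Nat.card (fixedBy Ω g) - 1 else 0 := by
    intro α
    by_cases hα : g • α = α
    · rw [if_pos hα, hcard]
      have : ∀ β : Ω, ind2 g α β = if β ∈ (Finset.univ.filter (fun ω : Ω => g • ω = ω)).erase α
          then 1 else 0 := by
        intro β
        unfold ind2
        congr 1
        simp only [Finset.mem_erase, Finset.mem_filter, Finset.mem_univ, true_and, eq_iff_iff]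
        constructor
        · rintro ⟨h1, _, h3⟩; exact ⟨fun h => h1 h.symm, h3⟩
        · rintro ⟨h1, h3⟩; exact ⟨fun h => h1 h.symm, hα, h3⟩
      simp only [this]
      rw [Finset.sum_boole]
      simp only [Finset.filter_univ_mem, Nat.cast_id]
      rw [Finset.card_erase_of_mem]
      simp [hα]
    · rw [if_neg hα]
      apply Finset.sum_eq_zero
      intro β _
      unfold ind2
      rw [if_neg]
      rintro ⟨_, h, _⟩
      exact hα h
  simp only [inner]
  rw [Finset.sum_ite, Finset.sum_const_zero, add_zero, Finset.sum_const, smul_eq_mul, ← hcard]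

theorem sum_ind1_le {G Ω : Type*} [Group G] [Fintype G] [MulAction G Ω]
    (hinv : ∀ g : G, (∀ ω : Ω, g • ω ≠ ω) → g * g = 1) (α β : Ω) :
    ∑ g : G, ind1 g α β ≤ ∑ g : G, ind2 g α β := by
  unfold ind1 ind2
  rw [Finset.sum_boole, Finset.sum_boole]
  simp only [Nat.cast_id]
  by_cases hne : (Finset.univ.filter (fun g : G => (∀ ω : Ω, g • ω ≠ ω) ∧ g • α = β)).Nonempty
  · obtain ⟨s, hs⟩ := hne
    simp only [Finset.mem_filter, Finset.mem_univ, true_and] at hs
    obtain ⟨hsX, hsα⟩ := hs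
    have hs2 := hinv s hsX
    have hsβ : s • β = α := by
      rw [← hsα, ← mul_smul, hs2, one_smul]
    apply Finset.card_le_card_of_injOn (fun g => s⁻¹ * g)
    · intro g hg
      simp only [Finset.coe_filter, Finset.mem_univ, true_and, Set.mem_ofPred_eq] at hg ⊢
      obtain ⟨hgX, hgα⟩ := hg
      have hg2 := hinv g hgX
      have hgβ : g • β = α := by
        rw [← hgα, ← mul_smul, hg2, one_smul]
      refine ⟨?_, ?_, ?_⟩
      · intro h
        apply hgX α
        rw [hgα, h]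
      · rw [mul_smul, hgα, inv_smul_eq_iff, hsα]
      · rw [mul_smul, hgβ, inv_smul_eq_iff, hsβ]
    · intro g₁ _ g₂ _ h
      exact mul_left_cancel h
  · rw [Finset.not_nonempty_iff_eq_empty] at hne
    rw [hne]
    simp

/-- the main counting inequality -/
theorem card_mul_derange_le {G Ω : Type*} [Group G] [Fintype G] [MulAction G Ω] [Fintype Ω]
    (hinv : ∀ g : G, (∀ ω : Ω, g • ω ≠ ω) → g * g = 1) :
    ∑ g : G, (if (∀ ω : Ω, g • ω ≠ ω) then Fintype.card Ω else 0) ≤
      ∑ g : G, Nat.card (fixedBy Ω g) * (Nat.card (fixedBy Ω g) - 1) := by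
  calc ∑ g : G, (if (∀ ω : Ω, g • ω ≠ ω) then Fintype.card Ω else 0)
      = ∑ g : G, ∑ α : Ω, ∑ β : Ω, ind1 g α β := by
        apply Finset.sum_congr rfl; intro g _; rw [sum_ind1]
    _ = ∑ α : Ω, ∑ g : G, ∑ β : Ω, ind1 g α β := Finset.sum_comm
    _ = ∑ α : Ω, ∑ β : Ω, ∑ g : G, ind1 g α β := by
        apply Finset.sum_congr rfl; intro α _; exact Finset.sum_comm
    _ ≤ ∑ α : Ω, ∑ β : Ω, ∑ g : G, ind2 g α β := by
        apply Finset.sum_le_sum; intro α _
        apply Finset.sum_le_sum; intro β _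
        exact sum_ind1_le hinv α β
    _ = ∑ α : Ω, ∑ g : G, ∑ β : Ω, ind2 g α β := by
        apply Finset.sum_congr rfl; intro α _; exact Finset.sum_comm
    _ = ∑ g : G, ∑ α : Ω, ∑ β : Ω, ind2 g α β := Finset.sum_comm
    _ = _ := by
        apply Finset.sum_congr rfl; intro g _; rw [sum_ind2]

theorem fixedBy_eq_zero_of_derange {G Ω : Type*} [Group G] [MulAction G Ω] (g : G)
    (hg : ∀ ω : Ω, g • ω ≠ ω) : Nat.card (fixedBy Ω g) = 0 := by
  have : IsEmpty (fixedBy Ω g) := ⟨fun ω => hg ω.1 ω.2⟩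
  exact Nat.card_of_isEmpty

/-- If all derangements of a transitive group are involutions then every element moving some
point has at most one fixed point. -/
theorem fixedBy_le_one_of_derange_inv {G Ω : Type*} [Group G] [Finite G] [MulAction G Ω]
    [Finite Ω] (htrans : IsPretransitive G Ω)
    (hinv : ∀ g : G, (∀ ω : Ω, g • ω ≠ ω) → g * g = 1) (g₀ : G) (hg₀ : ∃ ω : Ω, g₀ • ω ≠ ω) :
    Nat.card (fixedBy Ω g₀) ≤ 1 := by
  have : Fintype G := Fintype.ofFinite G
  have : Fintype Ω := Fintype.ofFinite Ω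
  obtain ⟨ω₀, hω₀⟩ := hg₀
  have : Nonempty Ω := ⟨ω₀⟩
  set n := Fintype.card Ω with hn
  set f : G → ℕ := fun g => Nat.card (fixedBy Ω g) with hf
  set x : G → ℕ := fun g => if (∀ ω : Ω, g • ω ≠ ω) then n else 0 with hx
  have hS2 : ∑ g : G, x g ≤ ∑ g : G, f g * (f g - 1) := card_mul_derange_le (Ω := Ω) hinv
  have hS1 : ∑ g : G, f g = Nat.card G := by
    have h1 := burnside_nat G Ω
    have hG1 : Nat.card (orbitRel.Quotient G Ω) = 1 := by
      rw [Nat.card_eq_one_iff_unique]
      exact ⟨(pretransitive_iff_subsingleton_quotient G Ω).mp htrans,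
        ⟨Quotient.mk'' (Classical.arbitrary Ω)⟩⟩
    rw [hG1, one_mul] at h1
    exact h1
  have hfle : ∀ g, f g ≤ n := fun g => by
    rw [hn, ← Nat.card_eq_fintype_card]; exact Finite.card_subtype_le _
  have hterm : ∀ g : G, f g * (f g - 1) + n ≤ n * f g + x g := by
    intro g
    by_cases hgX : ∀ ω : Ω, g • ω ≠ ω
    · have h0 : f g = 0 := fixedBy_eq_zero_of_derange g hgX
      simp [hx, hgX, h0]
    · have h1 : 1 ≤ f g := by
        push Not at hgX
        obtain ⟨ω, hω⟩ := hgX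
        have : Nonempty (fixedBy Ω g) := ⟨⟨ω, hω⟩⟩
        exact Finite.card_pos
      simp only [hx, if_neg hgX, add_zero]
      obtain ⟨k, hk⟩ : ∃ k, f g = k + 1 := ⟨f g - 1, by omega⟩
      obtain ⟨j, hj⟩ : ∃ j, n = k + 1 + j := ⟨n - (k + 1), by have := hfle g; omega⟩
      rw [hk, hj]
      simp only [Nat.add_sub_cancel]
      nlinarith
  have hsum : ∑ g : G, (f g * (f g - 1) + n) ≤ ∑ g : G, (n * f g + x g) :=
    Finset.sum_le_sum (fun g _ => hterm g)
  have hEq : ∑ g : G, (f g * (f g - 1) + n) = ∑ g : G, (n * f g + x g) := by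
    apply le_antisymm hsum
    rw [Finset.sum_add_distrib, Finset.sum_add_distrib, ← Finset.mul_sum, hS1]
    simp only [Finset.sum_const, Finset.card_univ, smul_eq_mul]
    rw [← Nat.card_eq_fintype_card (α := G)]
    nlinarith [hS2]
  have hg := (Finset.sum_eq_sum_iff_of_le (fun g _ => hterm g)).mp hEq g₀ (Finset.mem_univ g₀)
  by_cases hgX : ∀ ω : Ω, g₀ • ω ≠ ω
  · have h0 : f g₀ = 0 := fixedBy_eq_zero_of_derange g₀ hgX
    change f g₀ ≤ 1
    omega
  · simp only [hx, if_neg hgX, add_zero] at hg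
    have hlt : f g₀ < n := by
      change Nat.card (fixedBy Ω g₀) < Fintype.card Ω
      rw [Nat.card_eq_fintype_card]
      exact Fintype.card_subtype_lt (p := fun ω => ω ∈ fixedBy Ω g₀) (x := ω₀) hω₀
    change f g₀ ≤ 1
    by_contra hcon
    obtain ⟨k, hk⟩ : ∃ k, f g₀ = k + 2 := ⟨f g₀ - 2, by omega⟩
    obtain ⟨j, hj⟩ : ∃ j, n = k + 3 + j := ⟨n - (k + 3), by omega⟩
    rw [hk, hj] at hg
    have e : k + 2 - 1 = k + 1 := by omega
    rw [e] at hg
    nlinarith

end Cfsg.Agent.Lib.Helper6
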