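import Mathlib

set_option autoImplicit false

namespace Cfsg.Agent.Lib.Helper6

/-- the four-group generated by two commuting involutions -/
def fourGroup {G : Type*} [Group G] (a b : G) : Subgroup G :=
  Subgroup.zpowers a ⊔ Subgroup.zpowers b

section

variable {G : Type*} [Group G] (a b : G) (ha : orderOf a = 2) (hb : orderOf b = 2)
  (hab : a * b = b * a) (hne : a ≠ b)

include ha in
theorem four_sq_a : a ^ 2 = 1 := by rw [← ha]; exact pow_orderOf_eq_one _

include ha in
theorem four_zpow_a (i : ℤ) : a ^ i = 1 ∨ a ^ i = a := by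
  have h2 := four_sq_a a ha
  rcases Int.even_or_odd i with ⟨m, rfl⟩ | ⟨m, rfl⟩
  · left; rw [← two_mul, zpow_mul, zpow_ofNat, h2, one_zpow]
  · right; rw [zpow_add, zpow_mul, zpow_ofNat, h2, one_zpow, one_mul, zpow_one]

include ha in
theorem four_a_ne_one : a ≠ 1 := by
  intro h; rw [h, orderOf_one] at ha; omega

include ha hb hne in
theorem four_disjoint : Subgroup.zpowers a ⊓ Subgroup.zpowers b = ⊥ := by
  rw [eq_bot_iff]
  intro g hg
  obtain ⟨h1, h2⟩ := Subgroup.mem_inf.1 hg
  obtain ⟨i, rfl⟩ := Subgroup.mem_zpowers_iff.1 h1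
  obtain ⟨j, hj⟩ := Subgroup.mem_zpowers_iff.1 h2
  rw [Subgroup.mem_bot]
  rcases four_zpow_a a ha i with h | h
  · exact h
  · exfalso
    rw [h] at hj
    rcases four_zpow_a b hb j with h' | h'
    · rw [h'] at hj; exact four_a_ne_one a ha hj.symm
    · rw [h'] at hj; exact hne hj.symm

/-- the product map -/
noncomputable def fourHom (hab : a * b = b * a) : Subgroup.zpowers a × Subgroup.zpowers b →* G :=
  MonoidHom.noncommCoprod (Subgroup.zpowers a).subtype (Subgroup.zpowers b).subtype (by
    rintro ⟨u, hu⟩ ⟨v, hv⟩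
    obtain ⟨i, rfl⟩ := Subgroup.mem_zpowers_iff.1 hu
    obtain ⟨j, rfl⟩ := Subgroup.mem_zpowers_iff.1 hv
    have hc : Commute a b := hab
    exact (hc.zpow_left i).zpow_right j)

theorem fourGroup_eq_range : fourGroup a b = (fourHom a b hab).range := by
  unfold fourHom fourGroup
  rw [MonoidHom.noncommCoprod_range, Subgroup.range_subtype, Subgroup.range_subtype]

include ha hb hne in
theorem fourHom_injective : Function.Injective (fourHom a b hab) := by
  unfold fourHom
  rw [MonoidHom.noncommCoprod_injective]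
  refine ⟨Subtype.val_injective, Subtype.val_injective, ?_⟩
  rw [Subgroup.range_subtype, Subgroup.range_subtype, disjoint_iff]
  exact four_disjoint a b ha hb hne

include ha hb hab hne in
theorem fourGroup_card : Nat.card (fourGroup a b) = 4 := by
  rw [fourGroup_eq_range a b hab,
    ← Nat.card_congr (MonoidHom.ofInjective (fourHom_injective a b ha hb hab hne)).toEquiv,
    Nat.card_prod, Nat.card_zpowers, Nat.card_zpowers, ha, hb]

include hab in
theorem mem_fourGroup (g : G) : g ∈ fourGroup a b ↔ ∃ i j : ℤ, g = a ^ i * b ^ j := by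
  rw [fourGroup_eq_range a b hab, MonoidHom.mem_range]
  constructor
  · rintro ⟨⟨⟨u, hu⟩, ⟨v, hv⟩⟩, rfl⟩
    obtain ⟨i, rfl⟩ := Subgroup.mem_zpowers_iff.1 hu
    obtain ⟨j, rfl⟩ := Subgroup.mem_zpowers_iff.1 hv
    exact ⟨i, j, rfl⟩
  · rintro ⟨i, j, rfl⟩
    exact ⟨(⟨a ^ i, Subgroup.zpow_mem _ (Subgroup.mem_zpowers _) _⟩,
      ⟨b ^ j, Subgroup.zpow_mem _ (Subgroup.mem_zpowers _) _⟩), rfl⟩

include ha hb hab in
theorem mem_fourGroup' (g : G) :
    g ∈ fourGroup a b ↔ g = 1 ∨ g = a ∨ g = b ∨ g = a * b := by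
  rw [mem_fourGroup a b hab]
  constructor
  · rintro ⟨i, j, rfl⟩
    rcases four_zpow_a a ha i with h | h <;> rcases four_zpow_a b hb j with h' | h' <;>
      rw [h, h']
    · left; rw [mul_one]
    · right; right; left; rw [one_mul]
    · right; left; rw [mul_one]
    · right; right; right; rfl
  · rintro (rfl | rfl | rfl | rfl)
    · exact ⟨0, 0, by simp⟩
    · exact ⟨1, 0, by simp⟩
    · exact ⟨0, 1, by simp⟩
    · exact ⟨1, 1, by simp⟩

theorem left_mem_fourGroup : a ∈ fourGroup a b :=
  Subgroup.mem_sup_left (Subgroup.mem_zpowers _)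

theorem right_mem_fourGroup : b ∈ fourGroup a b :=
  Subgroup.mem_sup_right (Subgroup.mem_zpowers _)

include ha hb hab in
theorem fourGroup_sq (g : G) (hg : g ∈ fourGroup a b) : g ^ 2 = 1 := by
  have h1 := four_sq_a a ha
  have h2 := four_sq_a b hb
  have hc : Commute a b := hab
  rcases (mem_fourGroup' a b ha hb hab g).1 hg with rfl | rfl | rfl | rfl
  · simp
  · exact h1
  · exact h2
  · rw [hc.mul_pow, h1, h2, one_mul]

include ha hb hab hne in
theorem fourGroup_isKleinFour : IsKleinFour (fourGroup a b) := by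
  have hcard := fourGroup_card a b ha hb hab hne
  refine ⟨hcard, ?_⟩
  haveI : Nontrivial (fourGroup a b) := by
    haveI : Finite (fourGroup a b) := Nat.finite_of_card_ne_zero (by rw [hcard]; norm_num)
    rw [← Finite.one_lt_card_iff_nontrivial, hcard]; norm_num
  rw [Monoid.exponent_eq_prime_iff Nat.prime_two]
  intro g hg
  apply orderOf_eq_prime
  · apply Subtype.ext
    simpa using fourGroup_sq a b ha hb hab g g.2
  · exact hg

theorem map_conj_fourGroup (s : G) :
    (fourGroup a b).map (MulAut.conj s).toMonoidHom = fourGroup (s * a * s⁻¹) (s * b * s⁻¹) := by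
  unfold fourGroup
  rw [Subgroup.map_sup, MonoidHom.map_zpowers, MonoidHom.map_zpowers]
  rfl

/-- a subgroup of order four containing two distinct commuting involutions -/
theorem eq_fourGroup_of_mem [Finite G] (T : Subgroup G) (hT : Nat.card T = 4) (haT : a ∈ T)
    (hbT : b ∈ T) (ha : orderOf a = 2) (hb : orderOf b = 2) (hab : a * b = b * a)
    (hne : a ≠ b) : T = fourGroup a b := by
  symm
  apply Subgroup.eq_of_le_of_card_ge
  · unfold fourGroup
    exact sup_le (by rw [Subgroup.zpowers_le]; exact haT) (by rw [Subgroup.zpowers_le]; exact hbT)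
  · rw [hT, fourGroup_card a b ha hb hab hne]

end

end Cfsg.Agent.Lib.Helper6
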