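import Mathlib
import Cfsg.Agent.Lib.Helper6.NormalEA
import Cfsg.Agent.Lib.Helper4.PGroupLemmas
import Cfsg.Agent.S0040

/-! p-groups (p odd) acting on elementary abelian groups with constant point stabilizer order
are cyclic and semiregular; trace operators of cyclic groups. -/

set_option autoImplicit false

open Cfsg MulAction

namespace Cfsg.Agent.Lib.Helper6

section trace
variable {P E : Type*} [Group P] [AddCommGroup E] [DistribMulAction P E]

/-- the trace of a vector under the cyclic group generated by `g` (of order dividing `p`) -/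
def tr (p : ℕ) (g : P) (v : E) : E := ∑ j ∈ Finset.range p, g ^ j • v

theorem tr_fix {p : ℕ} {g : P} (hg : g ^ p = 1) (v : E) : g • tr p g v = tr p g v := by
  unfold tr
  rw [Finset.smul_sum]
  have h1 : ∑ j ∈ Finset.range p, g • g ^ j • v = ∑ j ∈ Finset.range p, g ^ (j+1) • v := by
    apply Finset.sum_congr rfl
    intro j _
    rw [pow_succ', mul_smul]
  rw [h1]
  have h2 := Finset.sum_range_succ (fun j => g ^ j • v) p
  have h3 := Finset.sum_range_succ' (fun j => g ^ j • v) p
  simp only [hg, pow_zero, one_smul] at h2 h3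
  rw [h2] at h3
  exact (add_right_cancel h3).symm

theorem pow_smul_fix {g : P} {w : E} (hw : g • w = w) (j : ℕ) : g ^ j • w = w := by
  induction j with
  | zero => simp
  | succ j ih => rw [pow_succ, mul_smul, hw, ih]

theorem zpow_smul_fix {g : P} {w : E} (hw : g • w = w) (j : ℤ) : g ^ j • w = w := by
  have h1 : g ∈ stabilizer P w := hw
  exact Subgroup.zpow_mem _ h1 j

theorem tr_of_fix {p : ℕ} {g : P} {w : E} (hw : g • w = w) : tr p g w = p • w := by
  unfold tr
  simp [pow_smul_fix hw]

theorem tr_comm {p : ℕ} {g h : P} (hc : h * g = g * h) (v : E) :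
    h • tr p g v = tr p g (h • v) := by
  unfold tr
  rw [Finset.smul_sum]
  apply Finset.sum_congr rfl
  intro j _
  have hc' : Commute h g := hc
  rw [← mul_smul, ← mul_smul, (hc'.pow_right j).eq]

theorem tr_add (p : ℕ) (g : P) (v w : E) : tr p g (v + w) = tr p g v + tr p g w := by
  unfold tr
  rw [← Finset.sum_add_distrib]
  apply Finset.sum_congr rfl
  intro j _
  rw [smul_add]

theorem tr_sub (p : ℕ) (g : P) (v w : E) : tr p g (v - w) = tr p g v - tr p g w := by
  unfold tr
  rw [← Finset.sum_sub_distrib]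
  apply Finset.sum_congr rfl
  intro j _
  rw [smul_sub]

theorem tr_nsmul (p : ℕ) (g : P) (n : ℕ) (v : E) : tr p g (n • v) = n • tr p g v := by
  unfold tr
  rw [Finset.smul_sum]
  apply Finset.sum_congr rfl
  intro j _
  rw [smul_comm]

end trace

theorem mem_zpowers_symm {G : Type*} [Group G] [Finite G] {p : ℕ} [hp : Fact p.Prime] {u x : G}
    (hup : u ^ p = 1) (hx : x ∈ Subgroup.zpowers u) (hx1 : x ≠ 1) : u ∈ Subgroup.zpowers x := by
  have hu1 : u ≠ 1 := by
    rintro rfl
    apply hx1
    simpa using hx
  have hxp : x ^ p = 1 := by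
    obtain ⟨k, rfl⟩ := Subgroup.mem_zpowers_iff.1 hx
    rw [← zpow_natCast, ← zpow_mul, mul_comm, zpow_mul, zpow_natCast, hup, one_zpow]
  have h1 : Nat.card (Subgroup.zpowers x) = p := by
    rw [Nat.card_zpowers, orderOf_eq_prime hxp hx1]
  have h2 : Nat.card (Subgroup.zpowers u) = p := by
    rw [Nat.card_zpowers, orderOf_eq_prime hup hu1]
  have hle : Subgroup.zpowers x ≤ Subgroup.zpowers u := Subgroup.zpowers_le.2 hx
  have := Subgroup.eq_of_le_of_card_ge hle (by rw [h1, h2])
  rw [this]
  exact Subgroup.mem_zpowers u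

/-- a central element of order `p` has no nonzero fixed vector -/
theorem central_fpf {P E : Type*} [Group P] [Finite P] [AddCommGroup E] [Finite E]
    [DistribMulAction P E] [FaithfulSMul P E] {p : ℕ}
    (hT4 : ∀ w : E, p • w = 0 → w = 0)
    (hconst : ∀ a b : E, a ≠ 0 → b ≠ 0 →
      Nat.card (stabilizer P a) = Nat.card (stabilizer P b))
    (z : P) (hz : z ∈ Subgroup.center P) (hz1 : z ≠ 1) (hzp : z ^ p = 1) (a : E)
    (ha : z • a = a) : a = 0 := by
  by_contra ha0
  obtain ⟨v, hv⟩ : ∃ v : E, z • v ≠ v := by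
    by_contra hcon
    push Not at hcon
    apply hz1
    apply FaithfulSMul.eq_of_smul_eq_smul (α := E)
    intro v
    rw [hcon v, one_smul]
  obtain ⟨c, hc⟩ : ∃ c : E, c = p • v - tr p z v := ⟨_, rfl⟩
  have hTc : tr p z c = 0 := by
    rw [hc, tr_sub, tr_nsmul, tr_of_fix (tr_fix hzp v), sub_self]
  have hzc : z • c ≠ c := by
    intro h
    apply hv
    have h1 : z • c = p • (z • v) - tr p z v := by
      rw [hc, smul_sub, tr_fix hzp, smul_comm]
    have h2 : p • (z • v - v) = 0 := by
      rw [smul_sub]
      rw [h1, hc] at h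
      have := sub_left_injective h
      rw [this, sub_self]
    exact sub_eq_zero.1 (hT4 _ h2)
  have hc0 : c ≠ 0 := by
    intro h
    apply hzc
    rw [h, smul_zero]
  have hac : a + c ≠ 0 := by
    intro h
    apply hzc
    have : c = -a := by
      rw [add_comm] at h
      exact eq_neg_of_add_eq_zero_left h
    rw [this, smul_neg, ha]
  have hkey : ∀ g ∈ stabilizer P (a + c), g • a = a := by
    intro g hg
    rw [mem_stabilizer_iff, smul_add] at hg
    have hcomm : g * z = z * g := Subgroup.mem_center_iff.1 hz g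
    obtain ⟨w, hw⟩ : ∃ w : E, w = g • a - a := ⟨_, rfl⟩
    have hzw : z • w = w := by
      rw [hw, smul_sub, ha, ← mul_smul, ← hcomm, mul_smul, ha]
    have hw2 : w = c - g • c := by
      rw [hw, sub_eq_sub_iff_add_eq_add, hg, add_comm]
    have hTw : tr p z w = 0 := by
      rw [hw2, tr_sub, ← tr_comm hcomm, hTc, smul_zero, sub_zero]
    have h3 : p • w = 0 := by
      rw [← tr_of_fix hzw]
      exact hTw
    have := hT4 _ h3
    rw [hw] at this
    exact sub_eq_zero.1 this
  have hle : stabilizer P (a + c) ≤ stabilizer P a := fun g hg => hkey g hg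
  have heq := Subgroup.eq_of_le_of_card_ge hle (le_of_eq (hconst a (a + c) ha0 hac))
  have hzs : z ∈ stabilizer P (a + c) := by
    rw [heq]
    exact ha
  rw [mem_stabilizer_iff, smul_add, ha] at hzs
  exact hzc (add_left_cancel hzs)


/-- the non-cyclic case is contradictory -/
theorem cyclic_of_const {P E : Type*} [Group P] [Finite P] [AddCommGroup E] [Finite E]
    [DistribMulAction P E] [FaithfulSMul P E] {p : ℕ} [hpf : Fact p.Prime] (hp2 : p ≠ 2)
    (hP : IsPGroup p P)
    (hT4 : ∀ w : E, p • w = 0 → w = 0)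
    (hconst : ∀ a b : E, a ≠ 0 → b ≠ 0 →
      Nat.card (stabilizer P a) = Nat.card (stabilizer P b)) : IsCyclic P := by
  have hp : p.Prime := hpf.out
  have h2a := central_fpf (P := P) (E := E) hT4 hconst
  by_contra hnc
  obtain ⟨A, hAn, hA, hAcard⟩ := exists_normal_ea_sq hp2 (Nat.card P) P rfl hP hnc
  haveI := hAn
  have hAne : A ≠ ⊥ := by
    intro h
    rw [h, Subgroup.card_bot] at hAcard
    have := hp.one_lt
    nlinarith
  obtain ⟨z, hzA, hz1, hzc⟩ := Cfsg.Agent.Lib.Helper4.exists_ne_one_mem_center_of_normal hP A hAne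
  have hzp : z ^ p = 1 := hA.2 z hzA
  have hAcomm : ∀ x ∈ A, ∀ y ∈ A, x * y = y * x := by
    intro x hx y hy
    have := hA.1.is_comm.comm ⟨x, hx⟩ ⟨y, hy⟩
    exact congrArg Subtype.val this
  have lemZ : ∀ u ∈ A, u ≠ 1 → ∀ u' ∈ A, u' ∉ Subgroup.zpowers u → ∀ S : E,
      u • S = S → u' • S = S → S = 0 := by
    intro u hu hu1 u' hu' hnot S hS hS'
    apply h2a z hzc hz1 hzp S
    have hup : u ^ p = 1 := hA.2 u hu
    have hcardu : Nat.card (Subgroup.zpowers u) = p := by
      rw [Nat.card_zpowers]; exact orderOf_eq_prime hup hu1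
    obtain ⟨B, hB⟩ : ∃ B : Subgroup P, B = stabilizer P S ⊓ A := ⟨_, rfl⟩
    have hBA : B ≤ A := by rw [hB]; exact inf_le_right
    have huB : Subgroup.zpowers u ≤ B := by
      rw [Subgroup.zpowers_le, hB]; exact ⟨hS, hu⟩
    have hu'B : u' ∈ B := by rw [hB]; exact ⟨hS', hu'⟩
    have hlt : p < Nat.card B := by
      by_contra hle
      push Not at hle
      have := Subgroup.eq_of_le_of_card_ge huB (by rw [hcardu]; exact hle)
      apply hnot; rw [this]; exact hu'B
    have hdvd : Nat.card B ∣ p ^ 2 := by rw [← hAcard]; exact Subgroup.card_dvd_of_le hBA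
    obtain ⟨k, hk, hBk⟩ := (Nat.dvd_prime_pow hp).1 hdvd
    have hk2 : k = 2 := by
      interval_cases k
      · rw [hBk] at hlt; simp at hlt; have := hp.one_lt; omega
      · rw [hBk, pow_one] at hlt; omega
      · rfl
    have hBA' : B = A := Subgroup.eq_of_le_of_card_ge hBA (by rw [hAcard, hBk, hk2])
    have : z ∈ B := by rw [hBA']; exact hzA
    rw [hB] at this
    exact this.1
  -- some nonidentity element of A fixes a nonzero vector
  obtain ⟨u, huA, hu1, a, ha0, hua⟩ : ∃ u ∈ A, u ≠ 1 ∧ ∃ a : E, a ≠ 0 ∧ u • a = a := by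
    by_contra hcon
    push Not at hcon
    obtain ⟨y, hyA, hyz⟩ : ∃ y ∈ A, y ∉ Subgroup.zpowers z := by
      by_contra hc2
      push Not at hc2
      have h1 : A ≤ Subgroup.zpowers z := hc2
      have h2 := Subgroup.card_le_of_le h1
      rw [hAcard, Nat.card_zpowers, orderOf_eq_prime hzp hz1] at h2
      have := hp.one_lt
      nlinarith
    obtain ⟨v, hv⟩ : ∃ v : E, z • v ≠ v := by
      by_contra hcon2
      push Not at hcon2
      apply hz1
      apply FaithfulSMul.eq_of_smul_eq_smul (α := E)
      intro v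
      rw [hcon2 v, one_smul]
    have hv0 : v ≠ 0 := by
      rintro rfl
      exact hv (smul_zero z)
    obtain ⟨φ, hφ⟩ : ∃ φ : P →* MulAut (Multiplicative E),
        ∀ g v, φ g v = Multiplicative.ofAdd (g • Multiplicative.toAdd v) :=
      ⟨(MulAutMultiplicative (G := E)).symm.toMonoidHom.comp (DistribMulAction.toAddAut P E),
        fun g v => rfl⟩
    have hall := Cfsg.Agent.S0040.fpf_pair_trivial (V := Multiplicative E)
      (fun x y => mul_comm x y) (p := p) (φ z) (φ y)
      (by
        show φ z * φ y = φ y * φ z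
        rw [← map_mul, ← map_mul, hAcomm z hzA y hyA])
      (by rw [← map_pow, hzp, map_one])
      (by rw [← map_pow, hA.2 y hyA, map_one])
      (by
        intro i j hij w hw
        rw [← map_pow, ← map_pow, ← map_mul, hφ] at hw
        have hne := Cfsg.Agent.S0040.pair_ne_one z y hz1 hzp (hA.2 y hyA) hyz i j hij
        have hmem : z ^ i * y ^ j ∈ A := A.mul_mem (A.pow_mem hzA i) (A.pow_mem hyA j)
        by_contra hw1
        apply hcon _ hmem hne (Multiplicative.toAdd w)
        · intro h0
          apply hw1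
          exact Multiplicative.toAdd.injective h0
        · have := congrArg Multiplicative.toAdd hw
          exact this)
      (by
        intro w hw
        have h1 : p • Multiplicative.toAdd w = 0 := by
          have := congrArg Multiplicative.toAdd hw
          simpa using this
        have := hT4 _ h1
        exact Multiplicative.toAdd.injective this)
      (Multiplicative.ofAdd v)
    apply hv0
    exact Multiplicative.ofAdd.injective hall
  have hup : u ^ p = 1 := hA.2 u huA
  by_cases hnorm : ∀ g : P, g * u * g⁻¹ ∈ Subgroup.zpowers u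
  · haveI : (Subgroup.zpowers u).Normal := by
      constructor
      intro n hn g
      obtain ⟨k, rfl⟩ := Subgroup.mem_zpowers_iff.1 hn
      have : g * u ^ k * g⁻¹ = (g * u * g⁻¹) ^ k := by rw [conj_zpow]
      rw [this]
      exact Subgroup.zpow_mem _ (hnorm g) k
    obtain ⟨x, hxu, hx1, hxc⟩ := Cfsg.Agent.Lib.Helper4.exists_ne_one_mem_center_of_normal hP
      (Subgroup.zpowers u) (by
        intro h
        apply hu1
        rw [Subgroup.zpowers_eq_bot] at h
        exact h)
    have hxA : x ∈ A := (Subgroup.zpowers_le.2 huA) hxu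
    apply ha0
    apply h2a x hxc hx1 (hA.2 x hxA) a
    obtain ⟨k, rfl⟩ := Subgroup.mem_zpowers_iff.1 hxu
    exact zpow_smul_fix hua k
  · push Not at hnorm
    obtain ⟨g₀, hg₀⟩ := hnorm
    obtain ⟨u', hu'⟩ : ∃ w, w = g₀ * u * g₀⁻¹ := ⟨_, rfl⟩
    rw [← hu'] at hg₀
    obtain ⟨c, hc⟩ : ∃ c : E, c = g₀ • a := ⟨_, rfl⟩
    have hu'A : u' ∈ A := by rw [hu']; exact hAn.conj_mem u huA g₀
    have hu'c : u' • c = c := by
      rw [hu', hc, ← mul_smul, inv_mul_cancel_right, mul_smul, hua]
    have hc0 : c ≠ 0 := by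
      intro h
      apply ha0
      rw [hc] at h
      exact (smul_eq_zero_iff_eq g₀).1 h
    have htr0 : ∀ x ∈ A, x ≠ 1 → ∀ x' ∈ A, x' ∉ Subgroup.zpowers x → ∀ e : E, x' • e = e →
        tr p x e = 0 := by
      intro x hx hx1 x' hx' hnot e he
      apply lemZ x hx hx1 x' hx' hnot
      · exact tr_fix (hA.2 x hx) e
      · rw [tr_comm (hAcomm x' hx' x hx), he]
    have hkey : ∀ g ∈ stabilizer P (a + c), g • a = a := by
      intro g hg
      rw [mem_stabilizer_iff, smul_add] at hg
      obtain ⟨ug, hug⟩ : ∃ w, w = g * u * g⁻¹ := ⟨_, rfl⟩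
      obtain ⟨ug', hug'⟩ : ∃ w, w = g * u' * g⁻¹ := ⟨_, rfl⟩
      have hugA : ug ∈ A := by rw [hug]; exact hAn.conj_mem u huA g
      have hug'A : ug' ∈ A := by rw [hug']; exact hAn.conj_mem u' hu'A g
      have hug_fix : ug • g • a = g • a := by
        rw [hug, ← mul_smul, inv_mul_cancel_right, mul_smul, hua]
      have hug'_fix : ug' • g • c = g • c := by
        rw [hug', ← mul_smul, inv_mul_cancel_right, mul_smul, hu'c]
      have hug1 : ug ≠ 1 := by
        intro h
        apply hu1
        rw [hug] at h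
        have := conj_eq_one_iff.1 h
        exact this
      have hugp : ug ^ p = 1 := hA.2 ug hugA
      have hnot' : ug' ∉ Subgroup.zpowers ug := by
        intro h
        obtain ⟨k, hk⟩ := Subgroup.mem_zpowers_iff.1 h
        apply hg₀
        rw [hug, hug', conj_zpow] at hk
        have := mul_left_cancel (mul_right_cancel hk)
        rw [← this]
        exact Subgroup.zpow_mem _ (Subgroup.mem_zpowers u) k
      have hT : tr p u (g • a) + tr p u (g • c) = p • a := by
        rw [← tr_add, hg, tr_add, tr_of_fix hua, htr0 u huA hu1 u' hu'A hg₀ c hu'c, add_zero]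
      by_cases h1 : ug ∈ Subgroup.zpowers u
      · have hu_in : u ∈ Subgroup.zpowers ug := mem_zpowers_symm hup h1 hug1
        have hfix1 : u • g • a = g • a := by
          obtain ⟨k, hk⟩ := Subgroup.mem_zpowers_iff.1 hu_in
          rw [← hk]
          exact zpow_smul_fix hug_fix k
        have h2 : ug' ∉ Subgroup.zpowers u := by
          intro h2
          apply hnot'
          have hle : Subgroup.zpowers u ≤ Subgroup.zpowers ug := Subgroup.zpowers_le.2 hu_in
          exact hle h2
        rw [tr_of_fix hfix1, htr0 u huA hu1 ug' hug'A h2 (g • c) hug'_fix, add_zero] at hT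
        have h3 : p • (g • a - a) = 0 := by rw [smul_sub, hT, sub_self]
        exact sub_eq_zero.1 (hT4 _ h3)
      · rw [htr0 u huA hu1 ug hugA h1 (g • a) hug_fix, zero_add] at hT
        have h2 : ug' ∈ Subgroup.zpowers u := by
          by_contra h2
          rw [htr0 u huA hu1 ug' hug'A h2 (g • c) hug'_fix] at hT
          exact ha0 (hT4 a hT.symm)
        have hug'1 : ug' ≠ 1 := by
          intro h
          apply hnot'
          rw [h]
          exact Subgroup.one_mem _
        have hu_in : u ∈ Subgroup.zpowers ug' := mem_zpowers_symm hup h2 hug'1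
        have hfix2 : u • g • c = g • c := by
          obtain ⟨k, hk⟩ := Subgroup.mem_zpowers_iff.1 hu_in
          rw [← hk]
          exact zpow_smul_fix hug'_fix k
        rw [tr_of_fix hfix2] at hT
        have hgc : g • c = a := by
          have h3 : p • (g • c - a) = 0 := by rw [smul_sub, hT, sub_self]
          exact sub_eq_zero.1 (hT4 _ h3)
        have hga : g • a = c := by
          rw [hgc, add_comm] at hg
          exact add_left_cancel hg
        have hg2 : (g ^ 2) • a = a := by rw [pow_two, mul_smul, hga, hgc]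
        have hodd : Odd (orderOf g) := by
          obtain ⟨k, hk⟩ := (IsPGroup.iff_orderOf.1 hP) g
          rw [hk]
          exact (hp.eq_two_or_odd'.resolve_left hp2).pow
        obtain ⟨m, hm⟩ := hodd
        have hgg : g = (g ^ 2) ^ (m + 1) := by
          rw [← pow_mul, show 2 * (m + 1) = orderOf g + 1 by omega, pow_succ, pow_orderOf_eq_one,
            one_mul]
        have : g • a = a := by
          rw [hgg]
          exact pow_smul_fix hg2 (m + 1)
        exact this
    have hac : a + c ≠ 0 := by
      intro h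
      apply hc0
      have hca : c = -a := by
        rw [add_comm] at h
        exact eq_neg_of_add_eq_zero_left h
      apply lemZ u huA hu1 u' hu'A hg₀ c _ hu'c
      rw [hca, smul_neg, hua]
    have hle : stabilizer P (a + c) ≤ stabilizer P a := fun g hg => hkey g hg
    have heq := Subgroup.eq_of_le_of_card_ge hle (le_of_eq (hconst a (a + c) ha0 hac))
    have hus : u ∈ stabilizer P (a + c) := by
      rw [heq]
      exact hua
    rw [mem_stabilizer_iff, smul_add, hua] at hus
    apply hc0
    exact lemZ u huA hu1 u' hu'A hg₀ c (add_left_cancel hus) hu'c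

theorem pgroup_const_stab {P E : Type*} [Group P] [Finite P]
    [AddCommGroup E] [Finite E] [DistribMulAction P E] [FaithfulSMul P E]
    {p q : ℕ} [Fact p.Prime] (hp2 : p ≠ 2) (hP : IsPGroup p P) (hq : q.Prime) (hE : ∀ e : E, q • e = 0)
    (hconst : ∀ a b : E, a ≠ 0 → b ≠ 0 →
      Nat.card (MulAction.stabilizer P a) = Nat.card (MulAction.stabilizer P b)) :
    IsCyclic P ∧ ∀ g : P, g ≠ 1 → ∀ a : E, g • a = a → a = 0 := by
  have hp : p.Prime := Fact.out
  by_cases hpq : p = q
  · subst hpq
    have htriv : ∀ g : P, g = 1 := by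
      by_cases hEn : Nontrivial E
      · obtain ⟨e, he⟩ := exists_ne (0 : E)
        have hdvd : p ∣ Nat.card E := by
          have h1 : addOrderOf e = p := addOrderOf_eq_prime (hE e) he
          rw [← h1]
          exact addOrderOf_dvd_natCard e
        have h0 : (0 : E) ∈ fixedPoints P E := fun g => smul_zero g
        obtain ⟨b, hb, hb0⟩ := hP.exists_fixed_point_of_prime_dvd_card_of_fixed_point E hdvd h0
        have hbtop : stabilizer P b = ⊤ := by
          rw [eq_top_iff]
          intro g _
          exact hb g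
        intro g
        apply FaithfulSMul.eq_of_smul_eq_smul (α := E)
        intro a
        rw [one_smul]
        by_cases ha : a = 0
        · rw [ha, smul_zero]
        · have h1 := hconst a b ha (Ne.symm hb0)
          rw [hbtop, Subgroup.card_top] at h1
          have h2 := (Subgroup.card_eq_iff_eq_top _).1 h1
          have : g ∈ stabilizer P a := by rw [h2]; trivial
          exact this
      · rw [not_nontrivial_iff_subsingleton] at hEn
        intro g
        apply FaithfulSMul.eq_of_smul_eq_smul (α := E)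
        intro v
        exact Subsingleton.elim _ _
    refine ⟨?_, ?_⟩
    · haveI : Subsingleton P := ⟨fun a b => by rw [htriv a, htriv b]⟩
      infer_instance
    · intro g hg
      exact absurd (htriv g) hg
  · have hT4 : ∀ w : E, p • w = 0 → w = 0 := by
      intro w hw
      have h1 : addOrderOf w ∣ p := addOrderOf_dvd_of_nsmul_eq_zero hw
      have h2 : addOrderOf w ∣ q := addOrderOf_dvd_of_nsmul_eq_zero (hE w)
      have h3 : addOrderOf w ∣ Nat.gcd p q := Nat.dvd_gcd h1 h2
      rw [(Nat.coprime_primes hp hq).2 hpq] at h3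
      exact AddMonoid.addOrderOf_eq_one_iff.1 (Nat.dvd_one.1 h3)
    have hcyc : IsCyclic P := cyclic_of_const hp2 hP hT4 hconst
    refine ⟨hcyc, ?_⟩
    intro g hg1 a hga
    obtain ⟨k, hk⟩ := (IsPGroup.iff_orderOf.1 hP) g
    have hk0 : k ≠ 0 := by
      rintro rfl
      rw [pow_zero, orderOf_eq_one_iff] at hk
      exact hg1 hk
    obtain ⟨z, hz⟩ : ∃ z : P, z = g ^ (p ^ (k - 1)) := ⟨_, rfl⟩
    have hzp : z ^ p = 1 := by
      rw [hz, ← pow_mul, ← pow_succ, Nat.sub_add_cancel (Nat.one_le_iff_ne_zero.2 hk0), ← hk,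
        pow_orderOf_eq_one]
    have hz1 : z ≠ 1 := by
      rw [hz]
      apply pow_ne_one_of_lt_orderOf (pow_pos hp.pos _).ne'
      rw [hk]
      exact Nat.pow_lt_pow_right hp.one_lt (by omega)
    have hzc : z ∈ Subgroup.center P := by
      rw [Subgroup.mem_center_iff]
      intro h
      obtain ⟨g₀, hg₀⟩ := IsCyclic.exists_generator (α := P)
      obtain ⟨i, hi⟩ := Subgroup.mem_zpowers_iff.1 (hg₀ h)
      obtain ⟨j, hj⟩ := Subgroup.mem_zpowers_iff.1 (hg₀ z)
      rw [← hi, ← hj, ← zpow_add, ← zpow_add, add_comm]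
    exact central_fpf hT4 hconst z hzc hz1 hzp a (by rw [hz]; exact pow_smul_fix hga _)

end Cfsg.Agent.Lib.Helper6
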