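import Mathlib
import Cfsg.Agent.Lib.Helper8.CharPerm

set_option autoImplicit false

namespace Cfsg.Agent.Lib.Helper6

open Cfsg

section InvProd

variable {G : Type*} [Group G]

/-- the number of ways of writing `g` as a product of two involutions is at most the order
of its centralizer -/
theorem card_inv_pairs_le [Finite G] (g : G) :
    Nat.card {p : {x : G // orderOf x = 2} × {x : G // orderOf x = 2} // p.1.1 * p.2.1 = g} ≤
      Nat.card (Subgroup.centralizer ({g} : Set G)) := by
  by_cases hne : Nonempty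
      {p : {x : G // orderOf x = 2} × {x : G // orderOf x = 2} // p.1.1 * p.2.1 = g}
  · obtain ⟨⟨⟨τ₀, τ₀'⟩, hp₀⟩⟩ := hne
    have hsq : ∀ x : {x : G // orderOf x = 2}, x.1 * x.1 = 1 := by
      rintro ⟨x, hx⟩
      show x * x = 1
      rw [← pow_two, ← hx, pow_orderOf_eq_one]
    have hinvs : ∀ x : {x : G // orderOf x = 2}, x.1⁻¹ = x.1 :=
      fun x => inv_eq_of_mul_eq_one_right (hsq x)
    -- an involution factor inverts `g`
    have hinvert : ∀ p : {x : G // orderOf x = 2} × {x : G // orderOf x = 2},
        p.1.1 * p.2.1 = g → p.1.1 * g * p.1.1 = g⁻¹ := by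
      intro p hp
      rw [← hp, mul_inv_rev, hinvs, hinvs]
      calc p.1.1 * (p.1.1 * p.2.1) * p.1.1 = (p.1.1 * p.1.1) * p.2.1 * p.1.1 := by group
        _ = p.2.1 * p.1.1 := by rw [hsq, one_mul]
    have h0 : τ₀.1 * g * τ₀.1 = g⁻¹ := hinvert (τ₀, τ₀') hp₀
    apply Nat.card_le_card_of_injective
      (fun p => (⟨τ₀.1 * p.1.1.1, ?_⟩ : Subgroup.centralizer ({g} : Set G)))
    · intro p q hpq
      have h1 : τ₀.1 * p.1.1.1 = τ₀.1 * q.1.1.1 := congrArg Subtype.val hpq
      have h2 : p.1.1.1 = q.1.1.1 := mul_left_cancel h1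
      have h3 : p.1.2.1 = q.1.2.1 := by
        have hp := p.2
        have hq := q.2
        rw [h2] at hp
        exact mul_left_cancel (hp.trans hq.symm)
      apply Subtype.ext
      exact Prod.ext (Subtype.ext h2) (Subtype.ext h3)
    · rw [Subgroup.mem_centralizer_iff]
      intro y hy
      rw [Set.mem_singleton_iff] at hy
      rw [hy]
      have h1 := hinvert p.1 p.2
      -- `g * (τ₀ τ) = (τ₀ τ) * g`
      have e1 : p.1.1.1 * g = g⁻¹ * p.1.1.1 := by
        calc p.1.1.1 * g = (p.1.1.1 * g * p.1.1.1) * p.1.1.1⁻¹ := by group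
          _ = g⁻¹ * p.1.1.1 := by rw [h1, hinvs]
      have e2 : τ₀.1 * g⁻¹ = g * τ₀.1 := by
        calc τ₀.1 * g⁻¹ = τ₀.1 * (τ₀.1 * g * τ₀.1) := by rw [h0]
          _ = (τ₀.1 * τ₀.1) * g * τ₀.1 := by group
          _ = g * τ₀.1 := by rw [hsq, one_mul]
      calc g * (τ₀.1 * p.1.1.1) = (g * τ₀.1) * p.1.1.1 := by group
        _ = (τ₀.1 * g⁻¹) * p.1.1.1 := by rw [e2]
        _ = τ₀.1 * (g⁻¹ * p.1.1.1) := by group
        _ = τ₀.1 * (p.1.1.1 * g) := by rw [e1]
        _ = τ₀.1 * p.1.1.1 * g := by group
  · rw [not_nonempty_iff] at hne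
    rw [Nat.card_of_isEmpty]
    exact Nat.zero_le _

/-- the number of pairs of involutions whose product satisfies a class invariant property is
at most the number of classes with this property times the group order -/
theorem inv_pairs_le [Finite G] (P : G → Prop)
    (hP : ∀ g h : G, IsConj g h → (P g ↔ P h)) :
    Nat.card {p : {x : G // orderOf x = 2} × {x : G // orderOf x = 2} // P (p.1.1 * p.2.1)} ≤
      Nat.card {C : ConjClasses G // ∀ g : G, ConjClasses.mk g = C → P g} * Nat.card G := by
  classical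
  haveI : Fintype G := Fintype.ofFinite G
  have h1 : Nat.card {p : {x : G // orderOf x = 2} × {x : G // orderOf x = 2} //
      P (p.1.1 * p.2.1)} = ∑ g : G, if P g then
        Nat.card {p : {x : G // orderOf x = 2} × {x : G // orderOf x = 2} // p.1.1 * p.2.1 = g}
        else 0 := by
    rw [Nat.card_eq_fintype_card, Fintype.card_subtype,
      Finset.card_eq_sum_card_fiberwise (f := fun p => p.1.1 * p.2.1) (t := Finset.univ)
        (fun _ _ => Finset.mem_univ _)]
    apply Finset.sum_congr rfl
    intro g _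
    by_cases hg : P g
    · rw [if_pos hg, Nat.card_eq_fintype_card, Fintype.card_subtype]
      congr 1
      ext p
      simp only [Finset.mem_filter, Finset.mem_univ, true_and]
      constructor
      · rintro ⟨-, h⟩; exact h
      · intro h; exact ⟨by rw [h]; exact hg, h⟩
    · rw [if_neg hg, Finset.card_eq_zero]
      ext p
      simp only [Finset.mem_filter, Finset.mem_univ, true_and, Finset.notMem_empty, iff_false,
        not_and]
      intro h1 h2
      rw [h2] at h1
      exact hg h1
  have h2 : (∑ g : G, if P g then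
      Nat.card {p : {x : G // orderOf x = 2} × {x : G // orderOf x = 2} // p.1.1 * p.2.1 = g}
      else 0) ≤ ∑ g : G, if P g then Nat.card (Subgroup.centralizer ({g} : Set G)) else 0 := by
    apply Finset.sum_le_sum
    intro g _
    by_cases hg : P g
    · rw [if_pos hg, if_pos hg]; exact card_inv_pairs_le g
    · rw [if_neg hg, if_neg hg]
  have h3 : (∑ g : G, if P g then Nat.card (Subgroup.centralizer ({g} : Set G)) else 0) =
      Nat.card {C : ConjClasses G // ∀ g : G, ConjClasses.mk g = C → P g} * Nat.card G := by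
    have := Cfsg.Agent.Lib.Helper8.card_classes_eq_sum P hP
    have hG0 : (Nat.card G : ℂ) ≠ 0 := Nat.cast_ne_zero.2 Nat.card_pos.ne'
    have h4 : ((∑ g : G, if P g then Nat.card (Subgroup.centralizer ({g} : Set G)) else 0 : ℕ) : ℂ)
        = ((Nat.card {C : ConjClasses G // ∀ g : G, ConjClasses.mk g = C → P g} *
          Nat.card G : ℕ) : ℂ) := by
      push_cast
      rw [this]
      field_simp
    exact Nat.cast_injective h4
  rw [h1, ← h3]
  exact h2

end InvProd

end Cfsg.Agent.Lib.Helper6
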