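import Mathlib

set_option autoImplicit false

namespace Cfsg.Agent.Lib.Helper6

theorem nt_order_lemma {p n m : ℕ} (hp : p.Prime) (hn : 0 < n) (hm : 0 < m)
    (h1 : m ∣ n * p) (h2 : n ∣ m * p) (h3 : ¬ m ∣ n) : m = n * p := by
  obtain ⟨c, hc⟩ := h1
  obtain ⟨d, hd⟩ := h2
  have hcd : c * d = p ^ 2 := by
    have h : (n * m) * (c * d) = (n * m) * p ^ 2 := by
      calc (n * m) * (c * d) = (m * c) * (n * d) := by ring
        _ = (n * p) * (m * p) := by rw [← hc, ← hd]
        _ = (n * m) * p ^ 2 := by ring
    exact Nat.eq_of_mul_eq_mul_left (Nat.mul_pos hn hm) h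
  have hcdvd : c ∣ p ^ 2 := ⟨d, hcd.symm⟩
  obtain ⟨i, hi, rfl⟩ := (Nat.dvd_prime_pow hp).mp hcdvd
  interval_cases i
  · simp at hc; exact hc.symm
  · exfalso
    apply h3
    have : n = m := by
      have : n * p = m * p := by rw [hc]; ring
      exact Nat.eq_of_mul_eq_mul_right hp.pos this
    rw [this]
  · exfalso
    apply h3
    have : n = m * p := by
      have : n * p = (m * p) * p := by rw [hc]; ring
      exact Nat.eq_of_mul_eq_mul_right hp.pos this
    rw [this]
    exact Dvd.intro _ rfl

/-- the multiplication map V ⋊ G → G -/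
noncomputable def sdMul {G : Type*} [Group G] (V : Subgroup G) [V.Normal] :
    V ⋊[MulAut.conjNormal] G →* G :=
  SemidirectProduct.lift V.subtype (MonoidHom.id G) (by
    intro g
    ext v
    simp [MulAut.conjNormal_apply])

theorem sdMul_apply {G : Type*} [Group G] (V : Subgroup G) [V.Normal]
    (x : V ⋊[MulAut.conjNormal] G) : sdMul V x = (x.left : G) * x.right := by
  simp [sdMul, SemidirectProduct.lift]

theorem semidirect_isospectral {G : Type*} [Group G] [Finite G] (V : Subgroup G) [V.Normal]
    (p : ℕ) (hp : p.Prime) (hexp : ∀ x : V, x ^ p = 1) :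
    Set.range (orderOf : V ⋊[MulAut.conjNormal] G → ℕ) = Set.range (orderOf : G → ℕ) := by
  have : Finite (V ⋊[MulAut.conjNormal] G) :=
    Finite.of_equiv _ (SemidirectProduct.equivProd (φ := (MulAut.conjNormal : G →* MulAut V))).symm
  ext k
  constructor
  · rintro ⟨x, rfl⟩
    set g : G := x.right with hg
    set n := orderOf g with hn
    have hnpos : 0 < n := orderOf_pos g
    -- x ^ n lies in the kernel of rightHom
    have hker : x ^ n ∈ (SemidirectProduct.rightHom :
        V ⋊[MulAut.conjNormal] G →* G).ker := by
      rw [MonoidHom.mem_ker, map_pow]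
      change g ^ n = 1
      exact pow_orderOf_eq_one g
    rw [← SemidirectProduct.range_inl_eq_ker_rightHom] at hker
    obtain ⟨w, hw⟩ := hker
    have hxnp : x ^ (n * p) = 1 := by
      rw [pow_mul, ← hw, ← map_pow, hexp w, map_one]
    by_cases hxn : x ^ n = 1
    · refine ⟨g, ?_⟩
      apply Nat.dvd_antisymm
      · exact orderOf_map_dvd SemidirectProduct.rightHom x
      · exact orderOf_dvd_of_pow_eq_one hxn
    · -- order of x is n * p
      have hox : orderOf x = n * p := by
        apply nt_order_lemma hp hnpos (orderOf_pos x)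
        · exact orderOf_dvd_of_pow_eq_one hxnp
        · exact Dvd.dvd.mul_right (orderOf_map_dvd SemidirectProduct.rightHom x) p
        · intro h
          exact hxn (orderOf_dvd_iff_pow_eq_one.mp h)
      -- the element y = v * g of G
      refine ⟨sdMul V x, ?_⟩
      rw [hox]
      apply nt_order_lemma hp hnpos (orderOf_pos _)
      · apply orderOf_dvd_of_pow_eq_one
        rw [← map_pow, hxnp, map_one]
      · -- n ∣ m * p
        set m := orderOf (sdMul V x) with hm
        have h1 : (sdMul V x) ^ m = 1 := pow_orderOf_eq_one _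
        rw [← map_pow, sdMul_apply] at h1
        have h2 : (x ^ m).right = g ^ m := by
          have := map_pow (SemidirectProduct.rightHom : V ⋊[MulAut.conjNormal] G →* G) x m
          simpa using this
        rw [h2] at h1
        have h3 : g ^ m = ((x ^ m).left⁻¹ : V) := by
          rw [Subgroup.coe_inv]
          exact eq_inv_of_mul_eq_one_right h1
        apply orderOf_dvd_of_pow_eq_one
        rw [pow_mul, h3, ← Subgroup.coe_pow, hexp, Subgroup.coe_one]
      · intro h
        have h1 : (sdMul V x) ^ n = 1 := orderOf_dvd_iff_pow_eq_one.mp h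
        rw [← map_pow, ← hw] at h1
        have h2 : sdMul V (SemidirectProduct.inl w) = (w : G) := by
          simp [sdMul]
        rw [h2] at h1
        apply hxn
        rw [← hw]
        have : w = 1 := by
          ext; simpa using h1
        rw [this, map_one]
  · rintro ⟨g, rfl⟩
    exact ⟨SemidirectProduct.inr g,
      orderOf_injective SemidirectProduct.inr SemidirectProduct.inr_injective g⟩

end Cfsg.Agent.Lib.Helper6
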