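import Mathlib

set_option autoImplicit false

namespace Cfsg.Agent.Lib.Helper6

open Equiv Equiv.Perm

/-- In a finite group whose order is not divisible by `p^2`, two elements of order `p`
generate conjugate subgroups. -/
theorem exists_conj_mem_zpowers_of_not_sq_dvd {F : Type*} [Group F] [Finite F] {p : ℕ}
    [hp : Fact p.Prime] (hF : ¬ p ^ 2 ∣ Nat.card F) (a b : F) (ha : orderOf a = p)
    (hb : orderOf b = p) : ∃ c : F, c * a * c⁻¹ ∈ Subgroup.zpowers b := by
  have hcardz : ∀ x : F, orderOf x = p → Nat.card (Subgroup.zpowers x) = p := by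
    intro x hx; rw [Nat.card_zpowers, hx]
  have hpg : ∀ x : F, orderOf x = p → IsPGroup p (Subgroup.zpowers x) := by
    intro x hx
    exact IsPGroup.of_card (n := 1) (by rw [hcardz x hx, pow_one])
  have hsyl : ∀ (x : F) (hx : orderOf x = p) (Q : Sylow p F), Subgroup.zpowers x ≤ Q →
      (Q : Subgroup F) = Subgroup.zpowers x := by
    intro x hx Q hle
    symm
    apply Subgroup.eq_of_le_of_card_ge hle
    rw [hcardz x hx, Q.card_eq_multiplicity]
    have hfac : (Nat.card F).factorization p ≤ 1 := by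
      by_contra h
      push Not at h
      apply hF
      exact dvd_trans (pow_dvd_pow p h) (Nat.ordProj_dvd _ _)
    calc p ^ (Nat.card F).factorization p ≤ p ^ 1 := Nat.pow_le_pow_right hp.out.pos hfac
      _ = p := pow_one p
  obtain ⟨QA, hQA⟩ := (hpg a ha).exists_le_sylow
  obtain ⟨QB, hQB⟩ := (hpg b hb).exists_le_sylow
  obtain ⟨c, hc⟩ := MulAction.exists_smul_eq F QA QB
  refine ⟨c, ?_⟩
  rw [← hsyl b hb QB hQB, ← hc, Sylow.coe_subgroup_smul]
  have : c * a * c⁻¹ = MulAut.conj c • a := rfl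
  rw [this]
  apply Subgroup.smul_mem_pointwise_smul
  exact hQA (Subgroup.mem_zpowers a)

theorem commute_of_conj_mem_zpowers {X : Type*} [Group X] {a b g : X}
    (ha : a * g * a⁻¹ ∈ Subgroup.zpowers g) (hb : b * g * b⁻¹ ∈ Subgroup.zpowers g) :
    Commute (a⁻¹ * b⁻¹ * a * b) g := by
  obtain ⟨i, hi⟩ := Subgroup.mem_zpowers_iff.1 ha
  obtain ⟨j, hj⟩ := Subgroup.mem_zpowers_iff.1 hb
  have h1 : (a * b) * g * (a * b)⁻¹ = g ^ (i * j) := by
    have : (a * b) * g * (a * b)⁻¹ = a * (b * g * b⁻¹) * a⁻¹ := by group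
    rw [this, ← hj, ← conj_zpow, ← hi, ← zpow_mul]
  have h2 : (b * a) * g * (b * a)⁻¹ = g ^ (i * j) := by
    have : (b * a) * g * (b * a)⁻¹ = b * (a * g * a⁻¹) * b⁻¹ := by group
    rw [this, ← hi, ← conj_zpow, ← hj, ← zpow_mul, mul_comm]
  unfold Commute SemiconjBy
  have h3 : (a * b) * g * (a * b)⁻¹ = (b * a) * g * (b * a)⁻¹ := by rw [h1, h2]
  have e1 : a⁻¹ * b⁻¹ * a * b * g = (b * a)⁻¹ * ((a * b) * g * (a * b)⁻¹) * (a * b) := by group
  have e2 : g * (a⁻¹ * b⁻¹ * a * b) = (b * a)⁻¹ * ((b * a) * g * (b * a)⁻¹) * (a * b) := by group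
  rw [e1, e2, h3]


theorem not_sq_dvd_factorial_self {p : ℕ} (hp : p.Prime) : ¬ p ^ 2 ∣ p.factorial := by
  intro h
  obtain ⟨p', rfl⟩ : ∃ p', p = p' + 1 := ⟨p - 1, by have := hp.two_le; omega⟩
  rw [Nat.factorial_succ, pow_two] at h
  have h1 : (p' + 1) ∣ p'.factorial := Nat.dvd_of_mul_dvd_mul_left (by omega) h
  have := (Nat.Prime.dvd_factorial hp).1 h1
  omega

/-- Jordan: a primitive permutation group containing a cycle of prime length `p ≤ n - 3`
contains the alternating group. -/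
theorem jordan_prime_cycle {α : Type*} [Fintype α] [DecidableEq α] (G : Subgroup (Perm α))
    (hG : MulAction.IsPreprimitive G α) {p : ℕ} (hp : p.Prime) (hpn : p + 3 ≤ Fintype.card α)
    {g : Perm α} (hgc : g.IsCycle) (hgp : g.support.card = p) (hg : g ∈ G) :
    alternatingGroup α ≤ G := by
  classical
  haveI : Fact p.Prime := ⟨hp⟩
  obtain ⟨Δ, hΔ⟩ : ∃ Δ : Set α, Δ = ((g.support : Set α))ᶜ := ⟨_, rfl⟩
  have hmemΔ : ∀ d, d ∈ Δ ↔ d ∉ g.support := by intro d; rw [hΔ]; simp
  have hcardΔ : Δ.ncard + p = Fintype.card α := by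
    rw [hΔ, ← hgp, ← Set.ncard_coe_finset g.support, add_comm, Set.ncard_add_ncard_compl,
      Nat.card_eq_fintype_card]
  obtain ⟨k, hk⟩ : ∃ k, Δ.ncard = k + 3 := ⟨Δ.ncard - 3, by omega⟩
  have hprimFix : MulAction.IsPreprimitive (fixingSubgroup G Δ)
      (SubMulAction.ofFixingSubgroup G Δ) := by
    rw [hΔ]
    haveI := isPretransitive_of_isCycle_mem hgc hg
    apply MulAction.IsPreprimitive.of_prime_card
    convert hp
    rw [Nat.card_eq_fintype_card, Fintype.card_subtype, ← hgp]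
    apply congr_arg
    ext x
    simp [SubMulAction.mem_ofFixingSubgroup_iff]
  have hmult : MulAction.IsMultiplyPreprimitive G α (k + 2 + 2) :=
    hG.isMultiplyPreprimitive (s := Δ) (n := k + 2) (by omega)
      (by rw [Nat.card_eq_fintype_card]; have := hp.two_le; omega) hprimFix
  haveI htrans : MulAction.IsMultiplyPretransitive G α (k + 3) := by
    haveI h1 : MulAction.IsMultiplyPretransitive G α (k + 2 + 2) := inferInstance
    exact MulAction.isMultiplyPretransitive_of_le (n := k + 2 + 2) (by omega)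
      (by rw [Nat.card_eq_fintype_card]; have := hp.two_le; omega)
  -- extension of partial permutations of Δ
  have hext : ∀ σ : Perm α, ∃ τ ∈ G, ∀ d ∈ Δ, τ d = σ d := by
    intro σ
    have hcard : Nat.card Δ = k + 3 := by rw [Nat.card_coe_set_eq]; exact hk
    obtain ⟨eq⟩ : Nonempty (Δ ≃ Fin (k + 3)) := ⟨Finite.equivFinOfCardEq hcard⟩
    let e : Fin (k + 3) ↪ α := eq.symm.toEmbedding.trans (Function.Embedding.subtype _)
    let e' : Fin (k + 3) ↪ α := e.trans σ.toEmbedding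
    obtain ⟨τ, hτ⟩ := MulAction.exists_smul_eq G e e'
    refine ⟨τ.1, τ.2, ?_⟩
    intro d hd
    have := congrArg (fun f : Fin (k + 3) ↪ α => f (eq ⟨d, hd⟩)) hτ
    have h2 : τ • d = σ d := by
      simpa [e, e', Function.Embedding.smul_apply] using this
    exact h2
  -- the fixator F of Δ in G
  obtain ⟨F, hF⟩ : ∃ F : Subgroup (Perm α), F = G ⊓ fixingSubgroup (Perm α) Δ := ⟨_, rfl⟩
  have hmemF : ∀ f : Perm α, f ∈ F ↔ f ∈ G ∧ ∀ d ∈ Δ, f d = d := by
    intro f
    rw [hF, Subgroup.mem_inf, mem_fixingSubgroup_iff]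
    rfl
  have hgF : g ∈ F := by
    rw [hmemF]
    refine ⟨hg, fun d hd => ?_⟩
    exact Perm.notMem_support.1 ((hmemΔ d).1 hd)
  have hFcard : ¬ p ^ 2 ∣ Nat.card F := by
    have hle : F ≤ (ofSubtype : Perm {x // x ∈ g.support} →* Perm α).range := by
      intro f hf
      rw [hmemF] at hf
      have h2 : ∀ x, f x ≠ x → x ∈ g.support := by
        intro x hx
        by_contra hxs
        exact hx (hf.2 x ((hmemΔ x).2 hxs))
      have h1 : ∀ x, f x ∈ g.support ↔ x ∈ g.support := by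
        intro x
        constructor
        · intro h
          by_contra hxs
          have := hf.2 x ((hmemΔ x).2 hxs)
          rw [this] at h
          exact hxs h
        · intro h
          by_contra hxs
          have h3 := hf.2 (f x) ((hmemΔ _).2 hxs)
          have h4 : f x = x := f.injective h3
          rw [h4] at hxs
          exact hxs h
      exact ⟨subtypePerm f h1, ofSubtype_subtypePerm h1 h2⟩
    have hcr : Nat.card (ofSubtype : Perm {x // x ∈ g.support} →* Perm α).range = p.factorial := by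
      rw [← Nat.card_congr (MonoidHom.ofInjective (ofSubtype_injective
        (p := fun x => x ∈ g.support))).toEquiv, Nat.card_perm, Nat.card_eq_fintype_card,
        Fintype.card_coe, hgp]
    intro h
    have := dvd_trans h (Subgroup.card_dvd_of_le hle)
    rw [hcr] at this
    exact not_sq_dvd_factorial_self hp this
  have hgord : orderOf g = p := by rw [hgc.orderOf, hgp]
  -- step: normalizing elements inducing a transposition on Δ
  have hstep : ∀ x ∈ Δ, ∀ y ∈ Δ, ∃ a ∈ G, a * g * a⁻¹ ∈ Subgroup.zpowers g ∧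
      (∀ d ∈ Δ, a d = swap x y d) := by
    intro x hx y hy
    obtain ⟨τ, hτG, hτ⟩ := hext (swap x y)
    have hswapΔ : ∀ d ∈ Δ, swap x y d ∈ Δ := by
      intro d hd
      by_cases h1 : d = x
      · rw [h1, swap_apply_left]; exact hy
      · by_cases h2 : d = y
        · rw [h2, swap_apply_right]; exact hx
        · rw [swap_apply_of_ne_of_ne h1 h2]; exact hd
    have hτinv : ∀ d ∈ Δ, τ⁻¹ d ∈ Δ := by
      intro d hd
      have h1 := hτ _ (hswapΔ d hd)
      rw [swap_apply_self] at h1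
      have : τ⁻¹ d = swap x y d := by rw [Perm.inv_eq_iff_eq]; exact h1.symm
      rw [this]; exact hswapΔ d hd
    have hg1F : τ * g * τ⁻¹ ∈ F := by
      rw [hmemF]
      refine ⟨G.mul_mem (G.mul_mem hτG hg) (G.inv_mem hτG), fun d hd => ?_⟩
      have h1 : g (τ⁻¹ d) = τ⁻¹ d := Perm.notMem_support.1 ((hmemΔ _).1 (hτinv d hd))
      simp only [Perm.coe_mul, Function.comp_apply, h1]
      exact Equiv.apply_symm_apply τ d
    have hg1ord : orderOf (τ * g * τ⁻¹) = p := by
      have := (MulAut.conj τ).orderOf_eq g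
      rw [MulAut.conj_apply] at this
      rw [this, hgord]
    obtain ⟨c, hc⟩ := exists_conj_mem_zpowers_of_not_sq_dvd hFcard
      (⟨τ * g * τ⁻¹, hg1F⟩ : F) (⟨g, hgF⟩ : F)
      (by rw [Subgroup.orderOf_mk]; exact hg1ord) (by rw [Subgroup.orderOf_mk]; exact hgord)
    obtain ⟨i, hi⟩ := Subgroup.mem_zpowers_iff.1 hc
    have hi' : g ^ i = (c : Perm α) * (τ * g * τ⁻¹) * (c : Perm α)⁻¹ := by
      have := congrArg Subtype.val hi
      simpa using this
    have hcF := (hmemF _).1 c.2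
    refine ⟨(c : Perm α) * τ, G.mul_mem hcF.1 hτG, ?_, ?_⟩
    · rw [Subgroup.mem_zpowers_iff]
      refine ⟨i, ?_⟩
      rw [hi']; group
    · intro d hd
      rw [Perm.coe_mul, Function.comp_apply, hτ d hd]
      exact hcF.2 _ (hswapΔ d hd)
  -- three points of Δ
  obtain ⟨x, hx, y, hy, z, hz, hxy, hxz, hyz⟩ := (Set.two_lt_ncard (Set.toFinite Δ)).1
    (by omega : 2 < Δ.ncard)
  obtain ⟨a, haG, hag, haΔ⟩ := hstep x hx y hy
  obtain ⟨b, hbG, hbg, hbΔ⟩ := hstep y hy z hz
  have hswapΔ : ∀ u ∈ Δ, ∀ v ∈ Δ, ∀ d ∈ Δ, swap u v d ∈ Δ := by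
    intro u hu v hv d hd
    by_cases h1 : d = u
    · rw [h1, swap_apply_left]; exact hv
    · by_cases h2 : d = v
      · rw [h2, swap_apply_right]; exact hu
      · rw [swap_apply_of_ne_of_ne h1 h2]; exact hd
  have hainv : ∀ d ∈ Δ, a⁻¹ d = swap x y d := by
    intro d hd
    rw [Perm.inv_eq_iff_eq, haΔ _ (hswapΔ x hx y hy d hd), swap_apply_self]
  have hbinv : ∀ d ∈ Δ, b⁻¹ d = swap y z d := by
    intro d hd
    rw [Perm.inv_eq_iff_eq, hbΔ _ (hswapΔ y hy z hz d hd), swap_apply_self]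
  obtain ⟨h, hh⟩ : ∃ h : Perm α, h = a⁻¹ * b⁻¹ * a * b := ⟨_, rfl⟩
  have hhG : h ∈ G := by
    rw [hh]
    exact G.mul_mem (G.mul_mem (G.mul_mem (G.inv_mem haG) (G.inv_mem hbG)) haG) hbG
  have hcomm : Commute h g := by rw [hh]; exact commute_of_conj_mem_zpowers hag hbg
  obtain ⟨c3, hc3⟩ : ∃ c3 : Perm α, c3 = swap x y * swap y z * (swap x y * swap y z) := ⟨_, rfl⟩
  have hhΔ : ∀ d ∈ Δ, h d = c3 d := by
    intro d hd
    have h1 := hswapΔ y hy z hz d hd
    have h2 := hswapΔ x hx y hy _ h1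
    have h3 := hswapΔ y hy z hz _ h2
    rw [hh, hc3]
    simp only [Perm.coe_mul, Function.comp_apply]
    rw [hbΔ d hd, haΔ _ h1, hbinv _ h2, hainv _ h3]
  have hc3three : IsThreeCycle c3 := by
    rw [hc3]
    apply IsThreeCycle.isThreeCycle_sq
    rw [swap_comm x y]
    exact isThreeCycle_swap_mul_swap_same hxy.symm hyz hxz
  have hc3fix : ∀ w ∈ g.support, c3 w = w := by
    intro w hw
    have hwx : w ≠ x := by rintro rfl; exact (hmemΔ _).1 hx hw
    have hwy : w ≠ y := by rintro rfl; exact (hmemΔ _).1 hy hw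
    have hwz : w ≠ z := by rintro rfl; exact (hmemΔ _).1 hz hw
    rw [hc3]
    simp only [Perm.coe_mul, Function.comp_apply]
    rw [swap_apply_of_ne_of_ne hwy hwz, swap_apply_of_ne_of_ne hwx hwy,
      swap_apply_of_ne_of_ne hwy hwz, swap_apply_of_ne_of_ne hwx hwy]
  obtain ⟨hc', hu⟩ := hgc.commute_iff.1 hcomm
  have huG : ofSubtype (subtypePerm h hc') ∈ G := by
    obtain ⟨i, hi⟩ := Subgroup.mem_zpowers_iff.1 hu
    rw [← hi]; exact G.zpow_mem hg i
  have hc3eq : c3 * ofSubtype (subtypePerm h hc') = h := by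
    ext w
    rw [Perm.coe_mul, Function.comp_apply]
    by_cases hw : w ∈ g.support
    · rw [ofSubtype_subtypePerm_of_mem hc' hw]
      exact hc3fix _ ((hc' w).2 hw)
    · rw [ofSubtype_subtypePerm_of_not_mem hc' hw]
      exact (hhΔ w ((hmemΔ w).2 hw)).symm
  have hc3G : c3 ∈ G := by
    have : c3 = h * (ofSubtype (subtypePerm h hc'))⁻¹ := by
      rw [eq_mul_inv_iff_mul_eq]; exact hc3eq
    rw [this]
    exact G.mul_mem hhG (G.inv_mem huG)
  exact alternatingGroup_le_of_isPreprimitive_of_isThreeCycle_mem hG hc3three hc3G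

end Cfsg.Agent.Lib.Helper6
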