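import Mathlib

namespace Cfsg.Agent.Lib.Helper6

open scoped Pointwise

section JordanSets

variable {G Ω : Type*} [Group G] [MulAction G Ω]

/-- `E` is a Jordan set: the pointwise stabilizer of its complement is transitive on it. -/
def JSet (G : Type*) {Ω : Type*} [Group G] [MulAction G Ω] (E : Set Ω) : Prop :=
  ∀ x ∈ E, ∀ y ∈ E, ∃ g : G, (∀ z ∉ E, g • z = z) ∧ g • x = y

theorem JSet.union {E F : Set Ω} (hE : JSet G E) (hF : JSet G F) (hne : (E ∩ F).Nonempty) :
    JSet G (E ∪ F) := by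
  obtain ⟨c, hcE, hcF⟩ := hne
  -- from c reach any point of the union
  have reach : ∀ x ∈ E ∪ F, ∃ g : G, (∀ z ∉ E ∪ F, g • z = z) ∧ g • c = x := by
    intro x hx
    rcases hx with hx | hx
    · obtain ⟨g, hg1, hg2⟩ := hE c hcE x hx
      exact ⟨g, fun z hz => hg1 z (fun h => hz (Or.inl h)), hg2⟩
    · obtain ⟨g, hg1, hg2⟩ := hF c hcF x hx
      exact ⟨g, fun z hz => hg1 z (fun h => hz (Or.inr h)), hg2⟩
  intro x hx y hy
  obtain ⟨g1, h11, h12⟩ := reach x hx
  obtain ⟨g2, h21, h22⟩ := reach y hy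
  refine ⟨g2 * g1⁻¹, ?_, ?_⟩
  · intro z hz
    rw [mul_smul]
    have : g1⁻¹ • z = z := by rw [inv_smul_eq_iff, h11 z hz]
    rw [this, h21 z hz]
  · rw [mul_smul, ← h12, inv_smul_smul, h22]

theorem JSet.smul {E : Set Ω} (hE : JSet G E) (g : G) : JSet G (g • E) := by
  intro x hx y hy
  rw [Set.mem_smul_set_iff_inv_smul_mem] at hx hy
  obtain ⟨k, hk1, hk2⟩ := hE _ hx _ hy
  refine ⟨g * k * g⁻¹, ?_, ?_⟩
  · intro z hz
    rw [Set.mem_smul_set_iff_inv_smul_mem] at hz
    rw [mul_smul, mul_smul, hk1 _ hz, smul_inv_smul]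
  · rw [mul_smul, mul_smul, hk2, smul_inv_smul]

theorem exists_jset_ncard_add_two [Finite Ω]
    (h2 : ∀ a b c d : Ω, a ≠ b → c ≠ d → ∃ g : G, g • a = c ∧ g • b = d)
    (D : Set Ω) (hD : JSet G D) (hD1 : 2 ≤ D.ncard) (hD2 : 2 * D.ncard ≤ Nat.card Ω) :
    ∃ E : Set Ω, JSet G E ∧ E.ncard + 2 = Nat.card Ω := by
  classical
  obtain ⟨n, hn⟩ : ∃ n, n = Nat.card Ω := ⟨_, rfl⟩
  rw [← hn] at hD2 ⊢
  have hcompl : ∀ A : Set Ω, A.ncard + Aᶜ.ncard = n := fun A => by rw [hn]; exact Set.ncard_add_ncard_compl A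
  let S : Set (Set Ω) := {E | JSet G E ∧ 2 ≤ E.ncard ∧ E.ncard + 2 ≤ n}
  have hDS : D ∈ S := ⟨hD, hD1, by omega⟩
  obtain ⟨E, hES, hmax⟩ := Set.exists_max_image S (fun E => E.ncard) (Set.toFinite S) ⟨D, hDS⟩
  obtain ⟨hEJ, hE1, hE2⟩ := hES
  by_contra hcon
  push Not at hcon
  have hE3 : E.ncard + 3 ≤ n := by
    have := hcon E hEJ
    omega
  -- general principle
  have key : ∀ E' F : Set Ω, JSet G E' → E'.ncard = E.ncard → JSet G F → (E' ∩ F).Nonempty →
      F ⊆ E' ∨ ∀ u v, u ∉ E' ∪ F → v ∉ E' ∪ F → u = v := by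
    intro E' F hE' hcard hF hne
    by_contra hc
    push Not at hc
    obtain ⟨hnsub, u, v, hu, hv, huv⟩ := hc
    have hU : JSet G (E' ∪ F) := hE'.union hF hne
    have hUle : (E' ∪ F).ncard + 2 ≤ n := by
      have hsub : E' ∪ F ⊆ ({u, v} : Set Ω)ᶜ := by
        intro z hz
        simp only [Set.mem_compl_iff, Set.mem_insert_iff, Set.mem_singleton_iff, not_or]
        exact ⟨fun h => hu (h ▸ hz), fun h => hv (h ▸ hz)⟩
      have h1 := Set.ncard_le_ncard hsub (Set.toFinite _)
      have h2 : ({u, v} : Set Ω).ncard = 2 := Set.ncard_pair huv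
      have h3 := hcompl ({u, v} : Set Ω)
      omega
    have hUge : E'.ncard ≤ (E' ∪ F).ncard := Set.ncard_le_ncard Set.subset_union_left (Set.toFinite _)
    have hUS : (E' ∪ F) ∈ S := ⟨hU, by omega, hUle⟩
    have hle : (E' ∪ F).ncard ≤ E.ncard := hmax _ hUS
    have heq : E' = E' ∪ F := Set.eq_of_subset_of_ncard_le Set.subset_union_left (by omega) (Set.toFinite _)
    apply hnsub
    rw [heq]; exact Set.subset_union_right
  -- counting lemma
  have cnt : ∀ A B : Set Ω, A.ncard = E.ncard → B.ncard = E.ncard →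
      (∀ u v, u ∉ A ∪ B → v ∉ A ∪ B → u = v) →
      (A ∩ B).ncard + n ≤ 2 * E.ncard + 1 := by
    intro A B hA hB hss
    have h1 : (A ∪ B)ᶜ.ncard ≤ 1 := by
      rw [Set.ncard_le_one (Set.toFinite _)]
      intro a ha b hb
      exact hss a b ha hb
    have h2 := hcompl (A ∪ B)
    have h3 := Set.ncard_union_add_ncard_inter A B
    omega
  -- three points outside E
  have hEc : 2 < Eᶜ.ncard := by have := hcompl E; omega
  obtain ⟨c1, hc1, c2, hc2, c3, hc3, h12, h13, h23⟩ := (Set.two_lt_ncard (Set.toFinite _)).mp hEc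
  have line : ∀ a b : Ω, a ≠ b → ∃ (E' : Set Ω) (r : Ω), JSet G E' ∧ E'.ncard = E.ncard ∧
      a ∉ E' ∧ b ∉ E' ∧ r ∉ E' ∧ r ≠ a ∧ r ≠ b := by
    intro a b hab
    obtain ⟨g, hga, hgb⟩ := h2 c1 c2 a b h12 hab
    refine ⟨g • E, g • c3, hEJ.smul g, Set.ncard_smul_set _ _, ?_, ?_, ?_, ?_, ?_⟩
    · rw [← hga, Set.smul_mem_smul_set_iff]; exact hc1
    · rw [← hgb, Set.smul_mem_smul_set_iff]; exact hc2
    · rw [Set.smul_mem_smul_set_iff]; exact hc3
    · intro h; rw [← hga] at h; exact h13 (MulAction.injective g h).symm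
    · intro h; rw [← hgb] at h; exact h23 (MulAction.injective g h).symm
  rcases Nat.lt_or_ge n (2 * E.ncard) with hbig | hsmall
  · -- Case A : n < 2e
    obtain ⟨p, hp, q, hq, hpq⟩ := (Set.one_lt_ncard (Set.toFinite D)).mp (by omega)
    have L1 : ∀ E' E'' : Set Ω, JSet G E' → E'.ncard = E.ncard → JSet G E'' → E''.ncard = E.ncard →
        E' = E'' ∨ ∀ u v, u ∉ E' ∪ E'' → v ∉ E' ∪ E'' → u = v := by
      intro E' E'' hJ' hc' hJ'' hc''
      have hne : (E' ∩ E'').Nonempty := by
        by_contra hemp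
        rw [Set.not_nonempty_iff_eq_empty] at hemp
        have h3 := Set.ncard_union_add_ncard_inter E' E''
        rw [hemp, Set.ncard_empty] at h3
        have h4 := hcompl (E' ∪ E'')
        omega
      rcases key E' E'' hJ' hc' hJ'' hne with hsub | hss
      · left
        exact (Set.eq_of_subset_of_ncard_le hsub (by omega) (Set.toFinite _)).symm
      · right; exact hss
    have A1 : ∀ E' : Set Ω, JSet G E' → E'.ncard = E.ncard → (D ∩ E').Nonempty := by
      intro E' hJ' hc'
      by_contra hempty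
      have hDE' : ∀ z, z ∈ D → z ∉ E' := fun z hz hz' => hempty ⟨z, hz, hz'⟩
      obtain ⟨w, hw⟩ : E'.Nonempty := by
        rw [← Set.ncard_pos (Set.toFinite _)]; omega
      have hpw : p ≠ w := fun h => hDE' p hp (h ▸ hw)
      obtain ⟨E'', r, hJ'', hc'', hpE'', hwE'', hr, hrp, hrw⟩ := line p w hpw
      have hne' : E' ≠ E'' := fun h => hwE'' (h ▸ hw)
      rcases L1 E' E'' hJ' hc' hJ'' hc'' with heq | hss
      · exact hne' heq
      by_cases hDE'' : (D ∩ E'').Nonempty
      · rcases key E'' D hJ'' hc'' hD (by rwa [Set.inter_comm]) with hsub | hssD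
        · exact hpE'' (hsub hp)
        · by_cases hrD : r ∈ D
          · apply hrp
            apply hss r p
            · rintro (h | h)
              · exact hDE' r hrD h
              · exact hr h
            · rintro (h | h)
              · exact hDE' p hp h
              · exact hpE'' h
          · apply hrw
            apply hssD r w
            · rintro (h | h)
              · exact hr h
              · exact hrD h
            · rintro (h | h)
              · exact hwE'' h
              · exact hDE' w h hw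
      · have hDE2 : ∀ z, z ∈ D → z ∉ E'' := fun z hz hz' => hDE'' ⟨z, hz, hz'⟩
        apply hpq
        apply hss p q
        · rintro (h | h)
          · exact hDE' p hp h
          · exact hDE2 p hp h
        · rintro (h | h)
          · exact hDE' q hq h
          · exact hDE2 q hq h
    have keyx : ∀ x : Ω, ∃ r : Ω, x ∉ D → (r ∈ D ∧ r ≠ p ∧ ∃ E' : Set Ω, JSet G E' ∧ E'.ncard = E.ncard ∧
        p ∉ E' ∧ x ∉ E' ∧ r ∉ E' ∧ (∀ u v, u ∉ E' ∪ D → v ∉ E' ∪ D → u = v)) := by
      intro x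
      by_cases hx : x ∈ D
      · exact ⟨p, fun h => absurd hx h⟩
      · have hpx : p ≠ x := fun h => hx (h ▸ hp)
        obtain ⟨E', r, hJ', hc', hpE', hxE', hr, hrp, hrx⟩ := line p x hpx
        have hne := A1 E' hJ' hc'
        rcases key E' D hJ' hc' hD (by rwa [Set.inter_comm]) with hsub | hss
        · exact absurd (hsub hp) hpE'
        · have hrD : r ∈ D := by
            by_contra hrD
            apply hrx
            apply hss r x
            · rintro (h | h)
              · exact hr h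
              · exact hrD h
            · rintro (h | h)
              · exact hxE' h
              · exact hx h
          exact ⟨r, fun _ => ⟨hrD, hrp, E', hJ', hc', hpE', hxE', hr, hss⟩⟩
    choose f hf using keyx
    have hmaps : ∀ x ∈ Dᶜ, f x ∈ D \ {p} := by
      intro x hx
      obtain ⟨h1, h2, -⟩ := hf x hx
      exact ⟨h1, h2⟩
    have hinj : Set.InjOn f Dᶜ := by
      intro x hx x' hx' hxx'
      obtain ⟨h1, h2, E1, hJ1, hc1', hp1, hx1, hr1, hss1⟩ := hf x hx
      obtain ⟨h1', h2', E2, hJ2, hc2', hp2, hx2, hr2, hss2⟩ := hf x' hx'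
      rcases L1 E1 E2 hJ1 hc1' hJ2 hc2' with heq | hss
      · apply hss1 x x'
        · rintro (h | h)
          · exact hx1 h
          · exact hx h
        · rintro (h | h)
          · rw [heq] at h; exact hx2 h
          · exact hx' h
      · exfalso
        apply h2
        apply hss (f x) p
        · rintro (h | h)
          · exact hr1 h
          · rw [hxx'] at h; exact hr2 h
        · rintro (h | h)
          · exact hp1 h
          · exact hp2 h
    have hle := Set.ncard_le_ncard_of_injOn f hmaps hinj (Set.toFinite _)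
    rw [Set.ncard_sdiff_singleton_of_mem hp] at hle
    have := hcompl D
    omega
  · -- Case B : 2e ≤ n
    obtain ⟨p, hp, q, hq, hpq⟩ := (Set.one_lt_ncard (Set.toFinite E)).mp (by omega)
    have hpc1 : p ≠ c1 := fun h => hc1 (h ▸ hp)
    obtain ⟨g1, hg1p, hg1q⟩ := h2 p q p c1 hpq hpc1
    obtain ⟨F, hF⟩ : ∃ F, F = g1 • E := ⟨_, rfl⟩
    have hFJ : JSet G F := hF ▸ hEJ.smul g1
    have hFc : F.ncard = E.ncard := by rw [hF]; exact Set.ncard_smul_set _ _
    have hpF : p ∈ F := by rw [hF, ← hg1p]; exact Set.smul_mem_smul_set hp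
    have hc1F : c1 ∈ F := by rw [hF, ← hg1q]; exact Set.smul_mem_smul_set hq
    rcases key E F hEJ rfl hFJ ⟨p, hp, hpF⟩ with hsub | hss
    · exact hc1 (hsub hc1F)
    have hcnt := cnt E F rfl hFc hss
    have hpos : 0 < (E ∩ F).ncard := by
      rw [Set.ncard_pos (Set.toFinite _)]; exact ⟨p, hp, hpF⟩
    have hn2 : n = 2 * E.ncard := by omega
    have hEF1 : (E ∩ F).ncard ≤ 1 := by omega
    have hT : (E ∪ F)ᶜ.ncard ≤ 1 := by
      rw [Set.ncard_le_one (Set.toFinite _)]
      intro a ha b hb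
      exact hss a b ha hb
    obtain ⟨y0, hy0⟩ : ∃ y0, y0 ∉ E ∪ F := by
      by_contra h
      push Not at h
      have hu : E ∪ F = Set.univ := Set.eq_univ_of_forall h
      have h3 := Set.ncard_union_add_ncard_inter E F
      rw [hu, Set.ncard_univ, ← hn] at h3
      omega
    have hpy0 : p ≠ y0 := fun h => hy0 (Or.inl (h ▸ hp))
    obtain ⟨g2, hg2p, hg2q⟩ := h2 p q p y0 hpq hpy0
    obtain ⟨F', hF'⟩ : ∃ F', F' = g2 • E := ⟨_, rfl⟩
    have hF'J : JSet G F' := hF' ▸ hEJ.smul g2
    have hF'c : F'.ncard = E.ncard := by rw [hF']; exact Set.ncard_smul_set _ _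
    have hpF' : p ∈ F' := by rw [hF', ← hg2p]; exact Set.smul_mem_smul_set hp
    have hy0F' : y0 ∈ F' := by rw [hF', ← hg2q]; exact Set.smul_mem_smul_set hq
    rcases key E F' hEJ rfl hF'J ⟨p, hp, hpF'⟩ with hsub | hss1
    · exact hy0 (Or.inl (hsub hy0F'))
    rcases key F F' hFJ hFc hF'J ⟨p, hpF, hpF'⟩ with hsub | hss2
    · exact hy0 (Or.inr (hsub hy0F'))
    have hcnt1 := cnt E F' rfl hF'c hss1
    have hcnt2 := cnt F F' hFc hF'c hss2
    have hEF'1 : (E ∩ F').ncard ≤ 1 := by omega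
    have hFF'1 : (F ∩ F').ncard ≤ 1 := by omega
    rw [Set.ncard_le_one (Set.toFinite _)] at hEF'1 hFF'1
    have hsubF' : F' ⊆ insert p (E ∪ F)ᶜ := by
      intro z hz
      by_cases hzE : z ∈ E
      · left; exact hEF'1 z ⟨hzE, hz⟩ p ⟨hp, hpF'⟩
      · by_cases hzF : z ∈ F
        · left; exact hFF'1 z ⟨hzF, hz⟩ p ⟨hpF, hpF'⟩
        · right
          rintro (h | h)
          · exact hzE h
          · exact hzF h
    have h5 := Set.ncard_le_ncard hsubF' (Set.toFinite _)
    have h6 := Set.ncard_insert_le p (E ∪ F)ᶜ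
    omega

theorem three_trans_of_jset [Finite Ω]
    (h2 : ∀ a b c d : Ω, a ≠ b → c ≠ d → ∃ g : G, g • a = c ∧ g • b = d)
    (E : Set Ω) (hE : JSet G E) (hEc : E.ncard + 2 = Nat.card Ω) :
    MulAction.IsMultiplyPretransitive G Ω 3 := by
  have hc : Eᶜ.ncard = 2 := by
    have := Set.ncard_add_ncard_compl E
    omega
  obtain ⟨a, b, hab, hEab⟩ := Set.ncard_eq_two.mp hc
  have hmemE : ∀ z, z ≠ a → z ≠ b → z ∈ E := by
    intro z hza hzb
    by_contra hz
    have : z ∈ Eᶜ := hz
    rw [hEab] at this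
    rcases this with h | h
    · exact hza h
    · exact hzb h
  have haE : a ∉ E := by
    have : a ∈ Eᶜ := by rw [hEab]; exact Set.mem_insert _ _
    exact this
  have hbE : b ∉ E := by
    have : b ∈ Eᶜ := by rw [hEab]; exact Set.mem_insert_of_mem _ rfl
    exact this
  rw [MulAction.isMultiplyPretransitive_iff]
  intro x y
  have hx01 : x 0 ≠ x 1 := fun h => by simpa using x.injective h
  have hx02 : x 0 ≠ x 2 := fun h => by simpa using x.injective h
  have hx12 : x 1 ≠ x 2 := fun h => by simpa using x.injective h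
  have hy01 : y 0 ≠ y 1 := fun h => by simpa using y.injective h
  have hy02 : y 0 ≠ y 2 := fun h => by simpa using y.injective h
  have hy12 : y 1 ≠ y 2 := fun h => by simpa using y.injective h
  obtain ⟨g1, hg1a, hg1b⟩ := h2 (x 0) (x 1) a b hx01 hab
  obtain ⟨g2, hg2a, hg2b⟩ := h2 (y 0) (y 1) a b hy01 hab
  have hx2E : g1 • x 2 ∈ E := by
    apply hmemE
    · rw [← hg1a]; exact fun h => hx02 (MulAction.injective g1 h).symm
    · rw [← hg1b]; exact fun h => hx12 (MulAction.injective g1 h).symm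
  have hy2E : g2 • y 2 ∈ E := by
    apply hmemE
    · rw [← hg2a]; exact fun h => hy02 (MulAction.injective g2 h).symm
    · rw [← hg2b]; exact fun h => hy12 (MulAction.injective g2 h).symm
  obtain ⟨k, hk1, hk2⟩ := hE _ hx2E _ hy2E
  refine ⟨g2⁻¹ * k * g1, ?_⟩
  ext i
  rw [Function.Embedding.smul_apply, mul_smul, mul_smul, inv_smul_eq_iff]
  fin_cases i
  · show k • g1 • x 0 = g2 • y 0
    rw [hg1a, hg2a, hk1 a haE]
  · show k • g1 • x 1 = g2 • y 1
    rw [hg1b, hg2b, hk1 b hbE]
  · show k • g1 • x 2 = g2 • y 2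
    exact hk2

end JordanSets

end Cfsg.Agent.Lib.Helper6
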