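import Mathlib

set_option autoImplicit false

namespace Cfsg.Agent.Lib.Helper6.K2

variable {G : Type*} [Group G]

/-- conjugation action of a subgroup of the normalizer -/
@[reducible] def conjAct (Q Γ : Subgroup G) (hΓ : Γ ≤ Subgroup.normalizer (Q : Set G)) :
    MulAction Γ Q where
  smul a x := ⟨(a : G) * x * (a : G)⁻¹, (Subgroup.mem_normalizer_iff.mp (hΓ a.2) x).mp x.2⟩
  one_smul := by
    intro x
    apply Subtype.ext
    show ((1 : Γ) : G) * x * ((1 : Γ) : G)⁻¹ = x
    simp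
  mul_smul := by
    intro g h x
    apply Subtype.ext
    show ((g * h : Γ) : G) * x * ((g * h : Γ) : G)⁻¹ =
      (g : G) * ((h : G) * x * (h : G)⁻¹) * (g : G)⁻¹
    simp only [Subgroup.coe_mul, mul_inv_rev]
    group

theorem no_index_two (Q : Subgroup G) (hQ : IsPGroup 2 Q) (a : G)
    (ha : ∀ x ∈ Q, a * x * a⁻¹ ∈ Q) (m : ℕ) (hm : Odd m) (ham : a ^ m = 1)
    (F : Subgroup Q) (hF : ∀ x : Q, x ∈ F ↔ a * (x : G) * a⁻¹ = x) (hidx : F.index = 2) : False := by
  have hFtop : F ≠ ⊤ := by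
    intro h
    rw [h, Subgroup.index_top] at hidx
    omega
  obtain ⟨x, hx⟩ : ∃ x : Q, x ∉ F := by
    by_contra hcon
    push_neg at hcon
    exact hFtop (eq_top_iff.2 fun x _ => hcon x)
  let y : Q := ⟨a * (x : G) * a⁻¹, ha x x.2⟩
  have hy : y ∉ F := by
    intro h
    have h1 := (hF y).1 h
    apply hx
    rw [hF]
    have h2 : a * (a * (x : G) * a⁻¹) * a⁻¹ = a * (x : G) * a⁻¹ := h1
    have h3 : a * (x : G) * a⁻¹ = x := by
      have := congrArg (fun t => a⁻¹ * t * a) h2
      have e1 : a⁻¹ * (a * (a * (x : G) * a⁻¹) * a⁻¹) * a = a * (x : G) * a⁻¹ := by group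
      have e2 : a⁻¹ * (a * (x : G) * a⁻¹) * a = x := by group
      rw [e1, e2] at this
      exact this
    exact h3
  have hc : y * x⁻¹ ∈ F := by
    rw [Subgroup.mul_mem_iff_of_index_two hidx]
    constructor
    · intro h; exact absurd h hy
    · intro h; exact absurd (by simpa using F.inv_mem h) hx
  set c : Q := y * x⁻¹ with hcdef
  have hca : a * (c : G) * a⁻¹ = c := (hF c).1 hc
  have hyx : a * (x : G) * a⁻¹ = (c : G) * x := by
    have : (y : G) = (c : G) * x := by
      rw [hcdef]; simp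
    exact this
  have hpow : ∀ j : ℕ, a ^ j * (x : G) * (a ^ j)⁻¹ = (c : G) ^ j * x := by
    intro j
    induction j with
    | zero => simp
    | succ j ih =>
      calc a ^ (j + 1) * (x : G) * (a ^ (j + 1))⁻¹
          = a * (a ^ j * (x : G) * (a ^ j)⁻¹) * a⁻¹ := by rw [pow_succ']; group
        _ = a * ((c : G) ^ j * x) * a⁻¹ := by rw [ih]
        _ = (a * (c : G) * a⁻¹) ^ j * (a * (x : G) * a⁻¹) := by rw [conj_pow]; group
        _ = (c : G) ^ j * ((c : G) * x) := by rw [hca, hyx]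
        _ = (c : G) ^ (j + 1) * x := by rw [pow_succ]; group
  have h1 := hpow m
  rw [ham] at h1
  have hcm : (c : G) ^ m = 1 := by
    have : (x : G) = (c : G) ^ m * x := by simpa using h1
    have h2 : (c : G) ^ m * x = 1 * x := by rw [one_mul]; exact this.symm
    exact mul_right_cancel h2
  obtain ⟨k, hk⟩ := hQ c
  have hk' : (c : G) ^ (2 ^ k) = 1 := by
    have := congrArg Subtype.val hk
    simpa using this
  have hc1 : (c : G) = 1 := by
    have o1 : orderOf (c : G) ∣ m := orderOf_dvd_of_pow_eq_one hcm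
    have o2 : orderOf (c : G) ∣ 2 ^ k := orderOf_dvd_of_pow_eq_one hk'
    have hcop : Nat.Coprime m (2 ^ k) := by
      apply Nat.Coprime.pow_right
      exact hm.coprime_two_right
    have := Nat.dvd_gcd o1 o2
    rw [hcop.gcd_eq_one, Nat.dvd_one, orderOf_eq_one_iff] at this
    exact this
  apply hx
  rw [hF, hyx, hc1, one_mul]

theorem orbit_bound [Finite G] (Q Γ : Subgroup G) (hQ : IsPGroup 2 Q)
    (hΓ : Γ ≤ Subgroup.normalizer (Q : Set G))
    (hodd : Odd (Nat.card Γ)) (hnc : ¬ Γ ≤ Subgroup.centralizer (Q : Set G)) :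
    2 * Nat.card (@MulAction.orbitRel.Quotient Γ Q _ (conjAct Q Γ hΓ)) ≤ Nat.card Q := by
  classical
  have := Fintype.ofFinite G
  letI act : MulAction Γ Q := conjAct Q Γ hΓ
  have hsmul : ∀ (g : Γ) (x : Q), ((g • x : Q) : G) = (g : G) * x * (g : G)⁻¹ := fun g x => rfl
  let Ω := MulAction.orbitRel.Quotient Γ Q
  have hB := MulAction.sum_card_fixedBy_eq_card_orbits_mul_card_group Γ Q
  let C : Subgroup Γ := (Subgroup.centralizer ((Q : Subgroup G) : Set G)).subgroupOf Γ
  have hCtop : C ≠ ⊤ := by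
    intro h
    apply hnc
    intro g hg
    have : (⟨g, hg⟩ : Γ) ∈ C := by rw [h]; exact Subgroup.mem_top _
    exact this
  have hC3 : 3 * Nat.card C ≤ Nat.card Γ := by
    have h1 := Subgroup.card_mul_index C
    have h2 : C.index ≠ 1 := fun h => hCtop (Subgroup.index_eq_one.mp h)
    have h3 : C.index ≠ 0 := Subgroup.index_ne_zero_of_finite
    have h5 : Odd C.index := by
      have hd : C.index ∣ Nat.card Γ := Subgroup.index_dvd_card C
      exact Odd.of_dvd_nat hodd hd
    have h4 : 3 ≤ C.index := by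
      obtain ⟨k, hk⟩ := h5
      omega
    calc 3 * Nat.card C = Nat.card C * 3 := by ring
      _ ≤ Nat.card C * C.index := Nat.mul_le_mul_left _ h4
      _ = Nat.card Γ := h1
  -- fixed points
  have hfix : ∀ g : Γ, 4 * Fintype.card (MulAction.fixedBy Q g) ≤
      (if g ∈ C then 4 else 1) * Nat.card Q := by
    intro g
    by_cases hg : g ∈ C
    · rw [if_pos hg]
      apply Nat.mul_le_mul_left
      rw [Nat.card_eq_fintype_card]
      exact Fintype.card_subtype_le _
    · rw [if_neg hg, one_mul]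
      let D : Subgroup Q :=
        { carrier := {x | g • x = x}
          mul_mem' := by
            intro a b ha hb
            simp only [Set.mem_ofPred_eq] at ha hb ⊢
            apply Subtype.ext
            have ha' := congrArg Subtype.val ha
            have hb' := congrArg Subtype.val hb
            rw [hsmul] at ha' hb' ⊢
            rw [Subgroup.coe_mul]
            calc (g : G) * ((a : G) * (b : G)) * (g : G)⁻¹
                = ((g : G) * a * (g : G)⁻¹) * ((g : G) * b * (g : G)⁻¹) := by group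
              _ = a * b := by rw [ha', hb']
          one_mem' := by
            simp only [Set.mem_ofPred_eq]
            apply Subtype.ext
            rw [hsmul]; simp
          inv_mem' := by
            intro a ha
            simp only [Set.mem_ofPred_eq] at ha ⊢
            apply Subtype.ext
            have ha' := congrArg Subtype.val ha
            rw [hsmul] at ha' ⊢
            rw [Subgroup.coe_inv]
            calc (g : G) * (a : G)⁻¹ * (g : G)⁻¹ = ((g : G) * a * (g : G)⁻¹)⁻¹ := by group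
              _ = (a : G)⁻¹ := by rw [ha'] }
      have hDmem : ∀ x : Q, x ∈ D ↔ (g : G) * (x : G) * (g : G)⁻¹ = x := by
        intro x
        constructor
        · intro h
          have := congrArg Subtype.val (show g • x = x from h)
          rw [hsmul] at this
          exact this
        · intro h
          show g • x = x
          apply Subtype.ext
          rw [hsmul]; exact h
      have hDtop : D ≠ ⊤ := by
        intro h
        apply hg
        show (g : G) ∈ Subgroup.centralizer ((Q : Subgroup G) : Set G)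
        rw [Subgroup.mem_centralizer_iff]
        intro x hx
        have : (⟨x, hx⟩ : Q) ∈ D := by rw [h]; exact Subgroup.mem_top _
        have h2 := (hDmem ⟨x, hx⟩).1 this
        simp only at h2
        calc x * (g : G) = ((g : G) * x * (g : G)⁻¹) * g := by rw [h2]
          _ = g * x := by group
      have hcardD : Fintype.card (MulAction.fixedBy Q g) = Nat.card D := by
        rw [Nat.card_eq_fintype_card]
        apply Fintype.card_congr
        exact Equiv.refl _
      rw [hcardD]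
      have h1 := Subgroup.card_mul_index D
      have h2 : D.index ≠ 1 := fun h => hDtop (Subgroup.index_eq_one.mp h)
      have h3 : D.index ∣ Nat.card Q := Subgroup.index_dvd_card D
      obtain ⟨n, hn⟩ := (IsPGroup.iff_card.mp hQ)
      rw [hn] at h3
      obtain ⟨j, _, hj⟩ := (Nat.dvd_prime_pow Nat.prime_two).mp h3
      have hidx2 : D.index ≠ 2 := by
        intro hidx
        have hgodd : Odd (orderOf (g : G)) := by
          have h1 : orderOf (g : G) = orderOf g := (Subgroup.orderOf_coe g)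
          rw [h1]
          exact Odd.of_dvd_nat hodd (orderOf_dvd_natCard g)
        exact no_index_two Q hQ (g : G)
          (fun x hx => (Subgroup.mem_normalizer_iff.mp (hΓ g.2) x).mp hx)
          (orderOf (g : G)) hgodd (pow_orderOf_eq_one _) D hDmem hidx
      have h4 : 4 ≤ D.index := by
        rw [hj] at h2 hidx2 ⊢
        have hj2 : 2 ≤ j := by
          by_contra hcon
          have : j = 0 ∨ j = 1 := by omega
          rcases this with rfl | rfl
          · exact h2 (pow_zero 2)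
          · exact hidx2 (pow_one 2)
        calc 4 = 2 ^ 2 := by norm_num
          _ ≤ 2 ^ j := Nat.pow_le_pow_right (by norm_num) hj2
      calc 4 * Nat.card D = Nat.card D * 4 := by ring
        _ ≤ Nat.card D * D.index := Nat.mul_le_mul_left _ h4
        _ = Nat.card Q := h1
  -- sum of weights
  have hsumw : ∑ g : Γ, (if g ∈ C then 4 else 1) = 3 * Nat.card C + Nat.card Γ := by
    have h1 : ∀ g : Γ, (if g ∈ C then 4 else 1) = 1 + (if g ∈ C then 3 else 0) := by
      intro g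
      split_ifs <;> rfl
    simp_rw [h1]
    rw [Finset.sum_add_distrib, Finset.sum_const, Finset.card_univ, smul_eq_mul, mul_one,
      ← Finset.sum_filter, Finset.sum_const, smul_eq_mul]
    have h2 : (Finset.univ.filter (fun g : Γ => g ∈ C)).card = Nat.card C := by
      rw [Nat.card_eq_fintype_card, Fintype.card_subtype]
    rw [h2, ← Nat.card_eq_fintype_card]
    ring
  have hmain : 4 * (Fintype.card Ω * Fintype.card Γ) ≤ 2 * Nat.card Q * Fintype.card Γ := by
    rw [← hB, Finset.mul_sum]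
    calc ∑ g : Γ, 4 * Fintype.card (MulAction.fixedBy Q g)
        ≤ ∑ g : Γ, ((if g ∈ C then 4 else 1) * Nat.card Q) := by
          apply Finset.sum_le_sum
          intro g _
          exact hfix g
      _ = (3 * Nat.card C + Nat.card Γ) * Nat.card Q := by
          rw [← Finset.sum_mul, hsumw]
      _ ≤ 2 * Nat.card Q * Fintype.card Γ := by
          rw [← Nat.card_eq_fintype_card]
          have : (3 * Nat.card C + Nat.card Γ) ≤ 2 * Nat.card Γ := by omega
          calc (3 * Nat.card C + Nat.card Γ) * Nat.card Q ≤ (2 * Nat.card Γ) * Nat.card Q :=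
                Nat.mul_le_mul_right _ this
            _ = _ := by ring
  have hΓpos : 0 < Fintype.card Γ := Fintype.card_pos
  have hΩ : 2 * Fintype.card Ω ≤ Nat.card Q := by
    have h1 : (2 * Fintype.card Ω) * (2 * Fintype.card Γ) ≤ Nat.card Q * (2 * Fintype.card Γ) := by
      calc (2 * Fintype.card Ω) * (2 * Fintype.card Γ)
          = 4 * (Fintype.card Ω * Fintype.card Γ) := by ring
        _ ≤ 2 * Nat.card Q * Fintype.card Γ := hmain
        _ = Nat.card Q * (2 * Fintype.card Γ) := by ring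
    exact Nat.le_of_mul_le_mul_right h1 (by omega)
  rw [Nat.card_eq_fintype_card (α := Ω)]
  exact hΩ

theorem classes_outside_bound [Finite G] (P Q : Subgroup G) (hQP : Q ≤ P)
    (hZ : ∀ z ∈ P, (∀ y ∈ P, y * z = z * y) → z ∈ Q) :
    2 * Nat.card {c : ConjClasses ↥P // ∀ y ∈ c.carrier, (y : G) ∉ Q} + Nat.card Q ≤ Nat.card P := by
  classical
  have := Fintype.ofFinite G
  have hrep : ∀ c : {c : ConjClasses ↥P // ∀ y ∈ c.carrier, (y : G) ∉ Q},
      ∃ y : ↥P, ConjClasses.mk y = c.1 := fun c => ConjClasses.exists_rep c.1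
  choose rep hrep' using hrep
  have hrepQ : ∀ c, ((rep c : ↥P) : G) ∉ Q := fun c =>
    c.2 (rep c) (by rw [ConjClasses.mem_carrier_iff_mk_eq]; exact hrep' c)
  have hu : ∀ c, ∃ u : ↥P, u * rep c * u⁻¹ ≠ rep c := by
    intro c
    by_contra hcon
    push_neg at hcon
    apply hrepQ c
    apply hZ _ (rep c).2
    intro y hy
    have h1 := hcon ⟨y, hy⟩
    have h2 := congrArg Subtype.val h1
    rw [Subgroup.coe_mul, Subgroup.coe_mul, Subgroup.coe_inv] at h2
    simp only at h2
    calc y * ((rep c : ↥P) : G) = (y * (rep c : ↥P) * y⁻¹) * y := by group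
      _ = (rep c : ↥P) * y := by rw [h2]
  choose u hu' using hu
  have hconjQ : ∀ c, (((u c * rep c * (u c)⁻¹ : ↥P)) : G) ∉ Q := fun c =>
    c.2 _ (by
      rw [ConjClasses.mem_carrier_iff_mk_eq, ← hrep' c, ConjClasses.mk_eq_mk_iff_isConj,
        isConj_comm, isConj_iff]
      exact ⟨u c, rfl⟩)
  let f : {c : ConjClasses ↥P // ∀ y ∈ c.carrier, (y : G) ∉ Q} × Bool →
      {y : ↥P // ¬ ((y : G) ∈ Q)} := fun cb =>
    if cb.2 then ⟨u cb.1 * rep cb.1 * (u cb.1)⁻¹, hconjQ cb.1⟩ else ⟨rep cb.1, hrepQ cb.1⟩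
  have hmk : ∀ cb, ConjClasses.mk (f cb).1 = cb.1.1 := by
    rintro ⟨c, b⟩
    cases b
    · simp only [f]; exact hrep' c
    · simp only [f, if_true]
      rw [← hrep' c, ConjClasses.mk_eq_mk_iff_isConj, isConj_comm, isConj_iff]
      exact ⟨u c, rfl⟩
  have hinj : Function.Injective f := by
    rintro ⟨c, b⟩ ⟨c', b'⟩ h
    have hc : c = c' := Subtype.ext (by rw [← hmk (c, b), ← hmk (c', b'), h])
    subst hc
    cases b <;> cases b'
    · rfl
    · exfalso
      have h1 := congrArg Subtype.val h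
      simp only [f, if_true] at h1
      exact hu' c h1.symm
    · exfalso
      have h1 := congrArg Subtype.val h
      simp only [f, if_true] at h1
      exact hu' c h1
    · rfl
  have hcard := Nat.card_le_card_of_injective f hinj
  rw [Nat.card_prod, Nat.card_eq_fintype_card (α := Bool), Fintype.card_bool] at hcard
  have e1 : Nat.card {y : ↥P // ¬ ((y : G) ∈ Q)} + Nat.card Q = Nat.card P := by
    have h1 : Nat.card {y : ↥P // ((y : G) ∈ Q)} = Nat.card Q :=
      Nat.card_congr (Subgroup.subgroupOfEquivOfLe hQP).toEquiv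
    rw [← h1, Nat.card_eq_fintype_card, Nat.card_eq_fintype_card, Nat.card_eq_fintype_card,
      Fintype.card_subtype_compl]
    have := Fintype.card_subtype_le (fun y : ↥P => (y : G) ∈ Q)
    omega
  omega

theorem pclass_of_mem2 [Finite G] (P : Sylow 2 G)
    (x : G) (hx : x ∈ (P : Subgroup G)) :
    ∀ y ∈ (ConjClasses.mk x).carrier, ∃ k : ℕ, orderOf y = 2 ^ k := by
  intro y hy
  rw [ConjClasses.mem_carrier_iff_mk_eq, ConjClasses.mk_eq_mk_iff_isConj] at hy
  obtain ⟨c, hc⟩ := isConj_iff.mp hy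
  have h1 : orderOf x = orderOf y := by
    rw [← hc]
    have := orderOf_injective (MulAut.conj c).toMonoidHom (MulAut.conj c).injective y
    simpa [MulAut.conj_apply] using this
  obtain ⟨k, hk⟩ := (IsPGroup.iff_orderOf.mp P.2) ⟨x, hx⟩
  refine ⟨k, ?_⟩
  rw [← h1, ← hk, Subgroup.orderOf_mk]

theorem conj_into_sylow2 [Finite G] (P : Sylow 2 G) (y : G) (hy : ∃ k : ℕ, orderOf y = 2 ^ k) :
    ∃ g : G, g * y * g⁻¹ ∈ (P : Subgroup G) := by
  have hpg : IsPGroup 2 (Subgroup.zpowers y) := by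
    obtain ⟨k, hk⟩ := hy
    rw [IsPGroup.iff_card]
    exact ⟨k, by rw [Nat.card_zpowers, hk]⟩
  obtain ⟨Q, hQ⟩ := hpg.exists_le_sylow
  obtain ⟨g, hg⟩ := MulAction.exists_smul_eq G Q P
  refine ⟨g, ?_⟩
  have h1 : y ∈ (Q : Subgroup G) := hQ (Subgroup.mem_zpowers y)
  have h2 := Subgroup.smul_mem_pointwise_smul y (MulAut.conj g) (Q : Subgroup G) h1
  rw [← Sylow.coe_subgroup_smul, hg] at h2
  simpa [MulAut.smul_def, MulAut.conj_apply] using h2

theorem k2_le [Finite G] (P₁ : Sylow 2 G) (Q Γ : Subgroup G) (hQP : Q ≤ (P₁ : Subgroup G))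
    (hZ : ∀ z ∈ (P₁ : Subgroup G), (∀ y ∈ (P₁ : Subgroup G), y * z = z * y) → z ∈ Q)
    (hΓ : Γ ≤ Subgroup.normalizer (Q : Set G)) (hodd : Odd (Nat.card Γ))
    (hnc : ¬ Γ ≤ Subgroup.centralizer (Q : Set G)) :
    2 * Nat.card {c : ConjClasses G // ∀ x ∈ c.carrier, ∃ k : ℕ, orderOf x = 2 ^ k} ≤
      Nat.card (P₁ : Subgroup G) := by
  classical
  have hQ2 : IsPGroup 2 Q := P₁.isPGroup'.to_le hQP
  have hb1 := orbit_bound Q Γ hQ2 hΓ hodd hnc
  have hb2 := classes_outside_bound (P₁ : Subgroup G) Q hQP hZ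
  letI act : MulAction Γ Q := conjAct Q Γ hΓ
  have hsmul : ∀ (g : Γ) (x : Q), ((g • x : Q) : G) = (g : G) * x * (g : G)⁻¹ := fun g x => rfl
  let f : ↥Q → {c : ConjClasses G // ∀ x ∈ c.carrier, ∃ k : ℕ, orderOf x = 2 ^ k} :=
    fun x => ⟨ConjClasses.mk (x : G), pclass_of_mem2 P₁ x (hQP x.2)⟩
  have hfconst : ∀ a b : Q, MulAction.orbitRel Γ Q a b → f a = f b := by
    intro a b hab
    rw [MulAction.orbitRel_apply, MulAction.mem_orbit_iff] at hab
    obtain ⟨g, hg⟩ := hab
    apply Subtype.ext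
    show ConjClasses.mk (a : G) = ConjClasses.mk (b : G)
    rw [ConjClasses.mk_eq_mk_iff_isConj, isConj_comm, isConj_iff]
    refine ⟨g, ?_⟩
    rw [← hsmul, hg]
  let F1 : MulAction.orbitRel.Quotient Γ Q →
      {c : ConjClasses G // ∀ x ∈ c.carrier, ∃ k : ℕ, orderOf x = 2 ^ k} :=
    Quotient.lift f hfconst
  let F2 : {c : ConjClasses ↥(P₁ : Subgroup G) // ∀ y ∈ c.carrier, (y : G) ∉ Q} →
      {c : ConjClasses G // ∀ x ∈ c.carrier, ∃ k : ℕ, orderOf x = 2 ^ k} :=
    fun c => ⟨ConjClasses.map (P₁ : Subgroup G).subtype c.1, by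
      obtain ⟨y, hy⟩ := ConjClasses.exists_rep c.1
      rw [← hy]
      exact pclass_of_mem2 P₁ y y.2⟩
  have hsurj : Function.Surjective (Sum.elim F1 F2) := by
    rintro ⟨c, hc⟩
    obtain ⟨y, rfl⟩ := ConjClasses.mk_surjective c
    have hy : ∃ k : ℕ, orderOf y = 2 ^ k := hc y (by rw [ConjClasses.mem_carrier_iff_mk_eq])
    by_cases hA : ∃ q : Q, ConjClasses.mk (q : G) = ConjClasses.mk y
    · obtain ⟨q, hq⟩ := hA
      refine ⟨Sum.inl (Quotient.mk'' q), ?_⟩
      apply Subtype.ext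
      exact hq
    · obtain ⟨g, hmem⟩ := conj_into_sylow2 P₁ y hy
      have hprop : ∀ y' ∈ (ConjClasses.mk (⟨g * y * g⁻¹, hmem⟩ : ↥(P₁ : Subgroup G))).carrier,
          (y' : G) ∉ Q := by
        intro y' hy' hy'Q
        apply hA
        refine ⟨⟨y', hy'Q⟩, ?_⟩
        rw [ConjClasses.mem_carrier_iff_mk_eq, ConjClasses.mk_eq_mk_iff_isConj, isConj_iff] at hy'
        obtain ⟨u, hu⟩ := hy'
        have hu' := congrArg Subtype.val hu
        rw [Subgroup.coe_mul, Subgroup.coe_mul, Subgroup.coe_inv] at hu'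
        simp only at hu'
        rw [ConjClasses.mk_eq_mk_iff_isConj, isConj_comm, isConj_iff]
        refine ⟨(u : G)⁻¹ * g, ?_⟩
        have e : ((y' : ↥(P₁ : Subgroup G)) : G) = (u : G)⁻¹ * (g * y * g⁻¹) * u := by
          rw [← hu']; group
        show (u : G)⁻¹ * g * y * ((u : G)⁻¹ * g)⁻¹ = (y' : G)
        rw [e]; group
      refine ⟨Sum.inr ⟨ConjClasses.mk ⟨g * y * g⁻¹, hmem⟩, hprop⟩, ?_⟩
      apply Subtype.ext
      show ConjClasses.mk (g * y * g⁻¹) = ConjClasses.mk y
      rw [ConjClasses.mk_eq_mk_iff_isConj, isConj_comm, isConj_iff]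
      exact ⟨g, rfl⟩
  have hcard := Nat.card_le_card_of_surjective _ hsurj
  rw [Nat.card_sum] at hcard
  omega

theorem normalizer_sup [Finite G] (A B : Subgroup G) (g : G)
    (hA : ∀ x ∈ A, g * x * g⁻¹ ∈ A) (hB : ∀ x ∈ B, g * x * g⁻¹ ∈ B) :
    g ∈ Subgroup.normalizer ((A ⊔ B : Subgroup G) : Set G) := by
  apply Subgroup.mem_normalizer_fintype
  intro x hx
  have hle : A ⊔ B ≤ (A ⊔ B).comap (MulAut.conj g).toMonoidHom := by
    apply sup_le
    · intro y hy
      rw [Subgroup.mem_comap]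
      exact Subgroup.mem_sup_left (by simpa using hA y hy)
    · intro y hy
      rw [Subgroup.mem_comap]
      exact Subgroup.mem_sup_right (by simpa using hB y hy)
  have := hle hx
  simpa [Subgroup.mem_comap] using this

theorem pow_conj_mem (A : Subgroup G) (g : G) (hA : ∀ x ∈ A, g * x * g⁻¹ ∈ A) (j : ℕ) :
    ∀ x ∈ A, g ^ j * x * (g ^ j)⁻¹ ∈ A := by
  induction j with
  | zero => intro x hx; simpa using hx
  | succ j ih =>
    intro x hx
    have : g ^ (j + 1) * x * (g ^ (j + 1))⁻¹ = g * (g ^ j * x * (g ^ j)⁻¹) * g⁻¹ := by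
      rw [pow_succ']; group
    rw [this]
    exact hA _ (ih x hx)

theorem upgrade [Finite G] (Q₀ : Subgroup G) (hQ₀ : IsPGroup 2 Q₀) (g : G)
    (hg : g ∈ Subgroup.normalizer (Q₀ : Set G)) (hodd : Nat.Coprime (orderOf g) 2)
    (hgc : g ∉ Subgroup.centralizer (Q₀ : Set G)) :
    ∃ (P₁ : Sylow 2 G) (Q Γ : Subgroup G), Q ≤ (P₁ : Subgroup G) ∧
      (∀ z ∈ (P₁ : Subgroup G), (∀ y ∈ (P₁ : Subgroup G), y * z = z * y) → z ∈ Q) ∧
      Γ ≤ Subgroup.normalizer (Q : Set G) ∧ Odd (Nat.card Γ) ∧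
      ¬ Γ ≤ Subgroup.centralizer (Q : Set G) := by
  classical
  set H := Subgroup.normalizer (Q₀ : Set G) with hH
  set K := Subgroup.centralizer (Q₀ : Set G) with hK
  have hKH : K ≤ H := Subgroup.centralizer_le_normalizer _
  have hHconj : ∀ h ∈ H, ∀ x ∈ Q₀, h * x * h⁻¹ ∈ Q₀ := fun h hh x hx =>
    (Subgroup.mem_normalizer_iff.mp hh x).mp hx
  have hHconj' : ∀ h ∈ H, ∀ x ∈ Q₀, h⁻¹ * x * h ∈ Q₀ := fun h hh x hx => by
    have := hHconj h⁻¹ (H.inv_mem hh) x hx
    simpa using this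
  haveI hnorm : (K.subgroupOf H).Normal := by
    refine ⟨fun k hk h => ?_⟩
    rw [Subgroup.mem_subgroupOf] at hk ⊢
    rw [Subgroup.coe_mul, Subgroup.coe_mul, Subgroup.coe_inv]
    rw [hK, Subgroup.mem_centralizer_iff] at hk ⊢
    intro x hx
    have h1 := hk _ (hHconj' h h.2 x hx)
    calc x * ((h : G) * k * (h : G)⁻¹) = (h : G) * (((h : G)⁻¹ * x * h) * k) * (h : G)⁻¹ := by group
      _ = (h : G) * ((k : G) * ((h : G)⁻¹ * x * h)) * (h : G)⁻¹ := by rw [h1]
      _ = (h : G) * k * (h : G)⁻¹ * x := by group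
  let T : Sylow 2 ↥(K.subgroupOf H) := default
  have hfr := Sylow.normalizer_sup_eq_top T
  set T_H : Subgroup ↥H := (T : Subgroup ↥(K.subgroupOf H)).map (K.subgroupOf H).subtype with hTH
  set T_G : Subgroup G := T_H.map H.subtype with hTG
  have hTG2 : IsPGroup 2 T_G := (T.isPGroup'.map _).map _
  have hTGK : T_G ≤ K := by
    rintro x ⟨t, ht, rfl⟩
    obtain ⟨t', ht', rfl⟩ := ht
    exact Subgroup.mem_subgroupOf.1 t'.2
  have hmemTG : ∀ t : ↥(K.subgroupOf H), t ∈ (T : Subgroup ↥(K.subgroupOf H)) → ((t : ↥H) : G) ∈ T_G :=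
    fun t ht => ⟨(t : ↥H), ⟨t, ht, rfl⟩, rfl⟩
  have hg' : (⟨g, hg⟩ : ↥H) ∈ Subgroup.normalizer ((T_H : Subgroup ↥H) : Set ↥H) ⊔ K.subgroupOf H := by
    rw [hfr]; exact Subgroup.mem_top _
  rw [Subgroup.mem_sup_of_normal_right] at hg'
  obtain ⟨n, hn, k, hk, hnk⟩ := hg'
  have hnk' : (n : G) * (k : G) = g := by
    have := congrArg Subtype.val hnk
    simpa using this
  have hkK : (k : G) ∈ K := Subgroup.mem_subgroupOf.1 hk
  -- n normalizes T_G
  have hnT : ∀ x ∈ T_G, (n : G) * x * (n : G)⁻¹ ∈ T_G := by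
    rintro x ⟨t, ht, rfl⟩
    have h1 := (Subgroup.mem_normalizer_iff.mp hn t).mp ht
    exact ⟨n * t * n⁻¹, h1, by simp⟩
  have hnQ₀ : ∀ x ∈ Q₀, (n : G) * x * (n : G)⁻¹ ∈ Q₀ := hHconj n n.2
  -- n acts as g on Q₀
  have hact : ∀ x ∈ Q₀, g * x * g⁻¹ = (n : G) * x * (n : G)⁻¹ := by
    intro x hx
    have h1 : x * (k : G) = (k : G) * x := by
      have := hkK
      rw [hK, Subgroup.mem_centralizer_iff] at this
      exact this x hx
    rw [← hnk']
    calc (n : G) * k * x * ((n : G) * k)⁻¹ = (n : G) * ((k : G) * x) * (k : G)⁻¹ * (n : G)⁻¹ := by group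
      _ = (n : G) * (x * (k : G)) * (k : G)⁻¹ * (n : G)⁻¹ := by rw [h1]
      _ = (n : G) * x * (n : G)⁻¹ := by group
  have hgQ₀ : ∀ x ∈ Q₀, g * x * g⁻¹ ∈ Q₀ := hHconj g hg
  have hactpow : ∀ j : ℕ, ∀ x ∈ Q₀, g ^ j * x * (g ^ j)⁻¹ = (n : G) ^ j * x * ((n : G) ^ j)⁻¹ := by
    intro j
    induction j with
    | zero => intro x _; simp
    | succ j ih =>
      intro x hx
      have e1 : g ^ (j + 1) * x * (g ^ (j + 1))⁻¹ = g * (g ^ j * x * (g ^ j)⁻¹) * g⁻¹ := by
        rw [pow_succ']; group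
      have e2 : (n : G) ^ (j + 1) * x * ((n : G) ^ (j + 1))⁻¹ =
          (n : G) * ((n : G) ^ j * x * ((n : G) ^ j)⁻¹) * (n : G)⁻¹ := by
        rw [pow_succ']; group
      rw [e1, e2, ih x hx]
      exact hact _ (pow_conj_mem Q₀ (n : G) hnQ₀ j x hx)
  -- odd part
  have hopos : orderOf (n : G) ≠ 0 := (orderOf_pos _).ne'
  obtain ⟨a, m', hm', hom⟩ := Nat.exists_eq_pow_mul_and_not_dvd hopos 2 (by norm_num)
  set n' : G := (n : G) ^ (2 ^ a) with hn'
  have hn'm : n' ^ m' = 1 := by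
    rw [hn', ← pow_mul, ← hom, pow_orderOf_eq_one]
  have hoddn' : Odd (orderOf n') := by
    have hd : orderOf n' ∣ m' := orderOf_dvd_of_pow_eq_one hn'm
    have hm'odd : Odd m' := by
      rcases Nat.even_or_odd m' with he | ho
      · exact absurd he.two_dvd hm'
      · exact ho
    exact Odd.of_dvd_nat hm'odd hd
  have hn'Q₀ : ∀ x ∈ Q₀, n' * x * n'⁻¹ ∈ Q₀ := pow_conj_mem Q₀ (n : G) hnQ₀ (2 ^ a)
  have hn'T : ∀ x ∈ T_G, n' * x * n'⁻¹ ∈ T_G := pow_conj_mem T_G (n : G) hnT (2 ^ a)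
  have hn'nc : ∃ x ∈ Q₀, n' * x * n'⁻¹ ≠ x := by
    by_contra hcon
    push_neg at hcon
    apply hgc
    have hcop : Nat.Coprime (2 ^ a) (orderOf g) := (Nat.Coprime.pow_right a hodd).symm
    obtain ⟨i, hi⟩ := exists_pow_eq_self_of_coprime hcop
    have hga : g ^ (2 ^ a) ∈ K := by
      rw [hK, Subgroup.mem_centralizer_iff]
      intro x hx
      have h1 := hactpow (2 ^ a) x hx
      rw [hcon x hx] at h1
      calc x * g ^ (2 ^ a) = (g ^ (2 ^ a) * x * (g ^ (2 ^ a))⁻¹) * g ^ (2 ^ a) := by rw [h1]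
        _ = g ^ (2 ^ a) * x := by group
    rw [← hi]
    exact K.pow_mem hga i
  -- the subgroup Q
  have hQ2 : IsPGroup 2 (Q₀ ⊔ T_G : Subgroup G) := by
    rw [sup_comm]
    exact IsPGroup.to_sup_of_normal_right' hTG2 hQ₀ (hTGK.trans hKH)
  obtain ⟨P₁, hP₁⟩ := hQ2.exists_le_sylow
  refine ⟨P₁, Q₀ ⊔ T_G, Subgroup.zpowers n', hP₁, ?_, ?_, ?_, ?_⟩
  · intro z hz hzc
    have hzK : z ∈ K := by
      rw [hK, Subgroup.mem_centralizer_iff]
      intro x hx
      exact hzc x (hP₁ (Subgroup.mem_sup_left hx))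
    have hzH : z ∈ H := hKH hzK
    have hzT : Subgroup.zpowers z ≤ Subgroup.normalizer ((T_G : Subgroup G) : Set G) := by
      rw [Subgroup.zpowers_le]
      apply Subgroup.mem_normalizer_fintype
      intro x hx
      have h1 := hzc x (hP₁ (Subgroup.mem_sup_right hx))
      have : z * x * z⁻¹ = x := by rw [← h1]; group
      rw [this]; exact hx
    have hz2 : IsPGroup 2 (Subgroup.zpowers z) := P₁.isPGroup'.to_le (Subgroup.zpowers_le.2 hz)
    have hW2 : IsPGroup 2 (Subgroup.zpowers z ⊔ T_G : Subgroup G) :=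
      IsPGroup.to_sup_of_normal_right' hz2 hTG2 hzT
    have hWK : (Subgroup.zpowers z ⊔ T_G : Subgroup G) ≤ K :=
      sup_le (Subgroup.zpowers_le.2 hzK) hTGK
    set W_K : Subgroup ↥(K.subgroupOf H) :=
      ((Subgroup.zpowers z ⊔ T_G : Subgroup G).subgroupOf H).subgroupOf (K.subgroupOf H) with hWKdef
    have hWK2 : IsPGroup 2 W_K := (hW2.comap_subtype).comap_subtype
    have hTle : (T : Subgroup ↥(K.subgroupOf H)) ≤ W_K := by
      intro t ht
      rw [hWKdef, Subgroup.mem_subgroupOf, Subgroup.mem_subgroupOf]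
      exact Subgroup.mem_sup_right (hmemTG t ht)
    have hmax := T.is_maximal' hWK2 hTle
    have hzW : (⟨⟨z, hzH⟩, Subgroup.mem_subgroupOf.2 hzK⟩ : ↥(K.subgroupOf H)) ∈ W_K := by
      rw [hWKdef, Subgroup.mem_subgroupOf, Subgroup.mem_subgroupOf]
      exact Subgroup.mem_sup_left (Subgroup.mem_zpowers z)
    rw [hmax] at hzW
    exact Subgroup.mem_sup_right (hmemTG _ hzW)
  · rw [Subgroup.zpowers_le]
    exact normalizer_sup Q₀ T_G n' hn'Q₀ hn'T
  · rw [Nat.card_zpowers]; exact hoddn'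
  · intro hle
    obtain ⟨x, hx, hne⟩ := hn'nc
    have h1 := hle (Subgroup.mem_zpowers n')
    rw [Subgroup.mem_centralizer_iff] at h1
    have h2 := h1 x (Subgroup.mem_sup_left hx)
    apply hne
    rw [← h2]; group

theorem k2_le_kP [Finite G] (P : Sylow 2 G) :
    Nat.card {c : ConjClasses G // ∀ x ∈ c.carrier, ∃ k : ℕ, orderOf x = 2 ^ k} ≤
      Nat.card (ConjClasses ↥(P : Subgroup G)) := by
  classical
  let F : ConjClasses ↥(P : Subgroup G) →
      {c : ConjClasses G // ∀ x ∈ c.carrier, ∃ k : ℕ, orderOf x = 2 ^ k} :=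
    fun c => ⟨ConjClasses.map (P : Subgroup G).subtype c, by
      obtain ⟨y, hy⟩ := ConjClasses.exists_rep c
      rw [← hy]
      exact pclass_of_mem2 P y y.2⟩
  have hsurj : Function.Surjective F := by
    rintro ⟨c, hc⟩
    obtain ⟨y, rfl⟩ := ConjClasses.mk_surjective c
    have hy : ∃ k : ℕ, orderOf y = 2 ^ k := hc y (by rw [ConjClasses.mem_carrier_iff_mk_eq])
    obtain ⟨g, hmem⟩ := conj_into_sylow2 P y hy
    refine ⟨ConjClasses.mk ⟨g * y * g⁻¹, hmem⟩, ?_⟩
    apply Subtype.ext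
    show ConjClasses.mk (g * y * g⁻¹) = ConjClasses.mk y
    rw [ConjClasses.mk_eq_mk_iff_isConj, isConj_comm, isConj_iff]
    exact ⟨g, rfl⟩
  exact Nat.card_le_card_of_surjective F hsurj

theorem kP_le_k2 [Finite G] (P : Sylow 2 G) (N : Subgroup G) (hN : N.Normal)
    (hcompP : N.IsComplement' (P : Subgroup G)) :
    Nat.card (ConjClasses ↥(P : Subgroup G)) ≤
      Nat.card {c : ConjClasses G // ∀ x ∈ c.carrier, ∃ k : ℕ, orderOf x = 2 ^ k} := by
  classical
  have hdisj : N ⊓ (P : Subgroup G) = ⊥ := disjoint_iff.mp hcompP.disjoint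
  let F : ConjClasses ↥(P : Subgroup G) →
      {c : ConjClasses G // ∀ x ∈ c.carrier, ∃ k : ℕ, orderOf x = 2 ^ k} :=
    fun c => ⟨ConjClasses.map (P : Subgroup G).subtype c, by
      obtain ⟨y, hy⟩ := ConjClasses.exists_rep c
      rw [← hy]
      exact pclass_of_mem2 P y y.2⟩
  have hinj : Function.Injective F := by
    intro c c' h
    obtain ⟨x, rfl⟩ := ConjClasses.mk_surjective c
    obtain ⟨y, rfl⟩ := ConjClasses.mk_surjective c'
    have h1 : ConjClasses.mk (x : G) = ConjClasses.mk (y : G) := congrArg Subtype.val h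
    rw [ConjClasses.mk_eq_mk_iff_isConj, isConj_iff] at h1
    obtain ⟨g, hg⟩ := h1
    obtain ⟨⟨n, u⟩, hnu, -⟩ := Subgroup.IsComplement.existsUnique hcompP g
    simp only at hnu
    have hy : (y : G) = (n : G) * ((u : G) * x * (u : G)⁻¹) * (n : G)⁻¹ := by
      rw [← hg, ← hnu]; group
    have hx'P : (u : G) * x * (u : G)⁻¹ ∈ (P : Subgroup G) :=
      (P : Subgroup G).mul_mem ((P : Subgroup G).mul_mem u.2 x.2) ((P : Subgroup G).inv_mem u.2)
    have hmemN : (y : G) * ((u : G) * x * (u : G)⁻¹)⁻¹ ∈ N := by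
      rw [hy]
      have : (n : G) * ((u : G) * x * (u : G)⁻¹) * (n : G)⁻¹ * ((u : G) * x * (u : G)⁻¹)⁻¹ =
          n * (((u : G) * x * (u : G)⁻¹) * (n : G)⁻¹ * ((u : G) * x * (u : G)⁻¹)⁻¹) := by group
      rw [this]
      exact N.mul_mem n.2 (hN.conj_mem _ (N.inv_mem n.2) _)
    have hmemP : (y : G) * ((u : G) * x * (u : G)⁻¹)⁻¹ ∈ (P : Subgroup G) :=
      (P : Subgroup G).mul_mem y.2 ((P : Subgroup G).inv_mem hx'P)
    have hmem : (y : G) * ((u : G) * x * (u : G)⁻¹)⁻¹ ∈ N ⊓ (P : Subgroup G) := ⟨hmemN, hmemP⟩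
    rw [hdisj, Subgroup.mem_bot, mul_inv_eq_one] at hmem
    rw [ConjClasses.mk_eq_mk_iff_isConj, isConj_iff]
    refine ⟨u, ?_⟩
    apply Subtype.ext
    rw [Subgroup.coe_mul, Subgroup.coe_mul, Subgroup.coe_inv]
    exact hmem.symm
  exact Nat.card_le_card_of_injective F hinj

theorem complement_transfer [Finite G] (P P₀ : Sylow 2 G) (N : Subgroup G)
    (hcomp : N.IsComplement' (P₀ : Subgroup G)) : N.IsComplement' (P : Subgroup G) := by
  have hcardN : Nat.card N * Nat.card (P₀ : Subgroup G) = Nat.card G := hcomp.card_mul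
  have hPP₀ : Nat.card (P₀ : Subgroup G) = Nat.card (P : Subgroup G) := by
    rw [Sylow.card_eq_multiplicity, Sylow.card_eq_multiplicity]
  have hcop : Nat.Coprime (Nat.card N) (Nat.card (P : Subgroup G)) := by
    have h1 := P₀.card_coprime_index
    have h2 := Subgroup.card_mul_index (P₀ : Subgroup G)
    have h3 : Nat.card N = (P₀ : Subgroup G).index := by
      have hpos : 0 < Nat.card (P₀ : Subgroup G) := Nat.card_pos
      apply Nat.eq_of_mul_eq_mul_right hpos
      rw [hcardN, mul_comm, h2]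
    rw [h3, ← hPP₀]
    exact h1.symm
  exact Subgroup.isComplement'_of_coprime (by rw [← hPP₀]; exact hcardN) hcop

end Cfsg.Agent.Lib.Helper6.K2
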