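import Mathlib

set_option autoImplicit false

namespace Cfsg.Agent.Lib.Helper6

open Module

theorem sumExtend_inl {K V ι : Type*} [DivisionRing K] [AddCommGroup V] [Module K V] {v : ι → V}
    (hs : LinearIndependent K v) (i : ι) : Basis.sumExtend hs (Sum.inl i) = v i := by
  simp only [Basis.sumExtend, Basis.reindex_apply, Basis.extend_apply_self]
  rfl

/-- Two linearly independent families with the same finite index type in a finite-dimensional
vector space are related by a linear automorphism. -/
theorem exists_linearEquiv_of_linearIndependent {K V ι : Type*} [Field K] [AddCommGroup V]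
    [Module K V] [FiniteDimensional K V] [Finite ι] {u v : ι → V}
    (hu : LinearIndependent K u) (hv : LinearIndependent K v) :
    ∃ A : V ≃ₗ[K] V, ∀ i, A (u i) = v i := by
  classical
  have := Fintype.ofFinite ι
  let bu := Basis.sumExtend hu
  let bv := Basis.sumExtend hv
  have fu : Fintype (ι ⊕ Basis.sumExtendIndex hu) := FiniteDimensional.fintypeBasisIndex bu
  have fv : Fintype (ι ⊕ Basis.sumExtendIndex hv) := FiniteDimensional.fintypeBasisIndex bv
  have fu' : Finite (Basis.sumExtendIndex hu) :=
    Finite.of_injective (Sum.inr : _ → ι ⊕ Basis.sumExtendIndex hu) Sum.inr_injective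
  have fv' : Finite (Basis.sumExtendIndex hv) :=
    Finite.of_injective (Sum.inr : _ → ι ⊕ Basis.sumExtendIndex hv) Sum.inr_injective
  have hcu : Nat.card (ι ⊕ Basis.sumExtendIndex hu) = finrank K V := by
    rw [Nat.card_eq_fintype_card, ← finrank_eq_card_basis bu]
  have hcv : Nat.card (ι ⊕ Basis.sumExtendIndex hv) = finrank K V := by
    rw [Nat.card_eq_fintype_card, ← finrank_eq_card_basis bv]
  have hc : Nat.card (Basis.sumExtendIndex hu) = Nat.card (Basis.sumExtendIndex hv) := by
    rw [Nat.card_sum] at hcu hcv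
    omega
  let ε : Basis.sumExtendIndex hu ≃ Basis.sumExtendIndex hv :=
    (Finite.equivFin _).trans ((finCongr hc).trans (Finite.equivFin _).symm)
  refine ⟨bu.equiv bv (Equiv.sumCongr (Equiv.refl ι) ε), fun i => ?_⟩
  rw [← sumExtend_inl hu i, Basis.equiv_apply]
  simp [bv, sumExtend_inl]

theorem exists_linearEquiv_single {K V : Type*} [Field K] [AddCommGroup V]
    [Module K V] [FiniteDimensional K V] {u v : V} (hu : u ≠ 0) (hv : v ≠ 0) :
    ∃ A : V ≃ₗ[K] V, A u = v := by
  have h1 : LinearIndependent K (fun _ : Unit => u) := by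
    rw [linearIndependent_unique_iff]; exact hu
  have h2 : LinearIndependent K (fun _ : Unit => v) := by
    rw [linearIndependent_unique_iff]; exact hv
  obtain ⟨A, hA⟩ := exists_linearEquiv_of_linearIndependent h1 h2
  exact ⟨A, hA ()⟩

theorem exists_linearEquiv_pair {K V : Type*} [Field K] [AddCommGroup V]
    [Module K V] [FiniteDimensional K V] {u1 u2 v1 v2 : V}
    (hu : LinearIndependent K ![u1, u2]) (hv : LinearIndependent K ![v1, v2]) :
    ∃ A : V ≃ₗ[K] V, A u1 = v1 ∧ A u2 = v2 := by
  obtain ⟨A, hA⟩ := exists_linearEquiv_of_linearIndependent hu hv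
  exact ⟨A, hA 0, hA 1⟩

end Cfsg.Agent.Lib.Helper6
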