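import Mathlib

set_option autoImplicit false

namespace Cfsg.Agent.Lib.Helper6

open Finset

/-- if `x` has prime order `r` and `0 < k < r`, then `x` is a power of `x ^ k`. -/
theorem exists_pow_pow_eq_self {X : Type*} [Group X] {x : X} {r : ℕ} (hr : r.Prime)
    (hx : orderOf x = r) {k : ℕ} (hk0 : 0 < k) (hkr : k < r) : ∃ j : ℕ, (x ^ k) ^ j = x := by
  have hcop : Nat.Coprime k r := (Nat.coprime_primes_aux hr hk0 hkr)
  obtain ⟨m, -, hm⟩ := Nat.exists_mul_mod_eq_one_of_coprime hcop hr.one_lt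
  refine ⟨m, ?_⟩
  rw [← pow_mul, ← pow_mod_orderOf, hx, hm, pow_one]
where
  Nat.coprime_primes_aux {r k : ℕ} (hr : r.Prime) (hk0 : 0 < k) (hkr : k < r) : Nat.Coprime k r := by
    rw [Nat.coprime_comm, Nat.Prime.coprime_iff_not_dvd hr]
    intro h
    exact absurd (Nat.le_of_dvd hk0 h) (not_le.2 hkr)

/-- Frobenius partition lemma: a Frobenius group `Q ⋊ ⟨x⟩` acting on an abelian group `A`
with `C_A(Q) = 1` and `C_A(x) = 1` forces `a ^ |Q| = 1`. -/
theorem frob_partition {X A : Type*} [Group X] [CommGroup A] [MulDistribMulAction X A]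
    (Q : Subgroup X) [Finite Q] (x : X) (r : ℕ) (hr : r.Prime) (hx : orderOf x = r)
    (hxQ : ∀ z ∈ Q, x * z * x⁻¹ ∈ Q)
    (hfrob : ∀ z ∈ Q, Commute z x → z = 1)
    (hQfix : ∀ a : A, (∀ z ∈ Q, z • a = a) → a = 1)
    (hxfix : ∀ a : A, x • a = a → a = 1)
    (a : A) : a ^ Nat.card Q = 1 := by
  classical
  haveI : Fintype Q := Fintype.ofFinite Q
  obtain ⟨r', rfl⟩ : ∃ r', r = r' + 1 := ⟨r - 1, by have := hr.two_le; omega⟩
  have hxr : x ^ (r' + 1) = 1 := by rw [← hx]; exact pow_orderOf_eq_one x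
  -- powers of x normalize Q
  have hpowQ : ∀ k : ℕ, ∀ z ∈ Q, x ^ k * z * (x ^ k)⁻¹ ∈ Q := by
    intro k
    induction k with
    | zero => intro z hz; simpa using hz
    | succ k ih =>
      intro z hz
      have h1 := hxQ _ (ih z hz)
      have e : x ^ (k + 1) * z * (x ^ (k + 1))⁻¹ = x * (x ^ k * z * (x ^ k)⁻¹) * x⁻¹ := by
        rw [pow_succ']; group
      rw [e]; exact h1
  -- the three products
  obtain ⟨T, hT⟩ : ∃ T : A, T = ∏ z : Q, ∏ i ∈ range (r' + 1), ((z : X) * x ^ i) • a := ⟨_, rfl⟩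
  obtain ⟨S, hS⟩ : ∃ S : A, S = ∏ z : Q, (z : X) • a := ⟨_, rfl⟩
  -- T is fixed by Q
  have hTfix : ∀ w ∈ Q, w • T = T := by
    intro w hw
    rw [hT, Finset.smul_prod']
    have : ∀ z : Q, w • ∏ i ∈ range (r' + 1), ((z : X) * x ^ i) • a
        = ∏ i ∈ range (r' + 1), (((⟨w, hw⟩ * z : Q) : X) * x ^ i) • a := by
      intro z
      rw [Finset.smul_prod']
      refine Finset.prod_congr rfl (fun i _ => ?_)
      rw [smul_smul, Subgroup.coe_mul, mul_assoc]
    simp_rw [this]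
    exact Fintype.prod_equiv (Equiv.mulLeft (⟨w, hw⟩ : Q)) _ _ (fun z => rfl)
  have hT1 : T = 1 := hQfix T hTfix
  have hSfix : ∀ w ∈ Q, w • S = S := by
    intro w hw
    rw [hS, Finset.smul_prod']
    have : ∀ z : Q, w • ((z : X) • a) = ((⟨w, hw⟩ * z : Q) : X) • a := by
      intro z
      rw [smul_smul, Subgroup.coe_mul]
    simp_rw [this]
    exact Fintype.prod_equiv (Equiv.mulLeft (⟨w, hw⟩ : Q)) _ _ (fun z => rfl)
  have hS1 : S = 1 := hQfix S hSfix
  -- B z = 1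
  have hB : ∀ z : Q, ∏ i ∈ range (r' + 1), ((z : X) * x ^ i * (z : X)⁻¹) • a = 1 := by
    intro z
    obtain ⟨B, hBdef⟩ : ∃ B : A, B = ∏ i ∈ range (r' + 1), ((z : X) * x ^ i * (z : X)⁻¹) • a := ⟨_, rfl⟩
    rw [← hBdef]
    have h1 : ((z : X) * x * (z : X)⁻¹) • B = B := by
      rw [hBdef, Finset.smul_prod']
      have : ∀ i, ((z : X) * x * (z : X)⁻¹) • (((z : X) * x ^ i * (z : X)⁻¹) • a)
          = ((z : X) * x ^ (i + 1) * (z : X)⁻¹) • a := by
        intro i
        rw [smul_smul]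
        congr 1
        rw [pow_succ']; group
      simp_rw [this]
      have e1 := Finset.prod_range_succ (fun i => ((z : X) * x ^ i * (z : X)⁻¹) • a) (r' + 1)
      have e2 := Finset.prod_range_succ' (fun i => ((z : X) * x ^ i * (z : X)⁻¹) • a) (r' + 1)
      rw [e1] at e2
      simp only [hxr, pow_zero] at e2
      exact (mul_right_cancel e2).symm
    have h2 : x • ((z : X)⁻¹ • B) = (z : X)⁻¹ • B := by
      have : x • ((z : X)⁻¹ • B) = (z : X)⁻¹ • (((z : X) * x * (z : X)⁻¹) • B) := by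
        rw [smul_smul, smul_smul]; congr 1; group
      rw [this, h1]
    have h3 := hxfix _ h2
    have : B = (z : X) • ((z : X)⁻¹ • B) := by rw [smul_smul]; simp
    rw [this, h3, smul_one]
  -- the bijection
  have hbij : ∀ i, i < r' → ∏ z : Q, ((z : X) * x ^ (i + 1)) • a
      = ∏ z : Q, ((z : X) * x ^ (i + 1) * (z : X)⁻¹) • a := by
    intro i hi
    obtain ⟨y, hy⟩ : ∃ y, y = x ^ (i + 1) := ⟨_, rfl⟩
    rw [← hy]
    have hyQ : ∀ z ∈ Q, y * z * y⁻¹ ∈ Q := by rw [hy]; exact hpowQ _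
    obtain ⟨j, hj⟩ := exists_pow_pow_eq_self hr hx (k := i + 1) (by omega) (by omega)
    rw [← hy] at hj
    let ψ : Q → Q := fun z => ⟨(z : X) * (y * (z : X)⁻¹ * y⁻¹), Q.mul_mem z.2 (hyQ _ (Q.inv_mem z.2))⟩
    have hψ : ∀ z : Q, ((ψ z : Q) : X) * y = (z : X) * y * (z : X)⁻¹ := by
      intro z; simp only [ψ]; group
    have hinj : Function.Injective ψ := by
      intro z w hzw
      have h1 : (z : X) * y * (z : X)⁻¹ = (w : X) * y * (w : X)⁻¹ := by
        rw [← hψ, ← hψ, hzw]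
      have h2 : Commute ((w : X)⁻¹ * (z : X)) y := by
        unfold Commute SemiconjBy
        have : (w : X)⁻¹ * ((z : X) * y * (z : X)⁻¹) * (z : X) = (w : X)⁻¹ * ((w : X) * y * (w : X)⁻¹) * (z : X) := by
          rw [h1]
        have e1 : (w : X)⁻¹ * ((z : X) * y * (z : X)⁻¹) * (z : X) = (w : X)⁻¹ * (z : X) * y := by group
        have e2 : (w : X)⁻¹ * ((w : X) * y * (w : X)⁻¹) * (z : X) = y * ((w : X)⁻¹ * (z : X)) := by group
        rw [e1, e2] at this
        exact this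
      have h3 : Commute ((w : X)⁻¹ * (z : X)) x := by
        rw [← hj]; exact h2.pow_right j
      have h4 := hfrob _ (Q.mul_mem (Q.inv_mem w.2) z.2) h3
      apply Subtype.ext
      have : (z : X) = (w : X) * ((w : X)⁻¹ * (z : X)) := by group
      rw [this, h4, mul_one]
    have hbijψ : Function.Bijective ψ := Finite.injective_iff_bijective.1 hinj
    have := Function.Bijective.prod_comp hbijψ (fun z : Q => ((z : X) * y) • a)
    rw [← this]
    refine Finset.prod_congr rfl (fun z _ => ?_)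
    rw [hψ]
  -- assemble
  have hT2 : T = (∏ z : Q, ∏ i ∈ range r', ((z : X) * x ^ (i + 1) * (z : X)⁻¹) • a) * S := by
    rw [hT, hS]
    have : ∀ z : Q, ∏ i ∈ range (r' + 1), ((z : X) * x ^ i) • a
        = (∏ i ∈ range r', ((z : X) * x ^ (i + 1)) • a) * ((z : X) • a) := by
      intro z
      rw [Finset.prod_range_succ']
      simp
    simp_rw [this]
    rw [Finset.prod_mul_distrib]
    congr 1
    rw [Finset.prod_comm]
    rw [Finset.prod_comm (s := (Finset.univ : Finset Q))]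
    refine Finset.prod_congr rfl (fun i hi => ?_)
    exact hbij i (Finset.mem_range.1 hi)
  have hin : ∀ z : Q, ∏ i ∈ range r', ((z : X) * x ^ (i + 1) * (z : X)⁻¹) • a = a⁻¹ := by
    intro z
    have h1 := hB z
    rw [Finset.prod_range_succ'] at h1
    simp only [pow_zero, mul_one, mul_inv_cancel, one_smul] at h1
    exact eq_inv_of_mul_eq_one_left h1
  simp_rw [hin] at hT2
  rw [hT1, hS1, mul_one, Finset.prod_const, Finset.card_univ, ← Nat.card_eq_fintype_card, inv_pow] at hT2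
  exact inv_eq_one.1 hT2.symm


theorem exists_orderOf_mul_of_commute {X : Type*} [Group X] {p q : ℕ} (hp : p.Prime) (hq : q.Prime)
    (hpq : p ≠ q) {a b : X} (hab : Commute a b) (ha : a ≠ 1) (hb : b ≠ 1)
    (hpa : ∃ k, orderOf a = p ^ k) (hqb : ∃ k, orderOf b = q ^ k) :
    ∃ g : X, orderOf g = p * q := by
  obtain ⟨k, hk⟩ := hpa
  obtain ⟨l, hl⟩ := hqb
  have hk0 : k ≠ 0 := by
    rintro rfl
    rw [pow_zero, orderOf_eq_one_iff] at hk
    exact ha hk
  have hl0 : l ≠ 0 := by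
    rintro rfl
    rw [pow_zero, orderOf_eq_one_iff] at hl
    exact hb hl
  obtain ⟨k', rfl⟩ := Nat.exists_eq_succ_of_ne_zero hk0
  obtain ⟨l', rfl⟩ := Nat.exists_eq_succ_of_ne_zero hl0
  have h1 : orderOf (a ^ p ^ k') = p := by
    rw [orderOf_pow_of_dvd (pow_ne_zero _ hp.ne_zero)
      (by rw [hk]; exact pow_dvd_pow p (Nat.le_succ k')), hk, Nat.succ_eq_add_one, pow_succ]
    exact Nat.mul_div_cancel_left _ (pow_pos hp.pos _)
  have h2 : orderOf (b ^ q ^ l') = q := by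
    rw [orderOf_pow_of_dvd (pow_ne_zero _ hq.ne_zero)
      (by rw [hl]; exact pow_dvd_pow q (Nat.le_succ l')), hl, Nat.succ_eq_add_one, pow_succ]
    exact Nat.mul_div_cancel_left _ (pow_pos hq.pos _)
  refine ⟨a ^ p ^ k' * b ^ q ^ l', ?_⟩
  rw [(hab.pow_pow _ _).orderOf_mul_eq_mul_orderOf_of_coprime
    (by rw [h1, h2]; exact (Nat.coprime_primes hp hq).2 hpq), h1, h2]

/-- Core of Lucido's lemma: a normal `p`-subgroup `P`, a `q`-subgroup `Q` and an element `x`
of order `r` normalizing `Q` force an element of order `pq`, `pr` or `qr`. -/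
theorem lucido_core {X : Type*} [Group X] [Finite X] {p q r : ℕ} (hp : p.Prime) (hq : q.Prime)
    (hr : r.Prime) (hpq : p ≠ q) (hpr : p ≠ r) (hqr : q ≠ r)
    (P : Subgroup X) [hPn : P.Normal] (hP : IsPGroup p P) (hP1 : P ≠ ⊥)
    (Q : Subgroup X) (hQ : IsPGroup q Q) (hQ1 : Q ≠ ⊥)
    (x : X) (hx : orderOf x = r) (hxQ : ∀ z ∈ Q, x * z * x⁻¹ ∈ Q) :
    (∃ g : X, orderOf g = p * q) ∨ (∃ g : X, orderOf g = p * r) ∨ (∃ g : X, orderOf g = q * r) := by
  classical
  haveI : Fact p.Prime := ⟨hp⟩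
  haveI : Fact q.Prime := ⟨hq⟩
  by_contra hcon
  rw [not_or, not_or] at hcon
  obtain ⟨h1, h2, h3⟩ := hcon
  have hPord : ∀ v ∈ P, ∃ k, orderOf v = p ^ k := fun v hv => by
    obtain ⟨k, hk⟩ := (IsPGroup.iff_orderOf.1 hP) ⟨v, hv⟩
    exact ⟨k, by rw [← hk, Subgroup.orderOf_mk]⟩
  have hQord : ∀ v ∈ Q, ∃ k, orderOf v = q ^ k := fun v hv => by
    obtain ⟨k, hk⟩ := (IsPGroup.iff_orderOf.1 hQ) ⟨v, hv⟩
    exact ⟨k, by rw [← hk, Subgroup.orderOf_mk]⟩
  have hxord : ∃ k, orderOf x = r ^ k := ⟨1, by rw [hx, pow_one]⟩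
  have hx1 : x ≠ 1 := by
    intro h
    rw [h, orderOf_one] at hx
    exact hr.one_lt.ne hx
  have H1 : ∀ v ∈ P, ∀ z ∈ Q, Commute v z → z ≠ 1 → v = 1 := by
    intro v hv z hz hc hz1
    by_contra hv1
    exact h1 (exists_orderOf_mul_of_commute hp hq hpq hc hv1 hz1 (hPord v hv) (hQord z hz))
  have H3 : ∀ v ∈ P, Commute v x → v = 1 := by
    intro v hv hc
    by_contra hv1
    exact h2 (exists_orderOf_mul_of_commute hp hr hpr hc hv1 hx1 (hPord v hv) hxord)
  have H2 : ∀ z ∈ Q, Commute z x → z = 1 := by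
    intro z hz hc
    by_contra hz1
    exact h3 (exists_orderOf_mul_of_commute hq hr hqr hc hz1 hx1 (hQord z hz) hxord)
  -- the centre of P as a subgroup of X
  obtain ⟨V, hVdef⟩ : ∃ V : Subgroup X, V = P ⊓ Subgroup.centralizer (P : Set X) := ⟨_, rfl⟩
  haveI hVn : V.Normal := by rw [hVdef]; exact Subgroup.normal_inf_normal _ _
  have hVP : V ≤ P := by rw [hVdef]; exact inf_le_left
  have hVcomm : ∀ a b : V, a * b = b * a := by
    intro a b
    apply Subtype.ext
    have ha : (a : X) ∈ Subgroup.centralizer (P : Set X) := by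
      have h0 : (a : X) ∈ P ⊓ Subgroup.centralizer (P : Set X) := by rw [← hVdef]; exact a.2
      exact (Subgroup.mem_inf.1 h0).2
    have := Subgroup.mem_centralizer_iff.1 ha (b : X) (hVP b.2)
    simp only [Subgroup.coe_mul]
    exact this.symm
  letI : CommGroup V := { (inferInstance : Group V) with mul_comm := hVcomm }
  letI : MulDistribMulAction X V := MulDistribMulAction.compHom V (MulAut.conjNormal (H := V))
  have hsmul : ∀ (g : X) (v : V), ((g • v : V) : X) = g * v * g⁻¹ := fun g v => rfl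
  -- nontrivial element of V
  obtain ⟨v, hvV, hv1⟩ : ∃ v ∈ V, v ≠ 1 := by
    haveI : Nontrivial P := (Subgroup.nontrivial_iff_ne_bot P).2 hP1
    haveI := hP.center_nontrivial
    obtain ⟨z, hz⟩ := exists_ne (1 : Subgroup.center P)
    refine ⟨((z : P) : X), ?_, ?_⟩
    · rw [hVdef]
      refine Subgroup.mem_inf.2 ⟨(z : P).2, ?_⟩
      rw [Subgroup.mem_centralizer_iff]
      intro w hw
      have := Subgroup.mem_center_iff.1 z.2 ⟨w, hw⟩
      exact congrArg Subtype.val this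
    · intro h
      apply hz
      apply Subtype.ext; apply Subtype.ext
      exact h
  obtain ⟨z0, hz0Q, hz01⟩ : ∃ z ∈ Q, z ≠ 1 := by
    by_contra hcon
    push Not at hcon
    apply hQ1
    rw [eq_bot_iff]
    intro z hz
    rw [Subgroup.mem_bot]; exact hcon z hz
  have hQfix : ∀ a : V, (∀ z ∈ Q, z • a = a) → a = 1 := by
    intro a ha
    have h := ha z0 hz0Q
    have h' : z0 * (a : X) * z0⁻¹ = (a : X) := by rw [← hsmul, h]
    have hc : Commute (a : X) z0 := by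
      unfold Commute SemiconjBy
      have : z0 * (a : X) * z0⁻¹ * z0 = (a : X) * z0 := by rw [h']
      rw [← this]; group
    apply Subtype.ext
    exact H1 _ (hVP a.2) z0 hz0Q hc hz01
  have hxfix : ∀ a : V, x • a = a → a = 1 := by
    intro a h
    have h' : x * (a : X) * x⁻¹ = (a : X) := by rw [← hsmul, h]
    have hc : Commute (a : X) x := by
      unfold Commute SemiconjBy
      have : x * (a : X) * x⁻¹ * x = (a : X) * x := by rw [h']
      rw [← this]; group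
    apply Subtype.ext
    exact H3 _ (hVP a.2) hc
  have key := frob_partition Q x r hr hx hxQ H2 hQfix hxfix ⟨v, hvV⟩
  have key' : v ^ Nat.card Q = 1 := by
    have := congrArg Subtype.val key
    simpa using this
  obtain ⟨k, hk⟩ := hPord v (hVP hvV)
  obtain ⟨l, hl⟩ := (IsPGroup.iff_card (p := q) (G := Q) |>.1 hQ)
  have hdvd : orderOf v ∣ Nat.card Q := orderOf_dvd_of_pow_eq_one key'
  rw [hk, hl] at hdvd
  have hcop : Nat.Coprime (p ^ k) (q ^ l) :=
    Nat.Coprime.pow _ _ ((Nat.coprime_primes hp hq).2 hpq)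
  have := Nat.eq_one_of_dvd_coprimes hcop (dvd_refl _) hdvd
  rw [← hk, orderOf_eq_one_iff] at this
  exact hv1 this


theorem index_dvd_card_of_sup_eq_top {X : Type*} [Group X] (A B : Subgroup X) [B.Normal]
    (h : A ⊔ B = ⊤) : B.index ∣ Nat.card A := by
  rw [← Subgroup.relIndex_top_right, ← h, Subgroup.relIndex_sup_right]
  exact Subgroup.relIndex_dvd_card _ _

theorem relIndex_dvd_card_inf_of_sup_eq_top {X : Type*} [Group X] (A B C : Subgroup X) [B.Normal]
    (hBC : B ≤ C) (h : A ⊔ B = ⊤) : B.relIndex C ∣ Nat.card ↥(C ⊓ A) := by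
  have hC : (C ⊓ A) ⊔ B = C := by
    apply le_antisymm
    · exact sup_le inf_le_left hBC
    · intro c hc
      have hc' : c ∈ A ⊔ B := by rw [h]; exact Subgroup.mem_top c
      obtain ⟨a, ha, b, hb, rfl⟩ := Subgroup.mem_sup_of_normal_right.1 hc'
      refine Subgroup.mul_mem_sup ⟨?_, ha⟩ hb
      have : a = a * b * b⁻¹ := by group
      rw [this]
      exact C.mul_mem hc (C.inv_mem (hBC hb))
  have := Subgroup.relIndex_sup_right (H := C ⊓ A) (K := B)
  rw [hC] at this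
  rw [this]
  exact Subgroup.relIndex_dvd_card _ _

/-- Lucido-type lemma for a normal series `K ≤ M ≤ G` with three primes. -/
theorem lucido_series {G : Type*} [Group G] [Finite G] (K M : Subgroup G) [K.Normal] [M.Normal]
    (hKM : K ≤ M) (p q r : ℕ) (hp : p.Prime) (hq : q.Prime) (hr : r.Prime)
    (hpq : p ≠ q) (hpr : p ≠ r) (hqr : q ≠ r)
    (hpK : p ∣ Nat.card ↥K) (hqM : q ∣ K.relIndex M) (hrG : r ∣ M.index) :
    (∃ x : G, orderOf x = p * q) ∨ (∃ x : G, orderOf x = p * r) ∨ (∃ x : G, orderOf x = q * r) := by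
  classical
  haveI : Fact p.Prime := ⟨hp⟩
  haveI : Fact q.Prime := ⟨hq⟩
  haveI : Fact r.Prime := ⟨hr⟩
  obtain ⟨P⟩ : Nonempty (Sylow p K) := inferInstance
  have hFr := Sylow.normalizer_sup_eq_top P
  obtain ⟨P', hP'⟩ : ∃ P' : Subgroup G, P' = (P : Subgroup K).map K.subtype := ⟨_, rfl⟩
  rw [← hP'] at hFr
  obtain ⟨N1, hN1⟩ : ∃ N1 : Subgroup G, N1 = Subgroup.normalizer (P' : Set G) := ⟨_, rfl⟩
  rw [← hN1] at hFr
  have hP'p : IsPGroup p P' := by rw [hP']; exact P.isPGroup'.map _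
  have hP'1 : P' ≠ ⊥ := by
    rw [hP']
    intro h
    rw [Subgroup.map_eq_bot_iff_of_injective _ K.subtype_injective] at h
    exact P.ne_bot_of_dvd_card hpK h
  have hP'N1 : P' ≤ N1 := by rw [hN1]; exact Subgroup.le_normalizer
  have hq1 : q ∣ Nat.card ↥(M ⊓ N1) :=
    dvd_trans hqM (relIndex_dvd_card_inf_of_sup_eq_top N1 K M hKM hFr)
  -- ambient group N1
  obtain ⟨P2, hP2⟩ : ∃ P2 : Subgroup N1, P2 = P'.subgroupOf N1 := ⟨_, rfl⟩
  haveI hP2n : P2.Normal := by
    rw [hP2]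
    exact (Subgroup.normal_subgroupOf_iff_le_normalizer hP'N1).2 (by rw [hN1])
  have hP2p : IsPGroup p P2 := by rw [hP2]; exact hP'p.comap_subtype
  have hP21 : P2 ≠ ⊥ := by
    rw [hP2]
    intro h
    rw [Subgroup.subgroupOf_eq_bot] at h
    exact hP'1 (disjoint_self.1 (h.mono_right hP'N1))
  obtain ⟨M1, hM1⟩ : ∃ M1 : Subgroup N1, M1 = M.subgroupOf N1 := ⟨_, rfl⟩
  haveI hM1n : M1.Normal := by rw [hM1]; infer_instance
  have hM1card : Nat.card M1 = Nat.card ↥(M ⊓ N1) := by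
    rw [hM1, ← Subgroup.inf_subgroupOf_right]
    exact Nat.card_congr (Subgroup.subgroupOfEquivOfLe (inf_le_right : M ⊓ N1 ≤ N1)).toEquiv
  have hq2 : q ∣ Nat.card M1 := by rw [hM1card]; exact hq1
  obtain ⟨Q⟩ : Nonempty (Sylow q M1) := inferInstance
  have hFr2 := Sylow.normalizer_sup_eq_top Q
  obtain ⟨Q2, hQ2⟩ : ∃ Q2 : Subgroup N1, Q2 = (Q : Subgroup M1).map M1.subtype := ⟨_, rfl⟩
  rw [← hQ2] at hFr2
  have hQ2q : IsPGroup q Q2 := by rw [hQ2]; exact Q.isPGroup'.map _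
  have hQ21 : Q2 ≠ ⊥ := by
    rw [hQ2]
    intro h
    rw [Subgroup.map_eq_bot_iff_of_injective _ M1.subtype_injective] at h
    exact Q.ne_bot_of_dvd_card hq2 h
  have hr1 : r ∣ Nat.card ↥(Subgroup.normalizer (Q2 : Set N1)) := by
    refine dvd_trans ?_ (index_dvd_card_of_sup_eq_top _ M1 hFr2)
    have h1 : M1.index = M.relIndex N1 := by rw [hM1]; rfl
    have h2 : N1 ⊔ M = ⊤ := by
      rw [eq_top_iff, ← hFr]
      exact sup_le_sup_left hKM N1
    rw [h1, ← Subgroup.relIndex_sup_right, h2, Subgroup.relIndex_top_right]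
    exact hrG
  obtain ⟨x, hx⟩ := exists_prime_orderOf_dvd_card' r hr1
  have hxQ : ∀ z ∈ Q2, (x : N1) * z * (x : N1)⁻¹ ∈ Q2 := by
    intro z hz
    exact (Subgroup.mem_normalizer_iff.1 x.2 z).1 hz
  have key := lucido_core hp hq hr hpq hpr hqr P2 hP2p hP21 Q2 hQ2q hQ21 (x : N1)
    (by rw [Subgroup.orderOf_coe]; exact hx) hxQ
  rcases key with ⟨g, hg⟩ | ⟨g, hg⟩ | ⟨g, hg⟩
  · exact Or.inl ⟨(g : G), by rw [Subgroup.orderOf_coe]; exact hg⟩
  · exact Or.inr (Or.inl ⟨(g : G), by rw [Subgroup.orderOf_coe]; exact hg⟩)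
  · exact Or.inr (Or.inr ⟨(g : G), by rw [Subgroup.orderOf_coe]; exact hg⟩)

end Cfsg.Agent.Lib.Helper6
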