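import Mathlib
import Cfsg.Agent.Lib.Helper6.Lucido
import Cfsg.Agent.Lib.Helper4.SZ

set_option autoImplicit false

namespace Cfsg.Agent.Lib.Helper6

universe u

theorem exists_orderOf_eq_of_surjective {G H : Type*} [Group G] [Finite G] [Group H]
    (f : G →* H) (hf : Function.Surjective f) {n : ℕ} (h : H) (hn : orderOf h = n) :
    ∃ g : G, orderOf g = n := by
  obtain ⟨g0, rfl⟩ := hf h
  have hdvd : n ∣ orderOf g0 := by rw [← hn]; exact orderOf_map_dvd f g0
  have hpos : orderOf g0 ≠ 0 := (orderOf_pos g0).ne'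
  refine ⟨g0 ^ (orderOf g0 / n), ?_⟩
  rw [orderOf_pow_of_dvd ?_ (Nat.div_dvd_of_dvd hdvd)]
  · exact Nat.div_div_self hdvd hpos
  · intro h0
    have hnpos : 0 < n := Nat.pos_of_dvd_of_pos hdvd (orderOf_pos g0)
    have := Nat.div_pos (Nat.le_of_dvd (orderOf_pos g0) hdvd) hnpos
    omega

theorem prime_dvd_index_of_pgroup {G : Type*} [Group G] [Finite G] {t b : ℕ} (ht : t.Prime)
    (hb : b.Prime) (htb : t ≠ b) (R : Subgroup G) (hR : IsPGroup t R) (hbG : b ∣ Nat.card G) :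
    b ∣ R.index := by
  haveI : Fact t.Prime := ⟨ht⟩
  obtain ⟨k, hk⟩ := IsPGroup.iff_card.1 hR
  have h1 := R.card_mul_index
  rw [← h1, hk] at hbG
  have hcop : Nat.Coprime b (t ^ k) := Nat.Coprime.pow_right _ ((Nat.coprime_primes hb ht).2 htb.symm)
  exact hcop.dvd_of_dvd_mul_left hbG

theorem prime_dvd_card_of_pgroup_ne_bot {G : Type*} [Group G] [Finite G] {t : ℕ} (ht : t.Prime)
    (R : Subgroup G) (hR : IsPGroup t R) (hR1 : R ≠ ⊥) : t ∣ Nat.card R := by
  haveI : Fact t.Prime := ⟨ht⟩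
  obtain ⟨k, hk⟩ := IsPGroup.iff_card.1 hR
  rw [hk]
  have hk0 : k ≠ 0 := by
    rintro rfl
    rw [pow_zero] at hk
    exact hR1 (Subgroup.card_eq_one.1 hk)
  exact dvd_pow_self t hk0

theorem exists_normal_split : ∀ (n : ℕ) (H : Type u) [Group H] [Finite H] [Group.IsSolvable H],
    Nat.card H = n → ∀ a b : ℕ, a.Prime → b.Prime → a ≠ b → a ∣ n → b ∣ n →
    ∃ M : Subgroup H, M.Normal ∧ ((a ∣ Nat.card M ∧ b ∣ M.index) ∨ (b ∣ Nat.card M ∧ a ∣ M.index)) := by
  intro n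
  induction n using Nat.strong_induction_on with
  | _ n ih =>
  intro H _ _ _ hn a b ha hb hab han hbn
  have hn1 : n ≠ 1 := by
    rintro rfl
    exact ha.one_lt.ne' (Nat.dvd_one.1 han)
  haveI : Nontrivial H := by
    rw [← Finite.one_lt_card_iff_nontrivial, hn]
    have : 0 < n := hn ▸ Nat.card_pos
    omega
  obtain ⟨t, htf, R, hRn, hR1, hRt⟩ := Cfsg.Agent.Lib.Helper4.exists_normal_pSubgroup_of_solvable (G := H)
  have ht := htf.out
  by_cases hta : t = a
  · subst hta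
    exact ⟨R, hRn, Or.inl ⟨prime_dvd_card_of_pgroup_ne_bot ht R hRt hR1,
      prime_dvd_index_of_pgroup ht hb hab R hRt (hn ▸ hbn)⟩⟩
  by_cases htb : t = b
  · subst htb
    exact ⟨R, hRn, Or.inr ⟨prime_dvd_card_of_pgroup_ne_bot ht R hRt hR1,
      prime_dvd_index_of_pgroup ht ha hab.symm R hRt (hn ▸ han)⟩⟩
  have haq : a ∣ Nat.card (H ⧸ R) := prime_dvd_index_of_pgroup ht ha hta R hRt (hn ▸ han)
  have hbq : b ∣ Nat.card (H ⧸ R) := prime_dvd_index_of_pgroup ht hb htb R hRt (hn ▸ hbn)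
  have hlt : Nat.card (H ⧸ R) < n := by
    have h1 := R.card_mul_index
    rw [hn] at h1
    have h2 : 1 < Nat.card R := by
      have := prime_dvd_card_of_pgroup_ne_bot ht R hRt hR1
      exact lt_of_lt_of_le ht.one_lt (Nat.le_of_dvd Nat.card_pos this)
    have h3 : 0 < R.index := Nat.pos_of_ne_zero R.index_ne_zero_of_finite
    change R.index < n
    rw [← h1]
    nlinarith
  obtain ⟨Mb, hMbn, hMb⟩ := ih _ hlt (H ⧸ R) rfl a b ha hb hab haq hbq
  have hsurj : Function.Surjective (QuotientGroup.mk' R) := QuotientGroup.mk'_surjective R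
  refine ⟨Mb.comap (QuotientGroup.mk' R), hMbn.comap _, ?_⟩
  have hcard : Nat.card Mb ∣ Nat.card (Mb.comap (QuotientGroup.mk' R)) := by
    have := Subgroup.card_map_dvd (Mb.comap (QuotientGroup.mk' R)) (QuotientGroup.mk' R)
    rwa [Subgroup.map_comap_eq_self_of_surjective hsurj] at this
  rw [Subgroup.index_comap_of_surjective _ hsurj]
  rcases hMb with ⟨h1, h2⟩ | ⟨h1, h2⟩
  · exact Or.inl ⟨dvd_trans h1 hcard, h2⟩
  · exact Or.inr ⟨dvd_trans h1 hcard, h2⟩

theorem lucido_solvable_aux {G : Type u} [Group G] [Finite G] [Group.IsSolvable G] {p q r : ℕ}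
    (hp : p.Prime) (hq : q.Prime) (hr : r.Prime) (hpq : p ≠ q) (hpr : p ≠ r) (hqr : q ≠ r)
    (R : Subgroup G) [hRn : R.Normal] (hR1 : R ≠ ⊥) (hRp : IsPGroup p R)
    (hqG : q ∣ Nat.card G) (hrG : r ∣ Nat.card G) :
    (∃ x : G, orderOf x = p * q) ∨ (∃ x : G, orderOf x = p * r) ∨ (∃ x : G, orderOf x = q * r) := by
  have hqq : q ∣ Nat.card (G ⧸ R) := prime_dvd_index_of_pgroup hp hq hpq R hRp hqG
  have hrq : r ∣ Nat.card (G ⧸ R) := prime_dvd_index_of_pgroup hp hr hpr R hRp hrG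
  obtain ⟨Mb, hMbn, hMb⟩ := exists_normal_split _ (G ⧸ R) rfl q r hq hr hqr hqq hrq
  have hsurj : Function.Surjective (QuotientGroup.mk' R) := QuotientGroup.mk'_surjective R
  obtain ⟨M, hM⟩ : ∃ M : Subgroup G, M = Mb.comap (QuotientGroup.mk' R) := ⟨_, rfl⟩
  haveI : M.Normal := by rw [hM]; exact hMbn.comap _
  have hRM : R ≤ M := by
    intro x hx
    rw [hM, Subgroup.mem_comap]
    have : QuotientGroup.mk' R x = 1 := by
      rw [QuotientGroup.mk'_apply, QuotientGroup.eq_one_iff]; exact hx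
    rw [this]; exact Mb.one_mem
  have hrel : R.relIndex M = Nat.card Mb := by
    have := Subgroup.relIndex_ker (K := M) (QuotientGroup.mk' R)
    rw [QuotientGroup.ker_mk'] at this
    rw [this, hM, Subgroup.map_comap_eq_self_of_surjective hsurj]
  have hidx : M.index = Mb.index := by rw [hM]; exact Subgroup.index_comap_of_surjective _ hsurj
  have hpR : p ∣ Nat.card R := prime_dvd_card_of_pgroup_ne_bot hp R hRp hR1
  rcases hMb with ⟨h1, h2⟩ | ⟨h1, h2⟩
  · exact lucido_series R M hRM p q r hp hq hr hpq hpr hqr hpR (hrel ▸ h1) (hidx ▸ h2)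
  · have := lucido_series R M hRM p r q hp hr hq hpr hpq hqr.symm hpR (hrel ▸ h1) (hidx ▸ h2)
    rcases this with h | h | ⟨g, hg⟩
    · exact Or.inr (Or.inl h)
    · exact Or.inl h
    · exact Or.inr (Or.inr ⟨g, by rw [hg, mul_comm]⟩)

/-- Lucido's lemma: in a finite solvable group, three distinct primes dividing the order
cannot be pairwise non-adjacent in the prime graph. -/
theorem lucido_solvable : ∀ (n : ℕ) (G : Type u) [Group G] [Finite G] [Group.IsSolvable G],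
    Nat.card G = n → ∀ p q r : ℕ, p.Prime → q.Prime → r.Prime → p ≠ q → p ≠ r → q ≠ r →
    p ∣ n → q ∣ n → r ∣ n →
    (∃ x : G, orderOf x = p * q) ∨ (∃ x : G, orderOf x = p * r) ∨ (∃ x : G, orderOf x = q * r) := by
  intro n
  induction n using Nat.strong_induction_on with
  | _ n ih =>
  intro G _ _ _ hn p q r hp hq hr hpq hpr hqr hpn hqn hrn
  have hn1 : n ≠ 1 := by
    rintro rfl
    exact hp.one_lt.ne' (Nat.dvd_one.1 hpn)
  haveI : Nontrivial G := by
    rw [← Finite.one_lt_card_iff_nontrivial, hn]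
    have : 0 < n := hn ▸ Nat.card_pos
    omega
  obtain ⟨t, htf, R, hRn, hR1, hRt⟩ := Cfsg.Agent.Lib.Helper4.exists_normal_pSubgroup_of_solvable (G := G)
  have ht := htf.out
  by_cases htp : t = p
  · subst htp
    exact lucido_solvable_aux hp hq hr hpq hpr hqr R hR1 hRt (hn ▸ hqn) (hn ▸ hrn)
  by_cases htq : t = q
  · subst htq
    have := lucido_solvable_aux hq hp hr hpq.symm hqr hpr R hR1 hRt (hn ▸ hpn) (hn ▸ hrn)
    rcases this with ⟨g, hg⟩ | h | h
    · exact Or.inl ⟨g, by rw [hg, mul_comm]⟩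
    · exact Or.inr (Or.inr h)
    · exact Or.inr (Or.inl h)
  by_cases htr : t = r
  · subst htr
    have := lucido_solvable_aux hr hp hq hpr.symm hqr.symm hpq R hR1 hRt (hn ▸ hpn) (hn ▸ hqn)
    rcases this with ⟨g, hg⟩ | ⟨g, hg⟩ | h
    · exact Or.inr (Or.inl ⟨g, by rw [hg, mul_comm]⟩)
    · exact Or.inr (Or.inr ⟨g, by rw [hg, mul_comm]⟩)
    · exact Or.inl h
  have hpq' : p ∣ Nat.card (G ⧸ R) := prime_dvd_index_of_pgroup ht hp htp R hRt (hn ▸ hpn)
  have hqq' : q ∣ Nat.card (G ⧸ R) := prime_dvd_index_of_pgroup ht hq htq R hRt (hn ▸ hqn)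
  have hrq' : r ∣ Nat.card (G ⧸ R) := prime_dvd_index_of_pgroup ht hr htr R hRt (hn ▸ hrn)
  have hlt : Nat.card (G ⧸ R) < n := by
    have h1 := R.card_mul_index
    rw [hn] at h1
    have h2 : 1 < Nat.card R := by
      have := prime_dvd_card_of_pgroup_ne_bot ht R hRt hR1
      exact lt_of_lt_of_le ht.one_lt (Nat.le_of_dvd Nat.card_pos this)
    have h3 : 0 < R.index := Nat.pos_of_ne_zero R.index_ne_zero_of_finite
    change R.index < n
    rw [← h1]
    nlinarith
  have hsurj : Function.Surjective (QuotientGroup.mk' R) := QuotientGroup.mk'_surjective R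
  rcases ih _ hlt (G ⧸ R) rfl p q r hp hq hr hpq hpr hqr hpq' hqq' hrq' with ⟨g, hg⟩ | ⟨g, hg⟩ | ⟨g, hg⟩
  · exact Or.inl (exists_orderOf_eq_of_surjective _ hsurj g hg)
  · exact Or.inr (Or.inl (exists_orderOf_eq_of_surjective _ hsurj g hg))
  · exact Or.inr (Or.inr (exists_orderOf_eq_of_surjective _ hsurj g hg))

end Cfsg.Agent.Lib.Helper6
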