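import Mathlib
import Cfsg.Agent.Lib.Helper6.Lucido2

set_option autoImplicit false

namespace Cfsg.Agent.Lib.Helper6

universe u

/-- a nontrivial solvable normal subgroup contains a nontrivial `t`-subgroup normal in `G`. -/
theorem exists_normal_pSubgroup_le {G : Type*} [Group G] [Finite G] (K : Subgroup G) [K.Normal]
    (hK : Group.IsSolvable K) (hK1 : K ≠ ⊥) :
    ∃ (t : ℕ) (R : Subgroup G), t.Prime ∧ R.Normal ∧ R ≤ K ∧ R ≠ ⊥ ∧ IsPGroup t R := by
  classical
  have hne : ({M : Subgroup G | M.Normal ∧ M ≠ ⊥ ∧ M ≤ K}).Nonempty := ⟨K, inferInstance, hK1, le_rfl⟩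
  obtain ⟨R, ⟨hRn, hR1, hRK⟩, hmin⟩ := Set.exists_min_image {M : Subgroup G | M.Normal ∧ M ≠ ⊥ ∧ M ≤ K}
    (fun M => Nat.card M) (Set.toFinite _) hne
  haveI := hRn
  have hmin' : ∀ M' : Subgroup G, M'.Normal → M' ≤ R → M' = ⊥ ∨ M' = R := by
    intro M' hM'n hM'le
    by_cases h0 : M' = ⊥
    · exact Or.inl h0
    · right
      exact Subgroup.eq_of_le_of_card_ge hM'le (hmin M' ⟨hM'n, h0, hM'le.trans hRK⟩)
  haveI hRsolv : Group.IsSolvable R :=
    Group.isSolvable_of_isSolvable_injective (f := Subgroup.inclusion hRK) (Subgroup.inclusion_injective hRK)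
  have hlt : ⁅R, R⁆ < R := by
    haveI : Nontrivial R := (Subgroup.nontrivial_iff_ne_bot R).2 hR1
    have h1 := Group.IsSolvable.commutator_lt_top_of_nontrivial R
    rw [← R.map_subtype_commutator]
    have h2 : (commutator R).map R.subtype < (⊤ : Subgroup R).map R.subtype :=
      (Subgroup.map_lt_map_iff_of_injective R.subtype_injective).2 h1
    rw [← MonoidHom.range_eq_map, R.range_subtype] at h2
    exact h2
  have hbot : ⁅R, R⁆ = ⊥ := by
    rcases hmin' _ inferInstance hlt.le with h | h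
    · exact h
    · exact absurd h hlt.ne
  have hcent : R ≤ Subgroup.centralizer (R : Set G) :=
    Subgroup.commutator_eq_bot_iff_le_centralizer.1 hbot
  have hcomm' : ∀ x ∈ R, ∀ y ∈ R, x * y = y * x := by
    intro x hx y hy
    exact (Subgroup.mem_centralizer_iff.1 (hcent hx) y hy).symm
  have hcard : Nat.card R ≠ 1 := by
    intro h
    exact hR1 (Subgroup.card_eq_one.1 h)
  obtain ⟨t, ht, htd⟩ := Nat.exists_prime_and_dvd hcard
  haveI : Fact t.Prime := ⟨ht⟩
  let Ω : Subgroup G :=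
    { carrier := {x | x ∈ R ∧ x ^ t = 1}
      one_mem' := ⟨R.one_mem, one_pow _⟩
      mul_mem' := by
        rintro a b ⟨ha, ha'⟩ ⟨hb, hb'⟩
        refine ⟨R.mul_mem ha hb, ?_⟩
        rw [(show Commute a b from hcomm' a ha b hb).mul_pow, ha', hb', one_mul]
      inv_mem' := by
        rintro a ⟨ha, ha'⟩
        exact ⟨R.inv_mem ha, by rw [inv_pow, ha', inv_one]⟩ }
  have hΩn : Ω.Normal := by
    refine ⟨fun a ha g => ?_⟩
    obtain ⟨ha1, ha2⟩ := ha
    refine ⟨hRn.conj_mem a ha1 g, ?_⟩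
    rw [conj_pow, ha2]; group
  have hΩR : Ω ≤ R := fun x hx => hx.1
  have hΩ1 : Ω ≠ ⊥ := by
    obtain ⟨x, hx⟩ := exists_prime_orderOf_dvd_card' t htd
    intro h
    have hxΩ : (x : G) ∈ Ω := by
      refine ⟨x.2, ?_⟩
      have : x ^ t = 1 := by rw [← hx]; exact pow_orderOf_eq_one x
      have := congrArg Subtype.val this
      simpa using this
    rw [h, Subgroup.mem_bot] at hxΩ
    have : x = 1 := Subtype.ext hxΩ
    rw [this, orderOf_one] at hx
    exact ht.one_lt.ne hx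
  have hΩeq : Ω = R := by
    rcases hmin' Ω hΩn hΩR with h | h
    · exact absurd h hΩ1
    · exact h
  refine ⟨t, R, ht, hRn, hRK, hR1, ?_⟩
  intro x
  refine ⟨1, ?_⟩
  rw [pow_one]
  have : (x : G) ∈ Ω := by rw [hΩeq]; exact x.2
  exact Subtype.ext this.2

theorem prime_dvd_relIndex_of_pgroup {G : Type*} [Group G] [Finite G] {t b : ℕ} (ht : t.Prime)
    (hb : b.Prime) (htb : t ≠ b) (R K : Subgroup G) (hRK : R ≤ K) (hR : IsPGroup t R)
    (hbK : b ∣ Nat.card K) : b ∣ R.relIndex K := by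
  haveI : Fact t.Prime := ⟨ht⟩
  obtain ⟨k, hk⟩ := IsPGroup.iff_card.1 hR
  have h1 := Subgroup.relIndex_mul_relIndex ⊥ R K bot_le hRK
  rw [Subgroup.relIndex_bot_left, Subgroup.relIndex_bot_left] at h1
  rw [← h1, hk] at hbK
  have hcop : Nat.Coprime b (t ^ k) := Nat.Coprime.pow_right _ ((Nat.coprime_primes hb ht).2 htb.symm)
  exact hcop.dvd_of_dvd_mul_left hbK

/-- `G`-normal version of `exists_normal_split`. -/
theorem exists_normal_split_le : ∀ (n : ℕ) (G : Type u) [Group G] [Finite G] (K : Subgroup G)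
    [K.Normal], Group.IsSolvable K → Nat.card K = n → ∀ a b : ℕ, a.Prime → b.Prime → a ≠ b →
    a ∣ n → b ∣ n →
    ∃ M : Subgroup G, M.Normal ∧ M ≤ K ∧
      ((a ∣ Nat.card M ∧ b ∣ M.relIndex K) ∨ (b ∣ Nat.card M ∧ a ∣ M.relIndex K)) := by
  intro n
  induction n using Nat.strong_induction_on with
  | _ n ih =>
  intro G _ _ K _ hKs hn a b ha hb hab han hbn
  have hK1 : K ≠ ⊥ := by
    intro h
    rw [h, Subgroup.card_bot] at hn
    rw [← hn] at han
    exact ha.one_lt.ne' (Nat.dvd_one.1 han)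
  obtain ⟨t, R, ht, hRn, hRK, hR1, hRt⟩ := exists_normal_pSubgroup_le K hKs hK1
  haveI := hRn
  by_cases hta : t = a
  · subst hta
    exact ⟨R, hRn, hRK, Or.inl ⟨prime_dvd_card_of_pgroup_ne_bot ht R hRt hR1,
      prime_dvd_relIndex_of_pgroup ht hb hab R K hRK hRt (hn ▸ hbn)⟩⟩
  by_cases htb : t = b
  · subst htb
    exact ⟨R, hRn, hRK, Or.inr ⟨prime_dvd_card_of_pgroup_ne_bot ht R hRt hR1,
      prime_dvd_relIndex_of_pgroup ht ha hab.symm R K hRK hRt (hn ▸ han)⟩⟩
  -- pass to the quotient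
  obtain ⟨f, hf⟩ : ∃ f : G →* G ⧸ R, f = QuotientGroup.mk' R := ⟨_, rfl⟩
  have hsurj : Function.Surjective f := by rw [hf]; exact QuotientGroup.mk'_surjective R
  have hker : f.ker = R := by rw [hf]; exact QuotientGroup.ker_mk' R
  haveI hKbn : (K.map f).Normal := Subgroup.Normal.map inferInstance f hsurj
  have hKbs : Group.IsSolvable (K.map f) := by
    haveI := hKs
    exact Group.isSolvable_of_surjective (f := f.subgroupMap K) (f.subgroupMap_surjective K)
  have hKbcard : Nat.card (K.map f) = R.relIndex K := by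
    have := (Subgroup.relIndex_ker (K := K) f).symm
    rw [this]
    exact congrArg (fun X : Subgroup G => X.relIndex K) hker
  have hcardK : Nat.card R * R.relIndex K = Nat.card K := by
    have h1 := Subgroup.relIndex_mul_relIndex ⊥ R K bot_le hRK
    rwa [Subgroup.relIndex_bot_left, Subgroup.relIndex_bot_left] at h1
  have hlt : Nat.card (K.map f) < n := by
    rw [hKbcard, ← hn, ← hcardK]
    have h2 : 1 < Nat.card R := by
      have := prime_dvd_card_of_pgroup_ne_bot ht R hRt hR1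
      exact lt_of_lt_of_le ht.one_lt (Nat.le_of_dvd Nat.card_pos this)
    have h3 : 0 < R.relIndex K := by
      apply Nat.pos_of_ne_zero
      intro h0
      rw [h0, mul_zero] at hcardK
      exact (Nat.card_pos (α := K)).ne hcardK
    nlinarith
  have haq : a ∣ Nat.card (K.map f) := by
    rw [hKbcard]; exact prime_dvd_relIndex_of_pgroup ht ha hta R K hRK hRt (hn ▸ han)
  have hbq : b ∣ Nat.card (K.map f) := by
    rw [hKbcard]; exact prime_dvd_relIndex_of_pgroup ht hb htb R K hRK hRt (hn ▸ hbn)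
  obtain ⟨Mb, hMbn, hMbK, hMb⟩ := ih _ hlt (G ⧸ R) (K.map f) hKbs rfl a b ha hb hab haq hbq
  refine ⟨Mb.comap f, hMbn.comap _, ?_, ?_⟩
  · have h1 : Mb.comap f ≤ (K.map f).comap f := Subgroup.comap_mono hMbK
    rw [Subgroup.comap_map_eq, hker, sup_eq_left.2 hRK] at h1
    exact h1
  · have hcard : Nat.card Mb ∣ Nat.card (Mb.comap f) := by
      have := Subgroup.card_map_dvd (Mb.comap f) f
      rwa [Subgroup.map_comap_eq_self_of_surjective hsurj] at this
    rw [Subgroup.relIndex_comap]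
    rcases hMb with ⟨h1, h2⟩ | ⟨h1, h2⟩
    · exact Or.inl ⟨dvd_trans h1 hcard, h2⟩
    · exact Or.inr ⟨dvd_trans h1 hcard, h2⟩

end Cfsg.Agent.Lib.Helper6
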