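import Mathlib
import Cfsg.Agent.Lib.Helper6.Modular

set_option autoImplicit false

namespace Cfsg.Agent.Lib.Helper6

open Subgroup

section B2

variable {K : Type*} [Group K] [Finite K] (Q : Sylow 2 K) (n : ℕ) (c d : K)

/-- an element commuting with a generator of an index-two cyclic subgroup of `Q`, normalizing `Q`
and of odd prime power order centralizes `Q` -/
theorem commute_of_commute_index_two (hcard : Nat.card (Q : Subgroup K) = 2 ^ n) (hn : 1 ≤ n)
    (u : K) (hu : u ∈ (Q : Subgroup K)) (huo : orderOf u = 2 ^ (n - 1))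
    (y : K) (hy : y ∈ Subgroup.normalizer ((Q : Subgroup K) : Set K)) (hyu : Commute y u)
    (m : ℕ) (hm : Odd m) (hym : y ^ m = 1) :
    ∀ v ∈ (Q : Subgroup K), Commute y v := by
  classical
  -- pick d' outside zpowers u
  have hle : zpowers u ≤ (Q : Subgroup K) := by rw [zpowers_le]; exact hu
  obtain ⟨d', hd'Q, hd'u⟩ : ∃ d' ∈ (Q : Subgroup K), d' ∉ zpowers u := by
    by_contra hcon
    push Not at hcon
    have hQle : (Q : Subgroup K) ≤ zpowers u := hcon
    have := Subgroup.card_le_of_le hQle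
    rw [hcard, Nat.card_zpowers, huo] at this
    have : 2 ^ (n - 1) < 2 ^ n := Nat.pow_lt_pow_right (by norm_num) (by omega)
    omega
  have hNF := index_two_normal_form (Q : Subgroup K) u d' hu hd'Q
    (by rw [hcard, huo, ← pow_succ']; congr 1; omega) hd'u
  have hidx : ((zpowers u).subgroupOf (Q : Subgroup K)).index = 2 := by
    have h1 := ((zpowers u).subgroupOf (Q : Subgroup K)).card_mul_index
    have h2 : Nat.card ((zpowers u).subgroupOf (Q : Subgroup K)) = 2 ^ (n - 1) := by
      rw [Nat.card_congr (Subgroup.subgroupOfEquivOfLe hle).toEquiv, Nat.card_zpowers, huo]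
    rw [h2, hcard] at h1
    have h3 : 2 ^ n = 2 ^ (n - 1) * 2 := by rw [← pow_succ]; congr 1; omega
    rw [h3] at h1
    exact Nat.eq_of_mul_eq_mul_left (by positivity) h1
  -- y commutes with d'
  have hyd : Commute y d' := by
    have hconjQ : y * d' * y⁻¹ ∈ (Q : Subgroup K) := (Subgroup.mem_normalizer_iff.mp hy d').mp hd'Q
    have hconj_not : y * d' * y⁻¹ ∉ zpowers u := by
      intro h
      apply hd'u
      obtain ⟨k, hk⟩ := Subgroup.mem_zpowers_iff.mp h
      have : d' = y⁻¹ * (u ^ k) * y := by rw [hk]; group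
      rw [this, mul_assoc, ← (hyu.zpow_right k).eq, inv_mul_cancel_left]
      exact Subgroup.zpow_mem_zpowers u k
    have hw : (y * d' * y⁻¹) * d'⁻¹ ∈ zpowers u := by
      have := Subgroup.mul_mem_iff_of_index_two hidx (a := ⟨y * d' * y⁻¹, hconjQ⟩)
        (b := ⟨d'⁻¹, inv_mem hd'Q⟩)
      simp only [Subgroup.mem_subgroupOf, Subgroup.coe_mul, inv_mem_iff] at this
      rw [this]
      exact ⟨fun h => absurd h hconj_not, fun h => absurd h hd'u⟩
    obtain ⟨w, hwdef⟩ : ∃ w, w = (y * d' * y⁻¹) * d'⁻¹ := ⟨_, rfl⟩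
    rw [← hwdef] at hw
    have hyw : Commute y w := by
      obtain ⟨k, hk⟩ := Subgroup.mem_zpowers_iff.mp hw
      rw [← hk]; exact hyu.zpow_right k
    have hconj : y * d' * y⁻¹ = w * d' := by rw [hwdef]; group
    have hpow : ∀ j : ℕ, y ^ j * d' * (y ^ j)⁻¹ = w ^ j * d' := by
      intro j
      induction j with
      | zero => simp
      | succ j ih =>
        have : y ^ (j + 1) * d' * (y ^ (j + 1))⁻¹ = y * (y ^ j * d' * (y ^ j)⁻¹) * y⁻¹ := by
          rw [pow_succ', mul_inv_rev]; simp only [mul_assoc]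
        rw [this, ih]
        have : y * (w ^ j * d') * y⁻¹ = (y * w ^ j * y⁻¹) * (y * d' * y⁻¹) := by
          simp only [mul_assoc, inv_mul_cancel_left]
        rw [this, hconj]
        have : y * w ^ j * y⁻¹ = w ^ j := by
          rw [(hyw.pow_right j).eq, mul_assoc, mul_inv_cancel, mul_one]
        rw [this, pow_succ, mul_assoc]
    have h1 := hpow m
    rw [hym] at h1
    simp only [one_mul, inv_one, mul_one] at h1
    have hwm : w ^ m = 1 := by
      have : w ^ m * d' = 1 * d' := by rw [one_mul]; exact h1.symm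
      exact mul_right_cancel this
    have hwQ : w ∈ (Q : Subgroup K) := hle hw
    have hw2 : w ^ (2 ^ n) = 1 := by
      have := pow_card_eq_one' (G := (Q : Subgroup K)) (x := ⟨w, hwQ⟩)
      rw [hcard] at this
      exact congrArg Subtype.val this
    have hw1 : w = 1 := by
      have h1 : orderOf w ∣ m := orderOf_dvd_of_pow_eq_one hwm
      have h2 : orderOf w ∣ 2 ^ n := orderOf_dvd_of_pow_eq_one hw2
      have hcop : Nat.Coprime m (2 ^ n) := (Nat.Coprime.pow_right n hm.coprime_two_right)
      have := Nat.eq_one_of_dvd_coprimes hcop h1 h2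
      exact orderOf_eq_one_iff.mp this
    rw [hw1, one_mul] at hconj
    show y * d' = d' * y
    have : y * d' = (y * d' * y⁻¹) * y := by group
    rw [this, hconj]
  intro v hv
  obtain ⟨i, hi | hi⟩ := hNF v hv
  · rw [hi]; exact hyu.pow_right i
  · rw [hi]; exact (hyu.pow_right i).mul_right hyd


/-- Burnside's condition for an abelian Sylow 2-subgroup of type `2^(n-1) × 2`, `n ≥ 3` -/
theorem normalizer_le_centralizer_of_cyclic_mul_two (hn : 3 ≤ n)
    (hcard : Nat.card (Q : Subgroup K) = 2 ^ n)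
    (hc : c ∈ (Q : Subgroup K)) (hd : d ∈ (Q : Subgroup K))
    (hco : orderOf c = 2 ^ (n - 1)) (hd2 : d * d = 1) (hcd : Commute c d) (hdc : d ∉ zpowers c) :
    Subgroup.normalizer ((Q : Subgroup K) : Set K) ≤ Subgroup.centralizer ((Q : Subgroup K) : Set K) := by
  classical
  have h2prime : Fact (Nat.Prime 2) := ⟨Nat.prime_two⟩
  obtain ⟨z, hz⟩ : ∃ z, z = c ^ (2 ^ (n - 2)) := ⟨_, rfl⟩
  have hzo : orderOf z = 2 := by
    rw [hz, orderOf_pow' c (by positivity), hco, Nat.gcd_eq_right (pow_dvd_pow 2 (by omega)),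
      Nat.pow_div (by omega) (by norm_num)]
    have : n - 1 - (n - 2) = 1 := by omega
    rw [this, pow_one]
  have hz1 : z ≠ 1 := by
    intro h; rw [h, orderOf_one] at hzo; omega
  have hzz : z * z = 1 := by
    rw [← pow_two, ← hzo, pow_orderOf_eq_one]
  have hNF := index_two_normal_form (Q : Subgroup K) c d hc hd
    (by rw [hcard, hco, ← pow_succ']; congr 1; omega) hdc
  -- all elements of Q commute
  have hcomm : ∀ u ∈ (Q : Subgroup K), ∀ v ∈ (Q : Subgroup K), Commute u v := by
    intro u hu v hv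
    obtain ⟨i, hi | hi⟩ := hNF u hu <;> obtain ⟨j, hj | hj⟩ := hNF v hv <;> subst hi hj
    · exact (Commute.refl c).pow_pow i j
    · exact ((Commute.refl c).pow_pow i j).mul_right (hcd.pow_left i)
    · exact ((Commute.refl c).pow_pow i j).mul_left (hcd.pow_left j).symm
    · exact (((Commute.refl c).pow_pow i j).mul_right (hcd.pow_left i)).mul_left
        ((hcd.pow_left j).symm.mul_right (Commute.refl d))
  have hzpow : ∀ i : ℕ, z ^ i = 1 ∨ z ^ i = z := by
    intro i
    rw [← pow_mod_orderOf, hzo]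
    rcases Nat.mod_two_eq_zero_or_one i with h | h <;> rw [h]
    · left; exact pow_zero z
    · right; exact pow_one z
  have hdpow : d ^ (2 ^ (n - 2)) = 1 := by
    have : 2 ^ (n - 2) = 2 * 2 ^ (n - 3) := by rw [← pow_succ']; congr 1; omega
    rw [this, pow_mul, pow_two, hd2, one_pow]
  have hpi : ∀ u ∈ (Q : Subgroup K), u ^ (2 ^ (n - 2)) = 1 ∨ u ^ (2 ^ (n - 2)) = z := by
    intro u hu
    obtain ⟨i, hi | hi⟩ := hNF u hu
    · rw [hi, ← pow_mul, mul_comm, pow_mul, ← hz]; exact hzpow i
    · rw [hi, (hcd.pow_left i).mul_pow, hdpow, mul_one, ← pow_mul, mul_comm, pow_mul, ← hz]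
      exact hzpow i
  have hzQ : z ∈ (Q : Subgroup K) := by rw [hz]; exact Subgroup.pow_mem _ hc _
  -- z is fixed by the normalizer
  have hNz : ∀ g ∈ Subgroup.normalizer ((Q : Subgroup K) : Set K), g * z * g⁻¹ = z := by
    intro g hg
    have h1 : g * c * g⁻¹ ∈ (Q : Subgroup K) := (Subgroup.mem_normalizer_iff.mp hg c).mp hc
    have h2 : g * z * g⁻¹ = (g * c * g⁻¹) ^ (2 ^ (n - 2)) := by rw [hz, conj_pow]
    rcases hpi _ h1 with h | h
    · exfalso
      rw [← h2] at h
      apply hz1
      have : z = g⁻¹ * (g * z * g⁻¹) * g := by group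
      rw [this, h]; group
    · rw [h2, h]
  -- odd prime power elements
  have hodd : ∀ (q r : ℕ), q.Prime → q ≠ 2 → ∀ y ∈ Subgroup.normalizer ((Q : Subgroup K) : Set K),
      y ^ (q ^ r) = 1 → ∀ v ∈ (Q : Subgroup K), Commute y v := by
    intro q r hq hq2 y hy hyq
    have hqf : Fact q.Prime := ⟨hq⟩
    have hqodd : Odd q := hq.odd_of_ne_two hq2
    -- the set X and the action
    let X := {u : K // u ∈ (Q : Subgroup K) ∧ u ^ (2 ^ (n - 2)) = z}
    let N := Subgroup.normalizer ((Q : Subgroup K) : Set K)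
    let act : MulAction N X :=
      { smul := fun g u => ⟨g.1 * u.1 * g.1⁻¹, (Subgroup.mem_normalizer_iff.mp g.2 u.1).mp u.2.1, by
          rw [conj_pow, u.2.2]; exact hNz g.1 g.2⟩
        one_smul := fun u => by
          apply Subtype.ext
          show (1 : N).1 * u.1 * (1 : N).1⁻¹ = u.1
          simp
        mul_smul := fun g h u => by
          apply Subtype.ext
          show (g * h).1 * u.1 * (g * h).1⁻¹ = g.1 * (h.1 * u.1 * h.1⁻¹) * g.1⁻¹
          simp only [Subgroup.coe_mul, mul_inv_rev, mul_assoc] }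
    -- the subgroup Ω
    let Ω : Subgroup K :=
      { carrier := {v | v ∈ (Q : Subgroup K) ∧ v ^ (2 ^ (n - 2)) = 1}
        mul_mem' := fun {v w} hv hw => ⟨mul_mem hv.1 hw.1, by
          rw [(hcomm v hv.1 w hw.1).mul_pow, hv.2, hw.2, one_mul]⟩
        one_mem' := ⟨one_mem _, one_pow _⟩
        inv_mem' := fun {v} hv => ⟨inv_mem hv.1, by rw [inv_pow, hv.2, inv_one]⟩ }
    have hΩle : Ω ≤ (Q : Subgroup K) := fun v hv => hv.1
    have hcz : c ^ (2 ^ (n - 2)) = z := hz.symm
    have hXΩ : X ≃ Ω :=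
      { toFun := fun u => ⟨c⁻¹ * u.1, mul_mem (inv_mem hc) u.2.1, by
          rw [(hcomm _ (inv_mem hc) _ u.2.1).mul_pow, inv_pow, hcz, u.2.2, inv_mul_cancel]⟩
        invFun := fun v => ⟨c * v.1, mul_mem hc v.2.1, by
          rw [(hcomm _ hc _ v.2.1).mul_pow, hcz, v.2.2, mul_one]⟩
        left_inv := fun u => by apply Subtype.ext; simp
        right_inv := fun v => by apply Subtype.ext; simp }
    have hXcard : ¬ q ∣ Nat.card X := by
      rw [Nat.card_congr hXΩ]
      intro hdiv
      have h1 : Nat.card Ω ∣ 2 ^ n := by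
        rw [← hcard]; exact Subgroup.card_dvd_of_le hΩle
      have h2 : q ∣ 2 ^ n := hdiv.trans h1
      have h3 : q ∣ 2 := hq.dvd_of_dvd_pow h2
      exact hq2 ((Nat.prime_dvd_prime_iff_eq hq Nat.prime_two).mp h3)
    -- the q-group generated by y
    let yN : N := ⟨y, hy⟩
    have hΓ : IsPGroup q (zpowers yN) := by
      intro x
      obtain ⟨x, hx⟩ := x
      obtain ⟨j, rfl⟩ := Subgroup.mem_zpowers_iff.mp hx
      refine ⟨r, ?_⟩
      apply Subtype.ext
      simp only [Subgroup.coe_pow, Subgroup.coe_one]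
      have hyN : yN ^ (q ^ r) = 1 := by
        apply Subtype.ext
        simp only [Subgroup.coe_pow, Subgroup.coe_one]
        exact hyq
      rw [← zpow_natCast, ← zpow_mul, mul_comm, zpow_mul, zpow_natCast, hyN, one_zpow]
    obtain ⟨x, hx⟩ := hΓ.nonempty_fixed_point_of_prime_not_dvd_card X hXcard
    have hfix : yN • x = x := hx ⟨yN, mem_zpowers yN⟩
    have hfix' : y * x.1 * y⁻¹ = x.1 := congrArg Subtype.val hfix
    have hyx : Commute y x.1 := by
      show y * x.1 = x.1 * y
      have : y * x.1 = (y * x.1 * y⁻¹) * y := by group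
      rw [this, hfix']
    -- order of x
    have hxo : orderOf x.1 = 2 ^ (n - 1) := by
      have h1 : ¬ x.1 ^ (2 ^ (n - 2)) = 1 := by rw [x.2.2]; exact hz1
      have h2 : x.1 ^ (2 ^ (n - 2 + 1)) = 1 := by
        rw [pow_succ, pow_mul, x.2.2, pow_two, hzz]
      have := orderOf_eq_prime_pow h1 h2
      rw [this]; congr 1; omega
    exact commute_of_commute_index_two Q n hcard (by omega) x.1 x.2.1 hxo y hy hyx (q ^ r)
      (hqodd.pow) hyq
  -- main induction on the order
  intro g hg
  have key : ∀ m : ℕ, ∀ g ∈ Subgroup.normalizer ((Q : Subgroup K) : Set K), orderOf g = m →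
      ∀ v ∈ (Q : Subgroup K), Commute g v := by
    intro m
    induction m using Nat.recOnPosPrimePosCoprime with
    | prime_pow q r hq hr =>
      intro g hg hgo v hv
      have hgq : g ^ (q ^ r) = 1 := by rw [← hgo]; exact pow_orderOf_eq_one g
      by_cases hq2 : q = 2
      · subst hq2
        have hgQ := mem_sylow_of_mem_normalizer_of_pow Q g hg r hgq
        exact hcomm g hgQ v hv
      · exact hodd q r hq hq2 g hg hgq v hv
    | zero =>
      intro g _ hgo
      exact absurd hgo (orderOf_pos g).ne'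
    | one =>
      intro g _ hgo v _
      rw [orderOf_eq_one_iff.mp hgo]; exact Commute.one_left v
    | coprime a b ha hb hab iha ihb =>
      intro g hg hgo v hv
      have h1 : orderOf (g ^ a) = b := by
        rw [orderOf_pow' g (by omega), hgo, Nat.gcd_eq_right (Dvd.intro b rfl),
          Nat.mul_div_cancel_left b (by omega)]
      have h2 : orderOf (g ^ b) = a := by
        rw [orderOf_pow' g (by omega), hgo, Nat.gcd_eq_right (Dvd.intro_left a rfl),
          Nat.mul_div_cancel a (by omega)]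
      have c1 := ihb (g ^ a) (Subgroup.pow_mem _ hg a) h1 v hv
      have c2 := iha (g ^ b) (Subgroup.pow_mem _ hg b) h2 v hv
      -- Bezout
      have hbez : (1 : ℤ) = a * Nat.gcdA a b + b * Nat.gcdB a b := by
        have := Nat.gcd_eq_gcd_ab a b
        rw [hab] at this
        exact_mod_cast this
      have : g = (g ^ a) ^ (Nat.gcdA a b) * (g ^ b) ^ (Nat.gcdB a b) := by
        rw [← zpow_natCast g a, ← zpow_natCast g b, ← zpow_mul, ← zpow_mul, ← zpow_add, ← hbez,
          zpow_one]
      rw [this]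
      exact (c1.zpow_left _).mul_left (c2.zpow_left _)
  have := key (orderOf g) g hg rfl
  rw [Subgroup.mem_centralizer_iff]
  intro v hv
  exact (this v hv).eq.symm

end B2

end Cfsg.Agent.Lib.Helper6
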