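import Mathlib

set_option autoImplicit false

namespace Cfsg.Agent.Lib.Helper6

open Subgroup

/-- the Sylow 2-subgroup of a subgroup of index two cut out by a Sylow 2-subgroup of the group -/
theorem exists_sylow_of_index_two {G : Type*} [Group G] [Finite G] (S : Sylow 2 G) (H : Subgroup G)
    (hH : H.index = 2) (a : G) (ha : a ∈ (S : Subgroup G)) (haH : a ∉ H) (k : ℕ)
    (hS : Nat.card (S : Subgroup G) = 2 ^ (k + 1)) :
    ∃ Q : Sylow 2 H, (Q : Subgroup H) = (S : Subgroup G).subgroupOf H ∧
      Nat.card (Q : Subgroup H) = 2 ^ k := by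
  classical
  have h2 : Fact (Nat.Prime 2) := ⟨Nat.prime_two⟩
  -- H ∩ S has index two in S
  have hidx : (H.subgroupOf (S : Subgroup G)).index = 2 := by
    rw [Subgroup.index_eq_two_iff_exists_notMem_and]
    refine ⟨⟨a, ha⟩, ?_, fun y => ?_⟩
    · rw [Subgroup.mem_subgroupOf]; exact haH
    · simp only [Subgroup.mem_subgroupOf, Subgroup.coe_mul]
      have := Subgroup.mul_mem_iff_of_index_two hH (a := (y : G)) (b := a)
      by_cases hy : (y : G) ∈ H
      · exact Or.inr hy
      · exact Or.inl (this.mpr ⟨fun h => absurd h hy, fun h => absurd h haH⟩)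
  have hc1 : Nat.card (H.subgroupOf (S : Subgroup G)) = 2 ^ k := by
    have h1 := (H.subgroupOf (S : Subgroup G)).card_mul_index
    rw [hidx, hS, pow_succ] at h1
    exact Nat.eq_of_mul_eq_mul_right (by norm_num) h1
  have hc2 : Nat.card ((S : Subgroup G).subgroupOf H) = 2 ^ k := by
    rw [← hc1]
    have e1 : Nat.card ((S : Subgroup G).subgroupOf H) = Nat.card ((S : Subgroup G) ⊓ H : Subgroup G) := by
      rw [← Subgroup.inf_subgroupOf_right]
      exact Nat.card_congr (Subgroup.subgroupOfEquivOfLe inf_le_right).toEquiv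
    have e2 : Nat.card (H.subgroupOf (S : Subgroup G)) = Nat.card ((S : Subgroup G) ⊓ H : Subgroup G) := by
      rw [← Subgroup.inf_subgroupOf_left]
      exact Nat.card_congr (Subgroup.subgroupOfEquivOfLe inf_le_left).toEquiv
    rw [e1, e2]
  -- the 2-part of card H
  have hfac : (Nat.card H).factorization 2 = k := by
    have hG : Nat.card G = 2 ^ (k + 1) * (S : Subgroup G).index := by
      rw [← hS]; exact ((S : Subgroup G).card_mul_index).symm
    have hG2 : Nat.card G = Nat.card H * 2 := by
      rw [← hH]; exact (H.card_mul_index).symm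
    have hHc : Nat.card H = 2 ^ k * (S : Subgroup G).index := by
      have : Nat.card H * 2 = (2 ^ k * (S : Subgroup G).index) * 2 := by
        rw [← hG2, hG, pow_succ]; ring
      exact Nat.eq_of_mul_eq_mul_right (by norm_num) this
    have hodd : ¬ 2 ∣ (S : Subgroup G).index := S.not_dvd_index
    have hne : (S : Subgroup G).index ≠ 0 := Subgroup.index_ne_zero_of_finite
    rw [hHc, Nat.factorization_mul (by positivity) hne]
    rw [Finsupp.add_apply, Nat.factorization_eq_zero_of_not_dvd hodd,
      Nat.Prime.factorization_pow Nat.prime_two]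
    simp
  refine ⟨Sylow.ofCard ((S : Subgroup G).subgroupOf H) (by rw [hc2, hfac]), rfl, ?_⟩
  exact hc2

end Cfsg.Agent.Lib.Helper6
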