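import Mathlib
import Cfsg.Prelude.Def_Perm
import Cfsg.Agent.Lib.Helper1.NearFieldBasic

set_option autoImplicit false

namespace Cfsg.Agent.Lib.Helper6

open Cfsg Cfsg.Agent.Lib.Helper1.NearFieldBasic

section NFField

variable {β : Type*}

theorem nf_left_distrib [NearField β] (hc : ∀ a b : β, a * b = b * a) (a b c : β) :
    a * (b + c) = a * b + a * c := by
  rw [hc, NearField.right_distrib, hc b, hc c]

theorem nf_add_comm' [NearField β] (hc : ∀ a b : β, a * b = b * a) (a b : β) :
    a + b = b + a := by
  have h1 : (a + b) * (1 + 1) = (a + b) + (a + b) := by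
    rw [nf_left_distrib hc, mul_one]
  have h2 : (a + b) * (1 + 1) = (a + a) + (b + b) := by
    rw [NearField.right_distrib, nf_left_distrib hc, nf_left_distrib hc, mul_one, mul_one]
  rw [h1] at h2
  -- a + b + (a + b) = a + a + (b + b)
  have h3 : b + a = a + b := by
    have h4 : a + (b + a) + b = a + (a + b) + b := by
      simpa [add_assoc] using h2
    exact add_left_cancel (add_right_cancel h4)
  exact h3.symm

/-- A near-field with commutative multiplication is a commutative ring. -/
@[reducible] def commRingOfNF (nf : NearField β) (hc : ∀ a b : β, a * b = b * a) : CommRing β :=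
  { nf.toAddGroup, nf.toMonoid with
    add_comm := nf_add_comm' hc
    left_distrib := nf_left_distrib hc
    right_distrib := NearField.right_distrib
    zero_mul := nf_zero_mul
    mul_zero := NearField.mul_zero
    mul_comm := hc }

theorem isField_of_NF (nf : NearField β) (hc : ∀ a b : β, a * b = b * a) :
    @IsField β (commRingOfNF nf hc).toSemiring :=
  @IsField.mk β (commRingOfNF nf hc).toSemiring ⟨0, 1, NearField.zero_ne_one⟩ hc
    (fun {a} ha => by
      obtain ⟨b, h1, _⟩ := NearField.exists_inv a ha
      exact ⟨b, h1⟩)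

/-- A near-field with commutative multiplication is a field. -/
@[reducible] noncomputable def fieldOfNF (nf : NearField β) (hc : ∀ a b : β, a * b = b * a) : Field β :=
  @IsField.toField β (commRingOfNF nf hc).toRing (isField_of_NF nf hc)

end NFField

theorem nf_comm_of_tt {β : Type*} [NearField β] [Finite β] (tt : β → β) (T5 : tt 1 = 1)
    (T6 : ∀ x a, tt (x * a) = tt x * tt a) (T4 : ∀ x, tt (tt x) = x)
    (T7 : ∀ x, tt x = x → x = 0 ∨ x = 1) :
    (∀ a b : β, a * b = b * a) ∧ ∀ x : β, x ≠ 0 → tt x * x = 1 := by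
  let φ : β →* β := ⟨⟨tt, T5⟩, T6⟩
  let ψ : βˣ →* βˣ := Units.map φ
  have hunit0 : ∀ u : βˣ, (u : β) ≠ 0 := by
    intro u h0
    have := u.mul_inv
    rw [h0, nf_zero_mul] at this
    exact NearField.zero_ne_one this
  have hfpf : MonoidHom.FixedPointFree ψ := by
    intro u hu
    have h1 : tt (u : β) = u := congrArg Units.val hu
    rcases T7 _ h1 with h | h
    · exact absurd h (hunit0 u)
    · exact Units.ext h
  have hinv : Function.Involutive ψ := by
    intro u
    apply Units.ext
    exact T4 _
  have hunit : ∀ a : β, a ≠ 0 → ∃ u : βˣ, (u : β) = a := by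
    intro a ha
    obtain ⟨b, h1, h2⟩ := NearField.exists_inv a ha
    exact ⟨⟨a, b, h1, h2⟩, rfl⟩
  refine ⟨?_, ?_⟩
  · intro a b
    by_cases ha : a = 0
    · rw [ha, nf_zero_mul, NearField.mul_zero]
    by_cases hb : b = 0
    · rw [hb, nf_zero_mul, NearField.mul_zero]
    obtain ⟨u, rfl⟩ := hunit a ha
    obtain ⟨v, rfl⟩ := hunit b hb
    have := hfpf.commute_all_of_involutive hinv u v
    have h := congrArg Units.val this.eq
    simpa using h
  · intro x hx
    obtain ⟨u, rfl⟩ := hunit x hx
    have h := hfpf.coe_eq_inv_of_involutive hinv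
    have h2 : ψ u = u⁻¹ := congrFun h u
    have h3 : tt (u : β) = ((u⁻¹ : βˣ) : β) := congrArg Units.val h2
    rw [h3]
    exact u.inv_mul

end Cfsg.Agent.Lib.Helper6
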