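import Mathlib
import Cfsg.Agent.Lib.Helper6.UniqInv

set_option autoImplicit false

namespace Cfsg.Agent.Lib.Helper6

/-- a subgroup containing two distinct involutions is not cyclic -/
theorem not_isCyclic_of_two_involutions {G : Type*} [Group G] [Finite G] (V : Subgroup G)
    (x y : G) (hxV : x ∈ V) (hyV : y ∈ V) (hx : orderOf x = 2) (hy : orderOf y = 2)
    (hxy : x ≠ y) : ¬ IsCyclic V := by
  classical
  intro hc
  haveI : Fintype V := Fintype.ofFinite V
  have h := IsCyclic.card_pow_eq_one_le (α := V) (n := 2) (by norm_num)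
  have hx2 : x ^ 2 = 1 := by rw [← hx]; exact pow_orderOf_eq_one _
  have hy2 : y ^ 2 = 1 := by rw [← hy]; exact pow_orderOf_eq_one _
  have hx1 : x ≠ 1 := by
    intro h1; rw [h1, orderOf_one] at hx; omega
  have hy1 : y ≠ 1 := by
    intro h1; rw [h1, orderOf_one] at hy; omega
  have hcard : ({1, ⟨x, hxV⟩, ⟨y, hyV⟩} : Finset V).card = 3 := by
    rw [Finset.card_insert_of_notMem, Finset.card_insert_of_notMem, Finset.card_singleton]
    · rw [Finset.mem_singleton]
      intro h1; exact hxy (congrArg Subtype.val h1)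
    · rw [Finset.mem_insert, Finset.mem_singleton]
      rintro (h1 | h1)
      · exact hx1 (congrArg Subtype.val h1).symm
      · exact hy1 (congrArg Subtype.val h1).symm
  have hle := (Finset.card_le_card (s := ({1, ⟨x, hxV⟩, ⟨y, hyV⟩} : Finset V)) (by
    intro u hu
    rw [Finset.mem_insert, Finset.mem_insert, Finset.mem_singleton] at hu
    rw [Finset.mem_filter]
    refine ⟨Finset.mem_univ _, ?_⟩
    rcases hu with rfl | rfl | rfl
    · simp
    · apply Subtype.ext; simpa using hx2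
    · apply Subtype.ext; simpa using hy2)).trans h
  omega

/-- the closure of a set whose conjugates stay in the closure is normal -/
theorem closure_normal_of_conj_mem {G : Type*} [Group G] (s : Set G)
    (h : ∀ x ∈ s, ∀ g : G, g * x * g⁻¹ ∈ Subgroup.closure s) : (Subgroup.closure s).Normal := by
  refine ⟨fun n hn g => ?_⟩
  induction hn using Subgroup.closure_induction with
  | mem x hx => exact h x hx g
  | one => simp
  | mul x y _ _ hx hy =>
    have : g * (x * y) * g⁻¹ = (g * x * g⁻¹) * (g * y * g⁻¹) := by group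
    rw [this]; exact Subgroup.mul_mem _ hx hy
  | inv x _ hx =>
    have : g * x⁻¹ * g⁻¹ = (g * x * g⁻¹)⁻¹ := by group
    rw [this]; exact Subgroup.inv_mem _ hx

/-- involutions in a cyclic group of order `2 ^ k` -/
theorem eq_one_or_eq_of_sq_eq_one {G : Type*} [Group G] (a : G) (k : ℕ) (hk : 1 ≤ k)
    (hao : orderOf a = 2 ^ k) (y : G) (hy : y ∈ Subgroup.zpowers a) (hy2 : y ^ 2 = 1) :
    y = 1 ∨ y = a ^ 2 ^ (k - 1) := by
  have hfin : IsOfFinOrder a := by
    rw [← orderOf_pos_iff, hao]; positivity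
  obtain ⟨j, rfl⟩ := (Submonoid.mem_powers_iff _ _).1 ((hfin.mem_powers_iff_mem_zpowers).2 hy)
  rw [← pow_mul, ← orderOf_dvd_iff_pow_eq_one, hao] at hy2
  have h2 : 2 ^ k = 2 ^ (k - 1) * 2 := by rw [← pow_succ]; congr 1; omega
  rw [h2] at hy2
  obtain ⟨i, rfl⟩ : 2 ^ (k - 1) ∣ j := Nat.dvd_of_mul_dvd_mul_right (by norm_num) hy2
  have hz2 : (a ^ 2 ^ (k - 1)) ^ 2 = 1 := by
    rw [← pow_mul, ← h2, ← hao]; exact pow_orderOf_eq_one a
  rw [pow_mul]
  rcases Nat.even_or_odd i with ⟨m, rfl⟩ | ⟨m, rfl⟩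
  · left
    rw [← two_mul, pow_mul, hz2, one_pow]
  · right
    rw [pow_succ, pow_mul, hz2, one_pow, one_mul]

/-- elements of order four in a cyclic group of order `2 ^ k` -/
theorem eq_or_eq_inv_of_pow_four {G : Type*} [Group G] (a : G) (k : ℕ) (hk : 2 ≤ k)
    (hao : orderOf a = 2 ^ k) (y : G) (hy : y ∈ Subgroup.zpowers a) (hy4 : y ^ 4 = 1)
    (hy2 : y ^ 2 ≠ 1) : y = a ^ 2 ^ (k - 2) ∨ y = (a ^ 2 ^ (k - 2))⁻¹ := by
  have hfin : IsOfFinOrder a := by
    rw [← orderOf_pos_iff, hao]; positivity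
  obtain ⟨j, rfl⟩ := (Submonoid.mem_powers_iff _ _).1 ((hfin.mem_powers_iff_mem_zpowers).2 hy)
  rw [← pow_mul, ← orderOf_dvd_iff_pow_eq_one, hao] at hy4
  have h2 : 2 ^ k = 2 ^ (k - 2) * 4 := by
    rw [show (4 : ℕ) = 2 ^ 2 by norm_num, ← pow_add]; congr 1; omega
  rw [h2] at hy4
  obtain ⟨i, rfl⟩ : 2 ^ (k - 2) ∣ j := Nat.dvd_of_mul_dvd_mul_right (by norm_num) hy4
  obtain ⟨c, hc⟩ : ∃ c, c = a ^ 2 ^ (k - 2) := ⟨_, rfl⟩
  have hc4 : c ^ 4 = 1 := by
    rw [hc, ← pow_mul, ← h2, ← hao]; exact pow_orderOf_eq_one a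
  rw [pow_mul, ← hc] at hy2 ⊢
  have hi : c ^ i = c ^ (i % 4) := by
    conv_lhs => rw [← Nat.mod_add_div i 4]
    rw [pow_add, pow_mul, hc4, one_pow, mul_one]
  have hlt : i % 4 < 4 := Nat.mod_lt _ (by norm_num)
  rw [hi] at hy2 ⊢
  obtain ⟨r, hr⟩ : ∃ r, r = i % 4 := ⟨_, rfl⟩
  rw [← hr] at hy2 hlt ⊢
  interval_cases r
  · exfalso; apply hy2; simp
  · left; rw [pow_one]
  · exfalso; apply hy2
    rw [← pow_mul]; exact hc4
  · right
    rw [eq_inv_iff_mul_eq_one, ← pow_succ]; exact hc4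

/-- with a cyclic self-centralizing normal subgroup `A = ⟨a⟩` of order `2^k`, `k ≥ 2`, an element
outside `A` with square in `A` centralizing the subgroup of order 4 gives an involution outside `A`
acting on `A` by the `(2^(k-1)+1)`-th power map. -/
theorem exists_modular_involution {G : Type*} [Group G] [Finite G]
    (A : Subgroup G) [hAn : A.Normal] (hCA : Subgroup.centralizer (A : Set G) = A)
    (a : G) (hAz : A = Subgroup.zpowers a) (k : ℕ) (hk : 2 ≤ k) (hao : orderOf a = 2 ^ k)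
    (g : G) (hgA : g ∉ A) (hg2 : g * g ∈ A)
    (hgc : g * a ^ 2 ^ (k - 2) * g⁻¹ = a ^ 2 ^ (k - 2)) :
    3 ≤ k ∧ ∃ t : G, t ∉ A ∧ t ^ 2 = 1 ∧ t * a * t⁻¹ = a ^ (2 ^ (k - 1) + 1) := by
  have haA : a ∈ A := by rw [hAz]; exact Subgroup.mem_zpowers a
  have hApow : ∀ c ∈ A, ∃ j : ℕ, a ^ j = c := by
    intro c hc
    rw [hAz] at hc
    exact (Submonoid.mem_powers_iff _ _).1 (mem_powers_iff_mem_zpowers.2 hc)
  obtain ⟨u0, hu0⟩ := hApow (g * a * g⁻¹) (hAn.conj_mem a haA g)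
  obtain ⟨u, hu⟩ : ∃ u, u = u0 % (2 ^ k) := ⟨_, rfl⟩
  have hult : u < 2 ^ k := by rw [hu]; exact Nat.mod_lt _ (by positivity)
  have hua : a ^ u = g * a * g⁻¹ := by
    rw [hu, ← hao, pow_mod_orderOf, hu0]
  have hconj : ∀ j : ℕ, g * a ^ j * g⁻¹ = a ^ (u * j) := by
    intro j
    rw [← conj_pow, ← hua, ← pow_mul]
  obtain ⟨s, hs⟩ := hApow (g * g) hg2
  have huu : u * u ≡ 1 [MOD 2 ^ k] := by
    rw [← hao, ← pow_eq_pow_iff_modEq, pow_one]
    have h1 : (g * g) * a * (g * g)⁻¹ = a := by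
      rw [← hs]
      have : Commute (a ^ s) a := (Commute.refl a).pow_left s
      rw [this.eq, mul_inv_cancel_right]
    have h2 : (g * g) * a * (g * g)⁻¹ = g * (g * a * g⁻¹) * g⁻¹ := by group
    rw [h2, ← hua, hconj] at h1
    exact h1
  have hu1 : u ≠ 1 := by
    intro h
    rw [h, pow_one] at hua
    apply hgA
    rw [← hCA, Subgroup.mem_centralizer_iff]
    intro c hc
    obtain ⟨j, rfl⟩ := hApow c hc
    have hcomm : Commute g a := by
      have : g * a = a * g := by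
        calc g * a = (g * a * g⁻¹) * g := by group
          _ = a * g := by rw [← hua]
      exact this
    exact (hcomm.pow_right j).eq.symm
  have hu4 : u ≡ 1 [MOD 4] := by
    have h1 : a ^ (u * 2 ^ (k - 2)) = a ^ (2 ^ (k - 2)) := by rw [← hconj, hgc]
    rw [pow_eq_pow_iff_modEq, hao] at h1
    have h2 : 2 ^ k = 4 * 2 ^ (k - 2) := by
      rw [show (4 : ℕ) = 2 ^ 2 by norm_num, ← pow_add]; congr 1; omega
    rw [h2] at h1
    have h3 : u * 2 ^ (k - 2) ≡ 1 * 2 ^ (k - 2) [MOD 4 * 2 ^ (k - 2)] := by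
      rw [one_mul]; exact h1
    exact Nat.ModEq.mul_right_cancel' (by positivity) h3
  have hu4' : u % 4 = 1 := hu4
  have hk3 : 3 ≤ k := by
    by_contra hcon
    have hk2 : k = 2 := by omega
    rw [hk2] at hult
    omega
  refine ⟨hk3, ?_⟩
  obtain ⟨q, hq⟩ : ∃ q, q = 2 ^ (k - 1) := ⟨_, rfl⟩
  have hq2 : 2 ^ k = 2 * q := by
    rw [hq, ← pow_succ']; congr 1; omega
  obtain ⟨r, hr⟩ : ∃ r, q = 4 * r := by
    refine ⟨2 ^ (k - 3), ?_⟩
    rw [hq, show k - 1 = (k - 3) + 2 by omega, pow_add]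
    ring
  have hrpos : 1 ≤ r := by
    have : 0 < q := by rw [hq]; positivity
    omega
  rw [hq2] at hult huu hao
  have huq : u = q + 1 := by
    rcases nt_two (k - 1) q u hq hult huu with h | h | h | h
    · exact absurd h hu1
    · omega
    · exact h
    · omega
  rw [huq] at hua
  obtain ⟨i, hi⟩ := exists_involution_of_modular a g q r hr (by omega) hao hua.symm s hs
  have hga : g * a ^ i ∉ A := by
    intro h
    apply hgA
    have := A.mul_mem h (A.inv_mem (A.pow_mem haA i))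
    simpa using this
  refine ⟨g * a ^ i, hga, hi, ?_⟩
  rw [← hq, hua]
  have : a ^ i * a * (a ^ i)⁻¹ = a := by
    rw [← pow_succ, pow_succ', mul_inv_cancel_right]
  calc g * a ^ i * a * (g * a ^ i)⁻¹ = g * (a ^ i * a * (a ^ i)⁻¹) * g⁻¹ := by group
    _ = g * a * g⁻¹ := by rw [this]

end Cfsg.Agent.Lib.Helper6
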