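import Mathlib
import Cfsg.Agent.Lib.Helper6.NNF

set_option autoImplicit false

namespace Cfsg.Agent.Lib.Helper6

/-- a normal non-cyclic abelian subgroup from two commuting involutions whose conjugates are
controlled -/
theorem normal_four_of_involutions {G : Type*} [Group G] [Finite G] (z t : G)
    (hz : orderOf z = 2) (ht : orderOf t = 2) (hzt : z ≠ t) (hcomm : z * t = t * z)
    (hzc : ∀ s : G, s * z * s⁻¹ = z) (htc : ∀ s : G, s * t * s⁻¹ = t ∨ s * t * s⁻¹ = t * z) :
    ∃ V : Subgroup G, V.Normal ∧ IsMulCommutative V ∧ ¬ IsCyclic V := by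
  refine ⟨Subgroup.closure {z, t}, ?_, ?_, ?_⟩
  · apply closure_normal_of_conj_mem
    intro x hx s
    rcases hx with rfl | hx
    · rw [hzc s]; exact Subgroup.subset_closure (Set.mem_insert _ _)
    · rw [Set.mem_singleton_iff] at hx
      subst hx
      have hzm : z ∈ Subgroup.closure {z, x} := Subgroup.subset_closure (Set.mem_insert _ _)
      have htm : x ∈ Subgroup.closure {z, x} :=
        Subgroup.subset_closure (Set.mem_insert_of_mem _ rfl)
      rcases htc s with h | h
      · rw [h]; exact htm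
      · rw [h]; exact Subgroup.mul_mem _ htm hzm
  · apply Subgroup.isMulCommutative_closure
    intro x hx y hy
    rcases hx with rfl | hx <;> rcases hy with rfl | hy
    · rfl
    · rw [Set.mem_singleton_iff] at hy; subst hy; exact hcomm
    · rw [Set.mem_singleton_iff] at hx; subst hx; exact hcomm.symm
    · rw [Set.mem_singleton_iff] at hx hy; subst hx; subst hy; rfl
  · exact not_isCyclic_of_two_involutions _ z t
      (Subgroup.subset_closure (Set.mem_insert _ _))
      (Subgroup.subset_closure (Set.mem_insert_of_mem _ rfl)) hz ht hzt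

theorem normal_four_of_modular {G : Type*} [Group G] [Finite G]
    (A : Subgroup G) [hAn : A.Normal] (hCA : Subgroup.centralizer (A : Set G) = A)
    (a : G) (hAz : A = Subgroup.zpowers a) (k : ℕ) (hk : 3 ≤ k) (hao : orderOf a = 2 ^ k)
    (t : G) (htA : t ∉ A) (ht2 : t ^ 2 = 1) (hta : t * a * t⁻¹ = a ^ (2 ^ (k - 1) + 1)) :
    ∃ V : Subgroup G, V.Normal ∧ IsMulCommutative V ∧ ¬ IsCyclic V := by
  have haA : a ∈ A := by rw [hAz]; exact Subgroup.mem_zpowers a
  have hApow : ∀ c ∈ A, ∃ j : ℕ, a ^ j = c := by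
    intro c hc
    rw [hAz] at hc
    exact (Submonoid.mem_powers_iff _ _).1 (mem_powers_iff_mem_zpowers.2 hc)
  obtain ⟨q, hq⟩ : ∃ q, q = 2 ^ (k - 1) := ⟨_, rfl⟩
  have hq2 : 2 ^ k = q * 2 := by rw [hq, ← pow_succ]; congr 1; omega
  obtain ⟨z, hzdef⟩ : ∃ z, z = a ^ q := ⟨_, rfl⟩
  have hzA : z ∈ A := by rw [hzdef]; exact A.pow_mem haA _
  have hz2 : z ^ 2 = 1 := by
    rw [hzdef, ← pow_mul, ← hq2, ← hao]; exact pow_orderOf_eq_one a
  have hz1 : z ≠ 1 := by
    rw [hzdef]
    intro h
    have := orderOf_dvd_of_pow_eq_one h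
    rw [hao] at this
    have h1 := Nat.le_of_dvd (by rw [hq]; positivity) this
    have : 0 < q := by rw [hq]; positivity
    omega
  have hzo : orderOf z = 2 := orderOf_eq_prime hz2 hz1
  have hza : Commute a z := by rw [hzdef]; exact (Commute.refl a).pow_right _
  rw [← hq] at hta
  have hta' : t * a * t⁻¹ = a * z := by rw [hta, pow_succ', hzdef]
  have htinv : t⁻¹ = t := by
    rw [pow_two] at ht2
    exact inv_eq_of_mul_eq_one_right ht2
  have ht1 : t ≠ 1 := by
    intro h; apply htA; rw [h]; exact A.one_mem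
  have hto : orderOf t = 2 := orderOf_eq_prime ht2 ht1
  have hzt : z ≠ t := by
    intro h; apply htA; rw [← h]; exact hzA
  -- z is fixed by all conjugations
  have hzc : ∀ s : G, s * z * s⁻¹ = z := by
    intro s
    have h1 : s * z * s⁻¹ ∈ Subgroup.zpowers a := by
      rw [← hAz]; exact hAn.conj_mem z hzA s
    have h2 : (s * z * s⁻¹) ^ 2 = 1 := by rw [conj_pow, hz2]; group
    rcases eq_one_or_eq_of_sq_eq_one a k (by omega) hao _ h1 h2 with h | h
    · exfalso
      apply hz1
      have : z = s⁻¹ * (s * z * s⁻¹) * s := by group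
      rw [this, h]; group
    · rw [h, hzdef, hq]
  have htz : z * t = t * z := by
    have := hzc t
    calc z * t = (t * z * t⁻¹) * t := by rw [this]
      _ = t * z := by group
  have hzpow : ∀ m : ℕ, Odd m → z ^ m = z := by
    rintro m ⟨j, rfl⟩
    rw [pow_succ, pow_mul, hz2, one_pow, one_mul]
  have hzpow' : ∀ m : ℕ, Even m → z ^ m = 1 := by
    rintro m ⟨j, rfl⟩
    rw [← two_mul, pow_mul, hz2, one_pow]
  have htc : ∀ s : G, s * t * s⁻¹ = t ∨ s * t * s⁻¹ = t * z := by
    intro s
    obtain ⟨h, hh⟩ : ∃ h, h = s * t * s⁻¹ := ⟨_, rfl⟩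
    rw [← hh]
    obtain ⟨m, hm⟩ := hApow (s⁻¹ * a * s) (by
      have := hAn.conj_mem a haA s⁻¹
      rwa [inv_inv] at this)
    have hmodd : Odd m := by
      rcases Nat.even_or_odd m with ⟨j, hj⟩ | h
      · exfalso
        apply hz1
        have h1 : (s⁻¹ * a * s) ^ q = 1 := by
          rw [← hm, hj, ← two_mul, ← pow_mul, mul_comm 2 j, mul_assoc, mul_comm 2 q, ← hq2,
            mul_comm, pow_mul, ← hao, pow_orderOf_eq_one, one_pow]
        have h2 : (s⁻¹ * a * s) ^ q = s⁻¹ * z * s := by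
          rw [hzdef]
          have := conj_pow (a := s⁻¹) (b := a) (i := q)
          rw [inv_inv] at this
          exact this
        rw [h2] at h1
        have : z = s * (s⁻¹ * z * s) * s⁻¹ := by group
        rw [this, h1]; group
      · exact h
    have hconjm : s * a ^ m * s⁻¹ = a := by rw [hm]; group
    have hha : h * a * h⁻¹ = a * z := by
      have e1 : h * a * h⁻¹ = s * (t * (s⁻¹ * a * s) * t⁻¹) * s⁻¹ := by rw [hh]; group
      rw [e1, ← hm, ← conj_pow, hta', hza.mul_pow, hzpow m hmodd]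
      have e2 : s * (a ^ m * z) * s⁻¹ = (s * a ^ m * s⁻¹) * (s * z * s⁻¹) := by group
      rw [e2, hconjm, hzc]
    have hcent : t⁻¹ * h ∈ A := by
      rw [← hCA, Subgroup.mem_centralizer_iff]
      intro c hc
      obtain ⟨j, rfl⟩ := hApow c hc
      have hcomm : Commute (t⁻¹ * h) a := by
        have e : (t⁻¹ * h) * a * (t⁻¹ * h)⁻¹ = a := by
          have e1 : (t⁻¹ * h) * a * (t⁻¹ * h)⁻¹ = t⁻¹ * (h * a * h⁻¹) * t := by group
          rw [e1, hha, ← hta']; group
        have : (t⁻¹ * h) * a = a * (t⁻¹ * h) := by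
          calc (t⁻¹ * h) * a = ((t⁻¹ * h) * a * (t⁻¹ * h)⁻¹) * (t⁻¹ * h) := by group
            _ = a * (t⁻¹ * h) := by rw [e]
        exact this
      exact (hcomm.pow_right j).eq.symm
    obtain ⟨i, hi⟩ := hApow _ hcent
    have hht : h = t * a ^ i := by rw [hi]; group
    have hh2 : h ^ 2 = 1 := by rw [hh, conj_pow, ht2]; group
    have hsq : (t * a ^ i) ^ 2 = (a ^ i) ^ 2 * z ^ i := by
      have e1 : (t * a ^ i) ^ 2 = (t * a ^ i * t⁻¹) * t ^ 2 * a ^ i := by
        rw [pow_two, pow_two]; group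
      rw [e1, ← conj_pow, hta', ht2, mul_one, hza.mul_pow, pow_two]
      have hc2 : Commute (a ^ i) (z ^ i) := (hza.pow_left i).pow_right i
      rw [mul_assoc, hc2.symm.eq, ← mul_assoc]
    rw [hht, hsq] at hh2
    rw [hht]
    rcases Nat.even_or_odd i with hev | hodd
    · rw [hzpow' i hev, mul_one] at hh2
      have hmem : a ^ i ∈ Subgroup.zpowers a := Subgroup.pow_mem _ (Subgroup.mem_zpowers a) _
      rcases eq_one_or_eq_of_sq_eq_one a k (by omega) hao _ hmem hh2 with h1 | h1
      · left; rw [h1, mul_one]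
      · right; rw [h1, hzdef, hq]
    · exfalso
      rw [hzpow i hodd] at hh2
      have h4 : (a ^ i) ^ 4 = 1 := by
        have : (a ^ i) ^ 4 = ((a ^ i) ^ 2 * z) ^ 2 := by
          rw [show (4 : ℕ) = 2 * 2 by norm_num, pow_mul (a ^ i) 2 2]
          have hc2 : Commute ((a ^ i) ^ 2) z := ((hza.pow_left i).pow_left 2)
          rw [hc2.mul_pow, hz2, mul_one]
        rw [this, hh2, one_pow]
      rw [← pow_mul, ← orderOf_dvd_iff_pow_eq_one, hao] at h4
      have hcop : Nat.Coprime (2 ^ k) i :=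
        Nat.Coprime.pow_left _ (Nat.coprime_two_left.2 hodd)
      have h5 : 2 ^ k ∣ 4 := hcop.dvd_of_dvd_mul_left h4
      have h6 : 2 ^ 3 ∣ 2 ^ k := pow_dvd_pow 2 hk
      have := Nat.le_of_dvd (by norm_num) (h6.trans h5)
      omega
  exact normal_four_of_involutions z t hzo hto hzt htz hzc htc

end Cfsg.Agent.Lib.Helper6
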