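import Cfsg.Prelude.Def_Transfer
import Mathlib

set_option autoImplicit false

namespace Cfsg.Agent.Lib.Helper6

open Cfsg

/-- A normal subgroup of order prime to `p` and index a power of `p` is a normal `p`-complement. -/
theorem npc_of_card_index (p : ℕ) [hp : Fact p.Prime] {H : Type*} [Group H] [Finite H]
    (K : Subgroup H) [hK : K.Normal] (hcard : (Nat.card K).Coprime p) (a : ℕ) (hidx : K.index = p ^ a) :
    HasNormalPComplement p H := by
  obtain ⟨P⟩ : Nonempty (Sylow p H) := inferInstance
  refine ⟨P, K, hK, ?_⟩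
  have hcH : Nat.card H = Nat.card K * p ^ a := by
    rw [← hidx, mul_comm]; exact (Subgroup.index_mul_card K).symm
  have hKpos : Nat.card K ≠ 0 := Nat.card_pos.ne'
  have hfac : (Nat.card H).factorization p = a := by
    rw [hcH, Nat.factorization_mul hKpos (pow_pos hp.out.pos a).ne']
    have h1 : (Nat.card K).factorization p = 0 := by
      apply Nat.factorization_eq_zero_of_not_dvd
      intro hdvd
      have := Nat.Coprime.eq_one_of_dvd hcard.symm hdvd
      exact hp.out.ne_one this
    simp [h1, Nat.Prime.factorization_self hp.out]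
  have hcP : Nat.card P = p ^ a := by
    rw [Sylow.card_eq_multiplicity, hfac]
  apply Subgroup.isComplement'_of_coprime
  · rw [hcP, hcH]
  · rw [hcP]; exact Nat.Coprime.pow_right a hcard

/-- If all `p'`-elements of `H` lie in a normal subgroup `C` having a Sylow `p`-subgroup `Q` with
`N_C(Q) ≤ C_C(Q)`, then `H` has a normal `p`-complement. -/
theorem npc_of_transfer (p : ℕ) [hp : Fact p.Prime] {H : Type*} [Group H] [Finite H]
    (C : Subgroup H) [hCn : C.Normal] (hC : ∀ g : H, (orderOf g).Coprime p → g ∈ C)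
    (Q : Sylow p C) (hQ : Subgroup.normalizer ((Q : Subgroup C) : Set C) ≤ Subgroup.centralizer ((Q : Subgroup C) : Set C)) :
    HasNormalPComplement p H := by
  classical
  set f := MonoidHom.transferSylow Q hQ with hf
  set K' : Subgroup C := f.ker with hK'
  have hK'card : ¬ p ∣ Nat.card K' := MonoidHom.not_dvd_card_ker_transferSylow Q hQ
  have hK'cop : (Nat.card K').Coprime p :=
    (Nat.Coprime.symm ((Nat.Prime.coprime_iff_not_dvd hp.out).2 hK'card))
  have hK'idx : K'.index = Nat.card Q := (MonoidHom.ker_transferSylow_isComplement' Q hQ).symm.index_eq_card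
  obtain ⟨a, ha⟩ := (IsPGroup.iff_card).1 Q.2
  set K : Subgroup H := K'.map C.subtype with hKdef
  have hmemK : ∀ g : H, g ∈ K ↔ (orderOf g).Coprime p := by
    intro g
    constructor
    · rintro ⟨c, hc, rfl⟩
      have h1 : orderOf (⟨c, hc⟩ : K') ∣ Nat.card K' := orderOf_dvd_natCard _
      have h2 : orderOf (⟨c, hc⟩ : K') = orderOf c := Subgroup.orderOf_mk c hc
      have h3 : orderOf (C.subtype c) = orderOf c := by
        rw [Subgroup.coe_subtype]; exact Subgroup.orderOf_coe c
      rw [h3, ← h2]
      exact Nat.Coprime.coprime_dvd_left h1 hK'cop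
    · intro hg
      have hgC := hC g hg
      refine ⟨⟨g, hgC⟩, ?_, rfl⟩
      show (⟨g, hgC⟩ : C) ∈ f.ker
      rw [MonoidHom.mem_ker]
      have h1 : orderOf (f ⟨g, hgC⟩) ∣ orderOf (⟨g, hgC⟩ : C) := orderOf_map_dvd f _
      have h2 : orderOf (⟨g, hgC⟩ : C) = orderOf g := Subgroup.orderOf_mk g hgC
      obtain ⟨k, hk⟩ := (Q.2 (f ⟨g, hgC⟩))
      have h3 : orderOf (f ⟨g, hgC⟩) ∣ p ^ k := orderOf_dvd_of_pow_eq_one hk
      rw [h2] at h1
      have h4 : (orderOf (f ⟨g, hgC⟩)).Coprime (p ^ k) :=
        Nat.Coprime.pow_right k (Nat.Coprime.coprime_dvd_left h1 hg)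
      have h5 : orderOf (f ⟨g, hgC⟩) = 1 := Nat.Coprime.eq_one_of_dvd h4 h3
      exact orderOf_eq_one_iff.1 h5
  have hKn : K.Normal := by
    refine ⟨fun n hn g => ?_⟩
    rw [hmemK] at hn ⊢
    have : orderOf (g * n * g⁻¹) = orderOf n := by
      have := orderOf_injective (MulAut.conj g).toMonoidHom (MulAut.conj g).injective n
      simpa [MulAut.conj_apply] using this
    rw [this]; exact hn
  have hKcard : (Nat.card K).Coprime p := by
    have : Nat.card K = Nat.card K' := by
      rw [hKdef]
      exact Subgroup.card_map_of_injective C.subtype_injective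
    rw [this]; exact hK'cop
  -- index of C is a power of p
  have hCpg : IsPGroup p (H ⧸ C) := by
    intro x
    induction x using QuotientGroup.induction_on with
    | H g =>
      have h0 : orderOf g ≠ 0 := (orderOf_pos g).ne'
      obtain ⟨e, m, hm, hem⟩ := Nat.exists_eq_pow_mul_and_not_dvd h0 p hp.out.ne_one
      refine ⟨e, ?_⟩
      rw [← QuotientGroup.mk_pow]
      refine (QuotientGroup.eq_one_iff _).2 (hC _ ?_)
      rw [orderOf_pow, hem]
      have hpe : 0 < p ^ e := pow_pos hp.out.pos e
      have hgcd : (p ^ e * m).gcd (p ^ e) = p ^ e := Nat.gcd_eq_right (Dvd.intro _ rfl)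
      rw [hgcd, Nat.mul_div_cancel_left _ hpe]
      exact (Nat.Coprime.symm ((Nat.Prime.coprime_iff_not_dvd hp.out).2 hm))
  obtain ⟨b, hb⟩ := (IsPGroup.iff_card).1 hCpg
  have hCidx : C.index = p ^ b := by rw [Subgroup.index_eq_card]; exact hb
  have hKidx : K.index = p ^ (a + b) := by
    rw [hKdef, Subgroup.index_map_subtype, hK'idx, ha, hCidx, pow_add]
  exact npc_of_card_index p K hKcard (a + b) hKidx

end Cfsg.Agent.Lib.Helper6
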