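import Mathlib

set_option autoImplicit false

namespace Cfsg.Agent.Lib.Helper6.NilCover

theorem commute_of_coprime_orderOf_nc (F : Type*) [Group F] [Group.IsNilpotent F] :
    ∀ u h : F, (orderOf u).Coprime (orderOf h) → Commute u h := by
  refine Group.nilpotent_center_quotient_ind
    (P := fun (F : Type _) [Group F] [Group.IsNilpotent F] =>
      ∀ u h : F, (orderOf u).Coprime (orderOf h) → Commute u h) F ?_ ?_
  · intro F _ _ u h _
    exact Subsingleton.elim _ _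
  · intro F _ _ ih u h hcop
    have h1 : orderOf (QuotientGroup.mk u : F ⧸ Subgroup.center F) ∣ orderOf u := by
      apply orderOf_dvd_of_pow_eq_one
      rw [← QuotientGroup.mk_pow, pow_orderOf_eq_one]; rfl
    have h2 : orderOf (QuotientGroup.mk h : F ⧸ Subgroup.center F) ∣ orderOf h := by
      apply orderOf_dvd_of_pow_eq_one
      rw [← QuotientGroup.mk_pow, pow_orderOf_eq_one]; rfl
    have h3 := ih _ _ (Nat.Coprime.coprime_dvd_left h1 (Nat.Coprime.coprime_dvd_right h2 hcop))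
    have h4 : ((h * u : F) : F ⧸ Subgroup.center F) = ((u * h : F) : F ⧸ Subgroup.center F) := by
      rw [QuotientGroup.mk_mul, QuotientGroup.mk_mul]; exact h3.eq.symm
    have hz : (h * u)⁻¹ * (u * h) ∈ Subgroup.center F := QuotientGroup.eq.1 h4
    obtain ⟨z, hzdef⟩ : ∃ z, z = (h * u)⁻¹ * (u * h) := ⟨_, rfl⟩
    rw [← hzdef] at hz
    have huh : u * h = h * u * z := by rw [hzdef]; group
    have hzc : ∀ g : F, g * z = z * g := fun g => (Subgroup.mem_center_iff.1 hz g)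
    have e1 : u * h * u⁻¹ = h * z := by
      rw [huh]
      calc h * u * z * u⁻¹ = h * (u * z) * u⁻¹ := by group
        _ = h * (z * u) * u⁻¹ := by rw [hzc u]
        _ = h * z := by group
    have e2 : (h * z) ^ orderOf h = z ^ orderOf h := by
      have hc : Commute h z := hzc h
      rw [hc.mul_pow, pow_orderOf_eq_one, one_mul]
    have e3 : (u * h * u⁻¹) ^ orderOf h = 1 := by
      rw [conj_pow, pow_orderOf_eq_one, mul_one, mul_inv_cancel]
    have e4 : z ^ orderOf h = 1 := by rw [← e2, ← e1, e3]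
    have f1 : h⁻¹ * u * (h⁻¹)⁻¹ = u * z := by
      have : h⁻¹ * u * (h⁻¹)⁻¹ = h⁻¹ * (u * h) := by group
      rw [this, huh]; group
    have f2 : (u * z) ^ orderOf u = z ^ orderOf u := by
      have hc : Commute u z := hzc u
      rw [hc.mul_pow, pow_orderOf_eq_one, one_mul]
    have f3 : (h⁻¹ * u * (h⁻¹)⁻¹) ^ orderOf u = 1 := by
      rw [conj_pow, pow_orderOf_eq_one, mul_one, mul_inv_cancel]
    have f4 : z ^ orderOf u = 1 := by rw [← f2, ← f1, f3]
    have hz1 : z = 1 := by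
      have g1 : orderOf z ∣ orderOf h := orderOf_dvd_of_pow_eq_one e4
      have g2 : orderOf z ∣ orderOf u := orderOf_dvd_of_pow_eq_one f4
      have g3 : orderOf z ∣ Nat.gcd (orderOf u) (orderOf h) := Nat.dvd_gcd g2 g1
      rw [hcop.gcd_eq_one] at g3
      exact orderOf_eq_one_iff.1 (Nat.dvd_one.1 g3)
    rw [hz1, mul_one] at huh
    exact huh

section
variable {G : Type*} [Group G] [Finite G]

theorem split_pow (p : ℕ) [hp : Fact p.Prime] (b : G) :
    ∃ (a m : ℕ) (u v : ℤ), ¬ p ∣ m ∧ (b ^ m) ^ (p ^ a) = 1 ∧ (b ^ (p ^ a)) ^ m = 1 ∧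
      b = (b ^ (p ^ a)) ^ u * (b ^ m) ^ v := by
  have hpos : orderOf b ≠ 0 := (orderOf_pos b).ne'
  obtain ⟨a, m, hm, hn⟩ := Nat.exists_eq_pow_mul_and_not_dvd hpos p hp.out.ne_one
  have hcop : Nat.Coprime (p ^ a) m :=
    Nat.Coprime.pow_left a ((Nat.Prime.coprime_iff_not_dvd hp.out).2 hm)
  refine ⟨a, m, Nat.gcdA (p^a) m, Nat.gcdB (p^a) m, hm, ?_, ?_, ?_⟩
  · rw [← pow_mul, mul_comm, ← hn, pow_orderOf_eq_one]
  · rw [← pow_mul, ← hn, pow_orderOf_eq_one]
  · have h1 := Nat.gcd_eq_gcd_ab (p ^ a) m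
    rw [hcop.gcd_eq_one] at h1
    rw [← zpow_natCast b (p^a), ← zpow_natCast b m, ← zpow_mul, ← zpow_mul, ← zpow_add, ← h1]
    simp

/-- a `p`-element normalizing a Sylow `p`-subgroup lies in it -/
theorem mem_sylow_of_normalizes {p : ℕ} [Fact p.Prime] (P : Sylow p G) (e : G) (k : ℕ)
    (he : e ^ (p ^ k) = 1) (hn : e ∈ Subgroup.normalizer ((P : Subgroup G) : Set G)) :
    e ∈ (P : Subgroup G) := by
  have h1 : IsPGroup p (Subgroup.zpowers e) := by
    obtain ⟨j, -, hj⟩ := (Nat.dvd_prime_pow (Fact.out : p.Prime)).1 (orderOf_dvd_of_pow_eq_one he)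
    exact IsPGroup.of_card (n := j) (by rw [Nat.card_zpowers, hj])
  have h2 : Subgroup.zpowers e ≤ Subgroup.normalizer ((P : Subgroup G) : Set G) := by
    rw [Subgroup.zpowers_le]; exact hn
  have h3 := IsPGroup.to_sup_of_normal_right' h1 P.isPGroup' h2
  have h4 := P.is_maximal' h3 le_sup_right
  have : Subgroup.zpowers e ≤ (P : Subgroup G) := by
    rw [← h4]; exact le_sup_left
  exact this (Subgroup.mem_zpowers e)


theorem zpowers_isPGroup {p : ℕ} [Fact p.Prime] (e : G) (k : ℕ) (he : e ^ (p ^ k) = 1) :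
    IsPGroup p (Subgroup.zpowers e) := by
  obtain ⟨j, -, hj⟩ := (Nat.dvd_prime_pow (Fact.out : p.Prime)).1 (orderOf_dvd_of_pow_eq_one he)
  exact IsPGroup.of_card (n := j) (by rw [Nat.card_zpowers, hj])

/-- members containing a `p`-element centralize it, when `p`-subgroups are abelian -/
theorem member_central {p : ℕ} [Fact p.Prime]
    (habp : ∀ Q : Subgroup G, IsPGroup p Q → ∀ x ∈ Q, ∀ y ∈ Q, x * y = y * x)
    (B : Subgroup G) (hB : Group.IsNilpotent B) (x : G) (hx : x ∈ B) (k : ℕ) (hxp : x ^ (p ^ k) = 1) :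
    ∀ b ∈ B, b * x = x * b := by
  intro b hb
  obtain ⟨a, m, u, v, hm, h1, h2, h3⟩ := split_pow p b
  -- p'-part
  have c1 : Commute (b ^ (p ^ a)) x := by
    have hd : b ^ (p ^ a) ∈ B := B.pow_mem hb _
    have := commute_of_coprime_orderOf_nc B (⟨b ^ (p ^ a), hd⟩ : B) (⟨x, hx⟩ : B) (by
      rw [Subgroup.orderOf_mk, Subgroup.orderOf_mk]
      have o1 : orderOf (b ^ (p ^ a)) ∣ m := orderOf_dvd_of_pow_eq_one h2
      have o2 : orderOf x ∣ p ^ k := orderOf_dvd_of_pow_eq_one hxp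
      have : Nat.Coprime m (p ^ k) :=
        Nat.Coprime.pow_right k ((Nat.Prime.coprime_iff_not_dvd (Fact.out : p.Prime)).2 hm).symm
      exact Nat.Coprime.coprime_dvd_left o1 (Nat.Coprime.coprime_dvd_right o2 this))
    have := congrArg Subtype.val this.eq
    exact this
  -- p-part
  have c2 : Commute (b ^ m) x := by
    have he : b ^ m ∈ B := B.pow_mem hb _
    let S : Sylow p B := default
    have hS : (S : Subgroup B).Normal := inferInstance
    have hmem : ∀ (y : G) (hy : y ∈ B) (j : ℕ), y ^ (p ^ j) = 1 → (⟨y, hy⟩ : B) ∈ (S : Subgroup B) := by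
      intro y hy j hyj
      apply mem_sylow_of_normalizes S ⟨y, hy⟩ j
      · ext; simp [hyj]
      · rw [Subgroup.normalizer_eq_top_iff.2 hS]; trivial
    have hQ : IsPGroup p ((S : Subgroup B).map B.subtype) := S.isPGroup'.map _
    apply habp _ hQ
    · exact ⟨⟨b ^ m, he⟩, hmem _ he a h1, rfl⟩
    · exact ⟨⟨x, hx⟩, hmem _ hx k hxp, rfl⟩
  have c3 : Commute b x := by
    rw [h3]
    exact (c1.zpow_left u).mul_left (c2.zpow_left v)
  exact c3.eq


theorem replace_two (𝓐 : Finset (Subgroup G))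
    (hcov1 : ∀ A ∈ 𝓐, A ≠ ⊤) (hcov2 : ∀ g : G, ∃ A ∈ 𝓐, g ∈ A)
    (hmin : ∀ 𝓑 : Finset (Subgroup G), (∀ A ∈ 𝓑, A ≠ ⊤) ∧ (∀ g : G, ∃ A ∈ 𝓑, g ∈ A) → 𝓐.card ≤ 𝓑.card)
    (A B : Subgroup G) (hA : A ∈ 𝓐) (hB : B ∈ 𝓐) (hne : A ≠ B) (M : Subgroup G) (hM : M ≠ ⊤)
    (hAM : A ≤ M) (hBM : B ≤ M) : False := by
  classical
  have h := hmin (insert M ((𝓐.erase A).erase B)) ⟨?_, ?_⟩
  · have c1 : ((𝓐.erase A).erase B).card = 𝓐.card - 1 - 1 := by
      rw [Finset.card_erase_of_mem, Finset.card_erase_of_mem hA]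
      exact Finset.mem_erase.2 ⟨hne.symm, hB⟩
    have c2 := Finset.card_insert_le M ((𝓐.erase A).erase B)
    have c3 : 2 ≤ 𝓐.card := by
      have hsub : ({A, B} : Finset (Subgroup G)) ⊆ 𝓐 := by
        intro X hX
        simp only [Finset.mem_insert, Finset.mem_singleton] at hX
        rcases hX with rfl | rfl <;> assumption
      have := Finset.card_le_card hsub
      rwa [Finset.card_pair hne] at this
    omega
  · intro X hX
    rcases Finset.mem_insert.1 hX with rfl | hX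
    · exact hM
    · exact hcov1 X (Finset.mem_of_mem_erase (Finset.mem_of_mem_erase hX))
  · intro g
    obtain ⟨X, hX, hg⟩ := hcov2 g
    by_cases h1 : X = A
    · exact ⟨M, Finset.mem_insert_self _ _, hAM (h1 ▸ hg)⟩
    by_cases h2 : X = B
    · exact ⟨M, Finset.mem_insert_self _ _, hBM (h2 ▸ hg)⟩
    exact ⟨X, Finset.mem_insert_of_mem (Finset.mem_erase.2 ⟨h2, Finset.mem_erase.2 ⟨h1, hX⟩⟩), hg⟩

theorem unique_member (hZ : Subgroup.center G = ⊥) (𝓐 : Finset (Subgroup G))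
    (hcov1 : ∀ A ∈ 𝓐, A ≠ ⊤) (hcov2 : ∀ g : G, ∃ A ∈ 𝓐, g ∈ A)
    (hmin : ∀ 𝓑 : Finset (Subgroup G), (∀ A ∈ 𝓑, A ≠ ⊤) ∧ (∀ g : G, ∃ A ∈ 𝓑, g ∈ A) → 𝓐.card ≤ 𝓑.card)
    (x : G) (hx1 : x ≠ 1)
    (hcent : ∀ B ∈ 𝓐, x ∈ B → ∀ b ∈ B, b * x = x * b) :
    ∀ A ∈ 𝓐, ∀ B ∈ 𝓐, x ∈ A → x ∈ B → A = B := by
  intro A hA B hB hxA hxB
  by_contra hne
  refine replace_two 𝓐 hcov1 hcov2 hmin A B hA hB hne (Subgroup.centralizer {x}) ?_ ?_ ?_
  · intro htop
    apply hx1
    have hxc : x ∈ Subgroup.center G := by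
      rw [Subgroup.mem_center_iff]
      intro g
      have hg : g ∈ Subgroup.centralizer {x} := htop ▸ Subgroup.mem_top g
      rw [Subgroup.mem_centralizer_iff] at hg
      exact (hg x rfl).symm
    rw [hZ] at hxc; exact Subgroup.mem_bot.1 hxc
  · intro b hb; rw [Subgroup.mem_centralizer_iff]; intro h hh
    rw [Set.mem_singleton_iff.1 hh]; exact (hcent A hA hxA b hb).symm
  · intro b hb; rw [Subgroup.mem_centralizer_iff]; intro h hh
    rw [Set.mem_singleton_iff.1 hh]; exact (hcent B hB hxB b hb).symm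

theorem core (hZ : Subgroup.center G = ⊥) (𝓐 : Finset (Subgroup G))
    (hcov1 : ∀ A ∈ 𝓐, A ≠ ⊤) (hcov2 : ∀ g : G, ∃ A ∈ 𝓐, g ∈ A)
    (hmin : ∀ 𝓑 : Finset (Subgroup G), (∀ A ∈ 𝓑, A ≠ ⊤) ∧ (∀ g : G, ∃ A ∈ 𝓑, g ∈ A) → 𝓐.card ≤ 𝓑.card)
    (hnil : ∀ A ∈ 𝓐, Group.IsNilpotent ↥A) {p : ℕ} [Fact p.Prime]
    (habp : ∀ Q : Subgroup G, IsPGroup p Q → ∀ x ∈ Q, ∀ y ∈ Q, x * y = y * x)
    (Q : Sylow p G) (hQ1 : (Q : Subgroup G) ≠ ⊥)
    (hQ : ∃ z ∈ (Q : Subgroup G), (∀ y ∈ (Q : Subgroup G), y ∈ Subgroup.zpowers z) ∨ z ^ p ≠ 1) :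
    ∃ A ∈ 𝓐, (Q : Subgroup G) ≤ A ∧ Subgroup.centralizer ((Q : Subgroup G) : Set G) = A ∧
      (∀ x ∈ (Q : Subgroup G), x ≠ 1 → ∀ B ∈ 𝓐, x ∈ B → B = A) := by
  have hpp : p.Prime := Fact.out
  have hpow : ∀ x ∈ (Q : Subgroup G), ∃ k : ℕ, x ^ (p ^ k) = 1 := by
    intro x hx
    obtain ⟨k, hk⟩ := Q.isPGroup' ⟨x, hx⟩
    exact ⟨k, by simpa using congrArg Subtype.val hk⟩
  have hcomm : ∀ x ∈ (Q : Subgroup G), ∀ y ∈ (Q : Subgroup G), x * y = y * x :=
    habp _ Q.isPGroup'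
  have huniq : ∀ x ∈ (Q : Subgroup G), x ≠ 1 → ∀ A ∈ 𝓐, ∀ B ∈ 𝓐, x ∈ A → x ∈ B → A = B := by
    intro x hx hx1
    obtain ⟨k, hk⟩ := hpow x hx
    exact unique_member hZ 𝓐 hcov1 hcov2 hmin x hx1
      (fun B hB hxB => member_central habp B (hnil B hB) x hxB k hk)
  -- step 3
  have h3 : ∃ A ∈ 𝓐, (Q : Subgroup G) ≤ A := by
    obtain ⟨z, hz, hz'⟩ := hQ
    rcases hz' with hcyc | hzp
    · obtain ⟨A, hA, hzA⟩ := hcov2 z
      exact ⟨A, hA, fun y hy => (Subgroup.zpowers_le.2 hzA) (hcyc y hy)⟩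
    · -- an element of order p
      obtain ⟨k, hk⟩ := hpow z hz
      obtain ⟨j, -, hj⟩ := (Nat.dvd_prime_pow hpp).1 (orderOf_dvd_of_pow_eq_one hk)
      have hz1 : z ≠ 1 := by
        intro h; apply hzp; rw [h, one_pow]
      have hj1 : j ≠ 0 := by
        intro h; rw [h, pow_zero, orderOf_eq_one_iff] at hj; exact hz1 hj
      obtain ⟨w0, hw0Q, hw01, hw0p⟩ : ∃ w0 ∈ (Q : Subgroup G), w0 ≠ 1 ∧ w0 ^ p = 1 := by
        refine ⟨z ^ (p ^ (j - 1)), Subgroup.pow_mem _ hz _, ?_, ?_⟩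
        · apply pow_ne_one_of_lt_orderOf (pow_ne_zero _ hpp.ne_zero)
          rw [hj]
          exact Nat.pow_lt_pow_right hpp.one_lt (by omega)
        · rw [← pow_mul, ← pow_succ, Nat.sub_add_cancel (Nat.pos_of_ne_zero hj1), ← hj,
            pow_orderOf_eq_one]
      obtain ⟨A0, hA0, hw0A0⟩ := hcov2 w0
      have key : ∀ y ∈ (Q : Subgroup G), y ^ p ≠ 1 → ∀ Ay ∈ 𝓐, y ∈ Ay →
          ∀ w ∈ (Q : Subgroup G), w ^ p = 1 → w ∈ Ay := by
        intro y hy hyp Ay hAy hyAy w hw hwp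
        have hc : Commute y w := hcomm y hy w hw
        have e1 : (y * w) ^ p = y ^ p := by rw [hc.mul_pow, hwp, mul_one]
        obtain ⟨A', hA', hywA'⟩ := hcov2 (y * w)
        have m1 : y ^ p ∈ A' := e1 ▸ A'.pow_mem hywA' p
        have m2 : y ^ p ∈ Ay := Ay.pow_mem hyAy p
        have hAA : A' = Ay := huniq (y ^ p) (Subgroup.pow_mem _ hy p) hyp A' hA' Ay hAy m1 m2
        rw [hAA] at hywA'
        have : w = y⁻¹ * (y * w) := by group
        rw [this]
        exact Ay.mul_mem (Ay.inv_mem hyAy) hywA'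
      refine ⟨A0, hA0, fun y hy => ?_⟩
      by_cases hyp : y ^ p = 1
      · obtain ⟨Az, hAz, hzAz⟩ := hcov2 z
        have hw0Az := key z hz hzp Az hAz hzAz w0 hw0Q hw0p
        have : Az = A0 := huniq w0 hw0Q hw01 Az hAz A0 hA0 hw0Az hw0A0
        rw [← this]
        exact key z hz hzp Az hAz hzAz y hy hyp
      · obtain ⟨Ay, hAy, hyAy⟩ := hcov2 y
        have hw0Ay := key y hy hyp Ay hAy hyAy w0 hw0Q hw0p
        have : Ay = A0 := huniq w0 hw0Q hw01 Ay hAy A0 hA0 hw0Ay hw0A0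
        rw [← this]; exact hyAy
  obtain ⟨A, hA, hQA⟩ := h3
  have hu : ∀ x ∈ (Q : Subgroup G), x ≠ 1 → ∀ B ∈ 𝓐, x ∈ B → B = A :=
    fun x hx hx1 B hB hxB => huniq x hx hx1 B hB A hA hxB (hQA hx)
  refine ⟨A, hA, hQA, ?_, hu⟩
  ext c
  constructor
  · intro hc
    obtain ⟨a, m, u, v, hm, h1, h2, h3⟩ := split_pow p c
    have he : c ^ m ∈ (Q : Subgroup G) := by
      apply mem_sylow_of_normalizes Q (c ^ m) a h1
      exact Subgroup.centralizer_le_normalizer _ (Subgroup.pow_mem _ hc m)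
    have hd : c ^ (p ^ a) ∈ A := by
      obtain ⟨⟨x, hx⟩, hxne⟩ := (Subgroup.ne_bot_iff_exists_ne_one).1 hQ1
      have hx1 : x ≠ 1 := fun h => hxne (by ext; exact h)
      have hdc : c ^ (p ^ a) ∈ Subgroup.centralizer ((Q : Subgroup G) : Set G) :=
        Subgroup.pow_mem _ hc _
      have hcm : Commute x (c ^ (p ^ a)) := (Subgroup.mem_centralizer_iff.1 hdc x hx)
      obtain ⟨B, hB, hxdB⟩ := hcov2 (x * c ^ (p ^ a))
      have e1 : (x * c ^ (p ^ a)) ^ m = x ^ m := by rw [hcm.mul_pow, h2, mul_one]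
      have hxm : x ^ m ≠ 1 := by
        intro h
        obtain ⟨k, hk⟩ := hpow x hx
        have o1 : orderOf x ∣ m := orderOf_dvd_of_pow_eq_one h
        have o2 : orderOf x ∣ p ^ k := orderOf_dvd_of_pow_eq_one hk
        have hcop : Nat.Coprime m (p ^ k) :=
          Nat.Coprime.pow_right k ((Nat.Prime.coprime_iff_not_dvd hpp).2 hm).symm
        have := Nat.dvd_gcd o1 o2
        rw [hcop.gcd_eq_one, Nat.dvd_one, orderOf_eq_one_iff] at this
        exact hx1 this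
      have hBA : B = A := hu (x ^ m) (Subgroup.pow_mem _ hx m) hxm B hB (e1 ▸ B.pow_mem hxdB m)
      rw [hBA] at hxdB
      have : c ^ (p ^ a) = x⁻¹ * (x * c ^ (p ^ a)) := by group
      rw [this]
      exact A.mul_mem (A.inv_mem (hQA hx)) hxdB
    rw [h3]
    exact A.mul_mem (A.zpow_mem hd u) (A.zpow_mem (hQA he) v)
  · intro hc
    rw [Subgroup.mem_centralizer_iff]
    intro h hh
    obtain ⟨k, hk⟩ := hpow h hh
    exact (member_central habp A (hnil A hA) h (hQA hh) k hk c hc).symm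


theorem mem_smul_sylow {p : ℕ} [Fact p.Prime] (P : Sylow p G) (g x : G) :
    x ∈ ((g • P : Sylow p G) : Subgroup G) ↔ g⁻¹ * x * g ∈ (P : Subgroup G) := by
  rw [Sylow.coe_subgroup_smul, Subgroup.mem_pointwise_smul_iff_inv_smul_mem]
  simp [MulAut.smul_def]

theorem habp_of_sylow {p : ℕ} [Fact p.Prime] (P : Sylow p G)
    (hab : ∀ a ∈ (P : Subgroup G), ∀ b ∈ (P : Subgroup G), a * b = b * a) :
    ∀ Q : Subgroup G, IsPGroup p Q → ∀ x ∈ Q, ∀ y ∈ Q, x * y = y * x := by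
  intro Q hQ x hx y hy
  obtain ⟨R, hR⟩ := hQ.exists_le_sylow
  obtain ⟨g, hg⟩ := MulAction.exists_smul_eq G P R
  have hx' : g⁻¹ * x * g ∈ (P : Subgroup G) := (mem_smul_sylow P g x).1 (hg ▸ hR hx)
  have hy' : g⁻¹ * y * g ∈ (P : Subgroup G) := (mem_smul_sylow P g y).1 (hg ▸ hR hy)
  have h1 := hab _ hx' _ hy'
  have h2 : g⁻¹ * (x * y) * g = g⁻¹ * (y * x) * g := by
    calc g⁻¹ * (x * y) * g = (g⁻¹ * x * g) * (g⁻¹ * y * g) := by group
      _ = (g⁻¹ * y * g) * (g⁻¹ * x * g) := h1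
      _ = _ := by group
  exact mul_left_cancel (mul_right_cancel h2)

theorem main_all (hZ : Subgroup.center G = ⊥) (𝓐 : Finset (Subgroup G))
    (hcov1 : ∀ A ∈ 𝓐, A ≠ ⊤) (hcov2 : ∀ g : G, ∃ A ∈ 𝓐, g ∈ A)
    (hmin : ∀ 𝓑 : Finset (Subgroup G), (∀ A ∈ 𝓑, A ≠ ⊤) ∧ (∀ g : G, ∃ A ∈ 𝓑, g ∈ A) → 𝓐.card ≤ 𝓑.card)
    (hnil : ∀ A ∈ 𝓐, Group.IsNilpotent ↥A) {p : ℕ} [Fact p.Prime] (P : Sylow p G)
    (hab : ∀ a ∈ (P : Subgroup G), ∀ b ∈ (P : Subgroup G), a * b = b * a)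
    (hP : ∃ z ∈ (P : Subgroup G), (∀ y ∈ (P : Subgroup G), y ∈ Subgroup.zpowers z) ∨ z ^ p ≠ 1)
    (hnn : ¬ (P : Subgroup G).Normal) :
    ∃ A ∈ 𝓐, (P : Subgroup G) ≤ A ∧ Subgroup.centralizer ((P : Subgroup G) : Set G) = A ∧
      IsCoatom (Subgroup.normalizer ((P : Subgroup G) : Set G)) ∧
      (∀ M : Subgroup G, IsCoatom M → A ≤ M → M = Subgroup.normalizer ((P : Subgroup G) : Set G)) ∧
      (∀ g : G, g ∉ Subgroup.normalizer ((P : Subgroup G) : Set G) →
        ¬ p ∣ Nat.card ↥(Subgroup.normalizer ((P : Subgroup G) : Set G) ⊓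
          (Subgroup.normalizer ((P : Subgroup G) : Set G)).map (MulAut.conj g).toMonoidHom)) := by
  have hpp : p.Prime := Fact.out
  have habp := habp_of_sylow P hab
  have hP1 : (P : Subgroup G) ≠ ⊥ := by
    intro h; apply hnn; rw [h]; infer_instance
  -- conjugates satisfy the hypotheses
  have hQ1 : ∀ g : G, ((g • P : Sylow p G) : Subgroup G) ≠ ⊥ := by
    intro g h
    apply hP1
    rw [eq_bot_iff]
    intro x hx
    have hm : g * x * g⁻¹ ∈ ((g • P : Sylow p G) : Subgroup G) := by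
      rw [mem_smul_sylow]
      have : g⁻¹ * (g * x * g⁻¹) * g = x := by group
      rw [this]; exact hx
    rw [h, Subgroup.mem_bot] at hm
    rw [Subgroup.mem_bot]
    exact conj_eq_one_iff.1 hm
  have hQ : ∀ g : G, ∃ z ∈ ((g • P : Sylow p G) : Subgroup G),
      (∀ y ∈ ((g • P : Sylow p G) : Subgroup G), y ∈ Subgroup.zpowers z) ∨ z ^ p ≠ 1 := by
    intro g
    obtain ⟨z, hz, hz'⟩ := hP
    refine ⟨g * z * g⁻¹, ?_, ?_⟩
    · rw [mem_smul_sylow]
      have : g⁻¹ * (g * z * g⁻¹) * g = z := by group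
      rw [this]; exact hz
    · rcases hz' with hc | hne
      · left
        intro y hy
        rw [mem_smul_sylow] at hy
        obtain ⟨k, hk⟩ := Subgroup.mem_zpowers_iff.1 (hc _ hy)
        rw [Subgroup.mem_zpowers_iff]
        refine ⟨k, ?_⟩
        rw [conj_zpow, hk]; group
      · right
        rw [conj_pow]
        intro h
        exact hne (conj_eq_one_iff.1 h)
  have hcore := fun g : G => core hZ 𝓐 hcov1 hcov2 hmin hnil habp (g • P) (hQ1 g) (hQ g)
  obtain ⟨A, hA, hPA, hCA, huA⟩ := by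
    have := hcore 1
    rw [one_smul] at this
    exact this
  -- claim K
  have hK : ∀ g : G, Subgroup.centralizer (((g • P : Sylow p G) : Subgroup G) : Set G) =
      Subgroup.centralizer ((P : Subgroup G) : Set G) →
      g ∈ Subgroup.normalizer ((P : Subgroup G) : Set G) := by
    intro g hg
    have h1 : ((g • P : Sylow p G) : Subgroup G) ≤
        Subgroup.centralizer (((g • P : Sylow p G) : Subgroup G) : Set G) := by
      intro x hx
      rw [Subgroup.mem_centralizer_iff]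
      intro h hh
      exact habp _ (g • P).isPGroup' h hh x hx
    have h2 : ((g • P : Sylow p G) : Subgroup G) ≤ Subgroup.normalizer ((P : Subgroup G) : Set G) := by
      rw [hg] at h1
      exact h1.trans (Subgroup.centralizer_le_normalizer _)
    have h3 := IsPGroup.to_sup_of_normal_right' (g • P).isPGroup' P.isPGroup' h2
    have h4 := P.is_maximal' h3 le_sup_right
    have h5 := (g • P).is_maximal' h3 le_sup_left
    have h6 : g • P = P := Sylow.ext (h5.symm.trans h4)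
    exact Sylow.smul_eq_iff_mem_normalizer.1 h6
  -- proper overgroups of A normalize P
  have hM : ∀ M : Subgroup G, M ≠ ⊤ → A ≤ M → M ≤ Subgroup.normalizer ((P : Subgroup G) : Set G) := by
    intro M hMtop hAM m hm
    obtain ⟨A', hA', hPA', hCA', huA'⟩ := hcore m
    have hA'M : A' ≤ M := by
      intro c hc
      rw [← hCA'] at hc
      have hc' : m⁻¹ * c * m ∈ Subgroup.centralizer ((P : Subgroup G) : Set G) := by
        rw [Subgroup.mem_centralizer_iff]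
        intro h hh
        have hmh : m * h * m⁻¹ ∈ ((m • P : Sylow p G) : Subgroup G) := by
          rw [mem_smul_sylow]
          have : m⁻¹ * (m * h * m⁻¹) * m = h := by group
          rw [this]; exact hh
        have e := Subgroup.mem_centralizer_iff.1 hc _ hmh
        calc h * (m⁻¹ * c * m) = m⁻¹ * ((m * h * m⁻¹) * c) * m := by group
          _ = m⁻¹ * (c * (m * h * m⁻¹)) * m := by rw [e]
          _ = m⁻¹ * c * m * h := by group
      rw [hCA] at hc'
      have : c = m * (m⁻¹ * c * m) * m⁻¹ := by group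
      rw [this]
      exact M.mul_mem (M.mul_mem hm (hAM hc')) (M.inv_mem hm)
    have hAA : A' = A := by
      by_contra hne
      exact replace_two 𝓐 hcov1 hcov2 hmin A' A hA' hA hne M hMtop hA'M hAM
    apply hK
    rw [hCA', hCA, hAA]
  have hNtop : Subgroup.normalizer ((P : Subgroup G) : Set G) ≠ ⊤ := by
    intro h
    exact hnn (Subgroup.normalizer_eq_top_iff.1 h)
  have hAN : A ≤ Subgroup.normalizer ((P : Subgroup G) : Set G) := by
    rw [← hCA]; exact Subgroup.centralizer_le_normalizer _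
  have hco : IsCoatom (Subgroup.normalizer ((P : Subgroup G) : Set G)) := by
    refine ⟨hNtop, fun M hlt => ?_⟩
    by_contra hMtop
    exact absurd (hM M hMtop (hAN.trans hlt.le)) (not_le_of_gt hlt)
  refine ⟨A, hA, hPA, hCA, hco, ?_, ?_⟩
  · intro M hMco hAM
    have h1 := hM M hMco.1 hAM
    rcases eq_or_lt_of_le h1 with h | h
    · exact h
    · exact absurd (hMco.2 _ h) hNtop
  · intro g hg hdvd
    obtain ⟨x, hx⟩ := exists_prime_orderOf_dvd_card' p hdvd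
    have hxp : (x : G) ^ (p ^ 1) = 1 := by
      rw [pow_one]
      have := pow_orderOf_eq_one x
      rw [hx] at this
      have h' := congrArg Subtype.val this
      rw [Subgroup.coe_pow, Subgroup.coe_one] at h'
      exact h'
    have hx1 : (x : G) ≠ 1 := by
      intro h
      have : x = 1 := by ext; exact h
      rw [this, orderOf_one] at hx
      exact hpp.one_lt.ne hx
    have hxN := (Subgroup.mem_inf.1 x.2).1
    have hxNg := (Subgroup.mem_inf.1 x.2).2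
    have hxP : (x : G) ∈ (P : Subgroup G) := mem_sylow_of_normalizes P _ 1 hxp hxN
    obtain ⟨n, hn, hnx⟩ := Subgroup.mem_map.1 hxNg
    have hnx' : g * n * g⁻¹ = (x : G) := by simpa using hnx
    have hnp : n ^ (p ^ 1) = 1 := by
      have : (g * n * g⁻¹) ^ (p ^ 1) = 1 := by rw [hnx']; exact hxp
      rw [conj_pow] at this
      exact conj_eq_one_iff.1 this
    have hnP : n ∈ (P : Subgroup G) := mem_sylow_of_normalizes P _ 1 hnp hn
    have hxgP : (x : G) ∈ ((g • P : Sylow p G) : Subgroup G) := by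
      rw [mem_smul_sylow, ← hnx']
      have : g⁻¹ * (g * n * g⁻¹) * g = n := by group
      rw [this]; exact hnP
    obtain ⟨A', hA', hPA', hCA', huA'⟩ := hcore g
    have hAA : A = A' := huA' _ hxgP hx1 A hA (hPA hxP)
    apply hg
    apply hK
    rw [hCA', hCA, hAA]


theorem comm_of_isMulCommutative (H : Subgroup G) (h : IsMulCommutative ↥H) :
    ∀ a ∈ H, ∀ b ∈ H, a * b = b * a := by
  intro a ha b hb
  have := h.is_comm.comm (⟨a, ha⟩ : H) ⟨b, hb⟩
  exact congrArg Subtype.val this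

theorem struct_of_cyclic (H : Subgroup G) (hc : IsCyclic ↥H) (p : ℕ) :
    (∀ a ∈ H, ∀ b ∈ H, a * b = b * a) ∧
      ∃ z ∈ H, (∀ y ∈ H, y ∈ Subgroup.zpowers z) ∨ z ^ p ≠ 1 := by
  obtain ⟨g, hg⟩ := hc.exists_generator
  have hgen : ∀ y ∈ H, y ∈ Subgroup.zpowers (g : G) := by
    intro y hy
    obtain ⟨k, hk⟩ := Subgroup.mem_zpowers_iff.1 (hg ⟨y, hy⟩)
    refine Subgroup.mem_zpowers_iff.2 ⟨k, ?_⟩
    have h' := congrArg Subtype.val hk
    rw [Subgroup.coe_zpow] at h'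
    exact h'
  refine ⟨?_, (g : G), g.2, Or.inl hgen⟩
  intro a ha b hb
  obtain ⟨i, hi⟩ := Subgroup.mem_zpowers_iff.1 (hgen a ha)
  obtain ⟨j, hj⟩ := Subgroup.mem_zpowers_iff.1 (hgen b hb)
  rw [← hi, ← hj]
  exact ((Commute.refl (g : G)).zpow_zpow i j).eq

theorem struct_of_not_elem (H : Subgroup G) (p : ℕ) (hc : IsMulCommutative ↥H)
    (hne : ¬ (IsMulCommutative ↥H ∧ ∀ a ∈ H, a ^ p = 1)) :
    ∃ z ∈ H, (∀ y ∈ H, y ∈ Subgroup.zpowers z) ∨ z ^ p ≠ 1 := by
  by_contra hcon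
  apply hne
  refine ⟨hc, fun a ha => ?_⟩
  by_contra h
  exact hcon ⟨a, ha, Or.inr h⟩

theorem cyclic_of_card_le {p : ℕ} [Fact p.Prime] (P : Sylow p G) (h1 : (P : Subgroup G) ≠ ⊥)
    (hle : ¬ p < Nat.card ↥(P : Subgroup G)) : IsCyclic ↥(P : Subgroup G) := by
  have hpp : p.Prime := Fact.out
  obtain ⟨n, hn⟩ := P.isPGroup'.exists_card_eq
  have hn0 : n ≠ 0 := by
    intro h
    rw [h, pow_zero] at hn
    exact h1 ((Subgroup.card_eq_one).1 hn)
  have hn1 : n = 1 := by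
    by_contra hne
    have : 2 ≤ n := by omega
    have h2 : p ^ 2 ≤ p ^ n := Nat.pow_le_pow_right hpp.pos this
    have h3 : p < p ^ 2 := by
      have := hpp.one_lt
      nlinarith
    rw [hn] at hle
    omega
  rw [hn1, pow_one] at hn
  exact isCyclic_of_prime_card hn

end
end Cfsg.Agent.Lib.Helper6.NilCover
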