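import Mathlib
import Cfsg.Agent.Lib.Helper6.NilCover

set_option autoImplicit false

namespace Cfsg.Agent.Lib.Helper6.NilCover2

open Cfsg.Agent.Lib.Helper6.NilCover

section abstract
variable {G : Type*} [Group G] [Finite G]

theorem no_cover_of_pair (𝓐 : Finset (Subgroup G))
    (hcov1 : ∀ A ∈ 𝓐, A ≠ ⊤) (hcov2 : ∀ g : G, ∃ A ∈ 𝓐, g ∈ A)
    (hmin : ∀ 𝓑 : Finset (Subgroup G), (∀ A ∈ 𝓑, A ≠ ⊤) ∧ (∀ g : G, ∃ A ∈ 𝓑, g ∈ A) → 𝓐.card ≤ 𝓑.card)
    (hnil : ∀ A ∈ 𝓐, Group.IsNilpotent ↥A) {p : ℕ} [Fact p.Prime]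
    (habp : ∀ Q : Subgroup G, IsPGroup p Q → ∀ x ∈ Q, ∀ y ∈ Q, x * y = y * x)
    (c c' : G) (hc : c ^ p = 1) (hc' : c' ^ p = 1) (hncomm : c * c' ≠ c' * c)
    (M : Subgroup G) (hM : M ≠ ⊤) (h1 : ∀ g, g * c = c * g → g ∈ M)
    (h2 : ∀ g, g * c' = c' * g → g ∈ M) : False := by
  obtain ⟨A, hA, hcA⟩ := hcov2 c
  obtain ⟨A', hA', hcA'⟩ := hcov2 c'
  have e1 := member_central habp A (hnil A hA) c hcA 1 (by rw [pow_one]; exact hc)
  have e2 := member_central habp A' (hnil A' hA') c' hcA' 1 (by rw [pow_one]; exact hc')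
  have hne : A ≠ A' := by
    intro h
    apply hncomm
    exact (e1 c' (h ▸ hcA')).symm
  exact replace_two 𝓐 hcov1 hcov2 hmin A A' hA hA' hne M hM (fun b hb => h1 b (e1 b hb))
    (fun b hb => h2 b (e2 b hb))

theorem habp_of_card (p : ℕ) [Fact p.Prime] (h : ¬ p ^ 2 ∣ Nat.card G) :
    ∀ Q : Subgroup G, IsPGroup p Q → ∀ x ∈ Q, ∀ y ∈ Q, x * y = y * x := by
  intro Q hQ
  have hpp : p.Prime := Fact.out
  obtain ⟨k, hk⟩ := hQ.exists_card_eq
  have hdvd : p ^ k ∣ Nat.card G := hk ▸ Subgroup.card_subgroup_dvd_card Q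
  have hk1 : k ≤ 1 := by
    by_contra hcon
    have : 2 ≤ k := by omega
    exact h (dvd_trans (pow_dvd_pow p this) hdvd)
  interval_cases k
  · rw [pow_zero] at hk
    have hb := (Subgroup.card_eq_one).1 hk
    intro x hx y hy
    rw [hb, Subgroup.mem_bot] at hx hy
    rw [hx, hy]
  · rw [pow_one] at hk
    have hcyc : IsCyclic ↥Q := isCyclic_of_prime_card hk
    exact (struct_of_cyclic Q hcyc p).1

end abstract

section perm
variable {α : Type*} [Fintype α] [DecidableEq α]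

/-- set stabilizer -/
def stab (S : Set α) : Subgroup (Equiv.Perm α) where
  carrier := {g | ∀ y, g y ∈ S ↔ y ∈ S}
  one_mem' := fun _ => Iff.rfl
  mul_mem' := by
    intro g h hg hh y
    rw [Equiv.Perm.mul_apply, hg (h y), hh y]
  inv_mem' := by
    intro g hg y
    have := hg (g⁻¹ y)
    simpa using this.symm

theorem mem_stab (S : Set α) (g : Equiv.Perm α) : g ∈ stab S ↔ ∀ y, g y ∈ S ↔ y ∈ S := Iff.rfl

theorem cent_le_stab (c g : Equiv.Perm α) (h : g * c = c * g) : g ∈ stab {y | c y ≠ y} := by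
  intro y
  show c (g y) ≠ g y ↔ c y ≠ y
  have e : c (g y) = g (c y) := by
    have := congrArg (fun f : Equiv.Perm α => f y) h
    simp only [Equiv.Perm.mul_apply] at this
    exact this.symm
  rw [e]
  exact not_congr (g.injective.eq_iff)

theorem pow_fix (c : Equiv.Perm α) (p : ℕ) (hp : p.Prime) (ho : orderOf c = p) (a : α)
    (ha : c a ≠ a) (j : ℕ) (hj : (c ^ j) a = a) : p ∣ j := by
  by_contra hnd
  have hcop : Nat.Coprime j (orderOf c) := by
    rw [ho]; exact ((Nat.Prime.coprime_iff_not_dvd hp).2 hnd).symm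
  obtain ⟨m, hm⟩ := exists_pow_eq_self_of_coprime hcop
  apply ha
  conv_lhs => rw [← hm]
  exact Equiv.Perm.pow_apply_eq_self_of_apply_eq_self hj m

theorem generic_pair (p : ℕ) (hp : p.Prime) (hp5 : 5 ≤ p) (c : Equiv.Perm α) (ho : orderOf c = p)
    (a : α) (ha : c a ≠ a) :
    (Equiv.swap a (c a) * c * (Equiv.swap a (c a))⁻¹) ^ p = 1 ∧
    c * (Equiv.swap a (c a) * c * (Equiv.swap a (c a))⁻¹) ≠
      (Equiv.swap a (c a) * c * (Equiv.swap a (c a))⁻¹) * c ∧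
    {y | (Equiv.swap a (c a) * c * (Equiv.swap a (c a))⁻¹) y ≠ y} = {y | c y ≠ y} := by
  have hdb0 : c (c a) ≠ c a := fun h => ha (c.injective h)
  have hda : c (c a) ≠ a := by
    intro h
    have h2 : (c ^ 2) a = a := by rw [pow_two, Equiv.Perm.mul_apply]; exact h
    have := Nat.le_of_dvd (by norm_num) (pow_fix c p hp ho a ha 2 h2)
    omega
  have hval : ∀ y, (Equiv.swap a (c a) * c * (Equiv.swap a (c a))⁻¹) y =
      Equiv.swap a (c a) (c (Equiv.swap a (c a) y)) := by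
    intro y
    rw [Equiv.swap_inv, Equiv.Perm.mul_apply, Equiv.Perm.mul_apply]
  refine ⟨?_, ?_, ?_⟩
  · rw [conj_pow, ← ho, pow_orderOf_eq_one, mul_one, mul_inv_cancel]
  · intro hcm
    have h1 := congrArg (fun f : Equiv.Perm α => f a) hcm
    simp only [Equiv.Perm.mul_apply] at h1
    rw [Equiv.swap_inv] at h1
    rw [Equiv.swap_apply_left, Equiv.swap_apply_right, Equiv.swap_apply_right,
      Equiv.swap_apply_of_ne_of_ne hda hdb0] at h1
    have h3 : (c ^ 3) a = a := by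
      rw [pow_succ, pow_two, Equiv.Perm.mul_apply, Equiv.Perm.mul_apply]; exact h1
    have := Nat.le_of_dvd (by norm_num) (pow_fix c p hp ho a ha 3 h3)
    omega
  · ext y
    show (Equiv.swap a (c a) * c * (Equiv.swap a (c a))⁻¹) y ≠ y ↔ c y ≠ y
    rw [hval]
    rw [Ne, Equiv.swap_apply_eq_iff]
    by_cases hya : y = a
    · subst hya
      rw [Equiv.swap_apply_left]
      exact ⟨fun _ => ha, fun _ => hdb0⟩
    by_cases hyb : y = c a
    · rw [hyb, Equiv.swap_apply_right]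
      exact ⟨fun _ => hdb0, fun _ => ha⟩
    · rw [Equiv.swap_apply_of_ne_of_ne hya hyb]

theorem support_card_of_prime (n p : ℕ) (hp : p.Prime) (hn2 : n < 2 * p) (c : Equiv.Perm (Fin n))
    (ho : orderOf c = p) : c.support.card = p := by
  obtain ⟨k, hk⟩ := Equiv.Perm.cycleType_prime_order (σ := c) (by rw [ho]; exact hp)
  have h1 := Equiv.Perm.sum_cycleType c
  rw [hk, Multiset.sum_replicate, smul_eq_mul, ho] at h1
  have h2 : c.support.card ≤ n := by
    have := Finset.card_le_univ c.support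
    simpa using this
  have hk0 : k = 0 := by
    by_contra hk0
    have : 2 ≤ k + 1 := by omega
    have : 2 * p ≤ (k + 1) * p := Nat.mul_le_mul_right p this
    omega
  rw [hk0] at h1
  omega

theorem sq_not_dvd_factorial (n p : ℕ) (hp : p.Prime) (hn2 : n < 2 * p) : ¬ p ^ 2 ∣ n.factorial := by
  have h2 : 2 ≤ p := hp.two_le
  have hlog : Nat.log p n < 2 := by
    rcases Nat.eq_zero_or_pos n with h | h
    · rw [h]; simp
    · apply Nat.log_lt_of_lt_pow h.ne'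
      nlinarith
  rw [hp.pow_dvd_factorial_iff hlog]
  have : Finset.Ico 1 2 = {1} := by decide
  rw [this, Finset.sum_singleton, pow_one]
  have : n / p < 2 := by
    rw [Nat.div_lt_iff_lt_mul hp.pos]; omega
  omega

theorem prime_choice (n : ℕ) (hn : 6 ≤ n) : ∃ p : ℕ, p.Prime ∧ 5 ≤ p ∧ p < n ∧ n < 2 * p := by
  by_cases h8 : n < 8
  · exact ⟨5, by norm_num, le_refl _, by omega, by omega⟩
  · obtain ⟨p, hp, h1, h2⟩ := Nat.exists_prime_lt_and_le_two_mul (n / 2) (by omega)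
    refine ⟨p, hp, by omega, ?_, by omega⟩
    rcases Nat.even_or_odd n with he | ho
    · have hpn : p ≠ n := by
        intro h
        rw [← h] at he
        have := hp.even_iff.1 he
        omega
      omega
    · obtain ⟨k, hk⟩ := ho
      omega

theorem perm_generic (n : ℕ) (hn : 6 ≤ n) (𝓐 : Finset (Subgroup (Equiv.Perm (Fin n))))
    (hcov1 : ∀ A ∈ 𝓐, A ≠ ⊤) (hcov2 : ∀ g : Equiv.Perm (Fin n), ∃ A ∈ 𝓐, g ∈ A)
    (hmin : ∀ 𝓑 : Finset (Subgroup (Equiv.Perm (Fin n))),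
      (∀ A ∈ 𝓑, A ≠ ⊤) ∧ (∀ g : Equiv.Perm (Fin n), ∃ A ∈ 𝓑, g ∈ A) → 𝓐.card ≤ 𝓑.card)
    (hnil : ∀ A ∈ 𝓐, Group.IsNilpotent ↥A) : False := by
  obtain ⟨p, hp, hp5, hpn, hn2⟩ := prime_choice n hn
  haveI : Fact p.Prime := ⟨hp⟩
  have hcard : Nat.card (Equiv.Perm (Fin n)) = n.factorial := by
    rw [Nat.card_eq_fintype_card, Fintype.card_perm, Fintype.card_fin]
  have habp := habp_of_card (G := Equiv.Perm (Fin n)) p
    (by rw [hcard]; exact sq_not_dvd_factorial n p hp hn2)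
  obtain ⟨c, ho⟩ := exists_prime_orderOf_dvd_card' (G := Equiv.Perm (Fin n)) p
    (by rw [hcard]; exact (hp.dvd_factorial).2 hpn.le)
  have hsc := support_card_of_prime n p hp hn2 c ho
  obtain ⟨a, ha⟩ : ∃ a, c a ≠ a := by
    have hne : c.support.Nonempty := by rw [← Finset.card_pos, hsc]; exact hp.pos
    obtain ⟨a, ha⟩ := hne
    exact ⟨a, Equiv.Perm.mem_support.1 ha⟩
  obtain ⟨b, hb⟩ : ∃ b, c b = b := by
    by_contra hcon
    push_neg at hcon
    have hu : c.support = Finset.univ := by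
      ext y; simp [Equiv.Perm.mem_support, hcon y]
    rw [hu, Finset.card_univ, Fintype.card_fin] at hsc
    omega
  obtain ⟨h1, h2, h3⟩ := generic_pair p hp hp5 c ho a ha
  refine no_cover_of_pair 𝓐 hcov1 hcov2 hmin hnil habp c _
    (by rw [← ho]; exact pow_orderOf_eq_one c) h1 h2
    (stab {y | c y ≠ y}) ?_ (fun g hg => cent_le_stab c g hg) (fun g hg => ?_)
  · intro htop
    have hm : Equiv.swap a b ∈ stab {y | c y ≠ y} := htop ▸ Subgroup.mem_top _
    have := (hm a).2 ha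
    rw [Equiv.swap_apply_left] at this
    exact this hb
  · have := cent_le_stab _ g hg
    rw [h3] at this
    exact this

theorem alt_generic (n : ℕ) (hn : 6 ≤ n) (𝓐 : Finset (Subgroup ↥(alternatingGroup (Fin n))))
    (hcov1 : ∀ A ∈ 𝓐, A ≠ ⊤) (hcov2 : ∀ g : ↥(alternatingGroup (Fin n)), ∃ A ∈ 𝓐, g ∈ A)
    (hmin : ∀ 𝓑 : Finset (Subgroup ↥(alternatingGroup (Fin n))),
      (∀ A ∈ 𝓑, A ≠ ⊤) ∧ (∀ g : ↥(alternatingGroup (Fin n)), ∃ A ∈ 𝓑, g ∈ A) → 𝓐.card ≤ 𝓑.card)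
    (hnil : ∀ A ∈ 𝓐, Group.IsNilpotent ↥A) : False := by
  obtain ⟨p, hp, hp5, hpn, hn2⟩ := prime_choice n hn
  haveI : Fact p.Prime := ⟨hp⟩
  have hcard : Nat.card (Equiv.Perm (Fin n)) = n.factorial := by
    rw [Nat.card_eq_fintype_card, Fintype.card_perm, Fintype.card_fin]
  have hcardA : Nat.card ↥(alternatingGroup (Fin n)) ∣ n.factorial :=
    hcard ▸ Subgroup.card_subgroup_dvd_card _
  have habp := habp_of_card (G := ↥(alternatingGroup (Fin n))) p
    (fun h => sq_not_dvd_factorial n p hp hn2 (dvd_trans h hcardA))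
  obtain ⟨c, ho⟩ := exists_prime_orderOf_dvd_card' (G := Equiv.Perm (Fin n)) p
    (by rw [hcard]; exact (hp.dvd_factorial).2 hpn.le)
  have hodd : Odd p := hp.odd_of_ne_two (by omega)
  have hcA : c ∈ alternatingGroup (Fin n) := by
    rw [Equiv.Perm.mem_alternatingGroup]
    have h1 : (Equiv.Perm.sign c) ^ p = 1 := by
      rw [← map_pow, ← ho, pow_orderOf_eq_one, map_one]
    rcases Int.units_eq_one_or (Equiv.Perm.sign c) with h | h
    · exact h
    · rw [h, hodd.neg_one_pow] at h1; exact absurd h1 (by decide)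
  have hsc := support_card_of_prime n p hp hn2 c ho
  obtain ⟨a, ha⟩ : ∃ a, c a ≠ a := by
    have hne : c.support.Nonempty := by rw [← Finset.card_pos, hsc]; exact hp.pos
    obtain ⟨a, ha⟩ := hne
    exact ⟨a, Equiv.Perm.mem_support.1 ha⟩
  obtain ⟨b, hb⟩ : ∃ b, c b = b := by
    by_contra hcon
    push_neg at hcon
    have hu : c.support = Finset.univ := by
      ext y; simp [Equiv.Perm.mem_support, hcon y]
    rw [hu, Finset.card_univ, Fintype.card_fin] at hsc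
    omega
  obtain ⟨h1, h2, h3⟩ := generic_pair p hp hp5 c ho a ha
  have hc'A : (Equiv.swap a (c a) * c * (Equiv.swap a (c a))⁻¹) ∈ alternatingGroup (Fin n) := by
    rw [Equiv.Perm.mem_alternatingGroup, map_mul, map_mul, map_inv,
      mul_comm (Equiv.Perm.sign (Equiv.swap a (c a))), mul_assoc, mul_inv_cancel, mul_one]
    exact Equiv.Perm.mem_alternatingGroup.1 hcA
  have hab : a ≠ b := fun h => ha (h ▸ hb)
  have hdb0 : c (c a) ≠ c a := fun h => ha (c.injective h)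
  refine no_cover_of_pair 𝓐 hcov1 hcov2 hmin hnil habp ⟨c, hcA⟩ ⟨_, hc'A⟩ ?_ ?_ ?_
    ((stab {y | c y ≠ y}).subgroupOf (alternatingGroup (Fin n))) ?_ ?_ ?_
  · apply Subtype.ext
    rw [Subgroup.coe_pow, Subgroup.coe_one]
    show c ^ p = 1
    rw [← ho]; exact pow_orderOf_eq_one c
  · apply Subtype.ext
    rw [Subgroup.coe_pow, Subgroup.coe_one]
    exact h1
  · intro h
    exact h2 (congrArg Subtype.val h)
  · intro htop
    have hgA : Equiv.swap a b * Equiv.swap a (c a) ∈ alternatingGroup (Fin n) := by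
      rw [Equiv.Perm.mem_alternatingGroup, map_mul, Equiv.Perm.sign_swap hab,
        Equiv.Perm.sign_swap (Ne.symm ha)]
      decide
    have hm : (⟨_, hgA⟩ : ↥(alternatingGroup (Fin n))) ∈
        (stab {y | c y ≠ y}).subgroupOf (alternatingGroup (Fin n)) := htop ▸ Subgroup.mem_top _
    rw [Subgroup.mem_subgroupOf] at hm
    have := (hm (c a)).2 hdb0
    rw [Equiv.Perm.mul_apply, Equiv.swap_apply_right, Equiv.swap_apply_left] at this
    exact this hb
  · intro g hg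
    rw [Subgroup.mem_subgroupOf]
    exact cent_le_stab c g.1 (congrArg Subtype.val hg)
  · intro g hg
    rw [Subgroup.mem_subgroupOf]
    have := cent_le_stab _ g.1 (congrArg Subtype.val hg)
    rw [h3] at this
    exact this

end perm

section small

theorem perm4 (𝓐 : Finset (Subgroup (Equiv.Perm (Fin 4))))
    (hcov1 : ∀ A ∈ 𝓐, A ≠ ⊤) (hcov2 : ∀ g : Equiv.Perm (Fin 4), ∃ A ∈ 𝓐, g ∈ A)
    (hmin : ∀ 𝓑 : Finset (Subgroup (Equiv.Perm (Fin 4))),
      (∀ A ∈ 𝓑, A ≠ ⊤) ∧ (∀ g : Equiv.Perm (Fin 4), ∃ A ∈ 𝓑, g ∈ A) → 𝓐.card ≤ 𝓑.card)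
    (hnil : ∀ A ∈ 𝓐, Group.IsNilpotent ↥A) : False := by
  haveI : Fact (Nat.Prime 3) := ⟨by norm_num⟩
  have hcard : Nat.card (Equiv.Perm (Fin 4)) = 24 := by
    rw [Nat.card_eq_fintype_card, Fintype.card_perm, Fintype.card_fin]; rfl
  have habp := habp_of_card (G := Equiv.Perm (Fin 4)) 3 (by rw [hcard]; norm_num)
  refine no_cover_of_pair 𝓐 hcov1 hcov2 hmin hnil habp
    (Equiv.swap (0 : Fin 4) 1 * Equiv.swap 1 2) (Equiv.swap (0 : Fin 4) 1 * Equiv.swap 1 3)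
    (by decide) (by decide) (by decide) (alternatingGroup (Fin 4)) ?_ ?_ ?_
  · intro h
    have hm : Equiv.swap (0 : Fin 4) 1 ∈ alternatingGroup (Fin 4) := h ▸ Subgroup.mem_top _
    rw [Equiv.Perm.mem_alternatingGroup] at hm
    revert hm; decide
  · intro g
    rw [Equiv.Perm.mem_alternatingGroup]
    revert g; decide
  · intro g
    rw [Equiv.Perm.mem_alternatingGroup]
    revert g; decide

set_option maxRecDepth 1000000 in
theorem dec5a : ∀ g : Equiv.Perm (Fin 5),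
    g * (Equiv.swap (0 : Fin 5) 1 * Equiv.swap 1 2 * Equiv.swap 2 3 * Equiv.swap 3 4) =
      (Equiv.swap (0 : Fin 5) 1 * Equiv.swap 1 2 * Equiv.swap 2 3 * Equiv.swap 3 4) * g →
    Equiv.Perm.sign g = 1 := by decide

set_option maxRecDepth 1000000 in
theorem dec5b : ∀ g : Equiv.Perm (Fin 5),
    g * (Equiv.swap (0 : Fin 5) 2 * Equiv.swap 2 1 * Equiv.swap 1 3 * Equiv.swap 3 4) =
      (Equiv.swap (0 : Fin 5) 2 * Equiv.swap 2 1 * Equiv.swap 1 3 * Equiv.swap 3 4) * g →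
    Equiv.Perm.sign g = 1 := by decide

set_option maxRecDepth 1000000 in
theorem dec5c : ∀ g : Equiv.Perm (Fin 5), Equiv.Perm.sign g = 1 →
    g * (Equiv.swap (0 : Fin 5) 1 * Equiv.swap 1 2) = (Equiv.swap (0 : Fin 5) 1 * Equiv.swap 1 2) * g →
    ∀ y, g y = 4 ↔ y = 4 := by decide

set_option maxRecDepth 1000000 in
theorem dec5d : ∀ g : Equiv.Perm (Fin 5), Equiv.Perm.sign g = 1 →
    g * (Equiv.swap (0 : Fin 5) 1 * Equiv.swap 1 3) = (Equiv.swap (0 : Fin 5) 1 * Equiv.swap 1 3) * g →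
    ∀ y, g y = 4 ↔ y = 4 := by decide

theorem perm5 (𝓐 : Finset (Subgroup (Equiv.Perm (Fin 5))))
    (hcov1 : ∀ A ∈ 𝓐, A ≠ ⊤) (hcov2 : ∀ g : Equiv.Perm (Fin 5), ∃ A ∈ 𝓐, g ∈ A)
    (hmin : ∀ 𝓑 : Finset (Subgroup (Equiv.Perm (Fin 5))),
      (∀ A ∈ 𝓑, A ≠ ⊤) ∧ (∀ g : Equiv.Perm (Fin 5), ∃ A ∈ 𝓑, g ∈ A) → 𝓐.card ≤ 𝓑.card)
    (hnil : ∀ A ∈ 𝓐, Group.IsNilpotent ↥A) : False := by
  haveI : Fact (Nat.Prime 5) := ⟨by norm_num⟩
  have hcard : Nat.card (Equiv.Perm (Fin 5)) = 120 := by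
    rw [Nat.card_eq_fintype_card, Fintype.card_perm, Fintype.card_fin]; rfl
  have habp := habp_of_card (G := Equiv.Perm (Fin 5)) 5 (by rw [hcard]; norm_num)
  refine no_cover_of_pair 𝓐 hcov1 hcov2 hmin hnil habp
    (Equiv.swap (0 : Fin 5) 1 * Equiv.swap 1 2 * Equiv.swap 2 3 * Equiv.swap 3 4)
    (Equiv.swap (0 : Fin 5) 2 * Equiv.swap 2 1 * Equiv.swap 1 3 * Equiv.swap 3 4)
    (by decide) (by decide) (by decide) (alternatingGroup (Fin 5)) ?_ ?_ ?_
  · intro h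
    have hm : Equiv.swap (0 : Fin 5) 1 ∈ alternatingGroup (Fin 5) := h ▸ Subgroup.mem_top _
    rw [Equiv.Perm.mem_alternatingGroup] at hm
    revert hm; decide
  · intro g
    rw [Equiv.Perm.mem_alternatingGroup]
    exact dec5a g
  · intro g
    rw [Equiv.Perm.mem_alternatingGroup]
    exact dec5b g

theorem alt5 (𝓐 : Finset (Subgroup ↥(alternatingGroup (Fin 5))))
    (hcov1 : ∀ A ∈ 𝓐, A ≠ ⊤) (hcov2 : ∀ g : ↥(alternatingGroup (Fin 5)), ∃ A ∈ 𝓐, g ∈ A)
    (hmin : ∀ 𝓑 : Finset (Subgroup ↥(alternatingGroup (Fin 5))),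
      (∀ A ∈ 𝓑, A ≠ ⊤) ∧ (∀ g : ↥(alternatingGroup (Fin 5)), ∃ A ∈ 𝓑, g ∈ A) → 𝓐.card ≤ 𝓑.card)
    (hnil : ∀ A ∈ 𝓐, Group.IsNilpotent ↥A) : False := by
  haveI : Fact (Nat.Prime 3) := ⟨by norm_num⟩
  have hcard : Nat.card (Equiv.Perm (Fin 5)) = 120 := by
    rw [Nat.card_eq_fintype_card, Fintype.card_perm, Fintype.card_fin]; rfl
  have hcardA : Nat.card ↥(alternatingGroup (Fin 5)) ∣ 120 :=
    hcard ▸ Subgroup.card_subgroup_dvd_card _
  have habp := habp_of_card (G := ↥(alternatingGroup (Fin 5))) 3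
    (fun h => absurd (dvd_trans h hcardA) (by norm_num))
  have hcA : (Equiv.swap (0 : Fin 5) 1 * Equiv.swap 1 2) ∈ alternatingGroup (Fin 5) := by
    rw [Equiv.Perm.mem_alternatingGroup]; decide
  have hc'A : (Equiv.swap (0 : Fin 5) 1 * Equiv.swap 1 3) ∈ alternatingGroup (Fin 5) := by
    rw [Equiv.Perm.mem_alternatingGroup]; decide
  refine no_cover_of_pair 𝓐 hcov1 hcov2 hmin hnil habp ⟨_, hcA⟩ ⟨_, hc'A⟩ ?_ ?_ ?_
    ((stab {y | y = (4 : Fin 5)}).subgroupOf (alternatingGroup (Fin 5))) ?_ ?_ ?_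
  · apply Subtype.ext
    rw [Subgroup.coe_pow, Subgroup.coe_one]
    show (Equiv.swap (0 : Fin 5) 1 * Equiv.swap 1 2) ^ 3 = 1
    decide
  · apply Subtype.ext
    rw [Subgroup.coe_pow, Subgroup.coe_one]
    show (Equiv.swap (0 : Fin 5) 1 * Equiv.swap 1 3) ^ 3 = 1
    decide
  · intro h
    have h' := congrArg Subtype.val h
    rw [Subgroup.coe_mul, Subgroup.coe_mul] at h'
    have : ¬ ((Equiv.swap (0 : Fin 5) 1 * Equiv.swap 1 2) * (Equiv.swap (0 : Fin 5) 1 * Equiv.swap 1 3) =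
        (Equiv.swap (0 : Fin 5) 1 * Equiv.swap 1 3) * (Equiv.swap (0 : Fin 5) 1 * Equiv.swap 1 2)) := by
      decide
    exact this h'
  · intro htop
    have hgA : Equiv.swap (2 : Fin 5) 3 * Equiv.swap 3 4 ∈ alternatingGroup (Fin 5) := by
      rw [Equiv.Perm.mem_alternatingGroup]; decide
    have hm : (⟨_, hgA⟩ : ↥(alternatingGroup (Fin 5))) ∈
        (stab {y | y = (4 : Fin 5)}).subgroupOf (alternatingGroup (Fin 5)) := htop ▸ Subgroup.mem_top _
    rw [Subgroup.mem_subgroupOf] at hm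
    have h4 := (hm 4).2 rfl
    have : ¬ ((Equiv.swap (2 : Fin 5) 3 * Equiv.swap 3 4 : Equiv.Perm (Fin 5)) 4 = 4) := by decide
    exact this h4
  · intro g hg
    rw [Subgroup.mem_subgroupOf]
    exact dec5c g.1 (Equiv.Perm.mem_alternatingGroup.1 g.2) (congrArg Subtype.val hg)
  · intro g hg
    rw [Subgroup.mem_subgroupOf]
    exact dec5d g.1 (Equiv.Perm.mem_alternatingGroup.1 g.2) (congrArg Subtype.val hg)

end small

end Cfsg.Agent.Lib.Helper6.NilCover2
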