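import Mathlib
import Cfsg.Agent.Lib.Lead.AutElemAb

set_option autoImplicit false

namespace Cfsg.Agent.Lib.Helper6

/-- the index of the centralizer of a normal subgroup divides the order of its automorphism
group -/
theorem index_centralizer_dvd_card_mulAut {G : Type*} [Group G] [Finite G] (E : Subgroup G)
    [E.Normal] : (Subgroup.centralizer (E : Set G)).index ∣ Nat.card (MulAut E) := by
  have hker : (MulAut.conjNormal : G →* MulAut E).ker = Subgroup.centralizer (E : Set G) := by
    ext g
    rw [MonoidHom.mem_ker, Subgroup.mem_centralizer_iff]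
    constructor
    · intro h e he
      have h1 : (MulAut.conjNormal g : MulAut E) ⟨e, he⟩ = ⟨e, he⟩ := by rw [h]; rfl
      have h2 := congrArg Subtype.val h1
      rw [MulAut.conjNormal_apply] at h2
      have h3 : g * e * g⁻¹ = e := h2
      calc e * g = (g * e * g⁻¹) * g := by rw [h3]
        _ = g * e := by group
    · intro h
      ext ⟨e, he⟩
      rw [MulAut.conjNormal_apply]
      show g * e * g⁻¹ = e
      rw [← h e he]; group
  rw [← hker, Subgroup.index_ker]
  exact Subgroup.card_subgroup_dvd_card _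

/-- in a `p`-group, the centralizer of a normal elementary abelian subgroup of order `p ^ 2`
has index dividing `p` -/
theorem index_centralizer_dvd_prime {G : Type*} [Group G] [Finite G] {p : ℕ} [hp : Fact p.Prime]
    (hG : IsPGroup p G) (E : Subgroup G) [E.Normal] (hEc : IsMulCommutative E)
    (hexp : ∀ e ∈ E, e ^ p = 1) (hcard : Nat.card E = p ^ 2) :
    (Subgroup.centralizer (E : Set G)).index ∣ p := by
  letI : CommGroup E := { (inferInstance : Group E) with mul_comm := hEc.is_comm.comm }
  have h1 := index_centralizer_dvd_card_mulAut E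
  have h2 := Cfsg.Agent.Lib.Lead.card_mulAut_dvd_of_elementary (V := E) p 2
    (fun x => Subtype.ext (by simpa using hexp x x.2)) hcard
  have h3 := h1.trans h2
  rw [Finset.prod_range_succ, Finset.prod_range_one, pow_zero, pow_one] at h3
  obtain ⟨n, hn⟩ := hG.index (Subgroup.centralizer (E : Set G))
  rw [hn] at h3 ⊢
  have hpp := hp.out
  have h4 : (p ^ 2 - 1) * (p ^ 2 - p) = p * ((p ^ 2 - 1) * (p - 1)) := by
    have : p ^ 2 - p = p * (p - 1) := by
      rw [Nat.mul_sub, mul_one, pow_two]
    rw [this]; ring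
  rw [h4] at h3
  have hcop : Nat.Coprime (p ^ n) ((p ^ 2 - 1) * (p - 1)) := by
    apply Nat.Coprime.pow_left
    rw [Nat.Prime.coprime_iff_not_dvd hpp]
    intro hdvd
    rcases (Nat.Prime.dvd_mul hpp).1 hdvd with h | h
    · have h5 : p ∣ p ^ 2 := dvd_pow_self p (by norm_num)
      have h6 : 1 ≤ p ^ 2 := Nat.one_le_pow _ _ hpp.pos
      have h7 : p ∣ p ^ 2 - (p ^ 2 - 1) := Nat.dvd_sub h5 h
      have h8 : p ^ 2 - (p ^ 2 - 1) = 1 := by omega
      rw [h8] at h7
      exact hpp.one_lt.ne' (Nat.dvd_one.1 h7)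
    · have := Nat.le_of_dvd (by have := hpp.two_le; omega) h
      have := hpp.two_le
      omega
  exact hcop.dvd_of_dvd_mul_right h3

/-- adjoining an element of the normalizer whose `p`-th power lies in the subgroup -/
theorem card_zpowers_sup_prime {G : Type*} [Group G] [Finite G] {p : ℕ} [hp : Fact p.Prime]
    (K : Subgroup G) (g : G) (hgN : g ∈ Subgroup.normalizer (K : Set G)) (hg : g ∉ K)
    (hgp : g ^ p ∈ K) : Nat.card (Subgroup.zpowers g ⊔ K : Subgroup G) = p * Nat.card K := by
  have hle : Subgroup.zpowers g ≤ Subgroup.normalizer (K : Set G) := by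
    rw [Subgroup.zpowers_le]; exact hgN
  haveI := Subgroup.normal_subgroupOf_of_le_normalizer hle
  haveI := Subgroup.normal_subgroupOf_sup_of_le_normalizer hle
  have e := QuotientGroup.quotientInfEquivProdNormalizerQuotient (Subgroup.zpowers g) K hle
  have h1 : K.relIndex (Subgroup.zpowers g) = K.relIndex (Subgroup.zpowers g ⊔ K) := by
    unfold Subgroup.relIndex Subgroup.index
    exact Nat.card_congr e.toEquiv
  -- the relative index in `zpowers g` is `p`
  have h2 : K.relIndex (Subgroup.zpowers g) = p := by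
    unfold Subgroup.relIndex
    rw [Subgroup.index_eq_card]
    obtain ⟨γ, hγ⟩ : ∃ γ : ↥(Subgroup.zpowers g) ⧸ K.subgroupOf (Subgroup.zpowers g),
        γ = QuotientGroup.mk ⟨g, Subgroup.mem_zpowers g⟩ := ⟨_, rfl⟩
    have hγp : γ ^ p = 1 := by
      rw [hγ, ← QuotientGroup.mk_pow, QuotientGroup.eq_one_iff, Subgroup.mem_subgroupOf]
      simpa using hgp
    have hγ1 : γ ≠ 1 := by
      rw [hγ]
      intro h
      rw [QuotientGroup.eq_one_iff, Subgroup.mem_subgroupOf] at h
      exact hg h
    have hord : orderOf γ = p := orderOf_eq_prime hγp hγ1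
    have htop : ∀ q : ↥(Subgroup.zpowers g) ⧸ K.subgroupOf (Subgroup.zpowers g),
        q ∈ Subgroup.zpowers γ := by
      intro q
      induction q using QuotientGroup.induction_on with
      | H u =>
        obtain ⟨u, hu⟩ := u
        obtain ⟨k, rfl⟩ := Subgroup.mem_zpowers_iff.1 hu
        refine Subgroup.mem_zpowers_iff.2 ⟨k, ?_⟩
        rw [hγ, ← QuotientGroup.mk_zpow]
        congr 1
    rw [← hord, ← Nat.card_zpowers]
    have : Subgroup.zpowers γ = ⊤ := (Subgroup.eq_top_iff' _).2 htop
    rw [this, Subgroup.card_top]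
  rw [h2] at h1
  have hKL : K ≤ Subgroup.zpowers g ⊔ K := le_sup_right
  have h3 := Subgroup.relIndex_mul_index hKL
  have h4 := Subgroup.card_mul_index K
  have h5 := Subgroup.card_mul_index (Subgroup.zpowers g ⊔ K)
  rw [← h1] at h3
  have hpos : 0 < (Subgroup.zpowers g ⊔ K).index :=
    Nat.pos_of_ne_zero Subgroup.index_ne_zero_of_finite
  have h6 : Nat.card (Subgroup.zpowers g ⊔ K : Subgroup G) * (Subgroup.zpowers g ⊔ K).index
      = p * Nat.card K * (Subgroup.zpowers g ⊔ K).index := by
    rw [h5, ← h4, ← h3]; ring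
  exact Nat.eq_of_mul_eq_mul_right hpos h6

end Cfsg.Agent.Lib.Helper6
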