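import Mathlib
import Cfsg.Agent.Lib.Helper6.PG3

set_option autoImplicit false

namespace Cfsg.Agent.Lib.Helper6

/-- in a finite group, an element conjugating a subgroup into itself normalizes it -/
theorem mem_normalizer_of_conj_mem {G : Type*} [Group G] [Finite G] (K : Subgroup G) (x : G)
    (h : ∀ k ∈ K, x * k * x⁻¹ ∈ K) : x ∈ Subgroup.normalizer (K : Set G) := by
  have hle : K.map (MulAut.conj x).toMonoidHom ≤ K := by
    rintro _ ⟨k, hk, rfl⟩
    exact h k hk
  have hinj : Function.Injective (MulAut.conj x).toMonoidHom := (MulAut.conj x).injective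
  have hcard : Nat.card (K.map (MulAut.conj x).toMonoidHom) = Nat.card K :=
    Nat.card_congr (K.equivMapOfInjective _ hinj).symm.toEquiv
  have heq := Subgroup.eq_of_le_of_card_ge hle (by rw [hcard])
  rw [Subgroup.mem_normalizer_iff]
  intro k
  constructor
  · exact h k
  · intro hk
    rw [← heq] at hk
    obtain ⟨k', hk', hkk⟩ := hk
    have : k' = k := by
      have h1 : x * k' * x⁻¹ = x * k * x⁻¹ := hkk
      have h2 := mul_right_cancel h1
      exact mul_left_cancel h2
    rw [← this]; exact hk'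

/-- in a non-abelian `p`-group all of whose elements have order dividing `p`, there is a
non-abelian subgroup of order `p ^ 3` -/
theorem exists_nonabelian_cube {Q : Type*} [Group Q] [Finite Q] {p : ℕ} [hp : Fact p.Prime]
    (hQ : IsPGroup p Q) (hexp : ∀ g : Q, g ^ p = 1) (hna : ¬ IsMulCommutative Q) :
    ∃ H : Subgroup Q, Nat.card H = p ^ 3 ∧ ¬ IsMulCommutative H := by
  have hpp := hp.out
  -- a non-central element that is central modulo the centre
  haveI : Nontrivial (Q ⧸ Subgroup.center Q) := by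
    by_contra hcon
    rw [not_nontrivial_iff_subsingleton] at hcon
    apply hna
    haveI : IsCyclic (Q ⧸ Subgroup.center Q) := isCyclic_of_subsingleton
    exact MonoidHom.isMulCommutative_of_isCyclic_of_ker_le_center
      (QuotientGroup.mk' (Subgroup.center Q)) (by rw [QuotientGroup.ker_mk'])
  have hQZ : IsPGroup p (Q ⧸ Subgroup.center Q) := hQ.to_quotient _
  haveI := hQZ.center_nontrivial
  obtain ⟨⟨ybar, hybar⟩, hne⟩ := exists_ne (1 : Subgroup.center (Q ⧸ Subgroup.center Q))
  obtain ⟨y, rfl⟩ := QuotientGroup.mk_surjective ybar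
  have hyZ : y ∉ Subgroup.center Q := by
    intro h
    apply hne
    apply Subtype.ext
    exact (QuotientGroup.eq_one_iff y).2 h
  have hcomm : ∀ g : Q, g * y * g⁻¹ * y⁻¹ ∈ Subgroup.center Q := by
    intro g
    rw [← QuotientGroup.eq_one_iff]
    rw [Subgroup.mem_center_iff] at hybar
    have := hybar (QuotientGroup.mk g)
    simp only [QuotientGroup.mk_mul, QuotientGroup.mk_inv]
    rw [this]; group
  obtain ⟨x, hxy⟩ : ∃ x : Q, x * y ≠ y * x := by
    by_contra hcon
    push Not at hcon
    exact hyZ (Subgroup.mem_center_iff.2 hcon)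
  obtain ⟨c, hc⟩ : ∃ c : Q, c = x * y * x⁻¹ * y⁻¹ := ⟨_, rfl⟩
  have hcZ : c ∈ Subgroup.center Q := by rw [hc]; exact hcomm x
  have hc1 : c ≠ 1 := by
    intro h
    apply hxy
    have : x * y = (x * y * x⁻¹ * y⁻¹) * (y * x) := by group
    rw [this, ← hc, h, one_mul]
  have hcomm_c : ∀ g : Q, g * c = c * g := Subgroup.mem_center_iff.1 hcZ
  have hco : orderOf c = p := orderOf_eq_prime (hexp c) hc1
  have hconj_y : x * y * x⁻¹ = c * y := by rw [hc]; group
  -- K = ⟨y⟩⟨c⟩
  have hcN : (Subgroup.zpowers c).Normal := by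
    refine ⟨fun n hn g => ?_⟩
    obtain ⟨k, rfl⟩ := Subgroup.mem_zpowers_iff.1 hn
    have : g * c ^ k * g⁻¹ = c ^ k := by
      have hcg : Commute g c := hcomm_c g
      rw [(hcg.zpow_right k).eq, mul_inv_cancel_right]
    rw [this]; exact Subgroup.zpow_mem _ (Subgroup.mem_zpowers _) _
  obtain ⟨K, hK⟩ : ∃ K : Subgroup Q, K = Subgroup.zpowers y ⊔ Subgroup.zpowers c := ⟨_, rfl⟩
  have hyK : y ∈ K := by rw [hK]; exact Subgroup.mem_sup_left (Subgroup.mem_zpowers _)
  have hcK : c ∈ K := by rw [hK]; exact Subgroup.mem_sup_right (Subgroup.mem_zpowers _)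
  have hKcard : Nat.card K = p ^ 2 := by
    rw [hK, card_zpowers_sup_prime (p := p) (Subgroup.zpowers c) y, Nat.card_zpowers, hco, pow_two]
    · rw [Subgroup.normalizer_eq_top_iff.2 hcN]; trivial
    · intro h
      apply hyZ
      obtain ⟨k, rfl⟩ := Subgroup.mem_zpowers_iff.1 h
      exact Subgroup.zpow_mem _ hcZ _
    · rw [hexp y]; exact Subgroup.one_mem _
  have hKcent : K ≤ Subgroup.centralizer {y} := by
    rw [hK]
    refine sup_le ?_ ?_
    · rw [Subgroup.zpowers_le, Subgroup.mem_centralizer_singleton_iff]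
    · rw [Subgroup.zpowers_le, Subgroup.mem_centralizer_singleton_iff]
      exact (hcomm_c y).symm
  have hxK : x ∉ K := by
    intro h
    have := hKcent h
    rw [Subgroup.mem_centralizer_singleton_iff] at this
    exact hxy this
  have hxN : x ∈ Subgroup.normalizer (K : Set Q) := by
    apply mem_normalizer_of_conj_mem
    intro k hk
    have h1 : K.map (MulAut.conj x).toMonoidHom ≤ K := by
      rw [hK, Subgroup.map_sup, MonoidHom.map_zpowers, MonoidHom.map_zpowers]
      refine sup_le ?_ ?_
      · rw [Subgroup.zpowers_le]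
        show x * y * x⁻¹ ∈ _
        rw [hconj_y, ← hK]
        exact K.mul_mem hcK hyK
      · rw [Subgroup.zpowers_le]
        show x * c * x⁻¹ ∈ _
        rw [hcomm_c x, mul_inv_cancel_right, ← hK]
        exact hcK
    exact h1 (Subgroup.mem_map.2 ⟨k, hk, rfl⟩)
  refine ⟨Subgroup.zpowers x ⊔ K, ?_, ?_⟩
  · rw [card_zpowers_sup_prime (p := p) K x hxN hxK (by rw [hexp x]; exact K.one_mem), hKcard]
    ring
  · intro hcomm'
    apply hxy
    have hx : x ∈ Subgroup.zpowers x ⊔ K := Subgroup.mem_sup_left (Subgroup.mem_zpowers _)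
    have hy : y ∈ Subgroup.zpowers x ⊔ K := Subgroup.mem_sup_right hyK
    exact congrArg Subtype.val (hcomm'.is_comm.comm ⟨x, hx⟩ ⟨y, hy⟩)

/-- in a `p`-group of order at least `p ^ 4` with a normal elementary abelian subgroup of order
`p ^ 2`, all of whose elements have order dividing `p`, there is an abelian subgroup of order
`p ^ 3` -/
theorem exists_abelian_cube {Q : Type*} [Group Q] [Finite Q] {p : ℕ} [hp : Fact p.Prime]
    (hQ : IsPGroup p Q) (hexp : ∀ g : Q, g ^ p = 1) (k : ℕ) (hk : 4 ≤ k)
    (hcard : Nat.card Q = p ^ k) (E : Subgroup Q) [hEn : E.Normal] (hEc : IsMulCommutative E)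
    (hEcard : Nat.card E = p ^ 2) :
    ∃ A : Subgroup Q, Nat.card A = p ^ 3 ∧ IsMulCommutative A := by
  have hpp := hp.out
  have hidx := index_centralizer_dvd_prime hQ E hEc (fun e _ => hexp e) hEcard
  have h1 := Subgroup.card_mul_index (Subgroup.centralizer (E : Set Q))
  rw [hcard] at h1
  obtain ⟨g, hgC, hgE⟩ : ∃ g ∈ Subgroup.centralizer (E : Set Q), g ∉ E := by
    by_contra hcon
    push Not at hcon
    have h2 := Subgroup.card_le_of_le (show Subgroup.centralizer (E : Set Q) ≤ E from hcon)
    rw [hEcard] at h2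
    have h3 := Nat.le_of_dvd hpp.pos hidx
    have h4 : p ^ k ≤ p ^ 2 * p := by
      rw [← h1]; exact Nat.mul_le_mul h2 h3
    rw [← pow_succ] at h4
    have := (Nat.pow_le_pow_iff_right hpp.one_lt).1 h4
    omega
  refine ⟨Subgroup.zpowers g ⊔ E, ?_, ?_⟩
  · rw [card_zpowers_sup_prime (p := p) E g (by
      rw [Subgroup.normalizer_eq_top_iff.2 hEn]; trivial) hgE
      (by rw [hexp g]; exact E.one_mem), hEcard]
    ring
  · have hle : Subgroup.zpowers g ⊔ E ≤ Subgroup.closure (insert g (E : Set Q)) := by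
      refine sup_le ?_ ?_
      · rw [Subgroup.zpowers_le]; exact Subgroup.subset_closure (Set.mem_insert _ _)
      · intro e he; exact Subgroup.subset_closure (Set.mem_insert_of_mem _ he)
    have hcl : IsMulCommutative (Subgroup.closure (insert g (E : Set Q))) := by
      apply Subgroup.isMulCommutative_closure
      rw [Subgroup.mem_centralizer_iff] at hgC
      intro a ha b hb
      rcases ha with rfl | ha <;> rcases hb with rfl | hb
      · rfl
      · exact (hgC b hb).symm
      · exact hgC a ha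
      · exact congrArg Subtype.val (hEc.is_comm.comm ⟨a, ha⟩ ⟨b, hb⟩)
    refine ⟨⟨fun a b => Subtype.ext ?_⟩⟩
    have := congrArg Subtype.val (hcl.is_comm.comm ⟨a, hle a.2⟩ ⟨b, hle b.2⟩)
    exact this

end Cfsg.Agent.Lib.Helper6
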