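import Mathlib

set_option autoImplicit false
open scoped LinearAlgebra.Projectivization MatrixGroups
open Matrix Projectivization

namespace Cfsg.Agent.Lib.Helper6

section Core

variable {α : Type*} [DecidableEq α] (inf : α) [Field {x : α // x ≠ inf}]

/-- affine coordinate map to the projective line -/
noncomputable def eta (z : α) : ℙ {x : α // x ≠ inf} (Fin 2 → {x : α // x ≠ inf}) :=
  if h : z = inf then
    Projectivization.mk _ ![1, 0] (fun h0 => one_ne_zero (congrFun h0 0))
  else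
    Projectivization.mk _ ![⟨z, h⟩, 1] (fun h0 => one_ne_zero (congrFun h0 1))

theorem eta_inf : eta inf inf =
    Projectivization.mk _ ![1, 0] (fun h0 => one_ne_zero (congrFun h0 0)) := by
  simp [eta]

theorem eta_coe (z : {x : α // x ≠ inf}) : eta inf (z : α) =
    Projectivization.mk _ ![z, 1] (fun h0 => one_ne_zero (congrFun h0 1)) := by
  simp [eta, z.2]

theorem eta_injective : Function.Injective (eta inf) := by
  intro z z' h
  by_cases hz : z = inf
  · by_cases hz' : z' = inf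
    · rw [hz, hz']
    · exfalso
      subst hz
      rw [eta_inf, show z' = ((⟨z', hz'⟩ : {x : α // x ≠ z}) : α) from rfl, eta_coe,
        Projectivization.mk_eq_mk_iff'] at h
      obtain ⟨a, ha⟩ := h
      have h0 := congrFun ha 0
      have h1 := congrFun ha 1
      simp at h0 h1
      rw [h1] at h0
      simp at h0
  · by_cases hz' : z' = inf
    · exfalso
      subst hz'
      rw [eta_inf, show z = ((⟨z, hz⟩ : {x : α // x ≠ z'}) : α) from rfl, eta_coe,
        Projectivization.mk_eq_mk_iff'] at h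
      obtain ⟨a, ha⟩ := h
      have h0 := congrFun ha 0
      have h1 := congrFun ha 1
      simp at h0 h1
    · rw [show z = ((⟨z, hz⟩ : {x : α // x ≠ inf}) : α) from rfl,
        show z' = ((⟨z', hz'⟩ : {x : α // x ≠ inf}) : α) from rfl, eta_coe, eta_coe,
        Projectivization.mk_eq_mk_iff'] at h
      obtain ⟨a, ha⟩ := h
      have h0 := congrFun ha 0
      have h1 := congrFun ha 1
      simp at h0 h1
      rw [h1, one_mul] at h0
      exact (congrArg Subtype.val h0).symm

theorem eta_bijective [Fintype α] : Function.Bijective (eta inf) := by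
  haveI : Fintype (ℙ {x : α // x ≠ inf} (Fin 2 → {x : α // x ≠ inf})) := Fintype.ofFinite _
  rw [Fintype.bijective_iff_injective_and_card]
  refine ⟨eta_injective inf, ?_⟩
  rw [← Nat.card_eq_fintype_card (α := ℙ _ _),
    Projectivization.card_of_finrank_two _ _ (by simp), Nat.card_eq_fintype_card]
  have h1 : Fintype.card {x : α // x ≠ inf} = Fintype.card α - 1 := by
    rw [Fintype.card_subtype_compl, Fintype.card_subtype_eq]
  have h2 : 0 < Fintype.card α := Fintype.card_pos_iff.mpr ⟨inf⟩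
  omega

/-- the coordinate bijection -/
noncomputable def etaE [Fintype α] : α ≃ ℙ {x : α // x ≠ inf} (Fin 2 → {x : α // x ≠ inf}) :=
  Equiv.ofBijective (eta inf) (eta_bijective inf)

/-- the action of `PGL(2,K)` on `α` -/
noncomputable def pglHom [Fintype α] : Matrix.ProjGenLinGroup (Fin 2) {x : α // x ≠ inf} →* Equiv.Perm α :=
  (Equiv.permCongrHom (etaE inf).symm).toMonoidHom.comp
    (MulAction.toPermHom (Matrix.ProjGenLinGroup (Fin 2) {x : α // x ≠ inf})
      (ℙ {x : α // x ≠ inf} (Fin 2 → {x : α // x ≠ inf})))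

theorem pglHom_eq [Fintype α] (π : Equiv.Perm α) (M : GL (Fin 2) {x : α // x ≠ inf})
    (h : ∀ z, eta inf (π z) = M • eta inf z) :
    pglHom inf (Matrix.ProjGenLinGroup.mk M) = π := by
  ext z
  apply (etaE inf).injective
  show (etaE inf) ((etaE inf).symm _) = _
  rw [Equiv.apply_symm_apply]
  show _ = eta inf (π z)
  rw [h]
  rfl

theorem affine_mem_range [Fintype α] (π : Equiv.Perm α) (a b : {x : α // x ≠ inf}) (ha : a ≠ 0)
    (hinf : π inf = inf) (hπ : ∀ x : {x : α // x ≠ inf}, π x = ((x * a + b : {x : α // x ≠ inf}) : α)) :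
    π ∈ (pglHom inf).range := by
  refine ⟨Matrix.ProjGenLinGroup.mk
    (Matrix.GeneralLinearGroup.mkOfDetNeZero !![a, b; 0, 1] (by simp [Matrix.det_fin_two, ha])), ?_⟩
  apply pglHom_eq
  intro z
  by_cases hz : z = inf
  · subst hz
    rw [hinf, eta_inf, Projectivization.smul_mk, Projectivization.mk_eq_mk_iff']
    refine ⟨a⁻¹, ?_⟩
    funext i
    fin_cases i
    · show a⁻¹ * ((!![a, b; 0, 1] : Matrix (Fin 2) (Fin 2) _) *ᵥ ![1, 0]) 0 = 1
      simp [Matrix.mulVec, dotProduct, Fin.sum_univ_two, ha]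
    · show a⁻¹ * ((!![a, b; 0, 1] : Matrix (Fin 2) (Fin 2) _) *ᵥ ![1, 0]) 1 = 0
      simp [Matrix.mulVec, dotProduct, Fin.sum_univ_two]
  · rw [show z = ((⟨z, hz⟩ : {x : α // x ≠ inf}) : α) from rfl, hπ, eta_coe, eta_coe,
      Projectivization.smul_mk, Projectivization.mk_eq_mk_iff']
    refine ⟨1, ?_⟩
    rw [one_smul]
    funext i
    fin_cases i
    · show ((!![a, b; 0, 1] : Matrix (Fin 2) (Fin 2) _) *ᵥ ![⟨z, hz⟩, 1]) 0 = ⟨z, hz⟩ * a + b
      simp [Matrix.mulVec, dotProduct, Fin.sum_univ_two, mul_comm]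
    · show ((!![a, b; 0, 1] : Matrix (Fin 2) (Fin 2) _) *ᵥ ![⟨z, hz⟩, 1]) 1 = 1
      simp [Matrix.mulVec, dotProduct, Fin.sum_univ_two]

theorem swap_mem_range [Fintype α] (t : Equiv.Perm α)
    (h1 : t inf = ((0 : {x : α // x ≠ inf}) : α)) (h2 : t ((0 : {x : α // x ≠ inf}) : α) = inf)
    (h3 : ∀ x : {x : α // x ≠ inf}, x ≠ 0 → t x = ((x⁻¹ : {x : α // x ≠ inf}) : α)) :
    t ∈ (pglHom inf).range := by
  refine ⟨Matrix.ProjGenLinGroup.mk
    (Matrix.GeneralLinearGroup.mkOfDetNeZero !![0, 1; 1, 0] (by simp [Matrix.det_fin_two])), ?_⟩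
  apply pglHom_eq
  intro z
  by_cases hz : z = inf
  · subst hz
    rw [h1, eta_inf, eta_coe, Projectivization.smul_mk, Projectivization.mk_eq_mk_iff']
    refine ⟨1, ?_⟩
    rw [one_smul]
    funext i
    fin_cases i
    · show ((!![0, 1; 1, 0] : Matrix (Fin 2) (Fin 2) _) *ᵥ ![1, 0]) 0 = 0
      simp [Matrix.mulVec, dotProduct, Fin.sum_univ_two]
    · show ((!![0, 1; 1, 0] : Matrix (Fin 2) (Fin 2) _) *ᵥ ![1, 0]) 1 = 1
      simp [Matrix.mulVec, dotProduct, Fin.sum_univ_two]
  · obtain ⟨w, hw⟩ : ∃ w : {x : α // x ≠ inf}, (w : α) = z := ⟨⟨z, hz⟩, rfl⟩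
    subst hw
    by_cases hw0 : w = 0
    · subst hw0
      rw [h2, eta_inf, eta_coe, Projectivization.smul_mk, Projectivization.mk_eq_mk_iff']
      refine ⟨1, ?_⟩
      rw [one_smul]
      funext i
      fin_cases i
      · show ((!![0, 1; 1, 0] : Matrix (Fin 2) (Fin 2) _) *ᵥ ![0, 1]) 0 = 1
        simp [Matrix.mulVec, dotProduct, Fin.sum_univ_two]
      · show ((!![0, 1; 1, 0] : Matrix (Fin 2) (Fin 2) _) *ᵥ ![0, 1]) 1 = 0
        simp [Matrix.mulVec, dotProduct, Fin.sum_univ_two]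
    · rw [h3 w hw0, eta_coe, eta_coe, Projectivization.smul_mk, Projectivization.mk_eq_mk_iff']
      refine ⟨w⁻¹, ?_⟩
      funext i
      fin_cases i
      · show w⁻¹ * ((!![0, 1; 1, 0] : Matrix (Fin 2) (Fin 2) _) *ᵥ ![w, 1]) 0 = w⁻¹
        simp [Matrix.mulVec, dotProduct, Fin.sum_univ_two]
      · show w⁻¹ * ((!![0, 1; 1, 0] : Matrix (Fin 2) (Fin 2) _) *ᵥ ![w, 1]) 1 = 1
        simp [Matrix.mulVec, dotProduct, Fin.sum_univ_two, hw0]

theorem card_PGL2 (K : Type*) [Field K] [Fintype K] :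
    Nat.card (Matrix.ProjGenLinGroup (Fin 2) K) =
      (Fintype.card K + 1) * Fintype.card K * (Fintype.card K - 1) := by
  have h1 := Subgroup.card_eq_card_quotient_mul_card_subgroup (Subgroup.center (GL (Fin 2) K))
  have h2 : Nat.card (Subgroup.center (GL (Fin 2) K)) = Fintype.card K - 1 := by
    rw [Matrix.GeneralLinearGroup.center_eq_range_scalar]
    have hinj : Function.Injective (Matrix.GeneralLinearGroup.scalar (Fin 2) (R := K)) := by
      intro u v huv
      have := congrArg (fun M : GL (Fin 2) K => M.1 0 0) huv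
      ext
      simpa using this
    rw [← Nat.card_congr (MonoidHom.ofInjective hinj).toEquiv, Nat.card_units, Nat.card_eq_fintype_card]
  have h3 := Matrix.card_GL_field (𝔽 := K) 2
  rw [Fin.prod_univ_two] at h3
  simp only [Fin.val_zero, pow_zero, Fin.val_one, pow_one] at h3
  have hq : 2 ≤ Fintype.card K := Fintype.one_lt_card
  have h4 : Nat.card (Matrix.ProjGenLinGroup (Fin 2) K) * (Fintype.card K - 1) =
      ((Fintype.card K + 1) * Fintype.card K * (Fintype.card K - 1)) * (Fintype.card K - 1) := by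
    have : Nat.card (Matrix.ProjGenLinGroup (Fin 2) K) = Nat.card (GL (Fin 2) K ⧸ Subgroup.center (GL (Fin 2) K)) := rfl
    rw [this, ← h2, ← h1, h3, h2]
    obtain ⟨q, hq'⟩ : ∃ q, Fintype.card K = q + 2 := ⟨Fintype.card K - 2, by omega⟩
    rw [hq']
    have e1 : (q + 2) ^ 2 - 1 = (q + 1) * (q + 3) := by
      have : (q + 2) ^ 2 = (q + 1) * (q + 3) + 1 := by ring
      omega
    have e2 : (q + 2) ^ 2 - (q + 2) = (q + 2) * (q + 1) := by
      have : (q + 2) ^ 2 = (q + 2) * (q + 1) + (q + 2) := by ring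
      omega
    rw [e1, e2]
    have e3 : q + 2 - 1 = q + 1 := by omega
    rw [e3]
    ring
  exact Nat.eq_of_mul_eq_mul_right (by omega) h4

theorem core_iso [Fintype α] (G : Subgroup (Equiv.Perm α))
    (hA : ∀ a b : {x : α // x ≠ inf}, a ≠ 0 → ∃ g ∈ G, g inf = inf ∧
      ∀ x : {x : α // x ≠ inf}, g x = ((x * a + b : {x : α // x ≠ inf}) : α))
    (hA' : ∀ g ∈ G, g inf = inf → ∃ a b : {x : α // x ≠ inf}, a ≠ 0 ∧
      ∀ x : {x : α // x ≠ inf}, g x = ((x * a + b : {x : α // x ≠ inf}) : α))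
    (t : Equiv.Perm α) (htG : t ∈ G)
    (h1 : t inf = ((0 : {x : α // x ≠ inf}) : α)) (h2 : t ((0 : {x : α // x ≠ inf}) : α) = inf)
    (h3 : ∀ x : {x : α // x ≠ inf}, x ≠ 0 → t x = ((x⁻¹ : {x : α // x ≠ inf}) : α))
    (hcard : Nat.card G = (Fintype.card {x : α // x ≠ inf} + 1) * Fintype.card {x : α // x ≠ inf} *
      (Fintype.card {x : α // x ≠ inf} - 1)) :
    Nonempty (G ≃* Matrix.ProjGenLinGroup (Fin 2) {x : α // x ≠ inf}) := by
  haveI : Finite (Matrix.ProjGenLinGroup (Fin 2) {x : α // x ≠ inf}) := by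
    unfold Matrix.ProjGenLinGroup; infer_instance
  have hfix : ∀ g ∈ G, g inf = inf → g ∈ (pglHom inf).range := by
    intro g hg hgi
    obtain ⟨a, b, ha, hπ⟩ := hA' g hg hgi
    exact affine_mem_range inf g a b ha hgi hπ
  have htr : t ∈ (pglHom inf).range := swap_mem_range inf t h1 h2 h3
  have hle : G ≤ (pglHom inf).range := by
    intro g hg
    by_cases hgi : g inf = inf
    · exact hfix g hg hgi
    · have hc : g⁻¹ inf ≠ inf := by
        intro h
        apply hgi
        have := congrArg g h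
        simpa using this.symm
      obtain ⟨c, hcc⟩ : ∃ c : {x : α // x ≠ inf}, (c : α) = g⁻¹ inf := ⟨⟨_, hc⟩, rfl⟩
      obtain ⟨τ, hτG, hτinf, hτ⟩ := hA 1 (-c) one_ne_zero
      have hτc : τ c = ((0 : {x : α // x ≠ inf}) : α) := by
        rw [hτ]; congr 1; ring
      have hh : g * τ⁻¹ * t⁻¹ ∈ (pglHom inf).range := by
        apply hfix _ (G.mul_mem (G.mul_mem hg (G.inv_mem hτG)) (G.inv_mem htG))
        show g (τ⁻¹ (t⁻¹ inf)) = inf
        have e1 : t⁻¹ inf = ((0 : {x : α // x ≠ inf}) : α) := by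
          rw [Equiv.Perm.inv_eq_iff_eq]; exact h2.symm
        have e2 : τ⁻¹ ((0 : {x : α // x ≠ inf}) : α) = c := by
          rw [Equiv.Perm.inv_eq_iff_eq]; exact hτc.symm
        rw [e1, e2, hcc]; simp
      have hτr : τ ∈ (pglHom inf).range := hfix τ hτG hτinf
      have : g = g * τ⁻¹ * t⁻¹ * t * τ := by group
      rw [this]
      exact Subgroup.mul_mem _ (Subgroup.mul_mem _ hh htr) hτr
  have hc1 : Nat.card (pglHom inf).range ≤ Nat.card G := by
    rw [hcard, ← card_PGL2]
    exact Nat.le_of_dvd Nat.card_pos (Subgroup.card_range_dvd _)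
  have hGr : G = (pglHom inf).range := Subgroup.eq_of_le_of_card_ge hle hc1
  have hinj : Function.Injective (pglHom inf) := by
    have hs : Function.Surjective (pglHom inf).rangeRestrict := MonoidHom.rangeRestrict_surjective _
    have hb := hs.bijective_of_nat_card_le (by
      rw [← hGr, hcard, ← card_PGL2])
    intro x y hxy
    apply hb.1
    exact Subtype.ext hxy
  exact ⟨(MulEquiv.subgroupCongr hGr).trans (MonoidHom.ofInjective hinj).symm⟩

end Core

end Cfsg.Agent.Lib.Helper6
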