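import Mathlib
import Cfsg.Prelude.Def_Perm
import Cfsg.Agent.Lib.Helper1.NearFieldBasic
import Cfsg.Agent.Lib.Helper6.NFField
import Cfsg.Agent.Lib.Helper6.PGLCore
import Cfsg.Agent.S0683
import Cfsg.Agent.Lib.Helper1.Sharp
import Cfsg.Agent.Lib.Helper1.Zassenhaus

set_option autoImplicit false

namespace Cfsg.Agent.Lib.Helper6

open Cfsg Cfsg.Agent.Lib.Helper1.NearFieldBasic

section Wrapper

variable {α : Type*}

theorem sharp3_exists (G : Subgroup (Equiv.Perm α))
    (h3 : MulAction.IsMultiplyPretransitive G α 3)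
    {a b c a' b' c' : α} (hab : a ≠ b) (hac : a ≠ c) (hbc : b ≠ c)
    (hab' : a' ≠ b') (hac' : a' ≠ c') (hbc' : b' ≠ c') :
    ∃ g ∈ G, g a = a' ∧ g b = b' ∧ g c = c' := by
  have hinj : Function.Injective ![a, b, c] := by
    intro i j h
    fin_cases i <;> fin_cases j <;> simp_all
  have hinj' : Function.Injective ![a', b', c'] := by
    intro i j h
    fin_cases i <;> fin_cases j <;> simp_all
  obtain ⟨g, hg⟩ := MulAction.exists_smul_eq G (⟨![a, b, c], hinj⟩ : Fin 3 ↪ α)
    (⟨![a', b', c'], hinj'⟩ : Fin 3 ↪ α)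
  refine ⟨g.1, g.2, ?_, ?_, ?_⟩
  · exact DFunLike.congr_fun hg 0
  · exact DFunLike.congr_fun hg 1
  · exact DFunLike.congr_fun hg 2

theorem sharp3_unique (G : Subgroup (Equiv.Perm α))
    (hsharp : ∀ x : Fin 3 ↪ α, MulAction.stabilizer G x = ⊥)
    {g : Equiv.Perm α} (hg : g ∈ G) {a b c : α} (hab : a ≠ b) (hac : a ≠ c) (hbc : b ≠ c)
    (ha : g a = a) (hb : g b = b) (hc : g c = c) : g = 1 := by
  have hinj : Function.Injective ![a, b, c] := by
    intro i j h
    fin_cases i <;> fin_cases j <;> simp_all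
  have hmem : (⟨g, hg⟩ : G) ∈ MulAction.stabilizer G (⟨![a, b, c], hinj⟩ : Fin 3 ↪ α) := by
    rw [MulAction.mem_stabilizer_iff]
    ext i
    fin_cases i
    · exact ha
    · exact hb
    · exact hc
  rw [hsharp, Subgroup.mem_bot] at hmem
  exact congrArg Subtype.val hmem

/-- restriction of the stabilizer of `inf` to the complement -/
def restrictStab (G : Subgroup (Equiv.Perm α)) (inf : α) :
    Subgroup (Equiv.Perm {x : α // x ≠ inf}) where
  carrier := {σ | ∃ g ∈ G, g inf = inf ∧ ∀ x : {x : α // x ≠ inf}, (σ x : α) = g x}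
  one_mem' := ⟨1, G.one_mem, rfl, fun x => rfl⟩
  mul_mem' := by
    rintro σ₁ σ₂ ⟨g₁, hg₁, hi₁, h₁⟩ ⟨g₂, hg₂, hi₂, h₂⟩
    refine ⟨g₁ * g₂, G.mul_mem hg₁ hg₂, by simp [hi₁, hi₂], fun x => ?_⟩
    show ((σ₁ (σ₂ x)) : α) = g₁ (g₂ x)
    rw [h₁, h₂]
  inv_mem' := by
    rintro σ ⟨g, hg, hi, h⟩
    refine ⟨g⁻¹, G.inv_mem hg, by rw [Equiv.Perm.inv_eq_iff_eq]; exact hi.symm, fun x => ?_⟩
    rw [Equiv.Perm.eq_inv_iff_eq, ← h]
    simp

theorem mem_restrictStab (G : Subgroup (Equiv.Perm α)) (inf : α)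
    (σ : Equiv.Perm {x : α // x ≠ inf}) :
    σ ∈ restrictStab G inf ↔ ∃ g ∈ G, g inf = inf ∧ ∀ x : {x : α // x ≠ inf}, (σ x : α) = g x :=
  Iff.rfl

theorem exists_restrict (G : Subgroup (Equiv.Perm α)) (inf : α) {g : Equiv.Perm α} (hg : g ∈ G)
    (hi : g inf = inf) :
    ∃ σ ∈ restrictStab G inf, ∀ x : {x : α // x ≠ inf}, (σ x : α) = g x := by
  have h : ∀ x, g x ≠ inf ↔ x ≠ inf := by
    intro x
    rw [not_iff_not]
    constructor
    · intro hx
      rw [← hi] at hx
      exact g.injective hx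
    · intro hx
      rw [hx, hi]
  exact ⟨g.subtypePerm h, ⟨g, hg, hi, fun x => rfl⟩, fun x => rfl⟩

theorem restrictStab_two_pretransitive (G : Subgroup (Equiv.Perm α)) (inf : α)
    (h3 : MulAction.IsMultiplyPretransitive G α 3) :
    MulAction.IsMultiplyPretransitive (restrictStab G inf) {x : α // x ≠ inf} 2 := by
  rw [MulAction.is_two_pretransitive_iff]
  intro a b c d hab hcd
  obtain ⟨g, hg, h1, h2, h3'⟩ := sharp3_exists G h3 (a := inf) (b := a) (c := b)
    (a' := inf) (b' := c) (c' := d) (fun h => a.2 h.symm) (fun h => b.2 h.symm)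
    (fun h => hab (Subtype.ext h)) (fun h => c.2 h.symm) (fun h => d.2 h.symm)
    (fun h => hcd (Subtype.ext h))
  obtain ⟨σ, hσ, hσg⟩ := exists_restrict G inf hg h1
  refine ⟨⟨σ, hσ⟩, ?_, ?_⟩
  · apply Subtype.ext
    show (σ a : α) = c
    rw [hσg, h2]
  · apply Subtype.ext
    show (σ b : α) = d
    rw [hσg, h3']

theorem restrictStab_sharp (G : Subgroup (Equiv.Perm α)) (inf : α)
    (hsharp : ∀ x : Fin 3 ↪ α, MulAction.stabilizer G x = ⊥)
    (x : Fin 2 ↪ {x : α // x ≠ inf}) :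
    MulAction.stabilizer (restrictStab G inf) x = ⊥ := by
  rw [eq_bot_iff]
  rintro ⟨σ, g, hg, hi, hσ⟩ hmem
  rw [MulAction.mem_stabilizer_iff] at hmem
  have h0 : σ (x 0) = x 0 := DFunLike.congr_fun hmem 0
  have h1 : σ (x 1) = x 1 := DFunLike.congr_fun hmem 1
  have hg1 : g = 1 := by
    apply sharp3_unique G hsharp hg (a := inf) (b := x 0) (c := x 1)
      (fun h => (x 0).2 h.symm) (fun h => (x 1).2 h.symm) ?_ hi
    · rw [← hσ, h0]
    · rw [← hσ, h1]
    · intro h
      have := x.injective (Subtype.ext h)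
      exact absurd this (by decide)
  rw [Subgroup.mem_bot]
  apply Subtype.ext
  ext y
  show (σ y : α) = y
  rw [hσ, hg1]
  rfl

theorem pgl2_of_sharp3_even [Fintype α] [DecidableEq α] {f : ℕ} (hf : 1 ≤ f)
    (hα : Fintype.card α = 2 ^ f + 1)
    (G : Subgroup (Equiv.Perm α)) (h3 : MulAction.IsMultiplyPretransitive G α 3)
    (hsharp : ∀ x : Fin 3 ↪ α, MulAction.stabilizer G x = ⊥) :
    ∃ (inf : α) (_ : Field {x : α // x ≠ inf}), Fintype.card {x : α // x ≠ inf} = 2 ^ f ∧
      Nonempty (G ≃* Matrix.ProjGenLinGroup (Fin 2) {x : α // x ≠ inf}) := by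
  classical
  have hne : Nonempty α := Fintype.card_pos_iff.mp (by rw [hα]; positivity)
  obtain ⟨inf⟩ := hne
  have hcβ : Fintype.card {x : α // x ≠ inf} = 2 ^ f := by
    rw [Fintype.card_subtype_compl, Fintype.card_subtype_eq, hα]; simp
  have h2f : 2 ≤ 2 ^ f := by
    calc 2 = 2 ^ 1 := by norm_num
      _ ≤ 2 ^ f := Nat.pow_le_pow_right (by norm_num) hf
  haveI h2t := restrictStab_two_pretransitive G inf h3
  obtain ⟨nf, hH⟩ := Cfsg.Agent.S0683.result (restrictStab G inf)
    (restrictStab_sharp G inf hsharp) (by rw [hcβ]; exact h2f)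
  have h01 : (0 : {x : α // x ≠ inf}) ≠ 1 := NearField.zero_ne_one
  have hA' : ∀ g ∈ G, g inf = inf → ∃ a b : {x : α // x ≠ inf}, a ≠ 0 ∧
      ∀ x : {x : α // x ≠ inf}, g x = ((x * a + b : {x : α // x ≠ inf}) : α) := by
    intro g hg hi
    obtain ⟨σ, hσ, hσg⟩ := exists_restrict G inf hg hi
    obtain ⟨a, b, ha, hab⟩ := (hH σ).1 hσ
    exact ⟨a, b, ha, fun x => by rw [← hσg, hab]⟩
  have hA : ∀ a b : {x : α // x ≠ inf}, a ≠ 0 → ∃ g ∈ G, g inf = inf ∧
      ∀ x : {x : α // x ≠ inf}, g x = ((x * a + b : {x : α // x ≠ inf}) : α) := by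
    intro a b ha
    have hne : b ≠ a + b := by
      intro h
      apply ha
      have h' : 0 + b = a + b := by rw [zero_add]; exact h
      exact (add_right_cancel h').symm
    obtain ⟨⟨σ, hσ⟩, h0, h1⟩ := (MulAction.is_two_pretransitive_iff.1 h2t) h01 hne
    replace h0 : σ 0 = b := h0
    replace h1 : σ 1 = a + b := h1
    obtain ⟨a', b', ha', hab'⟩ := (hH σ).1 hσ
    have hb' : b' = b := by
      have := hab' 0
      rw [nf_zero_mul, zero_add] at this
      rw [← this]; exact h0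
    have ha'' : a' = a := by
      have := hab' 1
      rw [one_mul, hb'] at this
      exact add_right_cancel (this.symm.trans h1)
    obtain ⟨g, hg, hi, hσg⟩ := hσ
    exact ⟨g, hg, hi, fun x => by rw [← hσg, hab', ha'', hb']⟩
  -- the involution
  have hz1 : ((0 : {x : α // x ≠ inf}) : α) ≠ ((1 : {x : α // x ≠ inf}) : α) :=
    fun h => h01 (Subtype.ext h)
  obtain ⟨t, htG, ht1, ht2, ht3⟩ := sharp3_exists G h3 (a := inf)
    (b := ((0 : {x : α // x ≠ inf}) : α)) (c := ((1 : {x : α // x ≠ inf}) : α))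
    (a' := ((0 : {x : α // x ≠ inf}) : α)) (b' := inf) (c' := ((1 : {x : α // x ≠ inf}) : α))
    (fun h => (0 : {x : α // x ≠ inf}).2 h.symm) (fun h => (1 : {x : α // x ≠ inf}).2 h.symm) hz1
    (0 : {x : α // x ≠ inf}).2 hz1 (fun h => (1 : {x : α // x ≠ inf}).2 h.symm)
  have htt : t * t = 1 := by
    apply sharp3_unique G hsharp (G.mul_mem htG htG) (a := inf)
      (b := ((0 : {x : α // x ≠ inf}) : α)) (c := ((1 : {x : α // x ≠ inf}) : α))
      (fun h => (0 : {x : α // x ≠ inf}).2 h.symm) (fun h => (1 : {x : α // x ≠ inf}).2 h.symm) hz1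
    · show t (t inf) = inf
      rw [ht1, ht2]
    · show t (t _) = _
      rw [ht2, ht1]
    · show t (t _) = _
      rw [ht3, ht3]
  have htt' : ∀ z, t (t z) = z := fun z => by
    have := congrArg (fun p : Equiv.Perm α => p z) htt
    exact this
  have htne : t ≠ 1 := by
    intro h
    rw [h] at ht1
    exact (0 : {x : α // x ≠ inf}).2 ht1.symm
  have htinf : ∀ z, t z = inf ↔ z = ((0 : {x : α // x ≠ inf}) : α) := by
    intro z
    constructor
    · intro h
      rw [← ht2] at h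
      exact t.injective h
    · intro h
      rw [h, ht2]
  have htzero : ∀ z, t z = ((0 : {x : α // x ≠ inf}) : α) ↔ z = inf := by
    intro z
    constructor
    · intro h
      rw [← ht1] at h
      exact t.injective h
    · intro h
      rw [h, ht1]
  obtain ⟨tt, htt_def⟩ : ∃ tt : {x : α // x ≠ inf} → {x : α // x ≠ inf},
      tt = fun x : {x : α // x ≠ inf} => if h : t (x : α) = inf then (0 : {x : α // x ≠ inf}) else (⟨t x, h⟩ : {x : α // x ≠ inf}) := ⟨_, rfl⟩
  have hT1 : ∀ x : {x : α // x ≠ inf}, x ≠ 0 → (tt x : α) = t x := by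
    intro x hx
    have : ¬ t x = inf := by
      rw [htinf]
      intro h
      exact hx (Subtype.ext h)
    rw [htt_def]
    simp only [dif_neg this]
  have hT2 : tt 0 = 0 := by
    rw [htt_def]
    simp only [dif_pos ht2]
  have hT3 : ∀ x : {x : α // x ≠ inf}, x ≠ 0 → tt x ≠ 0 := by
    intro x hx h
    have h1 := hT1 x hx
    rw [h] at h1
    exact x.2 ((htzero _).1 h1.symm)
  have hT4 : ∀ x, tt (tt x) = x := by
    intro x
    by_cases hx : x = 0
    · rw [hx, hT2, hT2]
    · apply Subtype.ext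
      rw [hT1 _ (hT3 x hx), hT1 x hx, htt']
  have hT5 : tt 1 = 1 := by
    apply Subtype.ext
    rw [hT1 1 h01.symm, ht3]
  have hT6 : ∀ x a, tt (x * a) = tt x * tt a := by
    intro x a
    by_cases hx : x = 0
    · rw [hx, nf_zero_mul, hT2, nf_zero_mul]
    by_cases ha : a = 0
    · rw [ha, NearField.mul_zero, hT2, NearField.mul_zero]
    obtain ⟨g, hg, hgi, hgx⟩ := hA a 0 ha
    have hsG : t * g * t ∈ G := G.mul_mem (G.mul_mem htG hg) htG
    have hsinf : (t * g * t) inf = inf := by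
      show t (g (t inf)) = inf
      rw [ht1, hgx, nf_zero_mul, zero_add, ht2]
    obtain ⟨a', b', ha', hs⟩ := hA' _ hsG hsinf
    have hs0 : (t * g * t) ((0 : {x : α // x ≠ inf}) : α) = ((0 : {x : α // x ≠ inf}) : α) := by
      show t (g (t _)) = _
      rw [ht2, hgi, ht1]
    have hb' : b' = 0 := by
      have := hs 0
      rw [hs0, nf_zero_mul, zero_add] at this
      exact (Subtype.ext this).symm
    have hs1 : (t * g * t) ((1 : {x : α // x ≠ inf}) : α) = (tt a : α) := by
      show t (g (t _)) = _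
      rw [ht3, hgx, one_mul, add_zero, hT1 a ha]
    have ha'' : a' = tt a := by
      have := hs 1
      rw [hs1, one_mul, hb', add_zero] at this
      exact (Subtype.ext this).symm
    have hxa : x * a ≠ 0 := nf_mul_ne_zero hx ha
    have e1 : (t * g * t) (tt x : α) = (tt (x * a) : α) := by
      show t (g (t _)) = _
      rw [hT1 x hx, htt', hgx, add_zero, hT1 _ hxa]
    have e2 := hs (tt x)
    rw [e1, ha'', hb', add_zero] at e2
    exact Subtype.ext e2
  have hT7 : ∀ x, tt x = x → x = 0 ∨ x = 1 := by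
    intro x hx
    by_contra hcon
    push Not at hcon
    obtain ⟨hx0, hx1⟩ := hcon
    have hfx : t x = x := by rw [← hT1 x hx0, hx]
    have hx1' : (x : α) ≠ ((1 : {x : α // x ≠ inf}) : α) := fun h => hx1 (Subtype.ext h)
    have hall : ∀ z, t z = z → z = (x : α) ∨ z = ((1 : {x : α // x ≠ inf}) : α) := by
      intro z hz
      by_contra hcon
      push Not at hcon
      exact htne (sharp3_unique G hsharp htG hx1' (fun h => hcon.1 h.symm)
        (fun h => hcon.2 h.symm) hfx ht3 hz)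
    have hset : MulAction.fixedBy α t = {(x : α), ((1 : {x : α // x ≠ inf}) : α)} := by
      ext z
      simp only [MulAction.mem_fixedBy, Set.mem_insert_iff, Set.mem_singleton_iff]
      constructor
      · intro hz
        exact hall z hz
      · rintro (h | h)
        · rw [h]; exact hfx
        · rw [h]; exact ht3
    have hmod := Cfsg.Agent.Lib.Helper1.card_fixedBy_modEq_two (Ω := α) (s := t)
      (by rw [pow_two]; exact htt)
    rw [hset, Nat.card_coe_set_eq, Set.ncard_pair hx1', hα] at hmod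
    have : (2 ^ f + 1) % 2 = 1 := by
      obtain ⟨k, rfl⟩ : ∃ k, f = k + 1 := ⟨f - 1, by omega⟩
      rw [pow_succ]; omega
    unfold Nat.ModEq at hmod
    omega
  obtain ⟨hc, hinv⟩ := nf_comm_of_tt tt hT5 hT6 hT4 hT7
  refine ⟨inf, fieldOfNF nf hc, hcβ, ?_⟩
  letI fld : Field {x : α // x ≠ inf} := fieldOfNF nf hc
  have h3' : ∀ x : {x : α // x ≠ inf}, x ≠ 0 → t x = ((x⁻¹ : {x : α // x ≠ inf}) : α) := by
    intro x hx
    rw [← hT1 x hx]
    congr 1
    exact eq_inv_of_mul_eq_one_left (hinv x hx)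
  have hcard : Nat.card G = (Fintype.card {x : α // x ≠ inf} + 1) *
      Fintype.card {x : α // x ≠ inf} * (Fintype.card {x : α // x ≠ inf} - 1) := by
    rw [Cfsg.Agent.Lib.Helper1.card_of_sharp 3 (by rw [Nat.card_eq_fintype_card, hα]; omega) hsharp,
      Nat.card_eq_fintype_card, Fintype.card_embedding_eq, Fintype.card_fin, hα, hcβ]
    obtain ⟨k, hk⟩ : ∃ k, 2 ^ f = k + 2 := ⟨2 ^ f - 2, by omega⟩
    rw [hk]
    have e1 : k + 2 + 1 - 2 = k + 1 := by omega
    have e2 : k + 2 + 1 - 1 = k + 2 := by omega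
    have e3 : k + 2 - 1 = k + 1 := by omega
    simp only [Nat.descFactorial, e1, e2, e3, Nat.sub_zero]
    ring
  exact core_iso inf G hA hA' t htG ht1 ht2 h3' hcard

end Wrapper

theorem pgl2_transport (K : Type*) [Field K] [Fintype K] (p f : ℕ) [Fact p.Prime] (hf : f ≠ 0)
    (hK : Fintype.card K = p ^ f) :
    ∃ (F : Type) (_ : Field F) (_ : Fintype F), Fintype.card F = p ^ f ∧
      Nonempty (Matrix.ProjGenLinGroup (Fin 2) K ≃* Matrix.ProjGenLinGroup (Fin 2) F) := by
  haveI : Fintype (GaloisField p f) := Fintype.ofFinite _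
  have hc : Fintype.card (GaloisField p f) = p ^ f := by
    rw [← Nat.card_eq_fintype_card]; exact GaloisField.card p f hf
  let e : K ≃+* GaloisField p f := FiniteField.ringEquivOfCardEq (hK.trans hc.symm)
  refine ⟨GaloisField p f, inferInstance, inferInstance, hc, ⟨?_⟩⟩
  have h1 : (Matrix.ProjGenLinGroup.map (n := Fin 2) e.symm.toRingHom).comp
      (Matrix.ProjGenLinGroup.map (n := Fin 2) e.toRingHom) = MonoidHom.id _ := by
    rw [← Matrix.ProjGenLinGroup.map_comp]
    have : e.symm.toRingHom.comp e.toRingHom = RingHom.id K := by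
      ext x; simp
    rw [this, Matrix.ProjGenLinGroup.map_id]
  have h2 : (Matrix.ProjGenLinGroup.map (n := Fin 2) e.toRingHom).comp
      (Matrix.ProjGenLinGroup.map (n := Fin 2) e.symm.toRingHom) = MonoidHom.id _ := by
    rw [← Matrix.ProjGenLinGroup.map_comp]
    have : e.toRingHom.comp e.symm.toRingHom = RingHom.id _ := by
      ext x; simp
    rw [this, Matrix.ProjGenLinGroup.map_id]
  exact
    { toFun := Matrix.ProjGenLinGroup.map e.toRingHom
      invFun := Matrix.ProjGenLinGroup.map e.symm.toRingHom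
      left_inv := fun x => DFunLike.congr_fun h1 x
      right_inv := fun x => DFunLike.congr_fun h2 x
      map_mul' := map_mul _ }

end Cfsg.Agent.Lib.Helper6
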