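import Mathlib
import Cfsg.Agent.Lib.Helper6.PGLRec

set_option autoImplicit false

namespace Cfsg.Agent.Lib.Helper6

open Cfsg

theorem pgl2_of_sharp3_action {G X : Type*} [Group G] [MulAction G X] [Fintype X] [DecidableEq X]
    {f : ℕ} (hf : 1 ≤ f) (hX : Fintype.card X = 2 ^ f + 1)
    (h3 : MulAction.IsMultiplyPretransitive G X 3)
    (hsharp : ∀ x : Fin 3 ↪ X, MulAction.stabilizer G x = ⊥) :
    ∃ (F : Type) (_ : Field F) (_ : Fintype F), Fintype.card F = 2 ^ f ∧
      Nonempty (G ≃* Matrix.ProjGenLinGroup (Fin 2) F) := by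
  have h2f : 2 ≤ 2 ^ f := by
    calc 2 = 2 ^ 1 := by norm_num
      _ ≤ 2 ^ f := Nat.pow_le_pow_right (by norm_num) hf
  have hne : Nonempty (Fin 3 ↪ X) := by
    apply Function.Embedding.nonempty_of_card_le
    rw [Fintype.card_fin, hX]; omega
  obtain ⟨x₀⟩ := hne
  have hinj : Function.Injective (MulAction.toPermHom G X) := by
    rw [injective_iff_map_eq_one]
    intro g hg
    have hmem : g ∈ MulAction.stabilizer G x₀ := by
      rw [MulAction.mem_stabilizer_iff]
      ext i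
      show g • (x₀ i) = x₀ i
      have := congrArg (fun p : Equiv.Perm X => p (x₀ i)) hg
      exact this
    rw [hsharp, Subgroup.mem_bot] at hmem
    exact hmem
  have h3' : MulAction.IsMultiplyPretransitive (MulAction.toPermHom G X).range X 3 := by
    refine ⟨fun x y => ?_⟩
    obtain ⟨g, hg⟩ := MulAction.exists_smul_eq G x y
    refine ⟨⟨MulAction.toPermHom G X g, ⟨g, rfl⟩⟩, ?_⟩
    ext i
    exact DFunLike.congr_fun hg i
  have hsharp' : ∀ x : Fin 3 ↪ X, MulAction.stabilizer (MulAction.toPermHom G X).range x = ⊥ := by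
    intro x
    rw [eq_bot_iff]
    rintro ⟨σ, g, rfl⟩ hmem
    rw [MulAction.mem_stabilizer_iff] at hmem
    have hg : g ∈ MulAction.stabilizer G x := by
      rw [MulAction.mem_stabilizer_iff]
      ext i
      exact DFunLike.congr_fun hmem i
    rw [hsharp, Subgroup.mem_bot] at hg
    rw [Subgroup.mem_bot]
    apply Subtype.ext
    show MulAction.toPermHom G X g = 1
    rw [hg, map_one]
  obtain ⟨inf, fld, hcard, ⟨e⟩⟩ := pgl2_of_sharp3_even hf hX _ h3' hsharp'
  haveI : Fact (Nat.Prime 2) := ⟨Nat.prime_two⟩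
  obtain ⟨F, i1, i2, hF, ⟨e'⟩⟩ := pgl2_transport {x : X // x ≠ inf} 2 f (by omega) hcard
  exact ⟨F, i1, i2, hF, ⟨((MonoidHom.ofInjective hinj).trans e).trans e'⟩⟩

open Matrix in
theorem psl2_equiv_pgl2_of_card (F : Type*) [Field F] [Fintype F] {f : ℕ} (hf : 1 ≤ f)
    (hF : Fintype.card F = 2 ^ f) :
    Nonempty (Matrix.ProjGenLinGroup (Fin 2) F ≃* Matrix.ProjectiveSpecialLinearGroup (Fin 2) F) := by
  have hsurj : Function.Surjective
      (Matrix.ProjectiveSpecialLinearGroup.toPGL (n := Fin 2) (R := F)) := by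
    apply Matrix.ProjectiveSpecialLinearGroup.toPGL_surj_of_roots
    intro r
    refine ⟨r ^ (2 ^ (f - 1)), ?_⟩
    rw [Fintype.card_fin, ← pow_mul]
    have : 2 ^ (f - 1) * 2 = 2 ^ f := by
      obtain ⟨k, rfl⟩ : ∃ k, f = k + 1 := ⟨f - 1, by omega⟩
      rw [Nat.add_sub_cancel, pow_succ]
    rw [this, ← hF]
    apply Units.ext
    rw [Units.val_pow_eq_pow_val, FiniteField.pow_card]
  exact ⟨(MulEquiv.ofBijective _
    ⟨Matrix.ProjectiveSpecialLinearGroup.toPGL_injective, hsurj⟩).symm⟩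

end Cfsg.Agent.Lib.Helper6
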