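import Mathlib
import Cfsg.Agent.Lib.Helper1.PGroupMax
import Cfsg.Agent.Lib.Helper6.AutTwo

set_option autoImplicit false

namespace Cfsg.Agent.Lib.Helper6
open Cfsg.Agent.Lib.Helper1

/-- two nested subgroups of index two coincide -/
theorem eq_of_le_of_index_two {G : Type*} [Group G] {H K : Subgroup G} (hle : H ≤ K)
    (hH : H.index = 2) (hK : K.index = 2) : H = K := by
  have h1 := Subgroup.relIndex_mul_index hle
  rw [hH, hK] at h1
  have h2 : H.relIndex K = 1 := by omega
  exact le_antisymm hle (Subgroup.relIndex_eq_one.1 h2)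

/-- subgroups of index two are maximal -/
theorem isCoatom_of_index_two {G : Type*} [Group G] (H : Subgroup G) (h : H.index = 2) :
    IsCoatom H := by
  refine ⟨?_, ?_⟩
  · intro htop
    rw [htop, Subgroup.index_top] at h
    omega
  · intro K hK
    have h1 := Subgroup.relIndex_mul_index hK.le
    rw [h] at h1
    have h2 : K.index ∣ 2 := ⟨_, by rw [mul_comm]; exact h1.symm⟩
    rcases (Nat.dvd_prime Nat.prime_two).1 h2 with h3 | h3
    · exact Subgroup.index_eq_one.1 h3
    · exfalso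
      rw [h3] at h1
      have h4 : H.relIndex K = 1 := by omega
      exact hK.not_ge (Subgroup.relIndex_eq_one.1 h4)

/-- maximal subgroups of finite `2`-groups have index two -/
theorem index_two_of_isCoatom {G : Type*} [Group G] [Finite G] (hG : IsPGroup 2 G)
    {M : Subgroup G} (hM : IsCoatom M) : M.index = 2 := by
  haveI : Fact (Nat.Prime 2) := ⟨Nat.prime_two⟩
  haveI := coatom_normal_of_isPGroup hG hM
  rw [Subgroup.index_eq_card]
  exact card_quotient_coatom_of_isPGroup hG hM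

/-- for `D` normal of index four, `g ∉ D` and `g ^ 2 ∈ D`, the join `zpowers g ⊔ D` has index two -/
theorem index_zpowers_sup {G : Type*} [Group G] [Finite G] (D : Subgroup G) [D.Normal]
    (hD : D.index = 4) (g : G) (hg : g ∉ D) (hg2 : g ^ 2 ∈ D) :
    (Subgroup.zpowers g ⊔ D).index = 2 := by
  have hsurj := QuotientGroup.mk'_surjective D
  have h1 : Subgroup.zpowers g ⊔ D =
      (Subgroup.zpowers ((QuotientGroup.mk' D) g)).comap (QuotientGroup.mk' D) := by
    rw [← MonoidHom.map_zpowers, Subgroup.comap_map_eq, QuotientGroup.ker_mk']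
  rw [h1, Subgroup.index_comap_of_surjective _ hsurj]
  have h2 : orderOf ((QuotientGroup.mk' D) g) = 2 := by
    apply orderOf_eq_prime
    · rw [← map_pow]
      exact (QuotientGroup.eq_one_iff _).2 hg2
    · intro h
      exact hg ((QuotientGroup.eq_one_iff _).1 h)
  have h3 := Subgroup.card_mul_index (Subgroup.zpowers ((QuotientGroup.mk' D) g))
  rw [Nat.card_zpowers, h2, ← Subgroup.index_eq_card, hD] at h3
  omega

/-- the data of a quasi-dihedral group -/
structure QDat (S : Type*) [Group S] where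
  n : ℕ
  hn : 3 ≤ n
  card : Nat.card S = 2 ^ (n + 1)
  x : S
  y : S
  hx : orderOf x = 2 ^ n
  hy : orderOf y = 2
  hxy : y * x * y⁻¹ = x ^ (2 ^ (n - 1) - 1)

namespace QDat

variable {S : Type*} [Group S] (d : QDat S)

theorem finite (d : QDat S) : Finite S :=
  Nat.finite_of_card_ne_zero (by rw [d.card]; positivity)

theorem isPGroup (d : QDat S) : IsPGroup 2 S := IsPGroup.of_card d.card

theorem y_sq : d.y ^ 2 = 1 := by rw [← d.hy]; exact pow_orderOf_eq_one _

theorem y_inv : d.y⁻¹ = d.y := by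
  have := d.y_sq
  rw [pow_two] at this
  exact inv_eq_of_mul_eq_one_right this

theorem two_pow_pred : 2 * 2 ^ (d.n - 1) = 2 ^ d.n := by
  have := d.hn
  rw [← pow_succ']; congr 1; omega

theorem x_pow : d.x ^ (2 ^ d.n) = 1 := by rw [← d.hx]; exact pow_orderOf_eq_one _

theorem x_pow' : d.x ^ (2 * 2 ^ (d.n - 1)) = 1 := by rw [d.two_pow_pred]; exact d.x_pow

theorem index_x : (Subgroup.zpowers d.x).index = 2 := by
  haveI := d.finite
  have h1 := Subgroup.card_mul_index (Subgroup.zpowers d.x)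
  rw [Nat.card_zpowers, d.hx, d.card, pow_succ] at h1
  exact Nat.eq_of_mul_eq_mul_left (by positivity) h1

theorem y_not_mem : d.y ∉ Subgroup.zpowers d.x := by
  have hn := d.hn
  intro hmem
  obtain ⟨k, hk⟩ := Subgroup.mem_zpowers_iff.1 hmem
  have hcomm : d.y * d.x = d.x * d.y := by
    rw [← hk]; exact ((Commute.refl d.x).zpow_left k).eq
  have h3 : d.x = d.x ^ (2 ^ (d.n - 1) - 1) := by
    rw [← d.hxy, hcomm]; group
  have h5 : 2 ^ 2 ≤ 2 ^ (d.n - 1) := Nat.pow_le_pow_right (by norm_num) (by omega)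
  have h4 : d.x ^ (2 ^ (d.n - 1) - 2) = 1 := by
    have : d.x ^ (2 ^ (d.n - 1) - 1) = d.x ^ (2 ^ (d.n - 1) - 2) * d.x := by
      rw [← pow_succ]; congr 1; omega
    rw [this] at h3
    exact (mul_eq_right.1 h3.symm)
  have h6 := orderOf_dvd_of_pow_eq_one h4
  rw [d.hx] at h6
  have h8 := d.two_pow_pred
  have h9 := Nat.le_of_dvd (by omega) h6
  omega

theorem eq_top_of_mem (H : Subgroup S) (hx : d.x ∈ H) (hy : d.y ∈ H) : H = ⊤ := by
  have hle : Subgroup.zpowers d.x ≤ H := by rw [Subgroup.zpowers_le]; exact hx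
  have hlt : Subgroup.zpowers d.x < H := by
    refine lt_of_le_of_ne hle ?_
    intro h
    exact d.y_not_mem (h ▸ hy)
  exact (isCoatom_of_index_two _ d.index_x).2 H hlt

/-- conjugation by `y` on powers of `x` -/
theorem conj_zpow (k : ℤ) : d.y * d.x ^ k * d.y⁻¹ = (d.x ^ (2 ^ (d.n - 1) - 1)) ^ k := by
  rw [← _root_.conj_zpow, d.hxy]

theorem xy_sq : (d.x * d.y) ^ 2 = d.x ^ (2 ^ (d.n - 1)) := by
  have h1 : (d.x * d.y) ^ 2 = d.x * (d.y * d.x * d.y⁻¹) * d.y ^ 2 := by
    rw [pow_two, pow_two]; group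
  rw [h1, d.hxy, d.y_sq, mul_one, ← pow_succ']
  congr 1
  have : 1 ≤ 2 ^ (d.n - 1) := Nat.one_le_two_pow
  omega

theorem conj_x_sq : d.y * d.x ^ 2 * d.y⁻¹ = (d.x ^ 2)⁻¹ := by
  rw [← conj_pow, d.hxy, ← pow_mul, eq_inv_iff_mul_eq_one, ← pow_add]
  have : (2 ^ (d.n - 1) - 1) * 2 + 2 = 2 ^ d.n := by
    have h1 := d.two_pow_pred
    have : 1 ≤ 2 ^ (d.n - 1) := Nat.one_le_two_pow
    omega
  rw [this, d.x_pow]

theorem orderOf_x_sq : orderOf (d.x ^ 2) = 2 ^ (d.n - 1) := by
  haveI := d.finite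
  rw [orderOf_pow, d.hx, ← d.two_pow_pred]
  have : Nat.gcd (2 * 2 ^ (d.n - 1)) 2 = 2 := Nat.gcd_eq_right (dvd_mul_right 2 _)
  rw [this, Nat.mul_div_cancel_left _ (by norm_num)]

/-- the subgroup generated by `x ^ 2` -/
def D : Subgroup S := Subgroup.zpowers (d.x ^ 2)

theorem D_le : d.D ≤ Subgroup.zpowers d.x := by
  rw [D, Subgroup.zpowers_le]; exact Subgroup.pow_mem _ (Subgroup.mem_zpowers _) _

theorem D_normal : d.D.Normal := by
  have key : Subgroup.normalizer (d.D : Set S) = ⊤ := by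
    apply d.eq_top_of_mem
    · rw [Subgroup.mem_normalizer_iff]
      intro h
      have hc : ∀ h ∈ d.D, d.x * h * d.x⁻¹ = h := by
        intro h hh
        obtain ⟨k, rfl⟩ := Subgroup.mem_zpowers_iff.1 hh
        have : Commute d.x ((d.x ^ 2) ^ k) := ((Commute.refl d.x).pow_right 2).zpow_right k
        rw [this.eq]; group
      constructor
      · intro hh; rw [hc h hh]; exact hh
      · intro hh
        have h1 := hc _ hh
        have h2 : d.x * h * d.x⁻¹ = h := by
          have := congrArg (fun t => d.x⁻¹ * t * d.x) h1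
          have e1 : d.x⁻¹ * (d.x * (d.x * h * d.x⁻¹) * d.x⁻¹) * d.x = d.x * h * d.x⁻¹ := by group
          have e2 : d.x⁻¹ * (d.x * h * d.x⁻¹) * d.x = h := by group
          rw [e1, e2] at this
          exact this
        rw [← h2]; exact hh
    · rw [Subgroup.mem_normalizer_iff]
      have hf : ∀ h ∈ d.D, d.y * h * d.y⁻¹ ∈ d.D := by
        intro h hh
        obtain ⟨k, rfl⟩ := Subgroup.mem_zpowers_iff.1 hh
        rw [← _root_.conj_zpow, d.conj_x_sq]
        exact Subgroup.zpow_mem _ (Subgroup.inv_mem _ (Subgroup.mem_zpowers _)) k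
      intro h
      constructor
      · exact hf h
      · intro hh
        have := hf _ hh
        rw [d.y_inv] at this
        have e : d.y * (d.y * h * d.y) * d.y = (d.y ^ 2) * h * (d.y ^ 2) := by
          rw [pow_two]; group
        rw [e, d.y_sq, one_mul, mul_one] at this
        exact this
  exact Subgroup.normalizer_eq_top_iff.1 key

theorem D_index : d.D.index = 4 := by
  haveI := d.finite
  have h1 := Subgroup.card_mul_index d.D
  rw [D, Nat.card_zpowers, d.orderOf_x_sq, d.card] at h1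
  have h2 : 2 ^ (d.n + 1) = 2 ^ (d.n - 1) * 4 := by
    have := d.hn
    rw [show (4 : ℕ) = 2 ^ 2 from rfl, ← pow_add]; congr 1; omega
  rw [h2] at h1
  exact Nat.eq_of_mul_eq_mul_left (by positivity) h1

theorem x_not_mem_D : d.x ∉ d.D := by
  haveI := d.finite
  intro h
  have h1 : Subgroup.zpowers d.x ≤ d.D := by rw [Subgroup.zpowers_le]; exact h
  have h2 := Subgroup.card_le_of_le h1
  rw [D, Nat.card_zpowers, Nat.card_zpowers, d.hx, d.orderOf_x_sq, ← d.two_pow_pred] at h2
  have : 0 < 2 ^ (d.n - 1) := by positivity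
  omega

theorem y_not_mem_D : d.y ∉ d.D := fun h => d.y_not_mem (d.D_le h)

theorem xy_not_mem : d.x * d.y ∉ Subgroup.zpowers d.x := by
  intro h
  apply d.y_not_mem
  have := Subgroup.mul_mem _ (Subgroup.inv_mem _ (Subgroup.mem_zpowers d.x)) h
  simpa using this

theorem xy_not_mem_D : d.x * d.y ∉ d.D := fun h => d.xy_not_mem (d.D_le h)

theorem xy_sq_mem_D : (d.x * d.y) ^ 2 ∈ d.D := by
  rw [d.xy_sq, D]
  have : d.x ^ (2 ^ (d.n - 1)) = (d.x ^ 2) ^ (2 ^ (d.n - 2)) := by
    rw [← pow_mul, ← pow_succ']; congr 2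
    have := d.hn; omega
  rw [this]
  exact Subgroup.pow_mem _ (Subgroup.mem_zpowers _) _

end QDat

end Cfsg.Agent.Lib.Helper6
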