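import Mathlib
import Cfsg.Agent.Lib.Helper6.QD
import Cfsg.Agent.Lib.Helper6.MaxClass2c

set_option autoImplicit false

namespace Cfsg.Agent.Lib.Helper6

open scoped commutatorElement

namespace QDat

variable {S : Type*} [Group S] (d : QDat S)

theorem x_sq_pow : (d.x ^ 2) ^ (2 ^ (d.n - 1)) = 1 := by
  rw [← d.orderOf_x_sq]; exact pow_orderOf_eq_one _

theorem comm_yx : ⁅d.y, d.x⁆ = (d.x ^ 2) ^ (2 ^ (d.n - 2) - 1) := by
  have hn := d.hn
  rw [commutatorElement_def, d.hxy, ← pow_mul]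
  have h1 : 2 ≤ 2 ^ (d.n - 2) := by
    calc 2 = 2 ^ 1 := rfl
      _ ≤ 2 ^ (d.n - 2) := Nat.pow_le_pow_right (by norm_num) (by omega)
  have h2 : 2 ^ (d.n - 1) = 2 * 2 ^ (d.n - 2) := by
    rw [← pow_succ']; congr 1; omega
  have h3 : 2 ^ (d.n - 1) - 1 = 2 * (2 ^ (d.n - 2) - 1) + 1 := by omega
  rw [h3, pow_succ]
  group

theorem x_sq_mem_commutator : d.x ^ 2 ∈ commutator S := by
  have hn := d.hn
  have h1 : ⁅d.y, d.x⁆ ∈ commutator S := by
    rw [commutator_def]
    exact Subgroup.commutator_mem_commutator (Subgroup.mem_top _) (Subgroup.mem_top _)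
  rw [d.comm_yx] at h1
  have hodd : Odd (2 ^ (d.n - 2) - 1) := by
    have h2 : 2 ^ (d.n - 2) = 2 * 2 ^ (d.n - 3) := by
      rw [← pow_succ']; congr 1; omega
    rw [h2]
    refine ⟨2 ^ (d.n - 3) - 1, ?_⟩
    have : 1 ≤ 2 ^ (d.n - 3) := Nat.one_le_two_pow
    omega
  have hcop : Nat.Coprime (2 ^ (d.n - 2) - 1) (2 ^ (d.n - 1)) :=
    Nat.Coprime.pow_right _ (Nat.coprime_two_right.2 hodd)
  have hlt : 1 < 2 ^ (d.n - 1) := Nat.one_lt_two_pow (by omega)
  obtain ⟨q', -, hq'⟩ := Nat.exists_mul_mod_eq_one_of_coprime hcop hlt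
  have h3 := Subgroup.pow_mem _ h1 q'
  rw [← pow_mul, pow_eq_pow_mod _ d.x_sq_pow, hq', pow_one] at h3
  exact h3

theorem commutator_eq : commutator S = d.D := by
  haveI := d.finite
  haveI := d.D_normal
  apply le_antisymm
  · rw [← Subgroup.Normal.quotient_commutative_iff_commutator_le]
    haveI : Fact (Nat.Prime 2) := ⟨Nat.prime_two⟩
    apply IsPGroup.isMulCommutative_of_card_eq_prime_sq (p := 2)
    rw [← Subgroup.index_eq_card, d.D_index]
    norm_num
  · rw [D, Subgroup.zpowers_le]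
    exact d.x_sq_mem_commutator

theorem frattini_eq : frattini S = d.D := by
  haveI := d.finite
  apply le_antisymm
  · -- frattini lies in zpowers x and in zpowers y ⊔ D
    have h1 : frattini S ≤ Subgroup.zpowers d.x :=
      frattini_le_coatom (isCoatom_of_index_two _ d.index_x)
    haveI := d.D_normal
    have hi3 : (Subgroup.zpowers d.y ⊔ d.D).index = 2 :=
      index_zpowers_sup d.D d.D_index _ d.y_not_mem_D
        (by rw [d.y_sq]; exact Subgroup.one_mem _)
    have h2 : frattini S ≤ Subgroup.zpowers d.y ⊔ d.D :=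
      frattini_le_coatom (isCoatom_of_index_two _ hi3)
    have hK : Subgroup.zpowers d.x ⊓ (Subgroup.zpowers d.y ⊔ d.D) = d.D := by
      symm
      apply Subgroup.eq_of_le_of_card_ge (le_inf d.D_le le_sup_right)
      -- the intersection is a proper subgroup of zpowers x
      have hne : Subgroup.zpowers d.x ⊓ (Subgroup.zpowers d.y ⊔ d.D) ≠ Subgroup.zpowers d.x := by
        intro h
        have hx3 : d.x ∈ Subgroup.zpowers d.y ⊔ d.D := by
          have : d.x ∈ Subgroup.zpowers d.x ⊓ (Subgroup.zpowers d.y ⊔ d.D) := by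
            rw [h]; exact Subgroup.mem_zpowers _
          exact this.2
        have hy3 : d.y ∈ Subgroup.zpowers d.y ⊔ d.D :=
          Subgroup.mem_sup_left (Subgroup.mem_zpowers _)
        have := d.eq_top_of_mem _ hx3 hy3
        rw [this, Subgroup.index_top] at hi3
        omega
      have hpg : IsPGroup 2 S := d.isPGroup
      obtain ⟨k, hk⟩ := (IsPGroup.iff_card (p := 2)).1
        (hpg.to_subgroup (Subgroup.zpowers d.x ⊓ (Subgroup.zpowers d.y ⊔ d.D)))
      have hle := Subgroup.card_le_of_le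
        (inf_le_left : Subgroup.zpowers d.x ⊓ (Subgroup.zpowers d.y ⊔ d.D) ≤ Subgroup.zpowers d.x)
      have hcx : Nat.card (Subgroup.zpowers d.x) = 2 ^ d.n := by rw [Nat.card_zpowers, d.hx]
      have hlt : Nat.card ↥(Subgroup.zpowers d.x ⊓ (Subgroup.zpowers d.y ⊔ d.D)) < 2 ^ d.n := by
        rcases lt_or_eq_of_le hle with h | h
        · rw [hcx] at h; exact h
        · exact absurd (Subgroup.eq_of_le_of_card_ge inf_le_left h.ge) hne
      rw [hk] at hlt ⊢
      have hkn : k < d.n := (Nat.pow_lt_pow_iff_right (by norm_num)).1 hlt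
      rw [D, Nat.card_zpowers, d.orderOf_x_sq]
      exact Nat.pow_le_pow_right (by norm_num) (by omega)
    rw [← hK]
    exact le_inf h1 h2
  · rw [frattini, Order.radical]
    refine le_iInf fun M => le_iInf fun hM => ?_
    have hMi : M.index = 2 := index_two_of_isCoatom d.isPGroup hM
    rw [D, Subgroup.zpowers_le]
    exact Subgroup.sq_mem_of_index_two hMi d.x

theorem card_center (d : QDat S) : Nat.card (Subgroup.center S) = 2 := by
  haveI := d.finite
  haveI : Fact (Nat.Prime 2) := ⟨Nat.prime_two⟩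
  have hn := d.hn
  have hidx : (commutator S).index = 4 := by rw [d.commutator_eq]; exact d.D_index
  have hc := maxClass_of_index_four (d.n + 1) (by omega) S d.card hidx
  exact (center_of_maxClass (p := 2) (d.n + 1) (by omega) d.card hc).1

/-- the dihedral maximal subgroup -/
def M3 : Subgroup S := Subgroup.zpowers d.y ⊔ d.D

theorem y_mem_M3 : d.y ∈ d.M3 := Subgroup.mem_sup_left (Subgroup.mem_zpowers _)

theorem x_sq_mem_M3 : d.x ^ 2 ∈ d.M3 := Subgroup.mem_sup_right (Subgroup.mem_zpowers _)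

theorem M3_index : d.M3.index = 2 := by
  haveI := d.finite
  haveI := d.D_normal
  exact index_zpowers_sup d.D d.D_index _ d.y_not_mem_D
    (by rw [d.y_sq]; exact Subgroup.one_mem _)

theorem M3_dihedral : Nonempty (↥d.M3 ≃* DihedralGroup (2 ^ (d.n - 1))) := by
  haveI := d.finite
  have hn3 := d.hn
  have hN : 2 ≤ 2 ^ (d.n - 1) := by
    calc 2 = 2 ^ 1 := rfl
      _ ≤ 2 ^ (d.n - 1) := Nat.pow_le_pow_right (by norm_num) (by omega)
  apply nonempty_mulEquiv_dihedral_of_rel (2 ^ (d.n - 1)) hN (⟨d.x ^ 2, d.x_sq_mem_M3⟩ : d.M3)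
    ⟨d.y, d.y_mem_M3⟩
  · rw [Subgroup.orderOf_mk, d.orderOf_x_sq]
  · intro hmem
    obtain ⟨k, hk⟩ := Subgroup.mem_zpowers_iff.1 hmem
    have h1 := congrArg Subtype.val hk
    simp only [Subgroup.coe_zpow] at h1
    apply d.y_not_mem
    rw [← h1]
    exact Subgroup.zpow_mem _ (Subgroup.pow_mem _ (Subgroup.mem_zpowers _) _) _
  · apply Subtype.ext
    simp only [Subgroup.coe_pow]
    exact d.y_sq
  · apply Subtype.ext
    simp only [Subgroup.coe_mul, Subgroup.coe_inv]
    exact d.conj_x_sq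
  · have h1 := Subgroup.card_mul_index d.M3
    rw [d.M3_index, d.card, pow_succ] at h1
    rw [Nat.eq_of_mul_eq_mul_right (by norm_num) h1, ← d.two_pow_pred]

/-- `x ^ k` lies in `D` when `2 ^ (n - 1)` divides `2 * k`-type conditions: even exponents -/
theorem zpow_mem_D_of_even (k : ℤ) (hk : Even k) : d.x ^ k ∈ d.D := by
  obtain ⟨j, rfl⟩ := hk
  have : d.x ^ (j + j) = (d.x ^ 2) ^ j := by
    rw [← zpow_natCast, ← zpow_mul]; congr 1; push_cast; ring
  rw [this]
  exact Subgroup.zpow_mem _ (Subgroup.mem_zpowers _) _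

theorem involution_mem_M3 (t : S) (ht : orderOf t = 2) : t ∈ d.M3 := by
  haveI := d.finite
  have hn := d.hn
  have ht2 : t ^ 2 = 1 := by rw [← ht]; exact pow_orderOf_eq_one t
  have hdvd : ∀ k : ℤ, d.x ^ k = 1 → (2 ^ d.n : ℤ) ∣ k := by
    intro k hk
    have := (orderOf_dvd_iff_zpow_eq_one (x := d.x) (i := k)).2 hk
    rw [d.hx] at this
    exact_mod_cast this
  by_cases hmem : t ∈ Subgroup.zpowers d.x
  · obtain ⟨k, rfl⟩ := Subgroup.mem_zpowers_iff.1 hmem
    apply Subgroup.mem_sup_right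
    apply d.zpow_mem_D_of_even
    have h1 : d.x ^ (k * 2) = 1 := by
      rw [zpow_mul, zpow_ofNat]; exact ht2
    have h2 := hdvd _ h1
    have h3 : (2 ^ d.n : ℤ) = 2 ^ (d.n - 1) * 2 := by
      rw [← pow_succ]; congr 1; omega
    rw [h3] at h2
    have h4 : (2 ^ (d.n - 1) : ℤ) ∣ k := Int.dvd_of_mul_dvd_mul_right (by norm_num) h2
    have h5 : (2 : ℤ) ∣ 2 ^ (d.n - 1) := dvd_pow_self 2 (by omega)
    exact (even_iff_two_dvd).2 (h5.trans h4)
  · obtain ⟨k, rfl⟩ := exists_eq_mul_zpow_of_index_two d.x d.y d.index_x d.y_not_mem t hmem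
    have h1 : (d.y * d.x ^ k) ^ 2 = d.x ^ ((2 ^ (d.n - 1) : ℤ) * k) := by
      rw [sq_mul_zpow, d.hxy, d.y_sq, mul_one, ← zpow_natCast, ← zpow_mul, ← zpow_add]
      congr 1
      have : 1 ≤ 2 ^ (d.n - 1) := Nat.one_le_two_pow
      push_cast [Nat.cast_sub this]
      ring
    rw [h1] at ht2
    have h2 := hdvd _ ht2
    have h3 : (2 ^ d.n : ℤ) = 2 ^ (d.n - 1) * 2 := by
      rw [← pow_succ]; congr 1; omega
    rw [h3] at h2
    have h4 : (2 : ℤ) ∣ k := Int.dvd_of_mul_dvd_mul_left (by positivity) h2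
    exact Subgroup.mul_mem _ d.y_mem_M3
      (Subgroup.mem_sup_right (d.zpow_mem_D_of_even k ((even_iff_two_dvd).2 h4)))

theorem closure_involutions : Subgroup.closure {t : S | orderOf t = 2} = d.M3 := by
  apply le_antisymm
  · rw [Subgroup.closure_le]
    intro t ht
    exact d.involution_mem_M3 t ht
  · have hy : d.y ∈ Subgroup.closure {t : S | orderOf t = 2} := Subgroup.subset_closure d.hy
    have hxy : d.x ^ 2 * d.y ∈ Subgroup.closure {t : S | orderOf t = 2} := by
      apply Subgroup.subset_closure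
      show orderOf (d.x ^ 2 * d.y) = 2
      apply orderOf_eq_prime
      · have e : (d.x ^ 2 * d.y) ^ 2 = d.x ^ 2 * (d.y * d.x ^ 2 * d.y⁻¹) * d.y ^ 2 := by
          rw [pow_two (d.x ^ 2 * d.y), pow_two d.y]; group
        rw [e, d.conj_x_sq, d.y_sq, mul_inv_cancel, one_mul]
      · intro h
        apply d.y_not_mem
        have : d.y = (d.x ^ 2)⁻¹ := by
          rw [eq_inv_iff_mul_eq_one, mul_eq_one_iff_eq_inv.1 h]; group
        rw [this]
        exact Subgroup.inv_mem _ (Subgroup.pow_mem _ (Subgroup.mem_zpowers _) _)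
    have hx2 : d.x ^ 2 ∈ Subgroup.closure {t : S | orderOf t = 2} := by
      have := Subgroup.mul_mem _ hxy (Subgroup.inv_mem _ hy)
      simpa using this
    rw [M3]
    refine sup_le ?_ ?_
    · rw [Subgroup.zpowers_le]; exact hy
    · rw [D, Subgroup.zpowers_le]; exact hx2

end QDat

end Cfsg.Agent.Lib.Helper6
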