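import Mathlib
import Cfsg.Agent.Lib.Helper6.QD2

set_option autoImplicit false

namespace Cfsg.Agent.Lib.Helper6

open scoped commutatorElement

namespace QDat

variable {S : Type*} [Group S] (d : QDat S)

/-- a subgroup containing the commutator of `y` and `x` contains `x ^ 2` -/
theorem x_sq_mem_of_comm_mem (H : Subgroup S) (h1 : ⁅d.y, d.x⁆ ∈ H) : d.x ^ 2 ∈ H := by
  have hn := d.hn
  rw [d.comm_yx] at h1
  have hodd : Odd (2 ^ (d.n - 2) - 1) := by
    have h2 : 2 ^ (d.n - 2) = 2 * 2 ^ (d.n - 3) := by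
      rw [← pow_succ']; congr 1; omega
    rw [h2]
    refine ⟨2 ^ (d.n - 3) - 1, ?_⟩
    have : 1 ≤ 2 ^ (d.n - 3) := Nat.one_le_two_pow
    omega
  have hcop : Nat.Coprime (2 ^ (d.n - 2) - 1) (2 ^ (d.n - 1)) :=
    Nat.Coprime.pow_right _ (Nat.coprime_two_right.2 hodd)
  have hlt : 1 < 2 ^ (d.n - 1) := Nat.one_lt_two_pow (by omega)
  obtain ⟨q', -, hq'⟩ := Nat.exists_mul_mod_eq_one_of_coprime hcop hlt
  have h3 := Subgroup.pow_mem _ h1 q'
  rw [← pow_mul, pow_eq_pow_mod _ d.x_sq_pow, hq', pow_one] at h3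
  exact h3

theorem D_le_of_comm_mem (H : Subgroup S) (h1 : ⁅d.y, d.x⁆ ∈ H) : d.D ≤ H := by
  rw [D, Subgroup.zpowers_le]; exact d.x_sq_mem_of_comm_mem H h1

theorem x_mem_of_odd_zpow_mem (H : Subgroup S) (k : ℤ) (hk : Odd k) (h : d.x ^ k ∈ H) :
    d.x ∈ H := by
  obtain ⟨j, rfl⟩ := hk
  have hc : IsCoprime (2 * j + 1) (2 : ℤ) := ⟨1, -j, by ring⟩
  obtain ⟨a, b, hab⟩ := hc.pow_right (n := d.n)
  have h1 : d.x = (d.x ^ (2 * j + 1)) ^ a * (d.x ^ (2 ^ d.n : ℤ)) ^ b := by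
    rw [← zpow_mul, ← zpow_mul, ← zpow_add]
    have : (2 * j + 1) * a + 2 ^ d.n * b = 1 := by linear_combination hab
    rw [this, zpow_one]
  have h2 : d.x ^ (2 ^ d.n : ℤ) = 1 := by
    have := d.x_pow
    rw [← zpow_natCast] at this
    rw [← this]; congr 1
  rw [h2, one_zpow, mul_one] at h1
  rw [h1]
  exact Subgroup.zpow_mem _ h _

theorem sq_mem_D (g : S) : g ^ 2 ∈ d.D := by
  haveI := d.finite
  rw [← d.frattini_eq, frattini, Order.radical, Subgroup.mem_iInf]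
  intro M
  rw [Subgroup.mem_iInf]
  intro hM
  exact Subgroup.sq_mem_of_index_two (index_two_of_isCoatom d.isPGroup hM) g

theorem not_mem_D_of_odd (k : ℤ) (hk : Odd k) : d.x ^ k ∉ d.D := by
  intro h
  exact d.x_not_mem_D (d.x_mem_of_odd_zpow_mem d.D k hk h)

/-- conjugating `x` by an element `y * x ^ k` -/
theorem conj_x_of_not_mem (k : ℤ) :
    (d.y * d.x ^ k) * d.x * (d.y * d.x ^ k)⁻¹ = d.y * d.x * d.y⁻¹ := by
  have : d.x ^ k * d.x * (d.x ^ k)⁻¹ = d.x := by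
    rw [← zpow_add_one, ← zpow_neg, ← zpow_add]; simp
  calc (d.y * d.x ^ k) * d.x * (d.y * d.x ^ k)⁻¹
      = d.y * (d.x ^ k * d.x * (d.x ^ k)⁻¹) * d.y⁻¹ := by group
    _ = d.y * d.x * d.y⁻¹ := by rw [this]

theorem D_le_of_normal (N : Subgroup S) [hN : N.Normal] (g : S) (hg : g ∈ N) (hgD : g ∉ d.D) :
    d.D ≤ N := by
  apply d.D_le_of_comm_mem
  by_cases hmem : g ∈ Subgroup.zpowers d.x
  · obtain ⟨k, rfl⟩ := Subgroup.mem_zpowers_iff.1 hmem
    have hk : Odd k := by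
      rcases Int.even_or_odd k with h | h
      · exact absurd (d.zpow_mem_D_of_even k h) hgD
      · exact h
    have hx : d.x ∈ N := d.x_mem_of_odd_zpow_mem N k hk hg
    rw [commutatorElement_def]
    exact Subgroup.mul_mem _ (hN.conj_mem _ hx _) (Subgroup.inv_mem _ hx)
  · obtain ⟨k, rfl⟩ := exists_eq_mul_zpow_of_index_two d.x d.y d.index_x d.y_not_mem g hmem
    have h1 : ⁅d.y, d.x⁆ = (d.y * d.x ^ k) * (d.x * (d.y * d.x ^ k)⁻¹ * d.x⁻¹) := by
      rw [commutatorElement_def, ← d.conj_x_of_not_mem k]; group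
    rw [h1]
    exact Subgroup.mul_mem _ hg (hN.conj_mem _ (Subgroup.inv_mem _ hg) _)

theorem normal_dichotomy (N : Subgroup S) [hN : N.Normal] (hne : N ≠ ⊤) :
    N.index = 2 ∨ N ≤ d.D := by
  haveI := d.finite
  haveI := d.D_normal
  by_cases hle : N ≤ d.D
  · exact Or.inr hle
  · left
    obtain ⟨g, hg, hgD⟩ := SetLike.not_le_iff_exists.1 hle
    have hD := d.D_le_of_normal N g hg hgD
    have hi := index_zpowers_sup d.D d.D_index g hgD (d.sq_mem_D g)
    have hle2 : Subgroup.zpowers g ⊔ d.D ≤ N :=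
      sup_le (by rw [Subgroup.zpowers_le]; exact hg) hD
    have hdvd := Subgroup.index_dvd_of_le hle2
    rw [hi] at hdvd
    rcases (Nat.dvd_prime Nat.prime_two).1 hdvd with h | h
    · exact absurd (Subgroup.index_eq_one.1 h) hne
    · exact h

end QDat

end Cfsg.Agent.Lib.Helper6
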