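import Mathlib
import Cfsg.Agent.Lib.Helper6.QD3

set_option autoImplicit false

namespace Cfsg.Agent.Lib.Helper6

open scoped commutatorElement

namespace QDat

variable {S : Type*} [Group S] (d : QDat S)

theorem zx_normal : (Subgroup.zpowers d.x).Normal :=
  Subgroup.normal_of_index_eq_two d.index_x

/-- the image of `x` under conjugation by `y` -/
def c : S := d.y * d.x * d.y⁻¹

theorem c_eq : d.c = d.x ^ (2 ^ (d.n - 1) - 1) := d.hxy

theorem c_comm : Commute d.x d.c := by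
  rw [d.c_eq]; exact (Commute.refl d.x).pow_right _

theorem comm_eq : ⁅d.y, d.x⁆ = d.c * d.x⁻¹ := by
  rw [commutatorElement_def, c]

/-- conjugating an element outside `zpowers x` by a power of `x` -/
theorem conj_zpow_of_conj (g : S) (hg : g * d.x * g⁻¹ = d.c) (m : ℤ) :
    d.x ^ m * g * (d.x ^ m)⁻¹ = (⁅d.y, d.x⁆⁻¹) ^ m * g := by
  have h1 : g * (d.x ^ m)⁻¹ * g⁻¹ = (d.c ^ m)⁻¹ := by
    rw [← hg, _root_.conj_zpow]; group
  have h2 : (⁅d.y, d.x⁆⁻¹) ^ m = d.x ^ m * (d.c ^ m)⁻¹ := by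
    rw [d.comm_eq, mul_inv_rev, inv_inv, d.c_comm.inv_right.mul_zpow, inv_zpow]
  rw [h2, ← h1]; group

theorem conj_x_eq_c_of_not_mem (g : S) (hg : g ∉ Subgroup.zpowers d.x) :
    g * d.x * g⁻¹ = d.c := by
  obtain ⟨k, rfl⟩ := exists_eq_mul_zpow_of_index_two d.x d.y d.index_x d.y_not_mem g hg
  exact d.conj_x_of_not_mem k

theorem D_le_zpowers_comm : d.D ≤ Subgroup.zpowers ⁅d.y, d.x⁆ :=
  d.D_le_of_comm_mem _ (Subgroup.mem_zpowers _)

/-- elements outside `zpowers x` are conjugate to every element of their `D`-coset -/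
theorem exists_conj_of_mem_D (g : S) (hg : g ∉ Subgroup.zpowers d.x) (e : S) (he : e ∈ d.D) :
    ∃ a : S, a * g * a⁻¹ = e * g := by
  obtain ⟨j, hj⟩ := Subgroup.mem_zpowers_iff.1 (d.D_le_zpowers_comm he)
  refine ⟨d.x ^ (-j), ?_⟩
  rw [d.conj_zpow_of_conj g (d.conj_x_eq_c_of_not_mem g hg), inv_zpow, zpow_neg, inv_inv, hj]

theorem isConj_of_mem_D (g : S) (hg : g ∉ Subgroup.zpowers d.x) (e : S) (he : e ∈ d.D) :
    IsConj g (e * g) := by
  obtain ⟨a, ha⟩ := d.exists_conj_of_mem_D g hg e he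
  exact isConj_iff.2 ⟨a, ha⟩

/-- the central involution -/
def z : S := d.x ^ (2 ^ (d.n - 1))

theorem z_sq : d.z ^ 2 = 1 := by
  rw [z, ← pow_mul, mul_comm, d.two_pow_pred, d.x_pow]

theorem z_ne_one : d.z ≠ 1 := by
  have hn := d.hn
  intro h
  have := orderOf_dvd_of_pow_eq_one h
  rw [d.hx] at this
  have h2 := Nat.le_of_dvd (by positivity) this
  have : 2 ^ (d.n - 1) < 2 ^ d.n := Nat.pow_lt_pow_right (by norm_num) (by omega)
  omega

theorem orderOf_z : orderOf d.z = 2 := orderOf_eq_prime d.z_sq d.z_ne_one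

theorem z_mem : d.z ∈ Subgroup.zpowers d.x := Subgroup.pow_mem _ (Subgroup.mem_zpowers _) _

theorem zpow_eq_one_iff (k : ℤ) : d.x ^ k = 1 ↔ (2 ^ d.n : ℤ) ∣ k := by
  rw [← orderOf_dvd_iff_zpow_eq_one, d.hx]; norm_cast

/-- square of an element outside `zpowers x` -/
theorem sq_of_not_mem (k : ℤ) : (d.y * d.x ^ k) ^ 2 = d.x ^ ((2 ^ (d.n - 1) : ℤ) * k) := by
  rw [sq_mul_zpow, d.hxy, d.y_sq, mul_one, ← zpow_natCast, ← zpow_mul, ← zpow_add]
  congr 1
  have : 1 ≤ 2 ^ (d.n - 1) := Nat.one_le_two_pow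
  push_cast [Nat.cast_sub this]
  ring

theorem sq_eq_one_iff_of_not_mem (k : ℤ) : (d.y * d.x ^ k) ^ 2 = 1 ↔ Even k := by
  have hn := d.hn
  rw [d.sq_of_not_mem, d.zpow_eq_one_iff]
  have h3 : (2 ^ d.n : ℤ) = 2 ^ (d.n - 1) * 2 := by
    rw [← pow_succ]; congr 1; omega
  rw [h3, even_iff_two_dvd]
  constructor
  · intro h2
    exact Int.dvd_of_mul_dvd_mul_left (by positivity) h2
  · intro h2
    exact mul_dvd_mul_left _ h2

/-- the only involution inside `zpowers x` -/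
theorem eq_z_of_orderOf_two (t : S) (ht : orderOf t = 2) (hmem : t ∈ Subgroup.zpowers d.x) :
    t = d.z := by
  have hn := d.hn
  obtain ⟨k, rfl⟩ := Subgroup.mem_zpowers_iff.1 hmem
  have ht2 : (d.x ^ k) ^ 2 = 1 := by rw [← ht]; exact pow_orderOf_eq_one _
  have h1 : d.x ^ (k * 2) = 1 := by rw [zpow_mul, zpow_ofNat]; exact ht2
  have h2 := (d.zpow_eq_one_iff _).1 h1
  have h3 : (2 ^ d.n : ℤ) = 2 ^ (d.n - 1) * 2 := by
    rw [← pow_succ]; congr 1; omega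
  rw [h3] at h2
  obtain ⟨j, rfl⟩ : (2 ^ (d.n - 1) : ℤ) ∣ k := Int.dvd_of_mul_dvd_mul_right (by norm_num) h2
  have h4 : d.x ^ ((2 ^ (d.n - 1) : ℤ) * j) = d.z ^ j := by
    rw [zpow_mul, z]; congr 1
    rw [← zpow_natCast]; congr 1
  rw [h4] at ht ⊢
  rcases Int.even_or_odd j with ⟨i, rfl⟩ | ⟨i, rfl⟩
  · exfalso
    have : d.z ^ (i + i) = 1 := by
      rw [← two_mul, zpow_mul, zpow_ofNat, d.z_sq, one_zpow]
    rw [this, orderOf_one] at ht
    omega
  · rw [zpow_add, zpow_mul, zpow_ofNat, d.z_sq, one_zpow, one_mul, zpow_one]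

/-- involutions outside `zpowers x` are conjugate to `y` -/
theorem isConj_y_of_orderOf_two (t : S) (ht : orderOf t = 2)
    (hmem : t ∉ Subgroup.zpowers d.x) : IsConj d.y t := by
  haveI := d.D_normal
  obtain ⟨k, rfl⟩ := exists_eq_mul_zpow_of_index_two d.x d.y d.index_x d.y_not_mem t hmem
  have ht2 : (d.y * d.x ^ k) ^ 2 = 1 := by rw [← ht]; exact pow_orderOf_eq_one _
  have hk := (d.sq_eq_one_iff_of_not_mem k).1 ht2
  have he : d.y * d.x ^ k * d.y⁻¹ ∈ d.D :=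
    Subgroup.Normal.conj_mem inferInstance _ (d.zpow_mem_D_of_even k hk) _
  have := d.isConj_of_mem_D d.y d.y_not_mem _ he
  have e : d.y * d.x ^ k * d.y⁻¹ * d.y = d.y * d.x ^ k := by group
  rw [e] at this
  exact this

theorem yx_not_mem : d.y * d.x ∉ Subgroup.zpowers d.x := by
  intro h
  apply d.y_not_mem
  have := Subgroup.mul_mem _ h (Subgroup.inv_mem _ (Subgroup.mem_zpowers d.x))
  simpa using this

/-- non-involutions outside `zpowers x` are conjugate to `y * x` -/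
theorem isConj_yx_of_sq_ne_one (t : S) (ht : t ^ 2 ≠ 1)
    (hmem : t ∉ Subgroup.zpowers d.x) : IsConj (d.y * d.x) t := by
  haveI := d.D_normal
  obtain ⟨k, rfl⟩ := exists_eq_mul_zpow_of_index_two d.x d.y d.index_x d.y_not_mem t hmem
  have hk : Odd k := by
    rcases Int.even_or_odd k with h | h
    · exact absurd ((d.sq_eq_one_iff_of_not_mem k).2 h) ht
    · exact h
  have hk1 : Even (k - 1) := by
    obtain ⟨j, rfl⟩ := hk
    exact ⟨j, by ring⟩
  have he : d.y * d.x ^ (k - 1) * d.y⁻¹ ∈ d.D :=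
    Subgroup.Normal.conj_mem inferInstance _ (d.zpow_mem_D_of_even _ hk1) _
  have := d.isConj_of_mem_D (d.y * d.x) d.yx_not_mem _ he
  have e : d.y * d.x ^ (k - 1) * d.y⁻¹ * (d.y * d.x) = d.y * d.x ^ k := by
    rw [zpow_sub_one]; group
  rw [e] at this
  exact this

theorem yx_sq : (d.y * d.x) ^ 2 = d.z := by
  have := d.sq_of_not_mem 1
  rw [zpow_one, mul_one] at this
  rw [this, z, ← zpow_natCast]; congr 1

theorem orderOf_yx : orderOf (d.y * d.x) = 4 := by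
  have h := orderOf_eq_prime_pow (x := d.y * d.x) (p := 2) (n := 1)
    (by rw [pow_one, d.yx_sq]; exact d.z_ne_one)
    (by
      have : (d.y * d.x) ^ 2 ^ (1 + 1) = ((d.y * d.x) ^ 2) ^ 2 := by rw [← pow_mul]; norm_num
      rw [this, d.yx_sq, d.z_sq])
  simpa using h

/-- the generator of the cyclic subgroup of order four -/
def w : S := d.x ^ (2 ^ (d.n - 2))

theorem w_sq : d.w ^ 2 = d.z := by
  have hn := d.hn
  rw [w, z, ← pow_mul, ← pow_succ]; congr 2; omega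

theorem w_mem : d.w ∈ Subgroup.zpowers d.x := Subgroup.pow_mem _ (Subgroup.mem_zpowers _) _

theorem orderOf_w : orderOf d.w = 4 := by
  have h := orderOf_eq_prime_pow (x := d.w) (p := 2) (n := 1)
    (by rw [pow_one, d.w_sq]; exact d.z_ne_one)
    (by
      have : d.w ^ 2 ^ (1 + 1) = (d.w ^ 2) ^ 2 := by rw [← pow_mul]; norm_num
      rw [this, d.w_sq, d.z_sq])
  simpa using h

theorem w_pow_four : d.w ^ 4 = 1 := by
  rw [← d.orderOf_w]; exact pow_orderOf_eq_one _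

theorem conj_w : d.y * d.w * d.y⁻¹ = d.w⁻¹ := by
  have hn := d.hn
  rw [w, ← conj_pow, d.hxy, ← pow_mul, eq_inv_iff_mul_eq_one, ← pow_add]
  have h1 : 1 ≤ 2 ^ (d.n - 1) := Nat.one_le_two_pow
  have : (2 ^ (d.n - 1) - 1) * 2 ^ (d.n - 2) + 2 ^ (d.n - 2) = 2 ^ d.n * 2 ^ (d.n - 3) := by
    have e1 : (2 ^ (d.n - 1) - 1) * 2 ^ (d.n - 2) + 2 ^ (d.n - 2)
        = 2 ^ (d.n - 1) * 2 ^ (d.n - 2) := by
      rw [Nat.sub_mul, one_mul]
      have : 2 ^ (d.n - 2) ≤ 2 ^ (d.n - 1) * 2 ^ (d.n - 2) := Nat.le_mul_of_pos_left _ (by positivity)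
      omega
    rw [e1, ← pow_add, ← pow_add]; congr 1; omega
  rw [this, pow_mul, d.x_pow, one_pow]

/-- elements of order four inside `zpowers x` are `w` or its inverse -/
theorem eq_w_of_orderOf_four (t : S) (ht : orderOf t = 4) (hmem : t ∈ Subgroup.zpowers d.x) :
    t = d.w ∨ t = d.w⁻¹ := by
  have hn := d.hn
  obtain ⟨k, rfl⟩ := Subgroup.mem_zpowers_iff.1 hmem
  have ht4 : (d.x ^ k) ^ 4 = 1 := by rw [← ht]; exact pow_orderOf_eq_one _
  have h1 : d.x ^ (k * 4) = 1 := by rw [zpow_mul, zpow_ofNat]; exact ht4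
  have h2 := (d.zpow_eq_one_iff _).1 h1
  have h3 : (2 ^ d.n : ℤ) = 2 ^ (d.n - 2) * 4 := by
    have : (4 : ℤ) = 2 ^ 2 := by norm_num
    rw [this, ← pow_add]; congr 1; omega
  rw [h3] at h2
  obtain ⟨j, rfl⟩ : (2 ^ (d.n - 2) : ℤ) ∣ k := Int.dvd_of_mul_dvd_mul_right (by norm_num) h2
  have h4 : d.x ^ ((2 ^ (d.n - 2) : ℤ) * j) = d.w ^ j := by
    rw [zpow_mul, w]; congr 1
    rw [← zpow_natCast]; congr 1
  rw [h4] at ht ⊢
  have hw4 : d.w ^ (4 : ℤ) = 1 := by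
    have := d.w_pow_four
    rw [← zpow_natCast] at this
    exact this
  have hj : d.w ^ j = d.w ^ (j % 4) := by
    conv_lhs => rw [← Int.emod_add_mul_ediv j 4]
    rw [zpow_add, zpow_mul, hw4, one_zpow, mul_one]
  have hr0 : 0 ≤ j % 4 := Int.emod_nonneg _ (by norm_num)
  have hr4 : j % 4 < 4 := Int.emod_lt_of_pos _ (by norm_num)
  rw [hj] at ht ⊢
  obtain ⟨r, hr⟩ : ∃ r : ℤ, r = j % 4 := ⟨_, rfl⟩
  rw [← hr] at ht hr0 hr4 ⊢
  have hcases : r = 0 ∨ r = 1 ∨ r = 2 ∨ r = 3 := by omega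
  rcases hcases with rfl | rfl | rfl | rfl
  · rw [zpow_zero, orderOf_one] at ht; omega
  · left; rw [zpow_one]
  · exfalso
    have h5 : (d.w ^ (2 : ℤ)) ^ 2 = 1 := by
      rw [zpow_ofNat, d.w_sq, d.z_sq]
    have := orderOf_dvd_of_pow_eq_one h5
    rw [ht] at this
    omega
  · right
    rw [eq_inv_iff_mul_eq_one]
    have : d.w ^ (3 : ℤ) * d.w = d.w ^ (4 : ℤ) := by
      rw [← zpow_add_one]; norm_num
    rw [this, hw4]

theorem isConj_w_of_orderOf_four (t : S) (ht : orderOf t = 4)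
    (hmem : t ∈ Subgroup.zpowers d.x) : IsConj d.w t := by
  rcases d.eq_w_of_orderOf_four t ht hmem with rfl | rfl
  · exact IsConj.refl _
  · exact isConj_iff.2 ⟨d.y, d.conj_w⟩

end QDat

end Cfsg.Agent.Lib.Helper6
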