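import Mathlib
import Cfsg.Agent.Lib.Helper6.QD4

set_option autoImplicit false

namespace Cfsg.Agent.Lib.Helper6

open scoped commutatorElement

namespace QDat

variable {S : Type*} [Group S] (d : QDat S)

/-- replace `y` by another involution outside `zpowers x` -/
def withY (t : S) (ht : orderOf t = 2) (hmem : t ∉ Subgroup.zpowers d.x) : QDat S :=
  { n := d.n, hn := d.hn, card := d.card, x := d.x, y := t, hx := d.hx, hy := ht,
    hxy := by rw [d.conj_x_eq_c_of_not_mem t hmem]; exact d.c_eq }

theorem z_mem_center : d.z ∈ Subgroup.center S := by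
  have hx : d.x ∈ Subgroup.centralizer {d.z} := by
    rw [Subgroup.mem_centralizer_singleton_iff, z, ← pow_succ', ← pow_succ]
  have hyx : d.y * d.x ∈ Subgroup.centralizer {d.z} := by
    rw [Subgroup.mem_centralizer_singleton_iff, ← d.yx_sq, ← pow_succ', ← pow_succ]
  have hy : d.y ∈ Subgroup.centralizer {d.z} := by
    have := Subgroup.mul_mem _ hyx (Subgroup.inv_mem _ hx)
    simpa using this
  have htop := d.eq_top_of_mem _ hx hy
  rw [Subgroup.mem_center_iff]
  intro g
  have hg : g ∈ Subgroup.centralizer {d.z} := by rw [htop]; trivial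
  exact Subgroup.mem_centralizer_singleton_iff.1 hg

theorem z_comm (g : S) : g * d.z = d.z * g := Subgroup.mem_center_iff.1 d.z_mem_center g

theorem eq_one_or_z_of_mem_center (v : S) (hv : v ∈ Subgroup.center S) : v = 1 ∨ v = d.z := by
  have h2 := d.card_center
  rw [Nat.card_eq_two_iff' (1 : Subgroup.center S)] at h2
  obtain ⟨u, -, hu⟩ := h2
  by_cases h1 : v = 1
  · exact Or.inl h1
  · right
    have e1 : (⟨v, hv⟩ : Subgroup.center S) = u := hu _ (by
      intro h; exact h1 (congrArg Subtype.val h))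
    have e2 : (⟨d.z, d.z_mem_center⟩ : Subgroup.center S) = u := hu _ (by
      intro h; exact d.z_ne_one (congrArg Subtype.val h))
    exact congrArg Subtype.val (e1.trans e2.symm)

/-- elements of `zpowers x` commuting with `y` are central -/
theorem mem_center_of_comm (v : S) (hv : v ∈ Subgroup.zpowers d.x) (hvy : v * d.y = d.y * v) :
    v ∈ Subgroup.center S := by
  have hx : d.x ∈ Subgroup.centralizer {v} := by
    rw [Subgroup.mem_centralizer_singleton_iff]
    obtain ⟨k, rfl⟩ := Subgroup.mem_zpowers_iff.1 hv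
    rw [← zpow_add_one, ← zpow_one_add, add_comm]
  have hy : d.y ∈ Subgroup.centralizer {v} := by
    rw [Subgroup.mem_centralizer_singleton_iff]; exact hvy.symm
  have htop := d.eq_top_of_mem _ hx hy
  rw [Subgroup.mem_center_iff]
  intro g
  have hg : g ∈ Subgroup.centralizer {v} := by rw [htop]; trivial
  exact Subgroup.mem_centralizer_singleton_iff.1 hg

/-- the centralizer of `y`, a four-group -/
def T0 : Subgroup S := Subgroup.centralizer {d.y}

theorem mem_T0_iff (v : S) : v ∈ d.T0 ↔ v * d.y = d.y * v :=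
  Subgroup.mem_centralizer_singleton_iff

theorem mem_T0 (v : S) : v ∈ d.T0 ↔ v = 1 ∨ v = d.z ∨ v = d.y ∨ v = d.y * d.z := by
  rw [mem_T0_iff]
  constructor
  · intro hv
    by_cases hmem : v ∈ Subgroup.zpowers d.x
    · rcases d.eq_one_or_z_of_mem_center v (d.mem_center_of_comm v hmem hv) with h | h
      · exact Or.inl h
      · exact Or.inr (Or.inl h)
    · have h1 : d.y * v ∈ Subgroup.zpowers d.x := by
        rw [Subgroup.mul_mem_iff_of_index_two d.index_x]
        exact ⟨fun h => absurd h d.y_not_mem, fun h => absurd h hmem⟩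
      have h2 : (d.y * v) * d.y = d.y * (d.y * v) := by rw [mul_assoc, hv]
      rcases d.eq_one_or_z_of_mem_center _ (d.mem_center_of_comm _ h1 h2) with h | h
      · right; right; left
        rw [← d.y_inv]; exact (inv_eq_of_mul_eq_one_right h).symm
      · right; right; right
        rw [← h, ← mul_assoc, ← pow_two, d.y_sq, one_mul]
  · rintro (rfl | rfl | rfl | rfl)
    · simp
    · exact (d.z_comm _).symm
    · rfl
    · rw [mul_assoc, d.z_comm d.y]

theorem y_mem_T0 : d.y ∈ d.T0 := (d.mem_T0 _).2 (Or.inr (Or.inr (Or.inl rfl)))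

theorem z_mem_T0 : d.z ∈ d.T0 := (d.mem_T0 _).2 (Or.inr (Or.inl rfl))

theorem T0_card_le : Nat.card d.T0 ≤ 4 := by
  classical
  haveI := d.finite
  have hsub : (d.T0 : Set S) ⊆ (({1, d.z, d.y, d.y * d.z} : Finset S) : Set S) := by
    intro v hv
    have := (d.mem_T0 v).1 hv
    simpa using this
  have h1 := Set.ncard_le_ncard hsub (Set.toFinite _)
  rw [Set.ncard_coe_finset] at h1
  have h2 : ({1, d.z, d.y, d.y * d.z} : Finset S).card ≤ 4 := Finset.card_le_four
  have h3 : Nat.card d.T0 = (d.T0 : Set S).ncard := rfl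
  omega

theorem T0_comm (u v : S) (hu : u ∈ d.T0) (hv : v ∈ d.T0) : u * v = v * u := by
  have hu' := (d.mem_T0_iff u).1 hu
  rcases (d.mem_T0 v).1 hv with rfl | rfl | rfl | rfl
  · simp
  · exact d.z_comm u
  · exact hu'
  · rw [← mul_assoc, hu', mul_assoc, d.z_comm u, mul_assoc]

theorem T0_centralizer : Subgroup.centralizer (d.T0 : Set S) = d.T0 := by
  apply le_antisymm
  · apply Subgroup.centralizer_le
    intro v hv
    rw [Set.mem_singleton_iff] at hv
    rw [hv]; exact d.y_mem_T0
  · intro u hu
    rw [Subgroup.mem_centralizer_iff]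
    intro v hv
    exact d.T0_comm v u hv hu

theorem w_conj_y : d.w * d.y * d.w⁻¹ = d.y * d.z := by
  have h1 := d.conj_w
  have h2 : d.w * d.y * d.w⁻¹ = d.w * (d.y * d.w * d.y⁻¹)⁻¹ * d.y := by group
  rw [h2, h1, inv_inv, ← pow_two, d.w_sq, d.z_comm]

theorem w_not_mem_T0 : d.w ∉ d.T0 := by
  intro h
  rw [mem_T0_iff] at h
  have h1 := d.w_conj_y
  rw [h, mul_assoc, mul_inv_cancel, mul_one] at h1
  have : d.z = 1 := by
    have := mul_left_cancel (a := d.y) (b := 1) (c := d.z) (by rw [mul_one]; exact h1)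
    exact this.symm
  exact d.z_ne_one this

theorem conj_mem_T0_iff (g v : S) (hg : g * d.y * g⁻¹ = d.y ∨ g * d.y * g⁻¹ = d.y * d.z) :
    g * v * g⁻¹ ∈ d.T0 ↔ v ∈ d.T0 := by
  have key : ∀ u : S, u ∈ d.T0 → g * u * g⁻¹ ∈ d.T0 := by
    intro u hu
    rcases (d.mem_T0 u).1 hu with rfl | rfl | rfl | rfl
    · simp
    · rw [d.z_comm g, mul_assoc, mul_inv_cancel, mul_one]; exact d.z_mem_T0
    · rcases hg with h | h
      · rw [h]; exact d.y_mem_T0
      · rw [h]; exact (d.mem_T0 _).2 (Or.inr (Or.inr (Or.inr rfl)))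
    · have e : g * (d.y * d.z) * g⁻¹ = (g * d.y * g⁻¹) * d.z := by
        rw [← mul_assoc, mul_assoc (g * d.y), ← d.z_comm g⁻¹, ← mul_assoc]
      rw [e]
      rcases hg with h | h
      · rw [h]; exact (d.mem_T0 _).2 (Or.inr (Or.inr (Or.inr rfl)))
      · rw [h, mul_assoc, ← pow_two, d.z_sq, mul_one]; exact d.y_mem_T0
  constructor
  · intro h
    -- T0 is finite, conjugation is injective on it
    haveI := d.finite
    have hinj : Function.Injective (fun u : d.T0 => (⟨g * u.1 * g⁻¹, key u.1 u.2⟩ : d.T0)) := by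
      intro a b hab
      have := congrArg Subtype.val hab
      simp only [mul_left_inj, mul_right_inj] at this
      exact Subtype.ext this
    have hsurj := Finite.surjective_of_injective hinj
    obtain ⟨u, hu⟩ := hsurj ⟨g * v * g⁻¹, h⟩
    have := congrArg Subtype.val hu
    simp only [mul_left_inj, mul_right_inj] at this
    rw [← this]; exact u.2
  · exact key v

theorem T0_relIndex : d.T0.relIndex (Subgroup.normalizer (d.T0 : Set S)) = 2 := by
  rw [Subgroup.relIndex_eq_two_iff_exists_notMem_and]
  refine ⟨d.w, ?_, d.w_not_mem_T0, ?_⟩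
  · rw [Subgroup.mem_normalizer_iff]
    intro v
    exact (d.conj_mem_T0_iff d.w v (Or.inr d.w_conj_y)).symm
  · intro b hb
    rw [Subgroup.mem_normalizer_iff] at hb
    have h1 : b * d.y * b⁻¹ ∈ d.T0 := (hb d.y).1 d.y_mem_T0
    rcases (d.mem_T0 _).1 h1 with h | h | h | h
    · exfalso
      have : d.y = 1 := by
        have := congrArg (fun u => b⁻¹ * u * b) h
        simpa [mul_assoc] using this
      have h2 := d.hy
      rw [this, orderOf_one] at h2
      omega
    · exfalso
      have : d.y = d.z := by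
        have := congrArg (fun u => b⁻¹ * u * b) h
        simp only [mul_assoc, inv_mul_cancel_left, inv_mul_cancel, mul_one] at this
        rw [this, ← mul_assoc, d.z_comm b⁻¹, mul_assoc, inv_mul_cancel, mul_one]
      apply d.y_not_mem
      rw [this]; exact d.z_mem
    · right
      rw [mem_T0_iff]
      have h' : b * d.y = d.y * b := by
        have := congrArg (fun u => u * b) h
        simpa [mul_assoc] using this
      exact h'
    · left
      rw [mem_T0_iff]
      have e : b * d.w * d.y = b * (d.w * d.y * d.w⁻¹) * d.w := by group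
      rw [e, d.w_conj_y, ← mul_assoc]
      have h' : b * d.y = d.y * d.z * b := by rw [← h]; group
      rw [h', mul_assoc d.y, d.z_comm b |>.symm, mul_assoc d.y, mul_assoc b, ← pow_two, d.z_sq,
        mul_one, mul_assoc]

end QDat

end Cfsg.Agent.Lib.Helper6
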