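import Mathlib
import Cfsg.Agent.S1003

set_option autoImplicit false

namespace Cfsg.Agent.Lib.Helper6.Simple168
open Cfsg.Agent.Lib.Helper1 Cfsg.Agent.Lib.Helper7 Cfsg.Agent.Lib.Helper4 Cfsg.Agent.S1003

variable {G : Type*} [Group G] [Finite G] [IsSimpleGroup G]

theorem n7 (h : Nat.card G = 168) : Nat.card (Sylow 7 G) = 8 := Cfsg.Agent.S0495.card_syl7 h

theorem N7 (h : Nat.card G = 168) (P : Sylow 7 G) :
    Nat.card (Subgroup.normalizer ((P : Subgroup G) : Set G)) = 21 := by
  have h1 := card_normalizer_mul_card_sylow P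
  rw [n7 h, h] at h1
  omega

theorem C7 (h : Nat.card G = 168) (P : Sylow 7 G) :
    Subgroup.centralizer ((P : Subgroup G) : Set G) = (P : Subgroup G) := by
  apply cent_self P (card7 h P) (by rw [h]; norm_num)
  intro d h1 h2
  rw [N7 h P] at h1 ⊢
  have h3 := Nat.le_of_dvd (by norm_num) h1
  interval_cases d <;> omega

theorem n3 (h : Nat.card G = 168) : Nat.card (Sylow 3 G) = 28 := n3_eq h (C7 h) (N7 h)

theorem N3 (h : Nat.card G = 168) (P : Sylow 3 G) :
    Nat.card (Subgroup.normalizer ((P : Subgroup G) : Set G)) = 6 := by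
  have h1 := card_normalizer_mul_card_sylow P
  rw [n3 h, h] at h1
  omega

theorem C3 (h : Nat.card G = 168) (P : Sylow 3 G) :
    Subgroup.centralizer ((P : Subgroup G) : Set G) = (P : Subgroup G) := by
  apply cent_self P (card3 h P) (by rw [h]; norm_num)
  intro d h1 h2
  rw [N3 h P] at h1 ⊢
  have h3 := Nat.le_of_dvd (by norm_num) h1
  interval_cases d <;> omega

theorem n2 (h : Nat.card G = 168) : Nat.card (Sylow 2 G) = 21 := (main1003 h).1

/-- every non-identity element lies in a Sylow subgroup for 7, 3 or 2 -/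
theorem cover (h : Nat.card G = 168) (g : G) (_hg : g ≠ 1) :
    (∃ P : Sylow 7 G, g ∈ (P : Subgroup G)) ∨
      (∃ P : Sylow 3 G, g ∈ (P : Subgroup G)) ∨ (∃ P : Sylow 2 G, g ∈ (P : Subgroup G)) := by
  by_cases h7 : 7 ∣ orderOf g
  · exact Or.inl (exists_sylow_of_dvd (card7 h) (C7 h) g h7)
  by_cases h3 : 3 ∣ orderOf g
  · exact Or.inr (Or.inl (exists_sylow_of_dvd (card3 h) (C3 h) g h3))
  · right; right
    have hd : orderOf g ∣ 168 := by rw [← h]; exact orderOf_dvd_natCard g
    have hco : Nat.Coprime (orderOf g) 21 := by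
      have e : (21 : ℕ) = 3 * 7 := by norm_num
      rw [e]
      exact Nat.Coprime.mul_right
        ((Nat.Prime.coprime_iff_not_dvd (by norm_num)).2 h3).symm
        ((Nat.Prime.coprime_iff_not_dvd (by norm_num)).2 h7).symm
    have hd8 : orderOf g ∣ 2 ^ 3 := by
      have e : (168 : ℕ) = 21 * 2 ^ 3 := by norm_num
      rw [e] at hd
      exact hco.dvd_of_dvd_mul_left hd
    obtain ⟨j, -, hj⟩ := (Nat.dvd_prime_pow Nat.prime_two).1 hd8
    have hpg : IsPGroup 2 (Subgroup.zpowers g) :=
      IsPGroup.of_card (n := j) (by rw [Nat.card_zpowers, hj])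
    obtain ⟨P, hle⟩ := hpg.exists_le_sylow
    exact ⟨P, hle (Subgroup.mem_zpowers g)⟩

theorem N2 (h : Nat.card G = 168) (T : Sylow 2 G) :
    Subgroup.normalizer ((T : Subgroup G) : Set G) = (T : Subgroup G) := by
  have h1 := card_normalizer_mul_card_sylow T
  rw [n2 h, h] at h1
  have h2 : Nat.card (Subgroup.normalizer ((T : Subgroup G) : Set G)) = 8 := by omega
  exact (Subgroup.eq_of_le_of_card_ge Subgroup.le_normalizer (by rw [h2, card2 h T])).symm

theorem not_comm2 (h : Nat.card G = 168) (T : Sylow 2 G) :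
    ¬ ∀ x ∈ (T : Subgroup G), ∀ y ∈ (T : Subgroup G), x * y = y * x := by
  intro hc
  have h1 : Subgroup.normalizer ((T : Subgroup G) : Set G) ≤
      Subgroup.centralizer ((T : Subgroup G) : Set G) := by
    rw [N2 h T]
    intro y hy x hx
    exact hc x hx y hy
  have h2 := sylow_eq_top_of_normalizer_le_centralizer T h1
    (subgroup_ne_bot_of_card _ (by rw [card2 h T]; norm_num))
  have h3 := card2 h T
  rw [h2, Subgroup.card_top, h] at h3
  omega

theorem no_prime_cent {p : ℕ} [hp : Fact p.Prime] (h : Nat.card G = 168)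
    (hcard : ∀ P : Sylow p G, Nat.card (P : Subgroup G) = p)
    (hcent : ∀ P : Sylow p G,
      Subgroup.centralizer ((P : Subgroup G) : Set G) = (P : Subgroup G))
    (hp8 : Nat.Coprime p 8) (T : Sylow 2 G) {z : G} (hz : z ∈ (T : Subgroup G)) (hz1 : z ≠ 1) :
    ¬ p ∣ Nat.card (Subgroup.centralizer ({z} : Set G)) := by
  intro hdvd
  obtain ⟨x, hx⟩ := exists_prime_orderOf_dvd_card'
    (G := Subgroup.centralizer ({z} : Set G)) p hdvd
  have hxo : orderOf (x : G) = p := by rw [Subgroup.orderOf_coe]; exact hx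
  obtain ⟨P, hxP⟩ := exists_sylow_of_dvd hcard hcent (x : G) (by rw [hxo])
  have hx1 : (x : G) ≠ 1 := by
    intro h1
    rw [h1, orderOf_one] at hxo
    exact hp.out.one_lt.ne hxo
  have hcomm : Commute z (x : G) :=
    Subgroup.mem_centralizer_iff.mp x.2 z (Set.mem_singleton z)
  have hzP : z ∈ (P : Subgroup G) := mem_of_commute P (hcard P) (hcent P) hxP hx1 hcomm
  have hdisj : Disjoint (P : Subgroup G) (T : Subgroup G) :=
    Subgroup.disjoint_of_coprime_natCard (by rw [hcard P, card2 h T]; exact hp8)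
  exact hz1 (Subgroup.disjoint_def.mp hdisj hzP hz)

/-- the centralizer of a non-identity element of a Sylow 2-subgroup `T` central in `T` is `T` -/
theorem cent_invol (h : Nat.card G = 168) (T : Sylow 2 G) {z : G} (hz : z ∈ (T : Subgroup G))
    (hz1 : z ≠ 1) (hc : ∀ t ∈ (T : Subgroup G), t * z = z * t) :
    Subgroup.centralizer ({z} : Set G) = (T : Subgroup G) := by
  have hTC : (T : Subgroup G) ≤ Subgroup.centralizer ({z} : Set G) := by
    intro t ht
    rw [Subgroup.mem_centralizer_iff]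
    intro y hy
    rw [Set.mem_singleton_iff] at hy
    rw [hy]
    exact (hc t ht).symm
  have h8 : 8 ∣ Nat.card (Subgroup.centralizer ({z} : Set G)) := by
    have h1 := Subgroup.card_dvd_of_le hTC
    rwa [card2 h T] at h1
  have h168 : Nat.card (Subgroup.centralizer ({z} : Set G)) ∣ 168 := by
    rw [← h]
    exact Subgroup.card_subgroup_dvd_card _
  have h3 := no_prime_cent (p := 3) h (card3 h) (C3 h) (by decide) T hz hz1
  have h7 := no_prime_cent (p := 7) h (card7 h) (C7 h) (by decide) T hz hz1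
  obtain ⟨m, hm⟩ := h8
  rw [hm] at h168 h3 h7
  have hm21 : m ∣ 21 := by
    have e : (168 : ℕ) = 8 * 21 := by norm_num
    rw [e] at h168
    exact Nat.dvd_of_mul_dvd_mul_left (by norm_num) h168
  have hle := Nat.le_of_dvd (by norm_num) hm21
  have hm1 : m = 1 := by
    interval_cases m <;> omega
  rw [hm1] at hm
  exact (Subgroup.eq_of_le_of_card_ge hTC (by rw [hm, card2 h T])).symm

end Cfsg.Agent.Lib.Helper6.Simple168
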