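import Mathlib
import Cfsg.Agent.Lib.Helper6.Transfer2

set_option autoImplicit false

namespace Cfsg.Agent.Lib.Helper6

open MulAction Subgroup Function

/-- refined Thompson transfer: the kernel of the transfer into `S / M` has index two and misses `x` -/
theorem thompson_transfer_ker {G : Type*} [Group G] [Finite G] (S : Sylow 2 G) (M : Subgroup G)
    (hM : M.relIndex (S : Subgroup G) = 2)
    (n : ℕ) (hord : ∀ y ∈ (S : Subgroup G), y ∉ M → 2 ^ (n - 1) < orderOf y)
    (x : G) (hxn : orderOf x = 2 ^ n) (hcon : ∀ g : G, g * x * g⁻¹ ∉ M) :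
    ∃ H : Subgroup G, H.Normal ∧ H.index = 2 ∧ x ∉ H := by
  classical
  have hidx : (M.subgroupOf (S : Subgroup G)).index = 2 := hM
  let ϕ := signHom (M.subgroupOf (S : Subgroup G)) hidx
  let T := MonoidHom.transfer ϕ
  have : Fintype (orbitRel.Quotient (zpowers x) (G ⧸ (S : Subgroup G))) := Fintype.ofFinite _
  have hformula := MonoidHom.transfer_eq_prod_quotient_orbitRel_zpowers_quot ϕ x
  have hkd : ∀ q : orbitRel.Quotient (zpowers x) (G ⧸ (S : Subgroup G)),
      minimalPeriod (x • ·) q.out = 1 ∨ Even (minimalPeriod (x • ·) q.out) := by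
    intro q
    have hkd : minimalPeriod (x • ·) q.out ∣ 2 ^ n := by
      rw [← hxn]; exact minimalPeriod_dvd_orderOf' x q.out
    obtain ⟨j, hjn, hkj⟩ := (Nat.dvd_prime_pow Nat.prime_two).mp hkd
    rcases Nat.eq_zero_or_pos j with h0 | h0
    · left; rw [hkj, h0, pow_zero]
    · right; rw [hkj]; exact (Nat.even_pow.mpr ⟨even_two, by omega⟩)
  have hfac : ∀ q : orbitRel.Quotient (zpowers x) (G ⧸ (S : Subgroup G)),
      ϕ ⟨q.out.out⁻¹ * x ^ minimalPeriod (x • ·) q.out * q.out.out,
        QuotientGroup.out_conj_pow_minimalPeriod_mem _ x q.out⟩ =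
        if minimalPeriod (x • ·) q.out = 1 then -1 else 1 := by
    intro q
    have hmem : q.out.out⁻¹ * x ^ minimalPeriod (x • ·) q.out * q.out.out ∈ (S : Subgroup G) :=
      QuotientGroup.out_conj_pow_minimalPeriod_mem _ x q.out
    by_cases h1 : minimalPeriod (x • ·) q.out = 1
    · rw [if_pos h1]
      apply signHom_apply_of_not_mem
      rw [Subgroup.mem_subgroupOf]
      have := hcon q.out.out⁻¹
      rw [inv_inv] at this
      simpa [h1] using this
    · rw [if_neg h1]
      apply signHom_apply_of_mem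
      rw [Subgroup.mem_subgroupOf]
      by_contra hnotM
      have hlt := hord _ hmem hnotM
      have hkd : minimalPeriod (x • ·) q.out ∣ 2 ^ n := by
        rw [← hxn]; exact minimalPeriod_dvd_orderOf' x q.out
      obtain ⟨j, hjn, hkj⟩ := (Nat.dvd_prime_pow Nat.prime_two).mp hkd
      have hj1 : 1 ≤ j := by
        rcases Nat.eq_zero_or_pos j with h0 | h0
        · exfalso; apply h1; rw [hkj, h0, pow_zero]
        · exact h0
      have hord1 : orderOf (q.out.out⁻¹ * x ^ minimalPeriod (x • ·) q.out * q.out.out) =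
          orderOf (x ^ minimalPeriod (x • ·) q.out) := by
        have := (MulAut.conj q.out.out⁻¹).orderOf_eq (x ^ minimalPeriod (x • ·) q.out)
        simpa [MulAut.conj_apply] using this
      have hord2 : orderOf (x ^ minimalPeriod (x • ·) q.out) = 2 ^ (n - j) := by
        rw [hkj, orderOf_pow' x (by positivity), hxn,
          Nat.gcd_eq_right (pow_dvd_pow 2 hjn), Nat.pow_div hjn (by norm_num)]
      rw [hord1, hord2] at hlt
      have : 2 ^ (n - j) ≤ 2 ^ (n - 1) := Nat.pow_le_pow_right (by norm_num) (by omega)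
      omega
  have hTx : T x = ∏ q : orbitRel.Quotient (zpowers x) (G ⧸ (S : Subgroup G)),
      (if minimalPeriod (x • ·) q.out = 1 then (-1 : ℤˣ) else 1) := by
    rw [← Finset.prod_congr rfl (fun q _ => hfac q)]
    exact hformula
  rw [Finset.prod_ite, Finset.prod_const_one, mul_one, Finset.prod_const] at hTx
  -- parity
  have hsum := sum_minimalPeriod_eq_index (S : Subgroup G) x
  have hodd : Odd (S : Subgroup G).index := by
    rw [← Nat.not_even_iff_odd, even_iff_two_dvd]
    exact S.not_dvd_index
  have hc : Odd (Finset.univ.filter (fun q : orbitRel.Quotient (zpowers x) (G ⧸ (S : Subgroup G)) =>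
      minimalPeriod (x • ·) q.out = 1)).card := by
    have h2 : (((S : Subgroup G).index : ℕ) : ZMod 2) =
        ((Finset.univ.filter (fun q : orbitRel.Quotient (zpowers x) (G ⧸ (S : Subgroup G)) =>
          minimalPeriod (x • ·) q.out = 1)).card : ZMod 2) := by
      rw [← hsum, Nat.cast_sum, Finset.card_filter, Nat.cast_sum]
      apply Finset.sum_congr rfl
      intro q _
      rcases hkd q with h | h
      · simp [h]
      · have hne : minimalPeriod (x • ·) q.out ≠ 1 := by
          intro h1; rw [h1] at h; exact absurd h (by decide)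
        rw [if_neg hne, Nat.cast_zero]
        exact (ZMod.natCast_eq_zero_iff_even).mpr h
    rw [← Nat.not_even_iff_odd, ← ZMod.natCast_eq_zero_iff_even, ← h2,
      ZMod.natCast_eq_zero_iff_even, Nat.not_even_iff_odd]
    exact hodd
  rw [hc.neg_one_pow] at hTx
  refine ⟨T.ker, MonoidHom.normal_ker T, ?_, ?_⟩
  · rw [Subgroup.index_eq_two_iff_exists_notMem_and]
    refine ⟨x, ?_, fun b => ?_⟩
    · rw [MonoidHom.mem_ker, hTx]; decide
    · rcases Int.units_eq_one_or (T b) with h | h
      · right; exact MonoidHom.mem_ker.mpr h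
      · left; rw [MonoidHom.mem_ker, map_mul, h, hTx]; norm_num
  · rw [MonoidHom.mem_ker, hTx]; decide

end Cfsg.Agent.Lib.Helper6
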