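import Mathlib
import Cfsg.Agent.S1205
import Cfsg.Agent.S1004

set_option autoImplicit false

namespace Cfsg.Agent.Lib.Helper6.QDF
open Cfsg.Agent.S1236 Cfsg.Agent.S1203 Cfsg.Agent.S1204 Cfsg.Agent.S1205
  Cfsg.Agent.Lib.Lead.KleinDih Cfsg.Agent.Lib.Helper4 Cfsg.Agent.Lib.Helper6 Subgroup

set_option linter.unusedVariables false
set_option linter.unusedSectionVars false
set_option linter.style.haveILetI false

theorem q8_sq_eq : ∀ g : QuaternionGroup 2, g * g ≠ 1 →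
    g * g = QuaternionGroup.a 1 * QuaternionGroup.a 1 := by decide

theorem q8_gen2 : ∀ a b : QuaternionGroup 2, a * a ≠ 1 → b * b ≠ 1 → b ≠ a → b ≠ a⁻¹ →
    ∀ q : QuaternionGroup 2, ∃ i : Fin 4, ∃ j : Fin 2, q = a ^ (i : ℕ) * b ^ (j : ℕ) := by decide

section
variable {G : Type*} [Group G] [Finite G] (S : Sylow 2 G)

theorem z_zpow_even (d : QD S) (j : ℤ) : d.z ^ (2 * j) = 1 := by
  rw [zpow_mul, zpow_two, d.hzz, one_zpow]

theorem z_zpow_odd (d : QD S) (j : ℤ) : d.z ^ (2 * j + 1) = d.z := by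
  rw [zpow_add_one, z_zpow_even, one_mul]

theorem hxC (d : QD S) : d.x ∈ d.Cg := by rw [d.hCg]; exact Subgroup.mem_zpowers _

theorem comm_xz (d : QD S) : Commute d.x d.z := by
  have h := d.hzC
  rw [d.hCg] at h
  obtain ⟨m, hm⟩ := h
  have hm' : d.x ^ m = d.z := hm
  rw [← hm']
  exact (Commute.refl d.x).zpow_right m

theorem hxx (d : QD S) (j : ℤ) : (d.x * d.x) ^ j = d.x ^ (2 * j) := by
  rw [zpow_mul, zpow_two]

theorem hzx (d : QD S) : d.x ^ 2 ^ (d.n - 1) = d.z := by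
  have hn := d.hn
  apply d.hzu
  · exact d.Cg.pow_mem (hxC S d) _
  · rw [← pow_add, ← two_mul, ← pow_succ']
    have e : d.n - 1 + 1 = d.n := by omega
    rw [e, ← d.hxo]; exact pow_orderOf_eq_one d.x
  · intro h
    have h1 := orderOf_dvd_of_pow_eq_one h
    rw [d.hxo] at h1
    have h2 := Nat.le_of_dvd (by positivity) h1
    have h3 : 2 ^ (d.n - 1) < 2 ^ d.n := Nat.pow_lt_pow_right (by norm_num) (by omega)
    omega

/-- `Cg` is normal in `S` -/
theorem hCgn (d : QD S) : ∀ s ∈ (S : Subgroup G), ∀ c ∈ d.Cg, s * c * s⁻¹ ∈ d.Cg := by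
  intro s hs c hc
  by_cases hsC : s ∈ d.Cg
  · exact d.Cg.mul_mem (d.Cg.mul_mem hsC hc) (d.Cg.inv_mem hsC)
  · have h1 : s * c ∉ d.Cg := fun h => hsC (by
      have h2 := d.Cg.mul_mem h (d.Cg.inv_mem hc)
      have e : s * c * c⁻¹ = s := by group
      rwa [e] at h2)
    have h2 : s⁻¹ ∉ d.Cg := fun h => hsC (by simpa using d.Cg.inv_mem h)
    exact d.hprod (s * c) ((S : Subgroup G).mul_mem hs (d.hCgS hc)) s⁻¹
      ((S : Subgroup G).inv_mem hs) h1 h2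

section psi
variable (d : QD S) (t : G) (htS : t ∈ (S : Subgroup G)) (htC : t ∉ d.Cg) (htt : t * t = 1)
  (u₀ : G) (hu₀S : u₀ ∈ (S : Subgroup G)) (hu₀C : u₀ ∉ d.Cg) (hu₀sq : ¬ u₀ * u₀ = 1)

include htS htC htt hu₀S hu₀C hu₀sq

theorem conj_x : t * d.x * t⁻¹ = d.x⁻¹ * d.z := by
  have hxC := hxC S d
  have hxS := d.hCgS hxC
  have htinv : t⁻¹ = t := inv_eq_of_mul_eq_one_right htt
  have htx : t * d.x ∉ d.Cg := fun h => htC (by
    have h1 := d.Cg.mul_mem h (d.Cg.inv_mem hxC)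
    have e : t * d.x * d.x⁻¹ = t := by group
    rwa [e] at h1)
  have hsq := d.hsq (t * d.x) ((S : Subgroup G).mul_mem htS hxS) htx
  have e1 : (t * d.x) * (t * d.x) = (t * d.x * t⁻¹) * d.x := by rw [htinv]; group
  rcases hsq with h | h
  · exfalso
    have hinv : t * d.x * t⁻¹ = d.x⁻¹ := by
      rw [e1] at h
      exact eq_inv_of_mul_eq_one_left h
    apply hu₀sq
    have h2 : t * u₀ ∈ d.Cg := d.hprod t htS u₀ hu₀S htC hu₀C
    rw [d.hCg] at h2
    obtain ⟨k, hk⟩ := h2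
    have hk' : d.x ^ k = t * u₀ := hk
    have hu : u₀ = t * d.x ^ k := by rw [hk', ← mul_assoc, htt, one_mul]
    have hck : t * d.x ^ k * t⁻¹ = (d.x ^ k)⁻¹ := by
      rw [← conj_zpow, hinv, inv_zpow]
    rw [hu]
    calc t * d.x ^ k * (t * d.x ^ k) = (t * d.x ^ k * t⁻¹) * d.x ^ k := by rw [htinv]; group
      _ = 1 := by rw [hck]; group
  · rw [e1] at h
    have h3 : t * d.x * t⁻¹ = d.z * d.x⁻¹ := by rw [← h]; group
    rw [h3]
    exact ((comm_xz S d).inv_left).eq.symm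

theorem conj_xk (k : ℤ) : t * d.x ^ k * t⁻¹ = d.x ^ (-k) * d.z ^ k := by
  rw [← conj_zpow, conj_x S d t htS htC htt u₀ hu₀S hu₀C hu₀sq,
    ((comm_xz S d).inv_left).mul_zpow, inv_zpow']

theorem sq_txk (k : ℤ) : (t * d.x ^ k) * (t * d.x ^ k) = d.z ^ k := by
  have htinv : t⁻¹ = t := inv_eq_of_mul_eq_one_right htt
  have h1 := conj_xk S d t htS htC htt u₀ hu₀S hu₀C hu₀sq k
  have hc : Commute (d.z ^ k) (d.x ^ k) := ((comm_xz S d).symm.zpow_zpow k k)
  calc (t * d.x ^ k) * (t * d.x ^ k) = (t * d.x ^ k * t⁻¹) * d.x ^ k := by rw [htinv]; group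
    _ = d.x ^ (-k) * d.z ^ k * d.x ^ k := by rw [h1]
    _ = d.z ^ k := by
      rw [mul_assoc, hc.eq, ← mul_assoc, ← zpow_add, neg_add_cancel, zpow_zero, one_mul]

end psi

/-- the subgroup `A ∪ tA` for an involution `t` inverting `A` -/
def Dsub (A : Subgroup G) (t : G) (htt : t * t = 1) (hinv : ∀ a ∈ A, t * a * t⁻¹ = a⁻¹) :
    Subgroup G where
  carrier := {s | s ∈ A ∨ t * s ∈ A}
  one_mem' := Or.inl A.one_mem
  mul_mem' := by
    rintro s₁ s₂ (h1 | h1) (h2 | h2)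
    · exact Or.inl (A.mul_mem h1 h2)
    · right
      have e : t * (s₁ * s₂) = (t * s₁ * t⁻¹) * (t * s₂) := by group
      show t * (s₁ * s₂) ∈ A
      rw [e, hinv s₁ h1]; exact A.mul_mem (A.inv_mem h1) h2
    · right
      have e : t * (s₁ * s₂) = (t * s₁) * s₂ := by group
      show t * (s₁ * s₂) ∈ A
      rw [e]; exact A.mul_mem h1 h2
    · left
      have e : s₁ * s₂ = (t * (t * s₁) * t⁻¹) * (t * s₂) := by
        calc s₁ * s₂ = (t * t) * s₁ * s₂ := by rw [htt, one_mul]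
          _ = (t * (t * s₁) * t⁻¹) * (t * s₂) := by group
      show s₁ * s₂ ∈ A
      rw [e, hinv _ h1]; exact A.mul_mem (A.inv_mem h1) h2
  inv_mem' := by
    rintro s (h | h)
    · exact Or.inl (A.inv_mem h)
    · right
      have e : t * s⁻¹ = t * (t * s)⁻¹ * t⁻¹ := by
        calc t * s⁻¹ = t * s⁻¹ * (t * t)⁻¹ := by rw [htt]; simp
          _ = t * (t * s)⁻¹ * t⁻¹ := by group
      show t * s⁻¹ ∈ A
      rw [e, hinv _ (A.inv_mem h), inv_inv]; exact h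

theorem mem_Dsub (A : Subgroup G) (t : G) (htt : t * t = 1)
    (hinv : ∀ a ∈ A, t * a * t⁻¹ = a⁻¹) (s : G) :
    s ∈ Dsub A t htt hinv ↔ s ∈ A ∨ t * s ∈ A := Iff.rfl

theorem D_exists (d : QD S) (t : G) (htS : t ∈ (S : Subgroup G)) (htC : t ∉ d.Cg)
    (htt : t * t = 1) (u₀ : G) (hu₀S : u₀ ∈ (S : Subgroup G)) (hu₀C : u₀ ∉ d.Cg)
    (hu₀sq : ¬ u₀ * u₀ = 1) :
    ∃ D : Subgroup G, D ≤ (S : Subgroup G) ∧ D.relIndex (S : Subgroup G) = 2 ∧
      (∀ s, s ∈ D ↔ s ∈ Subgroup.zpowers (d.x * d.x) ∨ t * s ∈ Subgroup.zpowers (d.x * d.x)) ∧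
      (∀ s ∈ D, s ∈ d.Cg → s ∈ Subgroup.zpowers (d.x * d.x)) ∧
      (∀ s ∈ D, s ∉ d.Cg → s * s = 1) ∧
      (∀ y ∈ (S : Subgroup G), y ∉ D → y ≠ 1 ∧ ¬ y * y = 1) ∧
      (∀ a ∈ Subgroup.zpowers (d.x * d.x), t * a * t⁻¹ = a⁻¹) := by
  have hxC := hxC S d
  have hxS := d.hCgS hxC
  have htinv : t⁻¹ = t := inv_eq_of_mul_eq_one_right htt
  have hAC : Subgroup.zpowers (d.x * d.x) ≤ d.Cg := by
    rw [Subgroup.zpowers_le]; exact d.Cg.mul_mem hxC hxC
  have hinvA : ∀ a ∈ Subgroup.zpowers (d.x * d.x), t * a * t⁻¹ = a⁻¹ := by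
    rintro a ⟨j, hj⟩
    have hj' : (d.x * d.x) ^ j = a := hj
    rw [← hj', hxx, conj_xk S d t htS htC htt u₀ hu₀S hu₀C hu₀sq, z_zpow_even, mul_one, zpow_neg]
  have hCgx : ∀ c ∈ d.Cg, ∃ k : ℤ, d.x ^ k = c := by
    intro c hc
    rw [d.hCg] at hc
    exact hc
  have hevenA : ∀ j : ℤ, d.x ^ (2 * j) ∈ Subgroup.zpowers (d.x * d.x) :=
    fun j => ⟨j, hxx S d j⟩
  have hzA : d.z ∈ Subgroup.zpowers (d.x * d.x) := by
    rw [← hzx S d]
    have hn := d.hn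
    have e : 2 ^ (d.n - 1) = 2 * 2 ^ (d.n - 2) := by
      rw [← pow_succ']; congr 1; omega
    refine ⟨((2 ^ (d.n - 2) : ℕ) : ℤ), ?_⟩
    show (d.x * d.x) ^ ((2 ^ (d.n - 2) : ℕ) : ℤ) = d.x ^ 2 ^ (d.n - 1)
    rw [zpow_natCast, e, pow_mul, pow_two]
  have hmemC : ∀ s, s ∈ Dsub _ t htt hinvA → s ∈ d.Cg → s ∈ Subgroup.zpowers (d.x * d.x) := by
    intro s hs hsC
    rcases hs with h | h
    · exact h
    · exfalso
      apply htC
      have h1 := d.Cg.mul_mem (hAC h) (d.Cg.inv_mem hsC)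
      have e : t * s * s⁻¹ = t := by group
      rwa [e] at h1
  refine ⟨Dsub _ t htt hinvA, ?_, ?_, fun s => Iff.rfl, hmemC, ?_, ?_, hinvA⟩
  · intro s hs
    rcases hs with h | h
    · exact d.hCgS (hAC h)
    · have h1 := (S : Subgroup G).mul_mem ((S : Subgroup G).inv_mem htS) (d.hCgS (hAC h))
      have e : t⁻¹ * (t * s) = s := by group
      rwa [e] at h1
  · show ((Dsub _ t htt hinvA).subgroupOf (S : Subgroup G)).index = 2
    rw [Subgroup.index_eq_two_iff_exists_notMem_and]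
    refine ⟨⟨d.x, hxS⟩, ?_, ?_⟩
    · rw [Subgroup.mem_subgroupOf]
      intro hx
      obtain ⟨j, hj⟩ := hmemC _ hx hxC
      have hj' : (d.x * d.x) ^ j = d.x := hj
      rw [hxx] at hj'
      have h1 : d.x ^ (2 * j - 1) = 1 := by
        rw [zpow_sub_one, hj']; group
      have h2 := (orderOf_dvd_iff_zpow_eq_one).mpr h1
      rw [d.hxo] at h2
      have hn := d.hn
      have h3 : (2 : ℤ) ∣ 2 * j - 1 := by
        refine dvd_trans ?_ h2
        push_cast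
        exact dvd_pow_self 2 (by omega)
      omega
    · rintro ⟨b, hb⟩
      rw [Subgroup.mem_subgroupOf, Subgroup.mem_subgroupOf]
      show b * d.x ∈ Dsub _ t htt hinvA ∨ b ∈ Dsub _ t htt hinvA
      by_cases hbC : b ∈ d.Cg
      · obtain ⟨k, hk⟩ := hCgx b hbC
        rcases Int.even_or_odd' k with ⟨j, hj | hj⟩
        · right; left; rw [← hk, hj]; exact hevenA j
        · left; left
          have e : b * d.x = d.x ^ (2 * (j + 1)) := by
            rw [← hk, hj, ← zpow_add_one]; congr 1; ring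
          rw [e]; exact hevenA _
      · have h1 := d.hprod t htS b hb htC hbC
        obtain ⟨k, hk⟩ := hCgx _ h1
        rcases Int.even_or_odd' k with ⟨j, hj | hj⟩
        · right; right; show t * b ∈ _; rw [← hk, hj]; exact hevenA j
        · left; right
          show t * (b * d.x) ∈ _
          have e : t * (b * d.x) = d.x ^ (2 * (j + 1)) := by
            rw [← mul_assoc, ← hk, hj, ← zpow_add_one]; congr 1; ring
          rw [e]; exact hevenA _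
  · intro s hs hsC
    rcases hs with h | h
    · exact absurd (hAC h) hsC
    · obtain ⟨j, hj⟩ := h
      have hj' : (d.x * d.x) ^ j = t * s := hj
      have hs' : s = t * d.x ^ (2 * j) := by
        rw [← hxx, hj', ← mul_assoc, htt, one_mul]
      rw [hs', sq_txk S d t htS htC htt u₀ hu₀S hu₀C hu₀sq, z_zpow_even]
  · intro y hyS hyD
    refine ⟨fun h => hyD (h ▸ Subgroup.one_mem _), fun hyy => hyD ?_⟩
    by_cases hyC : y ∈ d.Cg
    · by_cases hy1 : y = 1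
      · rw [hy1]; exact Subgroup.one_mem _
      · left; rw [d.hzu y hyC hyy hy1]; exact hzA
    · have h1 := d.hprod t htS y hyS htC hyC
      obtain ⟨k, hk⟩ := hCgx _ h1
      have hy' : y = t * d.x ^ k := by rw [hk, ← mul_assoc, htt, one_mul]
      rw [hy', sq_txk S d t htS htC htt u₀ hu₀S hu₀C hu₀sq] at hyy
      rcases Int.even_or_odd' k with ⟨j, hj | hj⟩
      · right; show t * y ∈ _; rw [← hk, hj]; exact hevenA j
      · exfalso
        rw [hj, z_zpow_odd] at hyy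
        exact d.hz1 hyy

end

theorem mem_normQ {G : Type*} [Group G] [Finite G] (f : QuaternionGroup 2 →* G) (Q : Subgroup G)
    (hfQ : ∀ g, f g ∈ Q) (hfs : ∀ q ∈ Q, ∃ g, f g = q) (a b : QuaternionGroup 2)
    (ha : a * a ≠ 1) (hb : b * b ≠ 1) (hba : b ≠ a) (hba' : b ≠ a⁻¹) (m : G)
    (hma : m * f a * m⁻¹ ∈ Q) (hmb : m * f b * m⁻¹ ∈ Q) :
    m ∈ Subgroup.normalizer (Q : Set G) := by
  apply Subgroup.mem_normalizer_fintype
  intro v hv
  obtain ⟨q, hq⟩ := hfs v hv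
  obtain ⟨i, j, hij⟩ := q8_gen2 a b ha hb hba hba' q
  rw [← hq, hij, map_mul, map_pow, map_pow]
  have e : m * (f a ^ (i : ℕ) * f b ^ (j : ℕ)) * m⁻¹ =
      (m * f a * m⁻¹) ^ (i : ℕ) * (m * f b * m⁻¹) ^ (j : ℕ) := by
    rw [conj_pow, conj_pow]; simp [mul_assoc]
  rw [e]
  exact Q.mul_mem (Q.pow_mem hma _) (Q.pow_mem hmb _)

theorem cyc4 {G : Type*} [Group G] [Finite G] (S : Sylow 2 G) (d : QD S) (w : G)
    (hwC : w ∈ d.Cg) (hwo : orderOf w = 4) :
    ∀ y ∈ d.Cg, y ^ 4 = 1 → y ∈ Subgroup.zpowers w := by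
  classical
  intro y hyC hy4
  by_contra hcon
  have hw4 : w ^ 4 = 1 := by rw [← hwo]; exact pow_orderOf_eq_one w
  have hinj : Set.InjOn (fun i : ℕ => w ^ i) (Finset.range 4 : Set ℕ) := by
    intro a ha b hb hab
    have ha' : a < orderOf w := by rw [hwo]; simpa using ha
    have hb' : b < orderOf w := by rw [hwo]; simpa using hb
    exact pow_injOn_Iio_orderOf ha' hb' hab
  have hcard : ((Finset.range 4).image (fun i : ℕ => w ^ i)).card = 4 := by
    rw [Finset.card_image_of_injOn hinj, Finset.card_range]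
  have hy : y ∉ (Finset.range 4).image (fun i : ℕ => w ^ i) := by
    intro h
    rw [Finset.mem_image] at h
    obtain ⟨i, -, hi⟩ := h
    have hi' : w ^ i = y := hi
    rw [← hi'] at hcon
    exact hcon (Subgroup.pow_mem _ (Subgroup.mem_zpowers w) i)
  have h5 : (insert y ((Finset.range 4).image (fun i : ℕ => w ^ i))).card ≤ 4 := by
    apply d.hF
    intro c hc
    rw [Finset.mem_insert] at hc
    rcases hc with hc | hc
    · rw [hc]; exact ⟨hyC, hy4⟩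
    · rw [Finset.mem_image] at hc
      obtain ⟨i, -, hi⟩ := hc
      have hi' : w ^ i = c := hi
      rw [← hi']
      refine ⟨d.Cg.pow_mem hwC i, ?_⟩
      rw [← pow_mul, mul_comm, pow_mul, hw4, one_pow]
  rw [Finset.card_insert_of_notMem hy, hcard] at h5
  omega

theorem q_part {G : Type*} [Group G] [Finite G] (S : Sylow 2 G) (d : QD S) (Q : Subgroup G)
    (hQS : Q ≤ (S : Subgroup G)) (eQ : Q ≃* QuaternionGroup 2)
    (h₂ : (Q ⊔ Subgroup.centralizer (Q : Set G)).relIndex (Subgroup.normalizer (Q : Set G)) = 2)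
    (t₂ : G) (ht₂S : t₂ ∈ (S : Subgroup G)) (ht₂C : t₂ ∉ d.Cg) (ht₂sq : t₂ * t₂ = 1) :
    ∃ u₀ : G, u₀ ∈ (S : Subgroup G) ∧ u₀ ∉ d.Cg ∧ ¬ u₀ * u₀ = 1 ∧ orderOf u₀ = 4 ∧
      (∀ g : G, g * u₀ * g⁻¹ ∉ d.Cg) ∧
      Nat.card {C : ConjClasses G // ∃ t : G, orderOf t = 4 ∧ ConjClasses.mk t = C} = 2 := by
  classical
  haveI : Fact (Nat.Prime 2) := ⟨Nat.prime_two⟩
  obtain ⟨c₄, d₄, hc₄C, hc₄o, hc₄d⟩ := d.hc4
  -- structure of Q
  obtain ⟨f, hfdef⟩ : ∃ f : QuaternionGroup 2 →* G, f = Q.subtype.comp eQ.symm.toMonoidHom :=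
    ⟨_, rfl⟩
  have hfQ : ∀ g, f g ∈ Q := by intro g; rw [hfdef]; exact (eQ.symm g).2
  have hfs : ∀ q ∈ Q, ∃ g, f g = q := by
    intro q hq; exact ⟨eQ ⟨q, hq⟩, by rw [hfdef]; simp⟩
  have hfi : Function.Injective f := by
    rw [hfdef]; exact (Subgroup.subtype_injective _).comp eQ.symm.injective
  have hf4 : ∀ g, (f g) ^ 4 = 1 := by intro g; rw [← map_pow, q8_pow4 g, map_one]
  have hfS : ∀ g, f g ∈ (S : Subgroup G) := fun g => hQS (hfQ g)
  obtain ⟨QF, hQF⟩ : ∃ QF : Finset G, QF = Finset.univ.image f := ⟨_, rfl⟩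
  have hQFcard : QF.card = 8 := by
    rw [hQF, Finset.card_image_of_injective _ hfi, Finset.card_univ, QuaternionGroup.card]
  have hQFmem : ∀ q, q ∈ QF ↔ ∃ g, f g = q := by
    intro q; rw [hQF, Finset.mem_image]
    constructor
    · rintro ⟨g, -, h⟩; exact ⟨g, h⟩
    · rintro ⟨g, h⟩; exact ⟨g, Finset.mem_univ _, h⟩
  have hF1 : (QF.filter (fun q => q ∈ d.Cg)).card ≤ 4 := by
    apply d.hF
    intro c hc
    rw [Finset.mem_filter, hQFmem] at hc
    obtain ⟨⟨g, rfl⟩, hcC⟩ := hc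
    exact ⟨hcC, hf4 g⟩
  have hF12 := Finset.card_filter_add_card_filter_not (s := QF) (fun q => q ∈ d.Cg)
  obtain ⟨u₀, hu₀F⟩ : ∃ u₀, u₀ ∈ QF.filter (fun q => ¬ q ∈ d.Cg) := by
    apply Finset.card_pos.mp
    omega
  rw [Finset.mem_filter, hQFmem] at hu₀F
  obtain ⟨⟨g₀, hg₀⟩, hu₀C⟩ := hu₀F
  have hu₀S : u₀ ∈ (S : Subgroup G) := by rw [← hg₀]; exact hfS g₀
  have hu₀Q : u₀ ∈ Q := by rw [← hg₀]; exact hfQ g₀
  have hu₀inv : u₀⁻¹ ∉ d.Cg := fun h => hu₀C (by simpa using d.Cg.inv_mem h)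
  have hF21 : (QF.filter (fun q => ¬ q ∈ d.Cg)).card ≤ (QF.filter (fun q => q ∈ d.Cg)).card := by
    apply Finset.card_le_card_of_injOn (fun q => u₀⁻¹ * q)
    · intro q hq
      rw [Finset.mem_coe, Finset.mem_filter, hQFmem] at hq
      obtain ⟨⟨g, rfl⟩, hqC⟩ := hq
      rw [Finset.mem_coe, Finset.mem_filter, hQFmem]
      refine ⟨⟨g₀⁻¹ * g, by rw [map_mul, map_inv, hg₀]⟩, ?_⟩
      exact d.hprod u₀⁻¹ ((S : Subgroup G).inv_mem hu₀S) (f g) (hfS g) hu₀inv hqC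
    · intro q _ q' _ hqq
      exact mul_left_cancel hqq
  have hF1eq : (QF.filter (fun q => q ∈ d.Cg)).card = 4 := by omega
  have hCg4 : ∀ v ∈ d.Cg, v ^ 4 = 1 → ∃ g, f g = v := by
    intro v hvC hv4
    by_contra hcon
    have hvF : v ∉ QF.filter (fun q => q ∈ d.Cg) := by
      intro h
      rw [Finset.mem_filter, hQFmem] at h
      exact hcon h.1
    have h5 : (insert v (QF.filter (fun q => q ∈ d.Cg))).card ≤ 4 := by
      apply d.hF
      intro c hc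
      rw [Finset.mem_insert] at hc
      rcases hc with rfl | hc
      · exact ⟨hvC, hv4⟩
      · rw [Finset.mem_filter, hQFmem] at hc
        obtain ⟨⟨g, rfl⟩, hcC⟩ := hc
        exact ⟨hcC, hf4 g⟩
    rw [Finset.card_insert_of_notMem hvF, hF1eq] at h5
    omega
  have hu₀sq : ¬ u₀ * u₀ = 1 := by
    intro h
    rw [← hg₀, ← map_mul] at h
    have h1 : g₀ * g₀ = 1 := hfi (h.trans (map_one f).symm)
    rcases q8_sq_one g₀ h1 with h2 | h2
    · apply hu₀C; rw [← hg₀, h2, map_one]; exact d.Cg.one_mem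
    · apply hu₀C
      rw [← hg₀, h2, map_mul]
      by_cases h3 : f (QuaternionGroup.a 1) ∈ d.Cg
      · exact d.Cg.mul_mem h3 h3
      · exact d.hprod _ (hfS _) _ (hfS _) h3 h3
  have hg₀sq : g₀ * g₀ ≠ 1 := by
    intro h
    apply hu₀sq
    rw [← hg₀, ← map_mul, h, map_one]
  have hu₀4 : u₀ ^ 4 = 1 := by rw [← hg₀]; exact hf4 g₀
  have hu₀o : orderOf u₀ = 4 := by
    have e1 : ¬ u₀ ^ 2 ^ 1 = 1 := by rw [pow_one, pow_two]; exact hu₀sq
    have e2 : u₀ ^ 2 ^ (1 + 1) = 1 := by norm_num; exact hu₀4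
    have := orderOf_eq_prime_pow e1 e2
    rw [this]; norm_num
  have hu₀z : u₀ * u₀ = d.z := (d.hsq u₀ hu₀S hu₀C).resolve_left hu₀sq
  have hQinv : ∀ g : QuaternionGroup 2, ∃ h : G, h * f g * h⁻¹ = f g⁻¹ := by
    intro g
    obtain ⟨q, hq⟩ := q8_inv_conj g
    exact ⟨f q, by rw [← map_inv, ← map_mul, ← map_mul, hq]⟩
  -- elements of `Cg` that do not square to one are not powers of `u₀`
  have hpowC : ∀ w ∈ d.Cg, ¬ w * w = 1 → w ∉ Subgroup.zpowers u₀ := by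
    intro w hwC hww hwz
    obtain ⟨k, hk⟩ := Subgroup.mem_zpowers_iff.mp hwz
    rcases Cfsg.Agent.S1004.zpow_cases4 u₀ hu₀4 k with h | h | h | h
    · apply hww; rw [← hk, h, one_mul]
    · apply hu₀C; rw [← h, hk]; exact hwC
    · apply hww; rw [← hk, h]
      show u₀ ^ 2 * u₀ ^ 2 = 1
      rw [← pow_add]; exact hu₀4
    · apply hu₀C
      have h1 : u₀⁻¹ ∈ d.Cg := by rw [← h, hk]; exact hwC
      simpa using d.Cg.inv_mem h1
  -- the conjugation action on the three cyclic subgroups of order four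
  have hnotin : ∀ m (hm : m ∈ Subgroup.normalizer (Q : Set G)),
      m * u₀ * m⁻¹ ∉ Subgroup.zpowers u₀ →
      (⟨m, hm⟩ : ↥(Subgroup.normalizer (Q : Set G))) ∉ (conjPermQ f Q hfQ hfs hfi).ker := by
    intro m hm hmu hker
    rw [MonoidHom.mem_ker] at hker
    obtain ⟨A₀, hA₀⟩ : ∃ A₀ : {A : Subgroup G // Cfsg.Agent.S1203.three f A},
        A₀.1 = Subgroup.zpowers (f g₀) := ⟨⟨_, three_of_sq_ne f g₀ hg₀sq⟩, rfl⟩
    have h1 : ((conjPermQ f Q hfQ hfs hfi ⟨m, hm⟩) A₀).1 = A₀.1 := by rw [hker]; rfl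
    rw [conjPermQ_apply, hA₀, MonoidHom.map_zpowers] at h1
    have h2 : (MulAut.conj m).toMonoidHom (f g₀) ∈ Subgroup.zpowers (f g₀) := by
      rw [← h1]; exact Subgroup.mem_zpowers _
    rw [hg₀] at h2
    exact hmu h2
  have hker := kerQ f Q hfQ hfs hfi
  have hidx2 : (conjPermQ f Q hfQ hfs hfi).ker.index = 2 := by rw [hker]; exact h₂
  have hnofus4 : ∀ g : G, g * u₀ * g⁻¹ ∉ d.Cg := by
    intro g hgC
    obtain ⟨w, hw⟩ : ∃ w, w = g * u₀ * g⁻¹ := ⟨_, rfl⟩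
    rw [← hw] at hgC
    have hwo : orderOf w = 4 := by
      rw [hw, ← SemiconjBy.orderOf_eq g (SemiconjBy.conj_mk g u₀)]; exact hu₀o
    have hkey := cyc4 S d w hgC hwo
    have hSN : (S : Subgroup G) ≤
        Subgroup.normalizer ((Subgroup.zpowers w : Subgroup G) : Set G) := by
      intro s hs
      apply Subgroup.mem_normalizer_fintype
      intro y hy
      obtain ⟨k, hk⟩ := Subgroup.mem_zpowers_iff.mp hy
      rw [← hk, ← conj_zpow]
      show (s * w * s⁻¹) ^ k ∈ Subgroup.zpowers w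
      apply Subgroup.zpow_mem
      apply hkey _ (hCgn S d s hs w hgC)
      rw [conj_pow, ← hwo, pow_orderOf_eq_one]; group
    have hQN : cj g Q ≤ Subgroup.normalizer ((Subgroup.zpowers w : Subgroup G) : Set G) := by
      intro y hy
      rw [mem_cj_iff] at hy
      obtain ⟨q, hq⟩ := hfs _ hy
      apply Subgroup.mem_normalizer_fintype
      intro v hv
      obtain ⟨k, hk⟩ := Subgroup.mem_zpowers_iff.mp hv
      rw [← hk, ← conj_zpow]
      show (y * w * y⁻¹) ^ k ∈ Subgroup.zpowers w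
      apply Subgroup.zpow_mem
      have hy' : y = g * f q * g⁻¹ := by rw [hq]; group
      have e : y * w * y⁻¹ = g * f (q * g₀ * q⁻¹) * g⁻¹ := by
        rw [hy', hw, map_mul, map_mul, map_inv, hg₀]; group
      rw [e]
      rcases Cfsg.Agent.S1203.q8_conj q g₀ with h | h
      · rw [h, hg₀, ← hw]; exact Subgroup.mem_zpowers w
      · rw [h, map_inv, hg₀]
        have e2 : g * u₀⁻¹ * g⁻¹ = w⁻¹ := by rw [hw]; group
        rw [e2]; exact Subgroup.inv_mem _ (Subgroup.mem_zpowers w)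
    have hpQ : IsPGroup 2 (cj g Q) := cj_isPGroup 2 g (S.2.to_le hQS)
    obtain ⟨c₀, hcN, hcA⟩ := conj_into_sub _ S hSN (cj g Q) hQN hpQ
    obtain ⟨g', hg'⟩ : ∃ g', g' = c₀ * g := ⟨_, rfl⟩
    have hg'Q : ∀ q, g' * f q * g'⁻¹ ∈ (S : Subgroup G) := by
      intro q
      have h1 := hcA (g * f q * g⁻¹) (conj_mem_cj g Q (hfQ q))
      have e : c₀ * (g * f q * g⁻¹) * c₀⁻¹ = g' * f q * g'⁻¹ := by rw [hg']; group
      rwa [e] at h1
    have hg'u : g' * u₀ * g'⁻¹ ∈ d.Cg := by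
      have e : g' * u₀ * g'⁻¹ = c₀ * w * c₀⁻¹ := by rw [hg', hw]; group
      rw [e]
      have h1 : c₀ * w * c₀⁻¹ ∈ Subgroup.zpowers w :=
        ((Subgroup.mem_normalizer_iff.mp hcN) w).mp (Subgroup.mem_zpowers w)
      obtain ⟨k, hk⟩ := Subgroup.mem_zpowers_iff.mp h1
      rw [← hk]; exact d.Cg.zpow_mem hgC k
    have hex : ∃ g₁ : QuaternionGroup 2, g' * f g₁ * g'⁻¹ ∉ d.Cg := by
      by_contra hall
      push Not at hall
      have hinj' : Function.Injective (fun q : QuaternionGroup 2 => g' * f q * g'⁻¹) := by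
        intro a b hab
        apply hfi
        have := congrArg (fun u => g'⁻¹ * u * g') hab
        simpa [mul_assoc] using this
      have h8 : (Finset.univ.image (fun q : QuaternionGroup 2 => g' * f q * g'⁻¹)).card = 8 := by
        rw [Finset.card_image_of_injective _ hinj', Finset.card_univ, QuaternionGroup.card]
      have h4 := d.hF (Finset.univ.image (fun q : QuaternionGroup 2 => g' * f q * g'⁻¹)) (by
        intro c hc
        rw [Finset.mem_image] at hc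
        obtain ⟨q, -, hq⟩ := hc
        have hq' : g' * f q * g'⁻¹ = c := hq
        rw [← hq']
        refine ⟨hall q, ?_⟩
        rw [conj_pow, hf4 q]; group)
      omega
    obtain ⟨g₁, hg₁C⟩ := hex
    have hg₁sq : g₁ * g₁ ≠ 1 := by
      intro h
      rcases q8_sq_one g₁ h with h2 | h2
      · apply hg₁C; rw [h2, map_one]
        have e : g' * 1 * g'⁻¹ = 1 := by group
        rw [e]; exact d.Cg.one_mem
      · apply hg₁C
        rw [h2, ← q8_sq_eq g₀ hg₀sq, map_mul, hg₀]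
        have e : g' * (u₀ * u₀) * g'⁻¹ = (g' * u₀ * g'⁻¹) * (g' * u₀ * g'⁻¹) := by group
        rw [e]; exact d.Cg.mul_mem hg'u hg'u
    have hg₁ne : g₁ ≠ g₀ := by
      intro h; apply hg₁C; rw [h, hg₀]; exact hg'u
    have hg₁ne' : g₁ ≠ g₀⁻¹ := by
      intro h; apply hg₁C; rw [h, map_inv, hg₀]
      have e : g' * u₀⁻¹ * g'⁻¹ = (g' * u₀ * g'⁻¹)⁻¹ := by group
      rw [e]; exact d.Cg.inv_mem hg'u
    have hv₁sq : ¬ (g' * f g₁ * g'⁻¹) * (g' * f g₁ * g'⁻¹) = 1 := by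
      intro h
      apply hg₁sq
      apply hfi
      rw [map_one, map_mul]
      have e : g' * (f g₁ * f g₁) * g'⁻¹ = 1 := by rw [← h]; group
      exact conj_eq_one_iff.mp e
    obtain ⟨h, hhS, hh⟩ :=
      (d.htwo t₂ ht₂S u₀ hu₀S ht₂C hu₀C ht₂sq hu₀sq _ (hg'Q g₁) hg₁C).2 hv₁sq
    obtain ⟨nn, hnn⟩ : ∃ nn, nn = h⁻¹ * g' := ⟨_, rfl⟩
    have hn1 : nn * f g₁ * nn⁻¹ = u₀ := by
      rw [hnn]
      calc (h⁻¹ * g') * f g₁ * (h⁻¹ * g')⁻¹ = h⁻¹ * (g' * f g₁ * g'⁻¹) * h := by group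
        _ = h⁻¹ * (h * u₀ * h⁻¹) * h := by rw [hh]
        _ = u₀ := by group
    obtain ⟨cc, hcc⟩ : ∃ cc, cc = nn * u₀ * nn⁻¹ := ⟨_, rfl⟩
    have hccC : cc ∈ d.Cg := by
      have e : cc = h⁻¹ * (g' * u₀ * g'⁻¹) * h⁻¹⁻¹ := by rw [hcc, hnn]; group
      rw [e]; exact hCgn S d h⁻¹ ((S : Subgroup G).inv_mem hhS) _ hg'u
    have hcc4 : cc ^ 4 = 1 := by rw [hcc, conj_pow, hu₀4]; group
    have hccsq : ¬ cc * cc = 1 := by
      intro h1
      apply hu₀sq
      have e : nn * (u₀ * u₀) * nn⁻¹ = 1 := by rw [← h1, hcc]; group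
      exact conj_eq_one_iff.mp e
    obtain ⟨gc, hgc⟩ := hCg4 cc hccC hcc4
    have hccQ : cc ∈ Q := by rw [← hgc]; exact hfQ gc
    have hnnN : nn ∈ Subgroup.normalizer (Q : Set G) :=
      mem_normQ f Q hfQ hfs g₀ g₁ hg₀sq hg₁sq hg₁ne hg₁ne' nn
        (by rw [hg₀, ← hcc]; exact hccQ) (by rw [hn1]; exact hu₀Q)
    have hucS : u₀ * cc ∈ (S : Subgroup G) := (S : Subgroup G).mul_mem hu₀S (d.hCgS hccC)
    have hucC : u₀ * cc ∉ d.Cg := fun h1 => hu₀C (by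
      have h2 := d.Cg.mul_mem h1 (d.Cg.inv_mem hccC)
      have e : u₀ * cc * cc⁻¹ = u₀ := by group
      rwa [e] at h2)
    have hucsq : ¬ (u₀ * cc) * (u₀ * cc) = 1 := by
      intro h1
      have h2 : (g₀ * gc) * (g₀ * gc) = 1 := by
        apply hfi; rw [map_one, map_mul, map_mul, hg₀, hgc]; exact h1
      apply hucC
      rcases q8_sq_one _ h2 with h3 | h3
      · have h4 : u₀ * cc = 1 := by rw [← hg₀, ← hgc, ← map_mul, h3, map_one]
        rw [h4]; exact d.Cg.one_mem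
      · have h4 : u₀ * cc = u₀ * u₀ := by
          rw [← hg₀, ← hgc, ← map_mul, h3, ← q8_sq_eq g₀ hg₀sq, map_mul]
        rw [h4, hu₀z]; exact d.hzC
    obtain ⟨s₂, hs₂S, hs₂⟩ :=
      (d.htwo t₂ ht₂S u₀ hu₀S ht₂C hu₀C ht₂sq hu₀sq _ hucS hucC).2 hucsq
    have hs₂c : s₂ * cc * s₂⁻¹ ∈ d.Cg := hCgn S d s₂ hs₂S cc hccC
    have hs₂c4 : (s₂ * cc * s₂⁻¹) ^ 4 = 1 := by rw [conj_pow, hcc4]; group
    obtain ⟨gc', hgc'⟩ := hCg4 _ hs₂c hs₂c4
    have hgcsq : gc * gc ≠ 1 := by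
      intro h1; apply hccsq; rw [← hgc, ← map_mul, h1, map_one]
    have hgcne : gc ≠ g₀ := by
      intro h1; apply hu₀C; rw [← hg₀, ← h1, hgc]; exact hccC
    have hgcne' : gc ≠ g₀⁻¹ := by
      intro h1; apply hu₀C
      have h2 : u₀⁻¹ ∈ d.Cg := by rw [← hg₀, ← map_inv, ← h1, hgc]; exact hccC
      simpa using d.Cg.inv_mem h2
    have hs₂N : s₂ ∈ Subgroup.normalizer (Q : Set G) :=
      mem_normQ f Q hfQ hfs g₀ gc hg₀sq hgcsq hgcne hgcne' s₂
        (by rw [hg₀, hs₂]; exact Q.mul_mem hu₀Q hccQ)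
        (by rw [hgc, ← hgc']; exact hfQ _)
    have hnn_out : (⟨nn, hnnN⟩ : ↥(Subgroup.normalizer (Q : Set G))) ∉
        (conjPermQ f Q hfQ hfs hfi).ker :=
      hnotin nn hnnN (by rw [← hcc]; exact hpowC cc hccC hccsq)
    have hs₂_out : (⟨s₂, hs₂N⟩ : ↥(Subgroup.normalizer (Q : Set G))) ∉
        (conjPermQ f Q hfQ hfs hfi).ker := by
      apply hnotin s₂ hs₂N
      rw [hs₂]
      intro h1
      apply hpowC cc hccC hccsq
      have h2 := Subgroup.mul_mem _ (Subgroup.inv_mem _ (Subgroup.mem_zpowers u₀)) h1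
      have e : u₀⁻¹ * (u₀ * cc) = cc := by group
      rwa [e] at h2
    have hprodN : s₂ * nn ∈ Subgroup.normalizer (Q : Set G) := Subgroup.mul_mem _ hs₂N hnnN
    have hprod_out : (⟨s₂ * nn, hprodN⟩ : ↥(Subgroup.normalizer (Q : Set G))) ∉
        (conjPermQ f Q hfQ hfs hfi).ker := by
      apply hnotin _ hprodN
      have e : (s₂ * nn) * u₀ * (s₂ * nn)⁻¹ = s₂ * cc * s₂⁻¹ := by rw [hcc]; group
      rw [e]
      apply hpowC _ hs₂c
      intro h1
      apply hccsq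
      have e2 : s₂ * (cc * cc) * s₂⁻¹ = 1 := by rw [← h1]; group
      exact conj_eq_one_iff.mp e2
    have hmul := (Subgroup.mul_mem_iff_of_index_two hidx2 (a := ⟨s₂, hs₂N⟩)
      (b := ⟨nn, hnnN⟩)).2 (iff_of_false hs₂_out hnn_out)
    exact hprod_out hmul
  have hC4 : Nat.card {C : ConjClasses G // ∃ t : G, orderOf t = 4 ∧ ConjClasses.mk t = C} = 2 := by
    have hkey := cyc4 S d c₄ hc₄C hc₄o
    have hc₄4 : c₄ ^ 4 = 1 := by rw [← hc₄o]; exact pow_orderOf_eq_one c₄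
    obtain ⟨gc₄, hgc₄⟩ := hCg4 c₄ hc₄C hc₄4
    have hc₄inv : ∃ h : G, h * c₄ * h⁻¹ = c₄⁻¹ := by
      obtain ⟨h, hh⟩ := hQinv gc₄
      rw [map_inv, hgc₄] at hh
      exact ⟨h, hh⟩
    have hord4 : ∀ v : G, orderOf v = 4 →
        (∃ h : G, h * c₄ * h⁻¹ = v) ∨ (∃ h : G, h * u₀ * h⁻¹ = v) := by
      intro v hv
      obtain ⟨g, hg⟩ := elt_conj_into_sylow S v 2 (by rw [hv]; norm_num)
      have hv4 : v ^ 4 = 1 := by rw [← hv]; exact pow_orderOf_eq_one v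
      have hv2 : ¬ v * v = 1 := by
        intro h
        have := orderOf_dvd_of_pow_eq_one (show v ^ 2 = 1 by rw [pow_two]; exact h)
        rw [hv] at this
        omega
      have hw4 : (g * v * g⁻¹) ^ 4 = 1 := by rw [conj_pow, hv4]; group
      have hw2 : ¬ (g * v * g⁻¹) * (g * v * g⁻¹) = 1 := by
        intro h
        apply hv2
        have e : g * (v * v) * g⁻¹ = 1 := by rw [← h]; group
        exact conj_eq_one_iff.mp e
      by_cases hwC : g * v * g⁻¹ ∈ d.Cg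
      · left
        obtain ⟨k, hk⟩ := Subgroup.mem_zpowers_iff.mp (hkey _ hwC hw4)
        rcases Cfsg.Agent.S1004.zpow_cases4 c₄ hc₄4 k with h | h | h | h
        · exfalso; apply hw2; rw [← hk, h, one_mul]
        · refine ⟨g⁻¹, ?_⟩
          rw [← h, hk]; group
        · exfalso; apply hw2; rw [← hk, h]
          show c₄ ^ 2 * c₄ ^ 2 = 1
          rw [← pow_add]; exact hc₄4
        · obtain ⟨h', hh'⟩ := hc₄inv
          refine ⟨g⁻¹ * h', ?_⟩
          calc g⁻¹ * h' * c₄ * (g⁻¹ * h')⁻¹ = g⁻¹ * (h' * c₄ * h'⁻¹) * g := by group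
            _ = g⁻¹ * (g * v * g⁻¹) * g := by rw [hh', ← h, hk]
            _ = v := by group
      · right
        obtain ⟨h, -, hh⟩ := (d.htwo t₂ ht₂S u₀ hu₀S ht₂C hu₀C ht₂sq hu₀sq _ hg hwC).2 hw2
        refine ⟨g⁻¹ * h, ?_⟩
        calc g⁻¹ * h * u₀ * (g⁻¹ * h)⁻¹ = g⁻¹ * (h * u₀ * h⁻¹) * g := by group
          _ = g⁻¹ * (g * v * g⁻¹) * g := by rw [hh]
          _ = v := by group
    rw [Nat.card_eq_two_iff]
    refine ⟨⟨ConjClasses.mk c₄, c₄, hc₄o, rfl⟩, ⟨ConjClasses.mk u₀, u₀, hu₀o, rfl⟩, ?_, ?_⟩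
    · intro heq
      have h1 : ConjClasses.mk c₄ = ConjClasses.mk u₀ := congrArg Subtype.val heq
      rw [ConjClasses.mk_eq_mk_iff_isConj, isConj_iff] at h1
      obtain ⟨c, hc⟩ := h1
      apply hnofus4 c⁻¹
      have e : c⁻¹ * u₀ * c⁻¹⁻¹ = c₄ := by rw [← hc]; group
      rw [e]; exact hc₄C
    · apply Set.eq_univ_of_forall
      rintro ⟨C, t, ht, rfl⟩
      rcases hord4 t ht with ⟨h, hh⟩ | ⟨h, hh⟩
      · left
        exact Subtype.ext ((ConjClasses.mk_eq_mk_iff_isConj).mpr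
          (isConj_iff.mpr ⟨h⁻¹, by rw [← hh]; group⟩))
      · right
        exact Subtype.ext ((ConjClasses.mk_eq_mk_iff_isConj).mpr
          (isConj_iff.mpr ⟨h⁻¹, by rw [← hh]; group⟩))
  exact ⟨u₀, hu₀S, hu₀C, hu₀sq, hu₀o, hnofus4, hC4⟩

end Cfsg.Agent.Lib.Helper6.QDF
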