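import Mathlib

set_option autoImplicit false

namespace Cfsg.Agent.Lib.Helper6

open QuaternionGroup

theorem zmod_add_self_eq_zero {m : ℕ} (hm : 1 ≤ m) (i : ZMod (2 * m)) (h : i + i = 0) :
    i = 0 ∨ i = (m : ZMod (2 * m)) := by
  haveI : NeZero (2 * m) := ⟨by omega⟩
  have hi : i = ((i.val : ℕ) : ZMod (2 * m)) := (ZMod.natCast_zmod_val i).symm
  have hlt : i.val < 2 * m := ZMod.val_lt i
  rw [hi, ← Nat.cast_add, ZMod.natCast_eq_zero_iff] at h
  obtain ⟨k, hk⟩ := h
  have hk2 : k = 0 ∨ k = 1 := by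
    rcases Nat.lt_or_ge k 2 with h2 | h2
    · omega
    · exfalso
      have : 2 * m * 2 ≤ 2 * m * k := Nat.mul_le_mul_left _ h2
      omega
  rcases hk2 with rfl | rfl
  · left
    rw [hi]
    have : i.val = 0 := by omega
    rw [this, Nat.cast_zero]
  · right
    rw [hi]
    have : i.val = m := by omega
    rw [this]

theorem zmod_two_ne_zero {m : ℕ} (hm : 2 ≤ m) : (2 : ZMod (2 * m)) ≠ 0 := by
  intro h
  have h1 : ((2 : ℕ) : ZMod (2 * m)) = 0 := by exact_mod_cast h
  rw [ZMod.natCast_eq_zero_iff] at h1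
  have := Nat.le_of_dvd (by norm_num) h1
  omega

theorem zmod_m_ne_zero {m : ℕ} (hm : 1 ≤ m) : (m : ZMod (2 * m)) ≠ 0 := by
  intro h
  rw [ZMod.natCast_eq_zero_iff] at h
  have := Nat.le_of_dvd (by omega) h
  omega

theorem quat_sq_eq_one {m : ℕ} (hm : 1 ≤ m) (q : QuaternionGroup m) (h : q ^ 2 = 1) :
    q = 1 ∨ q = a (m : ZMod (2 * m)) := by
  cases q with
  | a i =>
    rw [pow_two, a_mul_a, one_def] at h
    have h1 : i + i = 0 := by
      injection h
    rcases zmod_add_self_eq_zero hm i h1 with h2 | h2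
    · left; rw [h2, one_def]
    · right; rw [h2]
  | xa i =>
    exfalso
    rw [xa_sq, one_def] at h
    have h1 : (m : ZMod (2 * m)) = 0 := by injection h
    exact zmod_m_ne_zero hm h1

theorem quat_central {m : ℕ} (hm : 2 ≤ m) (c : QuaternionGroup m)
    (h : ∀ q : QuaternionGroup m, c * q = q * c) : c = 1 ∨ c = a (m : ZMod (2 * m)) := by
  cases c with
  | a i =>
    have h1 := h (xa 0)
    rw [a_mul_xa, xa_mul_a] at h1
    have h2 : 0 - i = 0 + i := by injection h1
    have h3 : i + i = 0 := by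
      have : i + i = (0 + i) - (0 - i) := by ring
      rw [this, h2, sub_self]
    rcases zmod_add_self_eq_zero (by omega) i h3 with h4 | h4
    · left; rw [h4, one_def]
    · right; rw [h4]
  | xa i =>
    exfalso
    have h1 := h (a 1)
    rw [a_mul_xa, xa_mul_a] at h1
    have h2 : i + 1 = i - 1 := by injection h1
    apply zmod_two_ne_zero hm
    have : (2 : ZMod (2 * m)) = (i + 1) - (i - 1) := by ring
    rw [this, h2, sub_self]

theorem quat_noncomm {m : ℕ} (hm : 2 ≤ m) :
    (a 1 : QuaternionGroup m) * xa 0 ≠ xa 0 * a 1 := by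
  rw [a_mul_xa, xa_mul_a]
  intro h
  have h2 : (0 : ZMod (2 * m)) - 1 = 0 + 1 := by injection h
  apply zmod_two_ne_zero hm
  have : (2 : ZMod (2 * m)) = (0 + 1) - (0 - 1) := by ring
  rw [this, h2, sub_self]

/-- abstract structure of a group isomorphic to a generalized quaternion group -/
theorem quat_structure {Y : Type*} [Group Y] (m : ℕ) (hm : 2 ≤ m)
    (φ : Y ≃* QuaternionGroup m) :
    ∃ ι β : Y, β ^ 2 = ι ∧ ι ≠ 1 ∧ ι ^ 2 = 1 ∧ (∀ g : Y, g ^ 2 = 1 → g = 1 ∨ g = ι) ∧
      (∀ c : Y, (∀ g : Y, c * g = g * c) → c = 1 ∨ c = ι) ∧ ∃ g h : Y, g * h ≠ h * g := by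
  refine ⟨φ.symm (a (m : ZMod (2 * m))), φ.symm (xa 0), ?_, ?_, ?_, ?_, ?_, ?_⟩
  · rw [← map_pow, xa_sq]
  · intro h
    have h1 : a (m : ZMod (2 * m)) = (1 : QuaternionGroup m) := by
      have := congrArg φ h
      simpa using this
    rw [one_def] at h1
    have h2 : (m : ZMod (2 * m)) = 0 := by injection h1
    exact zmod_m_ne_zero (by omega) h2
  · rw [← map_pow, pow_two, a_mul_a]
    have : (m : ZMod (2 * m)) + m = 0 := by
      rw [← Nat.cast_add, ← two_mul, ZMod.natCast_self]
    rw [this, a_zero, map_one]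
  · intro g hg
    have h1 : (φ g) ^ 2 = 1 := by rw [← map_pow, hg, map_one]
    rcases quat_sq_eq_one (by omega) (φ g) h1 with h2 | h2
    · left
      have := congrArg φ.symm h2
      simpa using this
    · right
      have := congrArg φ.symm h2
      simpa using this
  · intro c hc
    have h1 : ∀ q : QuaternionGroup m, φ c * q = q * φ c := by
      intro q
      have := hc (φ.symm q)
      have h2 := congrArg φ this
      simpa using h2
    rcases quat_central hm (φ c) h1 with h2 | h2
    · left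
      have := congrArg φ.symm h2
      simpa using this
    · right
      have := congrArg φ.symm h2
      simpa using this
  · refine ⟨φ.symm (a 1), φ.symm (xa 0), ?_⟩
    intro h
    apply quat_noncomm hm
    have := congrArg φ h
    simpa using this

end Cfsg.Agent.Lib.Helper6
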