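import Mathlib

set_option autoImplicit false

namespace Cfsg.Agent.Lib.Helper6

open MulAction

section RegNorm

variable {G Ω : Type*} [Group G] [MulAction G Ω]

/-- `M` is a subgroup of `N`, normalized by `N`, acting regularly -/
def RegNormIn (Ω : Type*) [MulAction G Ω] (N M : Subgroup G) : Prop :=
  M ≤ N ∧ (∀ n ∈ N, ∀ m ∈ M, n * m * n⁻¹ ∈ M) ∧ (∀ x y : Ω, ∃ m ∈ M, m • x = y) ∧
    (∀ m ∈ M, ∀ x : Ω, m • x = x → m = 1)

/-- all nonidentity elements of a regular normal subgroup of a doubly transitive group are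
conjugate -/
theorem RegNormIn.conj {N M : Subgroup G}
    (h2 : ∀ a b c e : Ω, a ≠ b → c ≠ e → ∃ n ∈ N, n • a = c ∧ n • b = e)
    (h : RegNormIn Ω N M) (a : Ω) {m m' : G} (hm : m ∈ M) (hm1 : m ≠ 1) (hm' : m' ∈ M)
    (hm'1 : m' ≠ 1) : ∃ n ∈ N, n * m * n⁻¹ = m' := by
  obtain ⟨hle, hnorm, htr, hfree⟩ := h
  have hma : a ≠ m • a := fun h' => hm1 (hfree m hm a h'.symm)
  have hm'a : a ≠ m' • a := fun h' => hm'1 (hfree m' hm' a h'.symm)
  obtain ⟨n, hn, hna, hnm⟩ := h2 a (m • a) a (m' • a) hma hm'a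
  refine ⟨n, hn, ?_⟩
  have h1 : n * m * n⁻¹ ∈ M := hnorm n hn m hm
  have h2' : (m'⁻¹ * (n * m * n⁻¹)) • a = a := by
    have hna' : n⁻¹ • a = a := by rw [inv_smul_eq_iff, hna]
    rw [mul_smul, mul_smul, mul_smul, hna', hnm, inv_smul_smul]
  have := hfree _ (M.mul_mem (M.inv_mem hm') h1) a h2'
  calc n * m * n⁻¹ = m' * (m'⁻¹ * (n * m * n⁻¹)) := by group
    _ = m' := by rw [this, mul_one]

/-- a regular normal subgroup of a doubly transitive group is abelian -/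
theorem RegNormIn.comm [Finite G] {N M : Subgroup G}
    (h2 : ∀ a b c e : Ω, a ≠ b → c ≠ e → ∃ n ∈ N, n • a = c ∧ n • b = e)
    (h : RegNormIn Ω N M) (a : Ω) {m₁ m₂ : G} (h1 : m₁ ∈ M) (h2' : m₂ ∈ M) :
    m₁ * m₂ = m₂ * m₁ := by
  by_cases hM : M = ⊥
  · rw [hM, Subgroup.mem_bot] at h1
    rw [h1, one_mul, mul_one]
  -- a prime dividing the order
  have hcard : Nat.card M ≠ 1 := by
    intro hc
    exact hM (Subgroup.card_eq_one.1 hc)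
  obtain ⟨p, hp, hpd⟩ := Nat.exists_prime_and_dvd hcard
  haveI : Fact p.Prime := ⟨hp⟩
  obtain ⟨z, hz⟩ := exists_prime_orderOf_dvd_card' (G := M) p hpd
  have hz1 : z ≠ 1 := by
    intro h'
    rw [h', orderOf_one] at hz
    exact hp.one_lt.ne hz
  have hz1' : (z : G) ≠ 1 := fun h' => hz1 (Subtype.ext h')
  have hpg : IsPGroup p M := by
    intro x
    by_cases hx : x = 1
    · exact ⟨0, by rw [hx, one_pow]⟩
    · have hx' : (x : G) ≠ 1 := fun h' => hx (Subtype.ext h')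
      obtain ⟨n, hn, hnz⟩ := h.conj h2 a z.2 hz1' x.2 hx'
      refine ⟨1, ?_⟩
      apply Subtype.ext
      rw [pow_one]
      show (x : G) ^ p = 1
      rw [← hnz, conj_pow]
      have : (z : G) ^ p = 1 := by
        have := pow_orderOf_eq_one z
        rw [hz] at this
        exact congrArg Subtype.val this
      rw [this]; group
  haveI : Nontrivial M := (Subgroup.nontrivial_iff_ne_bot M).2 hM
  haveI := hpg.center_nontrivial
  obtain ⟨⟨c, hcM⟩, hc1⟩ := exists_ne (1 : Subgroup.center M)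
  have hc1' : (c : G) ≠ 1 := by
    intro h'
    apply hc1
    apply Subtype.ext
    apply Subtype.ext
    exact h'
  have hccomm : ∀ m ∈ M, m * (c : G) = (c : G) * m := by
    intro m hm
    have := (Subgroup.mem_center_iff.1 hcM) ⟨m, hm⟩
    exact congrArg Subtype.val this
  -- every element is central
  have hcentral : ∀ x ∈ M, ∀ m ∈ M, m * x = x * m := by
    intro x hx m hm
    by_cases hx1 : x = 1
    · rw [hx1, mul_one, one_mul]
    obtain ⟨n, hn, hnc⟩ := h.conj h2 a c.2 hc1' hx hx1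
    have hm0 : n⁻¹ * m * n⁻¹⁻¹ ∈ M := h.2.1 n⁻¹ (N.inv_mem hn) m hm
    have := hccomm _ hm0
    rw [← hnc]
    calc m * (n * (c : G) * n⁻¹) = n * ((n⁻¹ * m * n⁻¹⁻¹) * (c : G)) * n⁻¹ := by group
      _ = n * ((c : G) * (n⁻¹ * m * n⁻¹⁻¹)) * n⁻¹ := by rw [this]
      _ = n * (c : G) * n⁻¹ * m := by group
  exact hcentral m₂ h2' m₁ h1

theorem RegNormIn.le_of [Finite G] [FaithfulSMul G Ω] {N M₁ M₂ : Subgroup G}
    (h2 : ∀ a b c e : Ω, a ≠ b → c ≠ e → ∃ n ∈ N, n • a = c ∧ n • b = e)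
    (hnt : ∃ a b : Ω, a ≠ b)
    (h₁ : RegNormIn Ω N M₁) (h₂ : RegNormIn Ω N M₂) : M₁ ≤ M₂ := by
  obtain ⟨a, b, hab⟩ := hnt
  by_cases hI : M₁ ⊓ M₂ = ⊥
  · exfalso
    -- the two subgroups commute
    have hcomm : ∀ m₁ ∈ M₁, ∀ m₂ ∈ M₂, m₁ * m₂ = m₂ * m₁ := by
      intro m₁ hm₁ m₂ hm₂
      have hmem : m₁ * m₂ * m₁⁻¹ * m₂⁻¹ ∈ M₁ ⊓ M₂ := by
        rw [Subgroup.mem_inf]
        constructor
        · have := h₁.2.1 m₂ (h₂.1 hm₂) m₁⁻¹ (M₁.inv_mem hm₁)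
          have := M₁.mul_mem hm₁ this
          have e : m₁ * (m₂ * m₁⁻¹ * m₂⁻¹) = m₁ * m₂ * m₁⁻¹ * m₂⁻¹ := by group
          rwa [e] at this
        · have := h₂.2.1 m₁ (h₁.1 hm₁) m₂ hm₂
          exact M₂.mul_mem this (M₂.inv_mem hm₂)
      rw [hI, Subgroup.mem_bot] at hmem
      calc m₁ * m₂ = (m₁ * m₂ * m₁⁻¹ * m₂⁻¹) * (m₂ * m₁) := by group
        _ = m₂ * m₁ := by rw [hmem, one_mul]
    obtain ⟨m₂, hm₂, hm₂a⟩ := h₂.2.2.1 a b
    obtain ⟨m₁, hm₁, hm₁a⟩ := h₁.2.2.1 a b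
    have hx : ∀ y : Ω, (m₁⁻¹ * m₂) • y = y := by
      intro y
      obtain ⟨m, hm, hma⟩ := h₁.2.2.1 a y
      have e1 : (m₁⁻¹ * m₂) * m = m * (m₁⁻¹ * m₂) := by
        have c1 := hcomm m hm m₂ hm₂
        have c2 := h₁.comm h2 a hm (M₁.inv_mem hm₁)
        calc (m₁⁻¹ * m₂) * m = m₁⁻¹ * (m₂ * m) := by group
          _ = m₁⁻¹ * (m * m₂) := by rw [c1]
          _ = (m₁⁻¹ * m) * m₂ := by group
          _ = (m * m₁⁻¹) * m₂ := by rw [c2]
          _ = m * (m₁⁻¹ * m₂) := by group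
      have e2 : (m₁⁻¹ * m₂) • a = a := by
        rw [mul_smul, hm₂a, inv_smul_eq_iff, hm₁a]
      rw [← hma, ← mul_smul, e1, mul_smul, e2]
    have hx1 : m₁⁻¹ * m₂ = 1 := by
      apply FaithfulSMul.eq_of_smul_eq_smul (α := Ω)
      intro y
      rw [hx y, one_smul]
    have heq : m₂ = m₁ := by
      calc m₂ = m₁ * (m₁⁻¹ * m₂) := by group
        _ = m₁ := by rw [hx1, mul_one]
    have hmem : m₂ ∈ M₁ ⊓ M₂ := Subgroup.mem_inf.2 ⟨heq ▸ hm₁, hm₂⟩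
    rw [hI, Subgroup.mem_bot] at hmem
    rw [hmem, one_smul] at hm₂a
    exact hab hm₂a
  · obtain ⟨⟨m, hm⟩, hm1⟩ := (Subgroup.ne_bot_iff_exists_ne_one).1 hI
    obtain ⟨hmM₁, hmM₂⟩ := Subgroup.mem_inf.1 hm
    have hm1' : (m : G) ≠ 1 := fun h' => hm1 (Subtype.ext h')
    intro x hx
    by_cases hx1 : x = 1
    · rw [hx1]; exact M₂.one_mem
    obtain ⟨n, hn, hnx⟩ := h₁.conj h2 a hmM₁ hm1' hx hx1
    rw [← hnx]
    exact h₂.2.1 n hn m hmM₂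

theorem RegNormIn.unique [Finite G] [FaithfulSMul G Ω] {N M₁ M₂ : Subgroup G}
    (h2 : ∀ a b c e : Ω, a ≠ b → c ≠ e → ∃ n ∈ N, n • a = c ∧ n • b = e)
    (hnt : ∃ a b : Ω, a ≠ b)
    (h₁ : RegNormIn Ω N M₁) (h₂ : RegNormIn Ω N M₂) : M₁ = M₂ :=
  le_antisymm (h₁.le_of h2 hnt h₂) (h₂.le_of h2 hnt h₁)

end RegNorm

end Cfsg.Agent.Lib.Helper6
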