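import Mathlib
import Cfsg.Prelude.Def_Involutions
import Cfsg.Agent.Lib.Helper1.StrongEmb
import Cfsg.Agent.S0223
import Cfsg.Agent.S1922

set_option autoImplicit false

namespace Cfsg.Agent.Lib.Helper6

open Cfsg Cfsg.Agent.Lib.Helper1

section

variable {G : Type*} [Group G] [Finite G] {H : Subgroup G}

theorem sq_of_orderOf_two (a : G) (ha : orderOf a = 2) : a ^ 2 = 1 := by
  rw [← ha]; exact pow_orderOf_eq_one _

/-- centralizers of involutions of a strongly embedded subgroup -/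
theorem se_cent_le (hH : IsStronglyEmbedded H) (t : G) (htH : t ∈ H) (ht : orderOf t = 2) (c : G)
    (hc : c * t = t * c) : c ∈ H :=
  ((Cfsg.Agent.S0223.result H hH.1 hH.2.1).1 hH).1 t htH ht
    (Subgroup.mem_centralizer_singleton_iff.2 hc)

/-- an involution of `H` lying in `g H g⁻¹` forces `g ∈ H` -/
theorem se_mem_of_conj_mem (hH : IsStronglyEmbedded H) (t : G) (htH : t ∈ H)
    (ht : orderOf t = 2) (g : G) (h : g⁻¹ * t * g ∈ H) : g ∈ H := by
  by_contra hg
  have hodd := hH.2.2 g hg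
  have hmem : t ∈ H ⊓ H.map (MulAut.conj g).toMonoidHom :=
    Subgroup.mem_inf.2 ⟨htH, mem_map_conj_iff.2 h⟩
  exact not_odd_card_of_invol_mem hmem ht hodd

/-- an involution of `H` and an involution outside `H` have a product of odd order -/
theorem se_odd_order (hH : IsStronglyEmbedded H) (a s : G) (haH : a ∈ H) (ha : orderOf a = 2)
    (hs : orderOf s = 2) (hsH : s ∉ H) : Odd (orderOf (a * s)) := by
  have ha2 := sq_of_orderOf_two a ha
  have hs2 := sq_of_orderOf_two s hs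
  by_contra hodd
  rw [Nat.not_odd_iff_even] at hodd
  obtain ⟨k, hk⟩ := hodd
  have hkpos : 0 < k := by
    have := orderOf_pos (a * s); omega
  have hk2 : (a * s) ^ (2 * k) = 1 := by
    rw [two_mul, ← hk]; exact pow_orderOf_eq_one _
  have hc1 : (a * s) ^ k ≠ 1 := pow_ne_one_of_lt_orderOf hkpos.ne' (by omega)
  have hc2 : ((a * s) ^ k) ^ 2 = 1 := by rw [← pow_mul, mul_comm]; exact hk2
  have hco : orderOf ((a * s) ^ k) = 2 := orderOf_eq_prime hc2 hc1
  have hca := Cfsg.Agent.S1922.central_comm_left a s ha2 hs2 k hk2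
  have hcs := Cfsg.Agent.S1922.central_comm_right a s ha2 hs2 k hk2
  have hcH : (a * s) ^ k ∈ H := se_cent_le hH a haH ha _ hca.symm
  exact hsH (se_cent_le hH _ hcH hco s hcs)

theorem pow_odd_orderOf (g : G) (hg : Odd (orderOf g)) : g ^ (2 * (orderOf g / 2) + 1) = 1 := by
  obtain ⟨k, hk⟩ := hg
  have : 2 * (orderOf g / 2) + 1 = orderOf g := by omega
  rw [this]; exact pow_orderOf_eq_one _

/-- the involution of `⟨a, b⟩` swapping `a` and `b` -/
noncomputable def mid (a b : G) : G := (a * b) ^ (orderOf (a * b) / 2) * a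

theorem mid_conj' (hH : IsStronglyEmbedded H) (a b : G) (haH : a ∈ H) (ha : orderOf a = 2)
    (hb : orderOf b = 2) (hbH : b ∉ H) : mid a b * a * (mid a b)⁻¹ = b :=
  Cfsg.Agent.S1922.mid_conj a b (sq_of_orderOf_two a ha) (sq_of_orderOf_two b hb) _
    (pow_odd_orderOf _ (se_odd_order hH a b haH ha hb hbH))

theorem orderOf_mid (hH : IsStronglyEmbedded H) (a b : G) (haH : a ∈ H) (ha : orderOf a = 2)
    (hb : orderOf b = 2) (hbH : b ∉ H) : orderOf (mid a b) = 2 := by
  have := Cfsg.Agent.S1922.mid_isConj a b (sq_of_orderOf_two a ha) (sq_of_orderOf_two b hb) _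
    (pow_odd_orderOf _ (se_odd_order hH a b haH ha hb hbH))
  obtain ⟨c, hc⟩ := isConj_iff.1 this
  unfold mid
  rw [← hc, orderOf_conj, ha]

theorem mid_conj_self (hH : IsStronglyEmbedded H) (a s : G) (haH : a ∈ H) (ha : orderOf a = 2)
    (hs : orderOf s = 2) (hsH : s ∉ H) : mid a (s * a * s⁻¹) = s := by
  have ha2 := sq_of_orderOf_two a ha
  have hs2 := sq_of_orderOf_two s hs
  have hodd := se_odd_order hH a s haH ha hs hsH
  have hsi := Cfsg.Agent.S1922.inv_eq_self_of_sq s hs2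
  have e1 : a * (s * a * s⁻¹) = (a * s) ^ 2 := by rw [hsi, pow_two]; group
  have hord : orderOf (a * (s * a * s⁻¹)) = orderOf (a * s) := by
    rw [e1]
    apply Nat.Coprime.orderOf_pow
    exact Nat.Coprime.symm (Nat.coprime_two_left.2 hodd)
  unfold mid
  rw [hord]
  exact Cfsg.Agent.S1922.mid_unique a s ha2 hs2 _ (pow_odd_orderOf _ hodd)

/-- any involution of `H` is conjugate to any involution outside `H` -/
theorem se_isConj (hH : IsStronglyEmbedded H) (a s : G) (haH : a ∈ H) (ha : orderOf a = 2)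
    (hs : orderOf s = 2) (hsH : s ∉ H) : IsConj a s :=
  Cfsg.Agent.S1875.isConj_of_odd a s (sq_of_orderOf_two a ha) (sq_of_orderOf_two s hs) _
    (pow_odd_orderOf _ (se_odd_order hH a s haH ha hs hsH))

/-- involutions mapping `H` to `g H` correspond to involutions of `g H g⁻¹` -/
theorem se_card_swap (hH : IsStronglyEmbedded H) (g : G) (hg : g ∉ H) :
    Nat.card {s : G // orderOf s = 2 ∧ g⁻¹ * s ∈ H} =
      Nat.card {b : G // orderOf b = 2 ∧ g⁻¹ * b * g ∈ H} := by
  obtain ⟨a, haH, ha⟩ := exists_invol_of_even_card H hH.2.1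
  have hbH : ∀ b : G, orderOf b = 2 → g⁻¹ * b * g ∈ H → b ∉ H := by
    intro b hb hbg hbH
    exact hg (se_mem_of_conj_mem hH b hbH hb g hbg)
  have hsH : ∀ s : G, g⁻¹ * s ∈ H → s ∉ H := by
    intro s hs hsH
    apply hg
    have := H.mul_mem hsH (H.inv_mem hs)
    have e : s * (g⁻¹ * s)⁻¹ = g := by group
    rw [e] at this
    exact this
  apply Nat.card_congr
  refine ⟨fun s => ⟨s.1 * a * s.1⁻¹, ?_, ?_⟩, fun b => ⟨mid a b.1, ?_, ?_⟩, ?_, ?_⟩
  · rw [orderOf_conj, ha]
  · have e : g⁻¹ * (s.1 * a * s.1⁻¹) * g = (g⁻¹ * s.1) * a * (g⁻¹ * s.1)⁻¹ := by group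
    rw [e]
    exact H.mul_mem (H.mul_mem s.2.2 haH) (H.inv_mem s.2.2)
  · exact orderOf_mid hH a b.1 haH ha b.2.1 (hbH b.1 b.2.1 b.2.2)
  · have h1 := mid_conj' hH a b.1 haH ha b.2.1 (hbH b.1 b.2.1 b.2.2)
    have h2 := b.2.2
    rw [← h1] at h2
    have e : g⁻¹ * (mid a b.1 * a * (mid a b.1)⁻¹) * g =
        ((g⁻¹ * mid a b.1)⁻¹)⁻¹ * a * (g⁻¹ * mid a b.1)⁻¹ := by group
    rw [e] at h2
    have := se_mem_of_conj_mem hH a haH ha _ h2
    have := H.inv_mem this
    rw [inv_inv] at this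
    exact this
  · intro s
    apply Subtype.ext
    exact mid_conj_self hH a s.1 haH ha s.2.1 (hsH s.1 s.2.2)
  · intro b
    apply Subtype.ext
    exact mid_conj' hH a b.1 haH ha b.2.1 (hbH b.1 b.2.1 b.2.2)

end

end Cfsg.Agent.Lib.Helper6
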