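import Mathlib

/-!
Sharply triply transitive groups: a two-point stabiliser has at most one subgroup of order 3.
Conjugation argument (no counting): if `x`, `y` are elements of order 3 fixing `a`, `b`, the element
carrying `(z, x z, x² z)` to `(z, y z, y² z)` conjugates `x` to `y`, fixes `z` and swaps `a`, `b`;
it is unique, so `y` and `y⁻¹` would coincide.
-/

namespace Cfsg.Agent.Lib.Helper6.Sharp3Three

theorem conj_swap {G α : Type*} [Group G] [MulAction G α]
    (fix3 : ∀ (g : G) (p q r : α), p ≠ q → p ≠ r → q ≠ r →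
      g • p = p → g • q = q → g • r = r → g = 1)
    (trans3 : ∀ (p q r p' q' r' : α), p ≠ q → p ≠ r → q ≠ r → p' ≠ q' → p' ≠ r' → q' ≠ r' →
      ∃ w : G, w • p = p' ∧ w • q = q' ∧ w • r = r')
    {a b z : α} (hab : a ≠ b) (hza : z ≠ a) (hzb : z ≠ b)
    (x y : G) (hxa : x • a = a) (hxb : x • b = b) (hya : y • a = a) (hyb : y • b = b)
    (hx1 : x ≠ 1) (hy1 : y ≠ 1) (hx3 : x ^ 3 = 1) (hy3 : y ^ 3 = 1) (hxy : x ≠ y) :
    ∃ w : G, w * x * w⁻¹ = y ∧ w • a = b ∧ w • b = a ∧ w • z = z := by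
  have cube : ∀ u : G, u ^ 3 = 1 → u • u • u • z = z := by
    intro u hu3
    rw [← mul_smul, ← mul_smul]
    have : u * u * u = u ^ 3 := by rw [pow_succ, pow_two]
    rw [this, hu3, one_smul]
  have orb : ∀ u : G, u • a = a → u • b = b → u ≠ 1 → u ^ 3 = 1 →
      u • z ≠ z ∧ u • u • z ≠ z ∧ u • u • z ≠ u • z := by
    intro u hua hub hu1 hu3
    have h1 : u • z ≠ z := fun h => hu1 (fix3 u a b z hab hza.symm hzb.symm hua hub h)
    refine ⟨h1, ?_, ?_⟩
    · intro h
      apply h1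
      calc u • z = u • (u • u • z) := by rw [h]
        _ = z := cube u hu3
    · intro h
      exact h1 (smul_left_cancel u h)
  obtain ⟨hx_1, hx_2, hx_3⟩ := orb x hxa hxb hx1 hx3
  obtain ⟨hy_1, hy_2, hy_3⟩ := orb y hya hyb hy1 hy3
  obtain ⟨w, hw0, hw1, hw2⟩ := trans3 z (x • z) (x • x • z) z (y • z) (y • y • z)
    (Ne.symm hx_1) (Ne.symm hx_2) (Ne.symm hx_3) (Ne.symm hy_1) (Ne.symm hy_2) (Ne.symm hy_3)
  have hwi0 : w⁻¹ • z = z := by rw [inv_smul_eq_iff, hw0]
  have hwi1 : w⁻¹ • y • z = x • z := by rw [inv_smul_eq_iff, hw1]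
  have hwi2 : w⁻¹ • y • y • z = x • x • z := by rw [inv_smul_eq_iff, hw2]
  have hx3z := cube x hx3
  have hy3z := cube y hy3
  have hc : w * x * w⁻¹ = y := by
    have : y⁻¹ * (w * x * w⁻¹) = 1 := by
      apply fix3 _ z (y • z) (y • y • z) hy_1.symm hy_2.symm hy_3.symm
      · simp only [mul_smul]
        rw [hwi0, hw1, inv_smul_smul]
      · simp only [mul_smul]
        rw [hwi1, hw2, inv_smul_smul]
      · simp only [mul_smul]
        rw [hwi2, hx3z, hw0, inv_smul_eq_iff, hy3z]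
    exact (inv_mul_eq_one.mp this).symm
  have fixy : ∀ p : α, y • p = p → p = a ∨ p = b := by
    intro p hp
    by_contra hcon
    push Not at hcon
    exact hy1 (fix3 y a b p hab (Ne.symm hcon.1) (Ne.symm hcon.2) hya hyb hp)
  have hwa_fix : y • (w • a) = w • a := by
    rw [← hc, mul_smul, mul_smul, inv_smul_smul, hxa]
  have hwb_fix : y • (w • b) = w • b := by
    rw [← hc, mul_smul, mul_smul, inv_smul_smul, hxb]
  have hwab : w • a ≠ w • b := fun h => hab (smul_left_cancel w h)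
  have hw_ne : w ≠ 1 := by
    rintro rfl
    apply hxy
    simpa using hc
  rcases fixy _ hwa_fix with h1 | h1
  · exfalso
    rcases fixy _ hwb_fix with h2 | h2
    · exact hwab (h1.trans h2.symm)
    · exact hw_ne (fix3 w a b z hab hza.symm hzb.symm h1 h2 hw0)
  · rcases fixy _ hwb_fix with h2 | h2
    · exact ⟨w, hc, h1, h2, hw0⟩
    · exact absurd (h1.trans h2.symm) hwab

theorem main {α : Type*} [Fintype α] [DecidableEq α] (h3card : 3 ≤ Fintype.card α)
    (G : Subgroup (Equiv.Perm α)) (h3 : MulAction.IsMultiplyPretransitive G α 3)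
    (hsharp : ∀ x : Fin 3 ↪ α, MulAction.stabilizer G x = ⊥) {a b : α} (hab : a ≠ b)
    (A B : Subgroup G) (hA : A ≤ MulAction.stabilizer G a ⊓ MulAction.stabilizer G b)
    (hB : B ≤ MulAction.stabilizer G a ⊓ MulAction.stabilizer G b)
    (hA3 : Nat.card A = 3) (hB3 : Nat.card B = 3) : A = B := by
  by_contra hne
  have emb : ∀ p q r : α, p ≠ q → p ≠ r → q ≠ r → Function.Injective ![p, q, r] := by
    intro p q r h1 h2 h3' i j hij
    fin_cases i <;> fin_cases j <;> simp_all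
  have fix3 : ∀ (g : G) (p q r : α), p ≠ q → p ≠ r → q ≠ r →
      g • p = p → g • q = q → g • r = r → g = 1 := by
    intro g p q r h1 h2 h3' hp hq hr
    have hmem : g ∈ MulAction.stabilizer G (⟨![p, q, r], emb p q r h1 h2 h3'⟩ : Fin 3 ↪ α) := by
      rw [MulAction.mem_stabilizer_iff]
      ext i
      fin_cases i
      · exact hp
      · exact hq
      · exact hr
    rw [hsharp] at hmem
    exact Subgroup.mem_bot.mp hmem
  have trans3 : ∀ (p q r p' q' r' : α), p ≠ q → p ≠ r → q ≠ r → p' ≠ q' → p' ≠ r' → q' ≠ r' →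
      ∃ w : G, w • p = p' ∧ w • q = q' ∧ w • r = r' := by
    intro p q r p' q' r' h1 h2 h3' h4 h5 h6
    obtain ⟨w, hw⟩ := h3.exists_smul_eq (⟨![p, q, r], emb p q r h1 h2 h3'⟩ : Fin 3 ↪ α)
      (⟨![p', q', r'], emb p' q' r' h4 h5 h6⟩ : Fin 3 ↪ α)
    refine ⟨w, ?_, ?_, ?_⟩
    · have := DFunLike.congr_fun hw 0
      simpa using this
    · have := DFunLike.congr_fun hw 1
      simpa using this
    · have := DFunLike.congr_fun hw 2
      simpa using this
  -- a third point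
  obtain ⟨z, hz⟩ : ∃ z : α, z ∉ ({a, b} : Finset α) := by
    by_contra hcon
    push Not at hcon
    have hsub : (Finset.univ : Finset α) ⊆ {a, b} := fun z _ => hcon z
    have h1 := Finset.card_le_card hsub
    have h2 : ({a, b} : Finset α).card ≤ 2 := Finset.card_le_two
    rw [Finset.card_univ] at h1
    omega
  have hza : z ≠ a := fun h => hz (by simp [h])
  have hzb : z ≠ b := fun h => hz (by simp [h])
  -- elements
  have hBA : ¬ B ≤ A := fun h =>
    hne (Subgroup.eq_of_le_of_card_ge h (by rw [hA3, hB3])).symm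
  obtain ⟨y, hyB, hyA⟩ := SetLike.not_le_iff_exists.mp hBA
  have hAbot : A ≠ ⊥ := by
    intro h
    rw [h] at hA3
    simp at hA3
  obtain ⟨⟨x, hxA⟩, hx1'⟩ := (Subgroup.ne_bot_iff_exists_ne_one).mp hAbot
  have hx1 : x ≠ 1 := fun h => hx1' (Subtype.ext h)
  have hx3 : x ^ 3 = 1 := by
    have h : (⟨x, hxA⟩ : A) ^ Nat.card A = 1 := pow_card_eq_one'
    rw [hA3] at h
    simpa using congrArg Subtype.val h
  have hy3 : y ^ 3 = 1 := by
    have h : (⟨y, hyB⟩ : B) ^ Nat.card B = 1 := pow_card_eq_one'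
    rw [hB3] at h
    simpa using congrArg Subtype.val h
  have hy1 : y ≠ 1 := fun h => hyA (h ▸ A.one_mem)
  have hxs := hA hxA
  have hys := hB hyB
  rw [Subgroup.mem_inf, MulAction.mem_stabilizer_iff, MulAction.mem_stabilizer_iff] at hxs hys
  have hyia : y⁻¹ • a = a := by rw [inv_smul_eq_iff, hys.1]
  have hyib : y⁻¹ • b = b := by rw [inv_smul_eq_iff, hys.2]
  have hyi1 : y⁻¹ ≠ 1 := inv_ne_one.mpr hy1
  have hyi3 : y⁻¹ ^ 3 = 1 := by rw [inv_pow, hy3, inv_one]
  have hxy : x ≠ y := fun h => hyA (h ▸ hxA)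
  have hxyi : x ≠ y⁻¹ := by
    intro h
    apply hyA
    have : y = x⁻¹ := by rw [h, inv_inv]
    rw [this]
    exact A.inv_mem hxA
  obtain ⟨w, hc, hwa, hwb, hwz⟩ := conj_swap fix3 trans3 hab hza hzb x y hxs.1 hxs.2 hys.1 hys.2
    hx1 hy1 hx3 hy3 hxy
  obtain ⟨w', hc', hwa', hwb', hwz'⟩ := conj_swap fix3 trans3 hab hza hzb x y⁻¹ hxs.1 hxs.2
    hyia hyib hx1 hyi1 hx3 hyi3 hxyi
  have hww : w⁻¹ * w' = 1 := by
    apply fix3 _ a b z hab hza.symm hzb.symm
    · rw [mul_smul, hwa', inv_smul_eq_iff, hwa]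
    · rw [mul_smul, hwb', inv_smul_eq_iff, hwb]
    · rw [mul_smul, hwz', inv_smul_eq_iff, hwz]
  have hweq : w = w' := inv_mul_eq_one.mp hww
  have hyy : y = y⁻¹ := by
    calc y = w * x * w⁻¹ := hc.symm
      _ = w' * x * w'⁻¹ := by rw [hweq]
      _ = y⁻¹ := hc'
  have h2 : y * y = 1 := by
    nth_rewrite 2 [hyy]
    exact mul_inv_cancel y
  apply hy1
  have h3y : y ^ 3 = y := by rw [pow_succ, pow_two, h2, one_mul]
  exact h3y.symm.trans hy3

end Cfsg.Agent.Lib.Helper6.Sharp3Three
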