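import Mathlib

set_option autoImplicit false

namespace Cfsg.Agent.Lib.Helper6

set_option maxRecDepth 100000 in
theorem a5_pow_cases : ∀ g : alternatingGroup (Fin 5), g ^ 2 = 1 ∨ g ^ 3 = 1 ∨ g ^ 5 = 1 := by
  decide

theorem a5_order_mem (g : alternatingGroup (Fin 5)) : orderOf g ∈ ({1, 2, 3, 5} : Set ℕ) := by
  rcases a5_pow_cases g with h | h | h
  · have := orderOf_dvd_of_pow_eq_one h
    rcases (Nat.dvd_prime Nat.prime_two).mp this with h1 | h1 <;> simp [h1]
  · have := orderOf_dvd_of_pow_eq_one h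
    rcases (Nat.dvd_prime Nat.prime_three).mp this with h1 | h1 <;> simp [h1]
  · have := orderOf_dvd_of_pow_eq_one h
    rcases (Nat.dvd_prime Nat.prime_five).mp this with h1 | h1 <;> simp [h1]

set_option maxRecDepth 100000 in
theorem a5_exists_two : ∃ g : alternatingGroup (Fin 5), orderOf g = 2 := by
  have h : ∃ g : alternatingGroup (Fin 5), g ^ 2 = 1 ∧ g ≠ 1 := by decide
  obtain ⟨g, h1, h2⟩ := h
  have : Fact (Nat.Prime 2) := ⟨Nat.prime_two⟩
  exact ⟨g, orderOf_eq_prime h1 h2⟩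

set_option maxRecDepth 100000 in
theorem a5_exists_three : ∃ g : alternatingGroup (Fin 5), orderOf g = 3 := by
  have h : ∃ g : alternatingGroup (Fin 5), g ^ 3 = 1 ∧ g ≠ 1 := by decide
  obtain ⟨g, h1, h2⟩ := h
  have : Fact (Nat.Prime 3) := ⟨Nat.prime_three⟩
  exact ⟨g, orderOf_eq_prime h1 h2⟩

set_option maxRecDepth 100000 in
theorem a5_exists_five : ∃ g : alternatingGroup (Fin 5), orderOf g = 5 := by
  have h : ∃ g : alternatingGroup (Fin 5), g ^ 5 = 1 ∧ g ≠ 1 := by decide
  obtain ⟨g, h1, h2⟩ := h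
  have : Fact (Nat.Prime 5) := ⟨Nat.prime_five⟩
  exact ⟨g, orderOf_eq_prime h1 h2⟩

theorem a5_spectrum : Set.range (orderOf : alternatingGroup (Fin 5) → ℕ) = {1, 2, 3, 5} := by
  ext n
  constructor
  · rintro ⟨g, rfl⟩
    exact a5_order_mem g
  · intro hn
    simp only [Set.mem_insert_iff, Set.mem_singleton_iff] at hn
    rcases hn with rfl | rfl | rfl | rfl
    · exact ⟨1, orderOf_one⟩
    · exact a5_exists_two
    · exact a5_exists_three
    · exact a5_exists_five

end Cfsg.Agent.Lib.Helper6
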