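import Mathlib
import Cfsg.Agent.Lib.Helper6.TwoCyc

set_option autoImplicit false

namespace Cfsg.Agent.Lib.Helper6

/-- classification of non-abelian 2-groups with a cyclic maximal subgroup, keeping the generator -/
theorem cyclic_max_two_classification' {G : Type*} [Group G] [Finite G] (n : ℕ) (hn : 3 ≤ n)
    (hG : Nat.card G = 2 ^ n) (C : Subgroup G) (hC : IsCyclic C) (hCi : C.index = 2)
    (hna : ∃ x y : G, x * y ≠ y * x) :
    ∃ a b : G, C = Subgroup.zpowers a ∧ orderOf a = 2 ^ (n - 1) ∧ b ∉ Subgroup.zpowers a ∧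
      ((b ^ 2 = 1 ∧ b * a * b⁻¹ = a⁻¹) ∨ (b ^ 2 = a ^ (2 ^ (n - 2)) ∧ b * a * b⁻¹ = a⁻¹) ∨
        (4 ≤ n ∧ b ^ 2 = 1 ∧ b * a * b⁻¹ = a ^ (1 + 2 ^ (n - 2))) ∨
        (4 ≤ n ∧ b ^ 2 = 1 ∧ b * a * b⁻¹ = a ^ (2 ^ (n - 2) - 1))) := by
  obtain ⟨q, hq⟩ : ∃ q, q = 2 ^ (n - 2) := ⟨_, rfl⟩
  have hq2 : 2 ^ (n - 1) = 2 * q := by
    rw [hq, ← pow_succ']; congr 1; omega
  have hqpos : 2 ≤ q := by
    rw [hq]
    calc 2 = 2 ^ 1 := by norm_num
      _ ≤ 2 ^ (n - 2) := Nat.pow_le_pow_right (by norm_num) (by omega)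
  rw [← hq]
  have hCcard : Nat.card C = 2 * q := by
    have h1 := Subgroup.card_mul_index C
    rw [hCi, hG] at h1
    have h2 : 2 ^ n = 2 ^ (n - 1) * 2 := by rw [← pow_succ]; congr 1; omega
    rw [h2, hq2] at h1
    exact Nat.eq_of_mul_eq_mul_right (by norm_num) h1
  obtain ⟨g0, hg0⟩ := hC.exists_generator
  obtain ⟨a, ha⟩ : ∃ a : G, a = (g0 : G) := ⟨_, rfl⟩
  have hCz : C = Subgroup.zpowers a := by
    ext x
    constructor
    · intro hx
      obtain ⟨k, hk⟩ := Subgroup.mem_zpowers_iff.1 (hg0 ⟨x, hx⟩)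
      rw [ha]
      refine Subgroup.mem_zpowers_iff.2 ⟨k, ?_⟩
      have := congrArg Subtype.val hk
      simpa using this
    · intro hx
      obtain ⟨k, hk⟩ := Subgroup.mem_zpowers_iff.1 hx
      rw [← hk, ha]
      exact C.zpow_mem g0.2 k
  have hao : orderOf a = 2 * q := by
    rw [← Nat.card_zpowers, ← hCz, hCcard]
  rw [hq2]
  have ha2q : a ^ (2 * q) = 1 := by rw [← hao]; exact pow_orderOf_eq_one a
  have haC : a ∈ C := by rw [hCz]; exact Subgroup.mem_zpowers a
  haveI hCn : C.Normal := Subgroup.normal_of_index_eq_two hCi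
  obtain ⟨t, ht⟩ : ∃ t : G, t ∉ C := by
    by_contra hcon
    push Not at hcon
    have : C = ⊤ := (Subgroup.eq_top_iff' C).2 hcon
    rw [this, Subgroup.index_top] at hCi
    omega
  have hdec : ∀ g : G, ∃ c ∈ C, g = c ∨ g = c * t := by
    intro g
    by_cases hg : g ∈ C
    · exact ⟨g, hg, Or.inl rfl⟩
    · refine ⟨g * t⁻¹, ?_, Or.inr (by group)⟩
      rw [Subgroup.mul_mem_iff_of_index_two hCi]
      constructor
      · intro h; exact absurd h hg
      · intro h; exact absurd (by simpa using C.inv_mem h) ht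
  have hCpow : ∀ c ∈ C, ∃ k : ℕ, a ^ k = c := by
    intro c hc
    rw [hCz] at hc
    exact (Submonoid.mem_powers_iff _ _).1 (mem_powers_iff_mem_zpowers.2 hc)
  -- conjugation exponent
  obtain ⟨u0, hu0⟩ := hCpow (t * a * t⁻¹) (hCn.conj_mem a haC t)
  obtain ⟨u, hu⟩ : ∃ u, u = u0 % (2 * q) := ⟨_, rfl⟩
  have hult : u < 2 * q := by rw [hu]; exact Nat.mod_lt _ (by omega)
  have hua : a ^ u = t * a * t⁻¹ := by
    rw [hu, ← hao, pow_mod_orderOf, hu0]
  have hconj : ∀ k : ℕ, t * a ^ k * t⁻¹ = a ^ (u * k) := by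
    intro k
    rw [← conj_pow, ← hua, ← pow_mul]
  -- t * t
  have htt : t * t ∈ C := by
    rw [Subgroup.mul_mem_iff_of_index_two hCi]
  obtain ⟨s, hs⟩ := hCpow (t * t) htt
  -- u * u ≡ 1
  have huu : u * u ≡ 1 [MOD 2 * q] := by
    rw [← hao, ← pow_eq_pow_iff_modEq, pow_one]
    have h1 : (t * t) * a * (t * t)⁻¹ = a := by
      rw [← hs]
      have : Commute (a ^ s) a := (Commute.refl a).pow_left s
      rw [this.eq, mul_inv_cancel_right]
    have h2 : (t * t) * a * (t * t)⁻¹ = t * (t * a * t⁻¹) * t⁻¹ := by group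
    rw [h2, ← hua, hconj] at h1
    exact h1
  -- u ≠ 1
  have hu1 : u ≠ 1 := by
    intro h
    rw [h, pow_one] at hua
    have hcomm : Commute t a := by
      have : t * a = a * t := by
        calc t * a = (t * a * t⁻¹) * t := by group
          _ = a * t := by rw [← hua]
      exact this
    obtain ⟨x, y, hxy⟩ := hna
    apply hxy
    obtain ⟨c1, hc1, h1⟩ := hdec x
    obtain ⟨c2, hc2, h2⟩ := hdec y
    obtain ⟨k1, rfl⟩ := hCpow c1 hc1
    obtain ⟨k2, rfl⟩ := hCpow c2 hc2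
    have e3 : Commute (a ^ k1) (a ^ k2) := (Commute.refl a).pow_pow k1 k2
    have e1 : Commute (a ^ k1) t := (hcomm.symm.pow_left k1)
    have e2 : Commute (a ^ k2) t := (hcomm.symm.pow_left k2)
    rcases h1 with rfl | rfl <;> rcases h2 with rfl | rfl
    · exact e3.eq
    · exact (e3.mul_right e1).eq
    · exact (e3.mul_left e2.symm).eq
    · exact ((e3.mul_right e1).mul_left ((e2.symm).mul_right (Commute.refl t))).eq
  -- t commutes with t * t
  have hus : a ^ (u * s) = a ^ s := by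
    rw [← hconj, hs]
    group
  have hb_notin : ∀ k : ℕ, t * a ^ k ∉ Subgroup.zpowers a := by
    intro k h
    rw [← hCz, Subgroup.mul_mem_iff_of_index_two hCi] at h
    exact ht (h.2 (C.pow_mem haC k))
  have ht_notin : t ∉ Subgroup.zpowers a := by rw [← hCz]; exact ht
  have hsq : ∀ k : ℕ, (t * a ^ k) ^ 2 = a ^ (u * k + s + k) := by
    intro k
    rw [pow_add, pow_add, ← hconj, hs, pow_two]
    group
  have hconjb : ∀ k : ℕ, (t * a ^ k) * a * (t * a ^ k)⁻¹ = a ^ u := by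
    intro k
    rw [hua]
    have : Commute (a ^ k) a := (Commute.refl a).pow_left k
    calc t * a ^ k * a * (t * a ^ k)⁻¹ = t * (a ^ k * a) * (a ^ k)⁻¹ * t⁻¹ := by group
      _ = t * (a * a ^ k) * (a ^ k)⁻¹ * t⁻¹ := by rw [this.eq]
      _ = t * a * t⁻¹ := by group
  have hainv : a ^ (2 * q - 1) = a⁻¹ := by
    rw [eq_inv_iff_mul_eq_one, ← pow_succ, show 2 * q - 1 + 1 = 2 * q by omega, ha2q]
  have hqq : (a ^ q) ^ 2 = 1 := by rw [← pow_mul, mul_comm, ha2q]
  have hqs : ∀ s' : ℕ, q ∣ s' → a ^ s' = 1 ∨ a ^ s' = a ^ q := by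
    intro s' hs'
    obtain ⟨c, rfl⟩ := hs'
    rw [pow_mul]
    rcases Nat.even_or_odd c with ⟨d, hd⟩ | ⟨d, hd⟩
    · left
      rw [hd, ← two_mul, pow_mul, hqq, one_pow]
    · right
      rw [hd, pow_succ, pow_mul, hqq, one_pow, one_mul]
  -- dihedral / quaternion case
  have hcaseA : u = 2 * q - 1 → ∃ a b : G, C = Subgroup.zpowers a ∧ orderOf a = 2 * q ∧ b ∉ Subgroup.zpowers a ∧
      ((b ^ 2 = 1 ∧ b * a * b⁻¹ = a⁻¹) ∨ (b ^ 2 = a ^ q ∧ b * a * b⁻¹ = a⁻¹) ∨
        (4 ≤ n ∧ b ^ 2 = 1 ∧ b * a * b⁻¹ = a ^ (1 + q)) ∨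
        (4 ≤ n ∧ b ^ 2 = 1 ∧ b * a * b⁻¹ = a ^ (q - 1))) := by
    intro h
    have hinv : t * a * t⁻¹ = a⁻¹ := by rw [← hua, h, hainv]
    have h2s : a ^ (2 * s) = 1 := by
      have h1 : a ^ (u * s) = (a ^ s)⁻¹ := by
        rw [h, pow_mul, hainv, inv_pow]
      rw [hus] at h1
      rw [two_mul, pow_add]
      nth_rewrite 1 [h1]
      exact inv_mul_cancel _
    have hqs' : q ∣ s := by
      have := orderOf_dvd_of_pow_eq_one h2s
      rw [hao] at this
      exact Nat.dvd_of_mul_dvd_mul_left (by norm_num) this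
    refine ⟨a, t, hCz, hao, ht_notin, ?_⟩
    rcases hqs s hqs' with h1 | h1
    · left
      exact ⟨by rw [pow_two, ← hs, h1], hinv⟩
    · right; left
      exact ⟨by rw [pow_two, ← hs, h1], hinv⟩
  by_cases hn4 : 4 ≤ n
  swap
  · -- n = 3
    have hq2' : q = 2 := by
      rw [hq, show n - 2 = 1 by omega]; norm_num
    apply hcaseA
    rcases nt_two (n - 2) q u hq hult huu with h | h | h | h <;> omega
  obtain ⟨r, hr⟩ : ∃ r, q = 4 * r := by
    refine ⟨2 ^ (n - 4), ?_⟩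
    rw [hq, show n - 2 = (n - 4) + 2 by omega, pow_add]
    ring
  have hrpos : 1 ≤ r := by omega
  rcases nt_two (n - 2) q u hq hult huu with h | h | h | h
  · exact absurd h hu1
  · exact hcaseA h
  · -- u = q + 1 : modular
    have hmod : (q + 1) * s ≡ s [MOD 2 * q] := by
      rw [← hao, ← pow_eq_pow_iff_modEq, ← h]
      exact hus
    have hqs0 : q * s ≡ 0 [MOD 2 * q] := by
      have h1 : q * s + s ≡ 0 + s [MOD 2 * q] := by
        rw [zero_add]
        have : q * s + s = (q + 1) * s := by ring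
        rw [this]
        exact hmod
      exact Nat.ModEq.add_right_cancel' s h1
    have h2s : 2 ∣ s := by
      have h1 : 2 * q ∣ q * s := (Nat.modEq_zero_iff_dvd).1 hqs0
      rw [mul_comm 2 q] at h1
      exact Nat.dvd_of_mul_dvd_mul_left (by omega) h1
    obtain ⟨s', hs'⟩ := h2s
    obtain ⟨m, hm⟩ : ∃ m, m + s' = s' * q := by
      refine ⟨s' * (q - 1), ?_⟩
      have : q = (q - 1) + 1 := by omega
      nth_rewrite 2 [this]
      ring
    refine ⟨a, t * a ^ ((2 * r + 1) * m), hCz, hao, hb_notin _, Or.inr (Or.inr (Or.inl ⟨hn4, ?_, ?_⟩))⟩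
    · rw [hsq]
      have hE : u * ((2 * r + 1) * m) + s + (2 * r + 1) * m
          = 2 * q * ((r + 1) * m + s') := by
        rw [h, hs', hr]
        have h1 : (4 * r + 1) * ((2 * r + 1) * m) + 2 * s' + (2 * r + 1) * m
            = 8 * r * (r + 1) * m + 2 * (m + s') := by ring
        rw [h1, hm, hr]
        ring
      rw [hE, pow_mul, ha2q, one_pow]
    · rw [hconjb, h, add_comm]
  · -- u = q - 1 : semidihedral
    have hmod : (q - 1) * s ≡ s [MOD 2 * q] := by
      rw [← hao, ← pow_eq_pow_iff_modEq, ← h]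
      exact hus
    have hqs0 : (q - 2) * s ≡ 0 [MOD 2 * q] := by
      have h1 : (q - 2) * s + s ≡ 0 + s [MOD 2 * q] := by
        rw [zero_add]
        have : (q - 2) * s + s = (q - 1) * s := by
          have : q - 1 = (q - 2) + 1 := by omega
          rw [this]; ring
        rw [this]
        exact hmod
      exact Nat.ModEq.add_right_cancel' s h1
    have hqs' : q ∣ s := by
      have h1 : 2 * q ∣ (q - 2) * s := (Nat.modEq_zero_iff_dvd).1 hqs0
      have h2 : q - 2 = 2 * (2 * r - 1) := by omega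
      rw [h2, mul_assoc] at h1
      have h3 : q ∣ (2 * r - 1) * s := Nat.dvd_of_mul_dvd_mul_left (by norm_num) h1
      have hcop : Nat.Coprime q (2 * r - 1) := by
        rw [hq]
        apply Nat.Coprime.pow_left
        rw [Nat.coprime_two_left]
        exact ⟨r - 1, by omega⟩
      exact hcop.dvd_of_dvd_mul_left h3
    rcases hqs s hqs' with h1 | h1
    · refine ⟨a, t, hCz, hao, ht_notin, Or.inr (Or.inr (Or.inr ⟨hn4, ?_, ?_⟩))⟩
      · rw [pow_two, ← hs, h1]
      · rw [← hua, h]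
    · refine ⟨a, t * a ^ 1, hCz, hao, hb_notin 1, Or.inr (Or.inr (Or.inr ⟨hn4, ?_, ?_⟩))⟩
      · rw [hsq, pow_add, pow_add, h1, ← pow_add, ← pow_add, h]
        have : (q - 1) * 1 + q + 1 = 2 * q := by omega
        rw [this, ha2q]
      · rw [hconjb, h]

end Cfsg.Agent.Lib.Helper6
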