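import Mathlib
import Cfsg.Prelude.Def_OddOrderLocal
import Cfsg.Agent.S1474

set_option autoImplicit false
open Cfsg

namespace Cfsg.Agent.Lib.Helper6.TypeP

theorem commute_of_coprime_orderOf (F : Type*) [Group F] [Group.IsNilpotent F] :
    ∀ u h : F, (orderOf u).Coprime (orderOf h) → Commute u h := by
  refine Group.nilpotent_center_quotient_ind
    (P := fun (F : Type _) [Group F] [Group.IsNilpotent F] =>
      ∀ u h : F, (orderOf u).Coprime (orderOf h) → Commute u h) F ?_ ?_
  · intro F _ _ u h _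
    exact Subsingleton.elim _ _
  · intro F _ _ ih u h hcop
    have h1 : orderOf (QuotientGroup.mk u : F ⧸ Subgroup.center F) ∣ orderOf u := by
      apply orderOf_dvd_of_pow_eq_one
      rw [← QuotientGroup.mk_pow, pow_orderOf_eq_one]; rfl
    have h2 : orderOf (QuotientGroup.mk h : F ⧸ Subgroup.center F) ∣ orderOf h := by
      apply orderOf_dvd_of_pow_eq_one
      rw [← QuotientGroup.mk_pow, pow_orderOf_eq_one]; rfl
    have h3 := ih _ _ (Nat.Coprime.coprime_dvd_left h1 (Nat.Coprime.coprime_dvd_right h2 hcop))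
    have h4 : ((h * u : F) : F ⧸ Subgroup.center F) = ((u * h : F) : F ⧸ Subgroup.center F) := by
      rw [QuotientGroup.mk_mul, QuotientGroup.mk_mul]; exact h3.eq.symm
    have hz : (h * u)⁻¹ * (u * h) ∈ Subgroup.center F := QuotientGroup.eq.1 h4
    obtain ⟨z, hzdef⟩ : ∃ z, z = (h * u)⁻¹ * (u * h) := ⟨_, rfl⟩
    rw [← hzdef] at hz
    have huh : u * h = h * u * z := by rw [hzdef]; group
    have hzc : ∀ g : F, g * z = z * g := fun g => (Subgroup.mem_center_iff.1 hz g)
    have e1 : u * h * u⁻¹ = h * z := by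
      rw [huh]
      calc h * u * z * u⁻¹ = h * (u * z) * u⁻¹ := by group
        _ = h * (z * u) * u⁻¹ := by rw [hzc u]
        _ = h * z := by group
    have e2 : (h * z) ^ orderOf h = z ^ orderOf h := by
      have hc : Commute h z := hzc h
      rw [hc.mul_pow, pow_orderOf_eq_one, one_mul]
    have e3 : (u * h * u⁻¹) ^ orderOf h = 1 := by
      rw [conj_pow, pow_orderOf_eq_one, mul_one, mul_inv_cancel]
    have e4 : z ^ orderOf h = 1 := by rw [← e2, ← e1, e3]
    have f1 : h⁻¹ * u * (h⁻¹)⁻¹ = u * z := by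
      have : h⁻¹ * u * (h⁻¹)⁻¹ = h⁻¹ * (u * h) := by group
      rw [this, huh]; group
    have f2 : (u * z) ^ orderOf u = z ^ orderOf u := by
      have hc : Commute u z := hzc u
      rw [hc.mul_pow, pow_orderOf_eq_one, one_mul]
    have f3 : (h⁻¹ * u * (h⁻¹)⁻¹) ^ orderOf u = 1 := by
      rw [conj_pow, pow_orderOf_eq_one, mul_one, mul_inv_cancel]
    have f4 : z ^ orderOf u = 1 := by rw [← f2, ← f1, f3]
    have hz1 : z = 1 := by
      have g1 : orderOf z ∣ orderOf h := orderOf_dvd_of_pow_eq_one e4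
      have g2 : orderOf z ∣ orderOf u := orderOf_dvd_of_pow_eq_one f4
      have g3 : orderOf z ∣ Nat.gcd (orderOf u) (orderOf h) := Nat.dvd_gcd g2 g1
      rw [hcop.gcd_eq_one] at g3
      exact orderOf_eq_one_iff.1 (Nat.dvd_one.1 g3)
    rw [hz1, mul_one] at huh
    exact huh

theorem fittingOf_nilpotent {G : Type*} [Group G] [Finite G] (M : Subgroup G) :
    Group.IsNilpotent ↥(fittingOf M) := by
  have h1 : Group.IsNilpotent ↥(fittingSubgroup ↥M) := by
    rw [Cfsg.Agent.Lib.Helper1.fitting_eq_pCoreSup]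
    exact Cfsg.Agent.Lib.Helper1.pCoreSup_isNilpotent
  haveI := h1
  exact Group.nilpotent_of_mulEquiv
    ((fittingSubgroup ↥M).equivMapOfInjective M.subtype M.subtype_injective)

theorem card_of_isComplIn {G : Type*} [Group G] {A B M : Subgroup G} (h : IsComplIn A B M) :
    Nat.card M = Nat.card A * Nat.card B := by
  obtain ⟨hA, hB, hAB, hprod⟩ := h
  let f : ↥A × ↥B → ↥M := fun p => ⟨(p.1 : G) * (p.2 : G), M.mul_mem (hA p.1.2) (hB p.2.2)⟩
  have hinj : Function.Injective f := by
    rintro ⟨⟨s, hs⟩, ⟨w, hw⟩⟩ ⟨⟨s', hs'⟩, ⟨w', hw'⟩⟩ h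
    have h1 : s * w = s' * w' := congrArg Subtype.val h
    have h2 : s'⁻¹ * s = w' * w⁻¹ := by
      have : s = s' * w' * w⁻¹ := by rw [← h1]; group
      rw [this]; group
    have h3 : s'⁻¹ * s ∈ A ⊓ B :=
      ⟨Subgroup.mul_mem _ (Subgroup.inv_mem _ hs') hs,
        by rw [h2]; exact Subgroup.mul_mem _ hw' (Subgroup.inv_mem _ hw)⟩
    rw [hAB, Subgroup.mem_bot] at h3
    have h4 : s = s' := by
      have := congrArg (fun t => s' * t) h3
      simpa using this
    subst h4
    have h5 : w = w' := mul_left_cancel h1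
    subst h5
    rfl
  have hsurj : Function.Surjective f := by
    rintro ⟨m, hm⟩
    obtain ⟨s, hs, w, hw, rfl⟩ := hprod m hm
    exact ⟨(⟨s, hs⟩, ⟨w, hw⟩), rfl⟩
  rw [← Nat.card_prod]
  exact (Nat.card_congr (Equiv.ofBijective f ⟨hinj, hsurj⟩)).symm

theorem typeP_coprime {G : Type*} [Group G] [Finite G] (M W₁ U W₂ : Subgroup G)
    (hP : IsTypePWith M W₁ U W₂) :
    (Nat.card (fittingHallOf M)).Coprime (Nat.card U) := by
  have hc := Cfsg.Agent.S1474.fh_coprime (G := ↥M)
  have hcardH : Nat.card (fittingHallOf M) = Nat.card (fittingHall ↥M) := by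
    unfold fittingHallOf
    exact Subgroup.card_map_of_injective M.subtype_injective
  have h1 := card_of_isComplIn hP.U_compl
  have h2 : Nat.card (⁅M, M⁆ : Subgroup G) ∣ Nat.card M :=
    Subgroup.card_dvd_of_le (Subgroup.commutator_le_self M)
  have h3 := Subgroup.card_mul_index (fittingHall ↥M)
  rw [← hcardH] at h3 hc
  have h4 : Nat.card U ∣ (fittingHall ↥M).index := by
    rw [h1, ← h3] at h2
    exact Nat.dvd_of_mul_dvd_mul_left Nat.card_pos h2
  exact Nat.Coprime.coprime_dvd_right h4 hc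

theorem typeP_inf_le {G : Type*} [Group G] [Finite G] (M W₁ U W₂ : Subgroup G)
    (hP : IsTypePWith M W₁ U W₂) :
    fittingOf M ⊓ U ≤ Subgroup.centralizer (fittingHallOf M : Set G) := by
  rintro u ⟨huF, huU⟩
  refine Subgroup.mem_centralizer_iff.2 ?_
  intro h hh
  have hHF : fittingHallOf M ≤ fittingOf M := by rw [← hP.fitting_eq]; exact le_sup_left
  have hhF := hHF hh
  haveI := fittingOf_nilpotent M
  have hcop : (orderOf h).Coprime (orderOf u) := by
    have h1 : orderOf h ∣ Nat.card (fittingHallOf M) := Subgroup.orderOf_dvd_natCard _ hh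
    have h2 : orderOf u ∣ Nat.card U := Subgroup.orderOf_dvd_natCard _ huU
    exact Nat.Coprime.coprime_dvd_left h1
      (Nat.Coprime.coprime_dvd_right h2 (typeP_coprime M W₁ U W₂ hP))
  have := commute_of_coprime_orderOf ↥(fittingOf M) ⟨h, hhF⟩ ⟨u, huF⟩
    (by rwa [Subgroup.orderOf_mk, Subgroup.orderOf_mk])
  exact congrArg Subtype.val this.eq

end Cfsg.Agent.Lib.Helper6.TypeP
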