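import Mathlib

set_option autoImplicit false

namespace Cfsg.Agent.Lib.Helper6

/-- data of a wreathed 2-group -/
structure WDat (S : Type*) [Group S] where
  n : ℕ
  hn : 2 ≤ n
  card : Nat.card S = 2 ^ (2 * n + 1)
  x : S
  y : S
  z : S
  hx : orderOf x = 2 ^ n
  hxy : x * y = y * x
  hdisj : Subgroup.zpowers x ⊓ Subgroup.zpowers y = ⊥
  hz : orderOf z = 2
  hzx : z * x * z⁻¹ = y

namespace WDat

variable {S : Type*} [Group S] (d : WDat S)

theorem finite (d : WDat S) : Finite S :=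
  Nat.finite_of_card_ne_zero (by rw [d.card]; positivity)

theorem isPGroup (d : WDat S) : IsPGroup 2 S := IsPGroup.of_card d.card

theorem z_sq : d.z ^ 2 = 1 := by rw [← d.hz]; exact pow_orderOf_eq_one _

theorem z_inv : d.z⁻¹ = d.z := by
  have := d.z_sq
  rw [pow_two] at this
  exact inv_eq_of_mul_eq_one_right this

theorem hzy : d.z * d.y * d.z⁻¹ = d.x := by
  rw [← d.hzx]
  have : d.z * (d.z * d.x * d.z⁻¹) * d.z⁻¹ = (d.z * d.z) * d.x * (d.z * d.z)⁻¹ := by group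
  rw [this, ← pow_two, d.z_sq]; group

theorem orderOf_y : orderOf d.y = 2 ^ d.n := by
  rw [← d.hzx]
  have : d.z * d.x * d.z⁻¹ = MulAut.conj d.z d.x := rfl
  rw [this, MulEquiv.orderOf_eq, d.hx]

theorem x_pow : d.x ^ (2 ^ d.n) = 1 := by rw [← d.hx]; exact pow_orderOf_eq_one _

theorem y_pow : d.y ^ (2 ^ d.n) = 1 := by rw [← d.orderOf_y]; exact pow_orderOf_eq_one _

theorem comm_xy : Commute d.x d.y := d.hxy

theorem x_ne_one : d.x ≠ 1 := by
  intro h
  have := d.hx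
  rw [h, orderOf_one] at this
  have h2 : 2 ^ 1 ≤ 2 ^ d.n := Nat.pow_le_pow_right (by norm_num) (by have := d.hn; omega)
  omega

/-- the product map from the two cyclic factors -/
noncomputable def prodHom : Subgroup.zpowers d.x × Subgroup.zpowers d.y →* S :=
  MonoidHom.noncommCoprod (Subgroup.zpowers d.x).subtype (Subgroup.zpowers d.y).subtype (by
    rintro ⟨a, ha⟩ ⟨b, hb⟩
    obtain ⟨i, rfl⟩ := Subgroup.mem_zpowers_iff.1 ha
    obtain ⟨j, rfl⟩ := Subgroup.mem_zpowers_iff.1 hb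
    exact (d.comm_xy.zpow_left i).zpow_right j)

theorem prodHom_apply (a : Subgroup.zpowers d.x) (b : Subgroup.zpowers d.y) :
    d.prodHom (a, b) = (a : S) * (b : S) := rfl

theorem prodHom_injective : Function.Injective d.prodHom := by
  unfold prodHom
  rw [MonoidHom.noncommCoprod_injective]
  refine ⟨Subtype.val_injective, Subtype.val_injective, ?_⟩
  rw [Subgroup.range_subtype, Subgroup.range_subtype, disjoint_iff]
  exact d.hdisj

/-- the abelian subgroup of index two -/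
def U : Subgroup S := Subgroup.zpowers d.x ⊔ Subgroup.zpowers d.y

theorem U_eq_range : d.U = d.prodHom.range := by
  unfold prodHom U
  rw [MonoidHom.noncommCoprod_range, Subgroup.range_subtype, Subgroup.range_subtype]

theorem mem_U (u : S) : u ∈ d.U ↔ ∃ i j : ℤ, u = d.x ^ i * d.y ^ j := by
  rw [U_eq_range, MonoidHom.mem_range]
  constructor
  · rintro ⟨⟨⟨a, ha⟩, ⟨b, hb⟩⟩, rfl⟩
    obtain ⟨i, rfl⟩ := Subgroup.mem_zpowers_iff.1 ha
    obtain ⟨j, rfl⟩ := Subgroup.mem_zpowers_iff.1 hb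
    exact ⟨i, j, rfl⟩
  · rintro ⟨i, j, rfl⟩
    exact ⟨(⟨d.x ^ i, Subgroup.zpow_mem _ (Subgroup.mem_zpowers _) _⟩,
      ⟨d.y ^ j, Subgroup.zpow_mem _ (Subgroup.mem_zpowers _) _⟩), rfl⟩

theorem x_mem_U : d.x ∈ d.U := Subgroup.mem_sup_left (Subgroup.mem_zpowers _)

theorem y_mem_U : d.y ∈ d.U := Subgroup.mem_sup_right (Subgroup.mem_zpowers _)

theorem U_comm (u v : S) (hu : u ∈ d.U) (hv : v ∈ d.U) : u * v = v * u := by
  obtain ⟨i, j, rfl⟩ := (d.mem_U u).1 hu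
  obtain ⟨k, l, rfl⟩ := (d.mem_U v).1 hv
  have h1 : Commute (d.x ^ i) (d.y ^ l) := (d.comm_xy.zpow_left i).zpow_right l
  have h2 : Commute (d.x ^ k) (d.y ^ j) := (d.comm_xy.zpow_left k).zpow_right j
  have h3 : Commute (d.x ^ i) (d.x ^ k) := ((Commute.refl d.x).zpow_left i).zpow_right k
  have h4 : Commute (d.y ^ j) (d.y ^ l) := ((Commute.refl d.y).zpow_left j).zpow_right l
  calc d.x ^ i * d.y ^ j * (d.x ^ k * d.y ^ l)
      = d.x ^ i * (d.y ^ j * d.x ^ k) * d.y ^ l := by group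
    _ = d.x ^ i * (d.x ^ k * d.y ^ j) * d.y ^ l := by rw [h2.symm.eq]
    _ = (d.x ^ i * d.x ^ k) * (d.y ^ j * d.y ^ l) := by group
    _ = (d.x ^ k * d.x ^ i) * (d.y ^ l * d.y ^ j) := by rw [h3.eq, h4.eq]
    _ = d.x ^ k * (d.x ^ i * d.y ^ l) * d.y ^ j := by group
    _ = d.x ^ k * (d.y ^ l * d.x ^ i) * d.y ^ j := by rw [h1.eq]
    _ = d.x ^ k * d.y ^ l * (d.x ^ i * d.y ^ j) := by group

theorem U_isMulCommutative : IsMulCommutative d.U :=
  ⟨⟨fun a b => Subtype.ext (d.U_comm a b a.2 b.2)⟩⟩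

theorem U_card : Nat.card d.U = 2 ^ (2 * d.n) := by
  rw [U_eq_range]
  rw [← Nat.card_congr (MonoidHom.ofInjective d.prodHom_injective).toEquiv, Nat.card_prod,
    Nat.card_zpowers, Nat.card_zpowers, d.hx, d.orderOf_y, ← pow_add]
  congr 1; ring

theorem U_index : d.U.index = 2 := by
  haveI := d.finite
  have h1 := Subgroup.card_mul_index d.U
  rw [d.U_card, d.card, pow_succ] at h1
  exact Nat.eq_of_mul_eq_mul_left (by positivity) h1

theorem U_normal : d.U.Normal := Subgroup.normal_of_index_eq_two d.U_index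

theorem x_ne_y : d.x ≠ d.y := by
  intro h
  have h1 : d.x ∈ Subgroup.zpowers d.x ⊓ Subgroup.zpowers d.y :=
    Subgroup.mem_inf.2 ⟨Subgroup.mem_zpowers _, by rw [← h]; exact Subgroup.mem_zpowers _⟩
  rw [d.hdisj, Subgroup.mem_bot] at h1
  exact d.x_ne_one h1

theorem z_not_mem_U : d.z ∉ d.U := by
  intro h
  have h1 := d.U_comm d.z d.x h d.x_mem_U
  apply d.x_ne_y
  rw [← d.hzx, h1, mul_inv_cancel_right]

/-- independence of the two cyclic factors -/
theorem eq_one_of_mul_eq_one (i j : ℤ) (h : d.x ^ i * d.y ^ j = 1) :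
    d.x ^ i = 1 ∧ d.y ^ j = 1 := by
  have h1 : d.x ^ i ∈ Subgroup.zpowers d.x ⊓ Subgroup.zpowers d.y := by
    refine Subgroup.mem_inf.2 ⟨Subgroup.zpow_mem _ (Subgroup.mem_zpowers _) _, ?_⟩
    have : d.x ^ i = (d.y ^ j)⁻¹ := eq_inv_of_mul_eq_one_left h
    rw [this]
    exact Subgroup.inv_mem _ (Subgroup.zpow_mem _ (Subgroup.mem_zpowers _) _)
  rw [d.hdisj, Subgroup.mem_bot] at h1
  refine ⟨h1, ?_⟩
  rw [h1, one_mul] at h
  exact h

theorem x_zpow_eq_one_iff (k : ℤ) : d.x ^ k = 1 ↔ (2 ^ d.n : ℤ) ∣ k := by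
  rw [← orderOf_dvd_iff_zpow_eq_one, d.hx]; norm_cast

theorem y_zpow_eq_one_iff (k : ℤ) : d.y ^ k = 1 ↔ (2 ^ d.n : ℤ) ∣ k := by
  rw [← orderOf_dvd_iff_zpow_eq_one, d.orderOf_y]; norm_cast

/-- conjugation by `z` swaps the factors -/
theorem conj_z (i j : ℤ) : d.z * (d.x ^ i * d.y ^ j) * d.z⁻¹ = d.x ^ j * d.y ^ i := by
  have h1 : d.z * d.x ^ i * d.z⁻¹ = d.y ^ i := by rw [← conj_zpow, d.hzx]
  have h2 : d.z * d.y ^ j * d.z⁻¹ = d.x ^ j := by rw [← conj_zpow, d.hzy]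
  calc d.z * (d.x ^ i * d.y ^ j) * d.z⁻¹ = (d.z * d.x ^ i * d.z⁻¹) * (d.z * d.y ^ j * d.z⁻¹) := by
        group
    _ = d.y ^ i * d.x ^ j := by rw [h1, h2]
    _ = d.x ^ j * d.y ^ i := ((d.comm_xy.zpow_left j).zpow_right i).eq.symm

/-- elements outside `U` -/
theorem exists_eq_z_mul (g : S) (hg : g ∉ d.U) : ∃ u ∈ d.U, g = d.z * u := by
  refine ⟨d.z⁻¹ * g, ?_, by group⟩
  rw [Subgroup.mul_mem_iff_of_index_two d.U_index]
  constructor
  · intro h; exact absurd (by simpa using Subgroup.inv_mem _ h) d.z_not_mem_U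
  · intro h; exact absurd h hg

theorem closure_eq_top (H : Subgroup S) (hx : d.x ∈ H) (hz : d.z ∈ H) : H = ⊤ := by
  have hy : d.y ∈ H := by
    rw [← d.hzx]; exact H.mul_mem (H.mul_mem hz hx) (H.inv_mem hz)
  have hU : d.U ≤ H := by
    rw [U]
    exact sup_le (by rw [Subgroup.zpowers_le]; exact hx) (by rw [Subgroup.zpowers_le]; exact hy)
  rw [Subgroup.eq_top_iff']
  intro g
  by_cases hg : g ∈ d.U
  · exact hU hg
  · obtain ⟨u, hu, rfl⟩ := d.exists_eq_z_mul g hg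
    exact H.mul_mem hz (hU hu)

end WDat

end Cfsg.Agent.Lib.Helper6
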