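import Mathlib
import Cfsg.Agent.Lib.Helper6.W
import Cfsg.Agent.Lib.Helper6.MaxClass2c

set_option autoImplicit false

namespace Cfsg.Agent.Lib.Helper6

open scoped commutatorElement

namespace WDat

variable {S : Type*} [Group S] (d : WDat S)

theorem xy_zpow (i : ℤ) : (d.x * d.y) ^ i = d.x ^ i * d.y ^ i := d.comm_xy.mul_zpow i

theorem orderOf_xy : orderOf (d.x * d.y) = 2 ^ d.n := by
  apply Nat.dvd_antisymm
  · apply orderOf_dvd_of_pow_eq_one
    rw [d.comm_xy.mul_pow, d.x_pow, d.y_pow, one_mul]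
  · rw [← d.hx]
    apply orderOf_dvd_of_pow_eq_one
    have h := pow_orderOf_eq_one (d.x * d.y)
    rw [← zpow_natCast, d.xy_zpow] at h
    have := (d.eq_one_of_mul_eq_one _ _ h).1
    rwa [zpow_natCast] at this

theorem xy_zpow_mem_center (i : ℤ) : (d.x * d.y) ^ i ∈ Subgroup.center S := by
  have hx : d.x ∈ Subgroup.centralizer {(d.x * d.y) ^ i} := by
    rw [Subgroup.mem_centralizer_singleton_iff]
    exact d.U_comm _ _ d.x_mem_U
      (Subgroup.zpow_mem _ (Subgroup.mul_mem _ d.x_mem_U d.y_mem_U) _)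
  have hz : d.z ∈ Subgroup.centralizer {(d.x * d.y) ^ i} := by
    rw [Subgroup.mem_centralizer_singleton_iff]
    have h := d.conj_z i i
    rw [← d.xy_zpow] at h
    calc d.z * (d.x * d.y) ^ i = (d.z * (d.x * d.y) ^ i * d.z⁻¹) * d.z := by group
      _ = (d.x * d.y) ^ i * d.z := by rw [h]
  have htop := d.closure_eq_top _ hx hz
  rw [Subgroup.mem_center_iff]
  intro g
  have hg : g ∈ Subgroup.centralizer {(d.x * d.y) ^ i} := by rw [htop]; trivial
  exact Subgroup.mem_centralizer_singleton_iff.1 hg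

theorem center_le_U : Subgroup.center S ≤ d.U := by
  intro g hg
  by_contra hgU
  obtain ⟨u, hu, rfl⟩ := d.exists_eq_z_mul g hgU
  rw [Subgroup.mem_center_iff] at hg
  have h1 := hg d.x
  have h2 : u * d.x = d.x * u := d.U_comm _ _ hu d.x_mem_U
  apply d.x_ne_y
  rw [← d.hzx]
  have h3 : d.x * d.z = d.z * d.x := by
    have e : d.x * (d.z * u) = d.z * u * d.x := h1
    rw [mul_assoc d.z u d.x, h2, ← mul_assoc, ← mul_assoc] at e
    exact mul_right_cancel e
  rw [← h3, mul_inv_cancel_right]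

theorem center_eq : Subgroup.center S = Subgroup.zpowers (d.x * d.y) := by
  apply le_antisymm
  · intro g hg
    obtain ⟨i, j, rfl⟩ := (d.mem_U g).1 (d.center_le_U hg)
    rw [Subgroup.mem_center_iff] at hg
    have h1 := hg d.z
    have h2 : d.z * (d.x ^ i * d.y ^ j) * d.z⁻¹ = d.x ^ i * d.y ^ j := by
      rw [h1, mul_inv_cancel_right]
    rw [d.conj_z] at h2
    -- x^(j-i) * y^(i-j) = 1
    have h3 : d.x ^ (j - i) * d.y ^ (i - j) = 1 := by
      have hc : Commute (d.y ^ i) (d.x ^ (-i)) := (d.comm_xy.zpow_left (-i)).zpow_right i |>.symm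
      calc d.x ^ (j - i) * d.y ^ (i - j)
          = d.x ^ j * d.x ^ (-i) * (d.y ^ i * d.y ^ (-j)) := by
            rw [← zpow_add, ← zpow_add, sub_eq_add_neg, sub_eq_add_neg]
        _ = d.x ^ j * (d.x ^ (-i) * d.y ^ i) * d.y ^ (-j) := by group
        _ = d.x ^ j * (d.y ^ i * d.x ^ (-i)) * d.y ^ (-j) := by rw [hc.eq]
        _ = (d.x ^ j * d.y ^ i) * (d.x ^ (-i) * d.y ^ (-j)) := by group
        _ = (d.x ^ i * d.y ^ j) * (d.x ^ (-i) * d.y ^ (-j)) := by rw [h2]
        _ = d.x ^ i * (d.y ^ j * d.x ^ (-i)) * d.y ^ (-j) := by group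
        _ = d.x ^ i * (d.x ^ (-i) * d.y ^ j) * d.y ^ (-j) := by
            rw [((d.comm_xy.zpow_left (-i)).zpow_right j).eq]
        _ = 1 := by group
    have h4 := (d.eq_one_of_mul_eq_one _ _ h3).2
    have h5 : d.y ^ j = d.y ^ i := by
      have : d.y ^ i = d.y ^ (i - j) * d.y ^ j := by rw [← zpow_add]; congr 1; ring
      rw [this, h4, one_mul]
    rw [h5, ← d.xy_zpow]
    exact Subgroup.zpow_mem _ (Subgroup.mem_zpowers _) _
  · rw [Subgroup.zpowers_le]
    have := d.xy_zpow_mem_center 1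
    rwa [zpow_one] at this

theorem card_center : Nat.card (Subgroup.center S) = 2 ^ d.n := by
  rw [d.center_eq, Nat.card_zpowers, d.orderOf_xy]

theorem isCyclic_center (d : WDat S) : IsCyclic (Subgroup.center S) := by
  rw [d.center_eq]; infer_instance

/-- the generator of the derived subgroup -/
def e : S := d.y * d.x⁻¹

theorem e_eq_comm : d.e = ⁅d.z, d.x⁆ := by
  rw [commutatorElement_def, d.hzx, e]

theorem e_zpow (i : ℤ) : d.e ^ i = d.x ^ (-i) * d.y ^ i := by
  rw [e, (d.comm_xy.inv_left.symm).mul_zpow, inv_zpow, ← zpow_neg]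
  exact ((d.comm_xy.zpow_left (-i)).zpow_right i).eq.symm

theorem orderOf_e : orderOf d.e = 2 ^ d.n := by
  apply Nat.dvd_antisymm
  · apply orderOf_dvd_of_pow_eq_one
    rw [e, (d.comm_xy.inv_left.symm).mul_pow, d.y_pow, inv_pow, d.x_pow, inv_one, one_mul]
  · rw [← d.orderOf_y]
    apply orderOf_dvd_of_pow_eq_one
    have h := pow_orderOf_eq_one d.e
    rw [← zpow_natCast, d.e_zpow] at h
    have := (d.eq_one_of_mul_eq_one _ _ h).2
    rwa [zpow_natCast] at this

theorem e_mem_U : d.e ∈ d.U := Subgroup.mul_mem _ d.y_mem_U (Subgroup.inv_mem _ d.x_mem_U)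

theorem conj_z_e : d.z * d.e * d.z⁻¹ = d.e⁻¹ := by
  have h : d.z * d.e * d.z⁻¹ = (d.z * d.y * d.z⁻¹) * (d.z * d.x * d.z⁻¹)⁻¹ := by
    rw [e]; group
  rw [h, d.hzy, d.hzx, e, mul_inv_rev, inv_inv]

theorem zpowers_e_normal : (Subgroup.zpowers d.e).Normal := by
  have key : Subgroup.normalizer ((Subgroup.zpowers d.e : Subgroup S) : Set S) = ⊤ := by
    apply d.closure_eq_top
    · rw [Subgroup.mem_normalizer_iff]
      intro h
      have : ∀ k : ℤ, d.x * d.e ^ k * d.x⁻¹ = d.e ^ k := by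
        intro k
        have hc := d.U_comm d.x (d.e ^ k) d.x_mem_U (Subgroup.zpow_mem _ d.e_mem_U _)
        rw [hc, mul_inv_cancel_right]
      constructor
      · intro hh
        obtain ⟨k, rfl⟩ := Subgroup.mem_zpowers_iff.1 hh
        rw [this]; exact hh
      · intro hh
        obtain ⟨k, hk⟩ := Subgroup.mem_zpowers_iff.1 hh
        have : h = d.x⁻¹ * (d.x * h * d.x⁻¹) * d.x := by group
        rw [this, ← hk]
        have hc := d.U_comm d.x⁻¹ (d.e ^ k) (Subgroup.inv_mem _ d.x_mem_U)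
          (Subgroup.zpow_mem _ d.e_mem_U _)
        rw [hc, inv_mul_cancel_right]
        exact Subgroup.zpow_mem _ (Subgroup.mem_zpowers _) _
    · rw [Subgroup.mem_normalizer_iff]
      intro h
      constructor
      · intro hh
        obtain ⟨k, rfl⟩ := Subgroup.mem_zpowers_iff.1 hh
        rw [← conj_zpow, d.conj_z_e]
        exact Subgroup.zpow_mem _ (Subgroup.inv_mem _ (Subgroup.mem_zpowers _)) _
      · intro hh
        obtain ⟨k, hk⟩ := Subgroup.mem_zpowers_iff.1 hh
        have e1 : h = d.z⁻¹ * (d.z * h * d.z⁻¹) * d.z := by group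
        rw [e1, ← hk]
        have e2 : d.z⁻¹ * d.e ^ k * d.z = d.z * d.e ^ k * d.z⁻¹ := by rw [d.z_inv]
        rw [e2, ← conj_zpow, d.conj_z_e]
        exact Subgroup.zpow_mem _ (Subgroup.inv_mem _ (Subgroup.mem_zpowers _)) _
  exact Subgroup.normalizer_eq_top_iff.1 key

/-- a normal subgroup containing the commutator of the generators contains the derived
subgroup -/
theorem commutator_le_of_mem (N : Subgroup S) [N.Normal] (hN : ⁅d.z, d.x⁆ ∈ N) :
    commutator S ≤ N := by
  rw [← Subgroup.Normal.quotient_commutative_iff_commutator_le]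
  obtain ⟨π, hπ⟩ : ∃ π : S →* S ⧸ N, π = QuotientGroup.mk' N := ⟨_, rfl⟩
  have hsurj : Function.Surjective π := by rw [hπ]; exact QuotientGroup.mk'_surjective N
  have hzx : π d.z * π d.x = π d.x * π d.z := by
    have h1 : π ⁅d.z, d.x⁆ = 1 := by
      rw [hπ]; exact (QuotientGroup.eq_one_iff _).2 hN
    rw [commutatorElement_def, map_mul, map_mul, map_mul, map_inv, map_inv] at h1
    calc π d.z * π d.x = (π d.z * π d.x * (π d.z)⁻¹ * (π d.x)⁻¹) * (π d.x * π d.z) := by group
      _ = π d.x * π d.z := by rw [h1, one_mul]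
  have h1 : (Subgroup.centralizer {π d.x}).comap π = ⊤ := by
    apply d.closure_eq_top
    · rw [Subgroup.mem_comap, Subgroup.mem_centralizer_singleton_iff]
    · rw [Subgroup.mem_comap, Subgroup.mem_centralizer_singleton_iff]; exact hzx
  have h2 : (Subgroup.centralizer {π d.z}).comap π = ⊤ := by
    apply d.closure_eq_top
    · rw [Subgroup.mem_comap, Subgroup.mem_centralizer_singleton_iff]; exact hzx.symm
    · rw [Subgroup.mem_comap, Subgroup.mem_centralizer_singleton_iff]
  have h3 : (Subgroup.center (S ⧸ N)).comap π = ⊤ := by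
    apply d.closure_eq_top
    · rw [Subgroup.mem_comap, Subgroup.mem_center_iff]
      intro q
      obtain ⟨s, rfl⟩ := hsurj q
      have hs : s ∈ (Subgroup.centralizer {π d.x}).comap π := by rw [h1]; trivial
      rw [Subgroup.mem_comap, Subgroup.mem_centralizer_singleton_iff] at hs
      exact hs
    · rw [Subgroup.mem_comap, Subgroup.mem_center_iff]
      intro q
      obtain ⟨s, rfl⟩ := hsurj q
      have hs : s ∈ (Subgroup.centralizer {π d.z}).comap π := by rw [h2]; trivial
      rw [Subgroup.mem_comap, Subgroup.mem_centralizer_singleton_iff] at hs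
      exact hs
  refine ⟨⟨fun a b => ?_⟩⟩
  obtain ⟨s, rfl⟩ := hsurj a
  have hs : s ∈ (Subgroup.center (S ⧸ N)).comap π := by rw [h3]; trivial
  rw [Subgroup.mem_comap, Subgroup.mem_center_iff] at hs
  exact (hs b).symm

theorem commutator_eq : commutator S = Subgroup.zpowers d.e := by
  haveI := d.zpowers_e_normal
  apply le_antisymm
  · apply d.commutator_le_of_mem
    rw [← d.e_eq_comm]; exact Subgroup.mem_zpowers _
  · rw [Subgroup.zpowers_le, d.e_eq_comm, commutator_def]
    exact Subgroup.commutator_mem_commutator (Subgroup.mem_top _) (Subgroup.mem_top _)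

theorem card_commutator : Nat.card (commutator S) = 2 ^ d.n := by
  rw [d.commutator_eq, Nat.card_zpowers, d.orderOf_e]

theorem isCyclic_commutator (d : WDat S) : IsCyclic (commutator S) := by
  rw [d.commutator_eq]; infer_instance

/-- powers of `x` in the centre are trivial -/
theorem x_zpow_mem_center (k : ℤ) (h : d.x ^ k ∈ Subgroup.center S) : d.x ^ k = 1 := by
  rw [d.center_eq] at h
  obtain ⟨i, hi⟩ := Subgroup.mem_zpowers_iff.1 h
  rw [d.xy_zpow] at hi
  have h1 : d.x ^ (i - k) * d.y ^ i = 1 := by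
    rw [sub_eq_add_neg, zpow_add, zpow_neg, ← hi]
    have hc : Commute (d.x ^ i * d.y ^ i) (d.x ^ i) := by
      have := d.U_comm (d.x ^ i * d.y ^ i) (d.x ^ i)
        (Subgroup.mul_mem _ (Subgroup.zpow_mem _ d.x_mem_U _) (Subgroup.zpow_mem _ d.y_mem_U _))
        (Subgroup.zpow_mem _ d.x_mem_U _)
      exact this
    have hc2 : Commute (d.x ^ i) (d.y ^ i) := (d.comm_xy.zpow_left i).zpow_right i
    calc d.x ^ i * (d.x ^ i * d.y ^ i)⁻¹ * d.y ^ i = d.x ^ i * ((d.y ^ i)⁻¹ * (d.x ^ i)⁻¹) * d.y ^ i := by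
          rw [mul_inv_rev]
      _ = d.x ^ i * ((d.x ^ i)⁻¹ * (d.y ^ i)⁻¹) * d.y ^ i := by
          rw [(hc2.inv_left.inv_right).eq]
      _ = 1 := by group
  have h2 := (d.eq_one_of_mul_eq_one _ _ h1).2
  have h3 := (d.eq_one_of_mul_eq_one _ _ h1).1
  rw [← hi, h2, mul_one]
  have : d.x ^ i = 1 := by
    rw [d.x_zpow_eq_one_iff]
    exact (d.y_zpow_eq_one_iff i).1 h2
  exact this

theorem quotient_center_dihedral :
    Nonempty (S ⧸ Subgroup.center S ≃* DihedralGroup (2 ^ d.n)) := by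
  haveI := d.finite
  have hn := d.hn
  obtain ⟨π, hπ⟩ : ∃ π : S →* S ⧸ Subgroup.center S, π = QuotientGroup.mk' _ := ⟨_, rfl⟩
  have hker : ∀ s : S, π s = 1 ↔ s ∈ Subgroup.center S := by
    intro s; rw [hπ]; exact QuotientGroup.eq_one_iff s
  have hN : 2 ≤ 2 ^ d.n := by
    calc 2 = 2 ^ 1 := rfl
      _ ≤ 2 ^ d.n := Nat.pow_le_pow_right (by norm_num) (by omega)
  apply nonempty_mulEquiv_dihedral_of_rel (2 ^ d.n) hN (π d.x) (π d.z)
  · apply Nat.dvd_antisymm
    · apply orderOf_dvd_of_pow_eq_one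
      rw [← map_pow, d.x_pow, map_one]
    · rw [← d.hx]
      apply orderOf_dvd_of_pow_eq_one
      have h := pow_orderOf_eq_one (π d.x)
      rw [← map_pow, hker, ← zpow_natCast] at h
      have := d.x_zpow_mem_center _ h
      rwa [zpow_natCast] at this
  · intro hmem
    obtain ⟨k, hk⟩ := Subgroup.mem_zpowers_iff.1 hmem
    rw [← map_zpow] at hk
    have h1 : π ((d.x ^ k)⁻¹ * d.z) = 1 := by
      rw [map_mul, map_inv, hk, inv_mul_cancel]
    rw [hker] at h1
    have h2 := d.center_le_U h1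
    apply d.z_not_mem_U
    have := Subgroup.mul_mem _ (Subgroup.zpow_mem _ d.x_mem_U k) h2
    simpa using this
  · rw [← map_pow, d.z_sq, map_one]
  · rw [← map_inv, ← map_mul, ← map_mul, d.hzx]
    rw [eq_comm, inv_eq_iff_mul_eq_one, ← map_mul, hker]
    have := d.xy_zpow_mem_center 1
    rwa [zpow_one] at this
  · have h1 := Subgroup.card_mul_index (Subgroup.center S)
    rw [d.card_center, d.card, Subgroup.index_eq_card] at h1
    have h2 : 2 ^ (2 * d.n + 1) = 2 ^ d.n * (2 * 2 ^ d.n) := by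
      rw [← pow_succ', ← pow_add]; congr 1; ring
    rw [h2] at h1
    exact Nat.eq_of_mul_eq_mul_left (by positivity) h1

end WDat

end Cfsg.Agent.Lib.Helper6
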