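import Mathlib
import Cfsg.Agent.Lib.Helper6.W2

set_option autoImplicit false

namespace Cfsg.Agent.Lib.Helper6

open scoped commutatorElement

namespace WDat

variable {S : Type*} [Group S] (d : WDat S)

/-- the involution of `zpowers x` -/
def wx : S := d.x ^ 2 ^ (d.n - 1)

/-- the involution of `zpowers y` -/
def wy : S := d.y ^ 2 ^ (d.n - 1)

theorem two_pow_pred : 2 ^ (d.n - 1) * 2 = 2 ^ d.n := by
  have := d.hn
  rw [← pow_succ]; congr 1; omega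

theorem wx_sq : d.wx ^ 2 = 1 := by rw [wx, ← pow_mul, d.two_pow_pred, d.x_pow]

theorem wy_sq : d.wy ^ 2 = 1 := by rw [wy, ← pow_mul, d.two_pow_pred, d.y_pow]

theorem wx_ne_one : d.wx ≠ 1 := by
  have hn := d.hn
  intro h
  have := orderOf_dvd_of_pow_eq_one h
  rw [d.hx] at this
  have h2 := Nat.le_of_dvd (by positivity) this
  have : 2 ^ (d.n - 1) < 2 ^ d.n := Nat.pow_lt_pow_right (by norm_num) (by omega)
  omega

theorem wy_ne_one : d.wy ≠ 1 := by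
  have hn := d.hn
  intro h
  have := orderOf_dvd_of_pow_eq_one h
  rw [d.orderOf_y] at this
  have h2 := Nat.le_of_dvd (by positivity) this
  have : 2 ^ (d.n - 1) < 2 ^ d.n := Nat.pow_lt_pow_right (by norm_num) (by omega)
  omega

theorem conj_z_wx : d.z * d.wx * d.z⁻¹ = d.wy := by rw [wx, wy, ← conj_pow, d.hzx]

theorem wx_mem_U : d.wx ∈ d.U := Subgroup.pow_mem _ d.x_mem_U _

theorem wy_mem_U : d.wy ∈ d.U := Subgroup.pow_mem _ d.y_mem_U _

/-- the central involution -/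
def zeta : S := d.wx * d.wy

theorem zeta_eq : d.zeta = (d.x * d.y) ^ 2 ^ (d.n - 1) := by
  rw [zeta, wx, wy, d.comm_xy.mul_pow]

theorem zeta_mem_center : d.zeta ∈ Subgroup.center S := by
  rw [d.zeta_eq, ← zpow_natCast]; exact d.xy_zpow_mem_center _

theorem zeta_mem_U : d.zeta ∈ d.U := Subgroup.mul_mem _ d.wx_mem_U d.wy_mem_U

theorem comm_wx_wy : Commute d.wx d.wy := (d.comm_xy.pow_left _).pow_right _

theorem zeta_sq : d.zeta ^ 2 = 1 := by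
  rw [zeta, d.comm_wx_wy.mul_pow, d.wx_sq, d.wy_sq, one_mul]

theorem wx_ne_wy : d.wx ≠ d.wy := by
  intro h
  have h1 : d.wx ∈ Subgroup.zpowers d.x ⊓ Subgroup.zpowers d.y :=
    Subgroup.mem_inf.2 ⟨Subgroup.pow_mem _ (Subgroup.mem_zpowers _) _, by
      rw [h]; exact Subgroup.pow_mem _ (Subgroup.mem_zpowers _) _⟩
  rw [d.hdisj, Subgroup.mem_bot] at h1
  exact d.wx_ne_one h1

theorem zeta_ne_one : d.zeta ≠ 1 := by
  intro h
  apply d.wx_ne_wy
  have h1 : d.wx = d.wy⁻¹ := eq_inv_of_mul_eq_one_left h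
  rw [h1]
  exact inv_eq_of_mul_eq_one_right (by rw [← pow_two]; exact d.wy_sq)

theorem zeta_ne_wx : d.zeta ≠ d.wx := by
  intro h
  apply d.wy_ne_one
  have : d.wx * d.wy = d.wx * 1 := by rw [mul_one]; exact h
  exact mul_left_cancel this

theorem orderOf_wx : orderOf d.wx = 2 := orderOf_eq_prime d.wx_sq d.wx_ne_one

theorem orderOf_zeta : orderOf d.zeta = 2 := orderOf_eq_prime d.zeta_sq d.zeta_ne_one

/-- elements of `zpowers x` squaring to one -/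
theorem x_zpow_sq (i : ℤ) (h : d.x ^ (2 * i) = 1) : d.x ^ i = 1 ∨ d.x ^ i = d.wx := by
  have hn := d.hn
  rw [d.x_zpow_eq_one_iff] at h
  have h3 : (2 ^ d.n : ℤ) = 2 * 2 ^ (d.n - 1) := by
    rw [← pow_succ']; congr 1; omega
  rw [h3] at h
  obtain ⟨j, rfl⟩ : (2 ^ (d.n - 1) : ℤ) ∣ i := Int.dvd_of_mul_dvd_mul_left (by norm_num) h
  have h4 : d.x ^ ((2 ^ (d.n - 1) : ℤ) * j) = d.wx ^ j := by
    rw [zpow_mul, wx]; congr 1
    rw [← zpow_natCast]; congr 1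
  rw [h4]
  rcases Int.even_or_odd j with ⟨m, rfl⟩ | ⟨m, rfl⟩
  · left
    rw [← two_mul, zpow_mul, zpow_ofNat, d.wx_sq, one_zpow]
  · right
    rw [zpow_add, zpow_mul, zpow_ofNat, d.wx_sq, one_zpow, one_mul, zpow_one]

theorem y_zpow_sq (i : ℤ) (h : d.y ^ (2 * i) = 1) : d.y ^ i = 1 ∨ d.y ^ i = d.wy := by
  have hn := d.hn
  rw [d.y_zpow_eq_one_iff] at h
  have h3 : (2 ^ d.n : ℤ) = 2 * 2 ^ (d.n - 1) := by
    rw [← pow_succ']; congr 1; omega
  rw [h3] at h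
  obtain ⟨j, rfl⟩ : (2 ^ (d.n - 1) : ℤ) ∣ i := Int.dvd_of_mul_dvd_mul_left (by norm_num) h
  have h4 : d.y ^ ((2 ^ (d.n - 1) : ℤ) * j) = d.wy ^ j := by
    rw [zpow_mul, wy]; congr 1
    rw [← zpow_natCast]; congr 1
  rw [h4]
  rcases Int.even_or_odd j with ⟨m, rfl⟩ | ⟨m, rfl⟩
  · left
    rw [← two_mul, zpow_mul, zpow_ofNat, d.wy_sq, one_zpow]
  · right
    rw [zpow_add, zpow_mul, zpow_ofNat, d.wy_sq, one_zpow, one_mul, zpow_one]

/-- the involutions of `U` -/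
theorem involution_of_mem_U (t : S) (ht : t ∈ d.U) (ht2 : t ^ 2 = 1) :
    t = 1 ∨ t = d.wx ∨ t = d.wy ∨ t = d.zeta := by
  obtain ⟨i, j, rfl⟩ := (d.mem_U t).1 ht
  have hc : Commute (d.x ^ i) (d.y ^ j) := (d.comm_xy.zpow_left i).zpow_right j
  rw [hc.mul_pow, ← zpow_natCast, ← zpow_natCast, ← zpow_mul, ← zpow_mul] at ht2
  obtain ⟨h1, h2⟩ := d.eq_one_of_mul_eq_one _ _ ht2
  rw [mul_comm] at h1 h2
  rcases d.x_zpow_sq i (by exact_mod_cast h1) with hx | hx <;>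
    rcases d.y_zpow_sq j (by exact_mod_cast h2) with hy | hy <;> rw [hx, hy]
  · left; rw [mul_one]
  · right; right; left; rw [one_mul]
  · right; left; rw [mul_one]
  · right; right; right; rfl

/-- squares of elements outside `U` -/
theorem sq_z_mul (i j : ℤ) : (d.z * (d.x ^ i * d.y ^ j)) ^ 2 = (d.x * d.y) ^ (i + j) := by
  have e1 : (d.z * (d.x ^ i * d.y ^ j)) ^ 2
      = (d.z * (d.x ^ i * d.y ^ j) * d.z⁻¹) * d.z ^ 2 * (d.x ^ i * d.y ^ j) := by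
    rw [pow_two, pow_two]; group
  rw [e1, d.conj_z, d.z_sq, mul_one, d.xy_zpow]
  have hc : Commute (d.y ^ i) (d.x ^ i) := ((d.comm_xy.zpow_left i).zpow_right i).symm
  calc d.x ^ j * d.y ^ i * (d.x ^ i * d.y ^ j) = d.x ^ j * (d.y ^ i * d.x ^ i) * d.y ^ j := by group
    _ = d.x ^ j * (d.x ^ i * d.y ^ i) * d.y ^ j := by rw [hc.eq]
    _ = (d.x ^ j * d.x ^ i) * (d.y ^ i * d.y ^ j) := by group
    _ = d.x ^ (i + j) * d.y ^ (i + j) := by rw [← zpow_add, ← zpow_add, add_comm j i]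

/-- conjugates of `z` by powers of `x` -/
theorem conj_x_z (m : ℤ) : d.x ^ m * d.z * (d.x ^ m)⁻¹ = d.z * d.e ^ m := by
  have h1 : d.z⁻¹ * d.x ^ m * d.z = d.y ^ m := by
    have := d.conj_z m 0
    rw [zpow_zero, mul_one, zpow_zero, one_mul] at this
    rw [← this, d.z_inv]
  rw [d.e_zpow]
  have hc : Commute (d.y ^ m) (d.x ^ (-m)) := ((d.comm_xy.zpow_left (-m)).zpow_right m).symm
  calc d.x ^ m * d.z * (d.x ^ m)⁻¹ = d.z * (d.z⁻¹ * d.x ^ m * d.z) * (d.x ^ m)⁻¹ := by group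
    _ = d.z * (d.y ^ m * d.x ^ (-m)) := by rw [h1, zpow_neg, mul_assoc]
    _ = d.z * (d.x ^ (-m) * d.y ^ m) := by rw [hc.eq]

/-- involutions outside `U` are conjugate to `z` -/
theorem isConj_z_of_involution (t : S) (ht : t ∉ d.U) (ht2 : t ^ 2 = 1) : IsConj d.z t := by
  obtain ⟨u, hu, rfl⟩ := d.exists_eq_z_mul t ht
  obtain ⟨i, j, rfl⟩ := (d.mem_U u).1 hu
  rw [d.sq_z_mul, d.xy_zpow] at ht2
  obtain ⟨h1, h2⟩ := d.eq_one_of_mul_eq_one _ _ ht2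
  have h3 : d.y ^ j = d.y ^ (-i) := by
    have : d.y ^ j = d.y ^ (i + j) * d.y ^ (-i) := by rw [← zpow_add]; congr 1; ring
    rw [this, h2, one_mul]
  rw [h3]
  have h4 : d.x ^ i * d.y ^ (-i) = d.e ^ (-i) := by rw [d.e_zpow, neg_neg]
  rw [h4, ← d.conj_x_z]
  exact isConj_iff.2 ⟨_, rfl⟩

end WDat

end Cfsg.Agent.Lib.Helper6
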