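import Mathlib
import Cfsg.Agent.Lib.Helper6.W3
import Cfsg.Agent.Lib.Helper6.QuatFacts
import Cfsg.Agent.Lib.Helper6.QuatRec

set_option autoImplicit false

namespace Cfsg.Agent.Lib.Helper6

/-- for `D` normal, `g ∉ D` and `g ^ 2 ∈ D`, the join `zpowers g ⊔ D` has twice the order -/
theorem card_zpowers_sup {G : Type*} [Group G] [Finite G] (D : Subgroup G) [D.Normal]
    (g : G) (hg : g ∉ D) (hg2 : g ^ 2 ∈ D) :
    Nat.card (Subgroup.zpowers g ⊔ D : Subgroup G) = 2 * Nat.card D := by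
  have hsurj := QuotientGroup.mk'_surjective D
  have h1 : Subgroup.zpowers g ⊔ D =
      (Subgroup.zpowers ((QuotientGroup.mk' D) g)).comap (QuotientGroup.mk' D) := by
    rw [← MonoidHom.map_zpowers, Subgroup.comap_map_eq, QuotientGroup.ker_mk']
  have h2 : orderOf ((QuotientGroup.mk' D) g) = 2 := by
    apply orderOf_eq_prime
    · rw [← map_pow]
      exact (QuotientGroup.eq_one_iff _).2 hg2
    · intro h
      exact hg ((QuotientGroup.eq_one_iff _).1 h)
  have h3 := Subgroup.card_mul_index (Subgroup.zpowers ((QuotientGroup.mk' D) g))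
  rw [Nat.card_zpowers, h2, ← Subgroup.index_eq_card] at h3
  have h4 : (Subgroup.zpowers g ⊔ D).index
      = (Subgroup.zpowers ((QuotientGroup.mk' D) g)).index := by
    rw [h1, Subgroup.index_comap_of_surjective _ hsurj]
  have h5 := Subgroup.card_mul_index (Subgroup.zpowers g ⊔ D)
  have h6 := Subgroup.card_mul_index D
  rw [h4] at h5
  have hpos : 0 < (Subgroup.zpowers ((QuotientGroup.mk' D) g)).index :=
    Nat.pos_of_ne_zero Subgroup.index_ne_zero_of_finite
  have h7 : Nat.card (Subgroup.zpowers g ⊔ D : Subgroup G)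
      * (Subgroup.zpowers ((QuotientGroup.mk' D) g)).index
      = 2 * Nat.card D * (Subgroup.zpowers ((QuotientGroup.mk' D) g)).index := by
    rw [h5, ← h6, ← h3]; ring
  exact Nat.eq_of_mul_eq_mul_right hpos h7

namespace WDat

variable {S : Type*} [Group S] (d : WDat S)

/-- the generator outside `U` of the quaternion subgroup -/
def b : S := d.z * d.wx

theorem b_not_mem_U : d.b ∉ d.U := by
  intro h
  apply d.z_not_mem_U
  have := Subgroup.mul_mem _ h (Subgroup.inv_mem _ d.wx_mem_U)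
  simpa [b] using this

theorem wx_inv : d.wx⁻¹ = d.wx := by
  have := d.wx_sq
  rw [pow_two] at this
  exact inv_eq_of_mul_eq_one_right this

theorem e_pow_half : d.e ^ 2 ^ (d.n - 1) = d.zeta := by
  rw [← zpow_natCast, d.e_zpow, zeta, zpow_neg, zpow_natCast, zpow_natCast]
  show (d.x ^ 2 ^ (d.n - 1))⁻¹ * d.y ^ 2 ^ (d.n - 1) = d.wx * d.wy
  rw [← wx, ← wy, d.wx_inv]

theorem b_sq : d.b ^ 2 = d.zeta := by
  have := d.sq_z_mul (2 ^ (d.n - 1) : ℕ) 0
  rw [zpow_zero, mul_one, add_zero, zpow_natCast, zpow_natCast] at this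
  rw [b, wx, this, d.zeta_eq]

theorem b_conj_e : d.b * d.e * d.b⁻¹ = d.e⁻¹ := by
  have hc : d.wx * d.e * d.wx⁻¹ = d.e := by
    rw [d.U_comm d.wx d.e d.wx_mem_U d.e_mem_U, mul_inv_cancel_right]
  calc d.b * d.e * d.b⁻¹ = d.z * (d.wx * d.e * d.wx⁻¹) * d.z⁻¹ := by rw [b]; group
    _ = d.e⁻¹ := by rw [hc, d.conj_z_e]

/-- the generalized quaternion subgroup -/
def Y0 : Subgroup S := Subgroup.zpowers d.b ⊔ Subgroup.zpowers d.e

theorem b_mem_Y0 : d.b ∈ d.Y0 := Subgroup.mem_sup_left (Subgroup.mem_zpowers _)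

theorem e_mem_Y0 : d.e ∈ d.Y0 := Subgroup.mem_sup_right (Subgroup.mem_zpowers _)

theorem b_not_mem_zpowers_e : d.b ∉ Subgroup.zpowers d.e := by
  intro h
  apply d.b_not_mem_U
  obtain ⟨k, hk⟩ := Subgroup.mem_zpowers_iff.1 h
  rw [← hk]; exact Subgroup.zpow_mem _ d.e_mem_U _

theorem Y0_card : Nat.card d.Y0 = 2 ^ (d.n + 1) := by
  haveI := d.finite
  haveI := d.zpowers_e_normal
  rw [Y0, card_zpowers_sup (Subgroup.zpowers d.e) d.b d.b_not_mem_zpowers_e, Nat.card_zpowers,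
    d.orderOf_e, ← pow_succ']
  rw [d.b_sq, ← d.e_pow_half]
  exact Subgroup.pow_mem _ (Subgroup.mem_zpowers _) _

theorem Y0_quaternion : Nonempty (d.Y0 ≃* QuaternionGroup (2 ^ (d.n - 1))) := by
  haveI := d.finite
  have hn := d.hn
  haveI : NeZero (2 ^ (d.n - 1)) := ⟨by positivity⟩
  apply nonempty_mulEquiv_quaternion (2 ^ (d.n - 1)) (⟨d.e, d.e_mem_Y0⟩ : d.Y0) ⟨d.b, d.b_mem_Y0⟩
  · rw [Subgroup.orderOf_mk, d.orderOf_e, ← pow_succ']; congr 1; omega
  · apply Subtype.ext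
    simp only [Subgroup.coe_pow]
    rw [d.b_sq, d.e_pow_half]
  · apply Subtype.ext
    simp only [Subgroup.coe_mul, Subgroup.coe_inv]
    exact d.b_conj_e
  · intro hmem
    obtain ⟨k, hk⟩ := Subgroup.mem_zpowers_iff.1 hmem
    have h1 := congrArg Subtype.val hk
    simp only [Subgroup.coe_zpow] at h1
    apply d.b_not_mem_zpowers_e
    rw [← h1]
    exact Subgroup.zpow_mem _ (Subgroup.mem_zpowers _) _
  · rw [d.Y0_card, show (4 : ℕ) = 2 ^ 2 by norm_num, ← pow_add]; congr 1; omega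

/-- involutions of the centre -/
theorem xy_zpow_sq (i : ℤ) (h : ((d.x * d.y) ^ i) ^ 2 = 1) :
    (d.x * d.y) ^ i = 1 ∨ (d.x * d.y) ^ i = d.zeta := by
  rw [d.xy_zpow] at h ⊢
  have hc : Commute (d.x ^ i) (d.y ^ i) := (d.comm_xy.zpow_left i).zpow_right i
  rw [hc.mul_pow, ← zpow_natCast, ← zpow_natCast, ← zpow_mul, ← zpow_mul] at h
  obtain ⟨h1, h2⟩ := d.eq_one_of_mul_eq_one _ _ h
  rw [mul_comm] at h1 h2
  rcases d.x_zpow_sq i (by exact_mod_cast h1) with hx | hx
  · left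
    have hy : d.y ^ i = 1 := by
      rw [d.y_zpow_eq_one_iff]; exact (d.x_zpow_eq_one_iff i).1 hx
    rw [hx, hy, one_mul]
  · right
    rcases d.y_zpow_sq i (by exact_mod_cast h2) with hy | hy
    · exfalso
      have : d.x ^ i = 1 := by
        rw [d.x_zpow_eq_one_iff]; exact (d.y_zpow_eq_one_iff i).1 hy
      rw [this] at hx
      exact d.wx_ne_one hx.symm
    · rw [hx, hy, zeta]

/-- elements outside `U` squaring to `zeta` lie in `Y0` -/
theorem mem_Y0_of_sq (g : S) (hg : g ∉ d.U) (hg2 : g ^ 2 = d.zeta) : g ∈ d.Y0 := by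
  have hn := d.hn
  obtain ⟨u, hu, rfl⟩ := d.exists_eq_z_mul g hg
  obtain ⟨k, l, rfl⟩ := (d.mem_U u).1 hu
  rw [d.sq_z_mul, d.zeta_eq, ← zpow_natCast] at hg2
  -- (xy)^(k + l - m) = 1
  have h1 : (d.x * d.y) ^ (k + l - ((2 ^ (d.n - 1) : ℕ) : ℤ)) = 1 := by
    rw [zpow_sub, hg2, mul_inv_cancel]
  rw [d.xy_zpow] at h1
  have h2 := (d.eq_one_of_mul_eq_one _ _ h1).2
  have h3 : d.y ^ l = d.wy * d.y ^ (-k) := by
    have : d.y ^ l = d.y ^ (k + l - ((2 ^ (d.n - 1) : ℕ) : ℤ)) * d.y ^ (((2 ^ (d.n - 1) : ℕ) : ℤ) - k) := by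
      rw [← zpow_add]; congr 1; ring
    rw [this, h2, one_mul, sub_eq_add_neg, zpow_add, zpow_natCast, wy]
  -- g = b * zeta * e^(-k)
  have h4 : d.z * (d.x ^ k * d.y ^ l) = d.b * (d.e ^ 2 ^ (d.n - 1) * d.e ^ (-k)) := by
    rw [h3, d.e_pow_half, b, d.e_zpow, neg_neg, zeta]
    have e1 : d.x ^ k * (d.wy * d.y ^ (-k)) = d.wx * (d.wx * d.wy * (d.x ^ k * d.y ^ (-k))) := by
      have c1 : Commute (d.x ^ k) d.wy := (d.comm_xy.zpow_left k).pow_right _
      have c2 : Commute (d.wx) (d.wy) := d.comm_wx_wy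
      calc d.x ^ k * (d.wy * d.y ^ (-k)) = (d.x ^ k * d.wy) * d.y ^ (-k) := by group
        _ = (d.wy * d.x ^ k) * d.y ^ (-k) := by rw [c1.eq]
        _ = (d.wx * d.wx) * (d.wy * d.x ^ k) * d.y ^ (-k) := by
            rw [← pow_two, d.wx_sq, one_mul]
        _ = d.wx * (d.wx * d.wy * (d.x ^ k * d.y ^ (-k))) := by group
    rw [e1]; group
  rw [h4]
  exact Subgroup.mul_mem _ d.b_mem_Y0 (Subgroup.mul_mem _
    (Subgroup.pow_mem _ d.e_mem_Y0 _) (Subgroup.zpow_mem _ d.e_mem_Y0 _))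

/-- squares of elements outside `U` are central -/
theorem sq_mem_center_of_not_mem (g : S) (hg : g ∉ d.U) : ∃ i : ℤ, g ^ 2 = (d.x * d.y) ^ i := by
  obtain ⟨u, hu, rfl⟩ := d.exists_eq_z_mul g hg
  obtain ⟨k, l, rfl⟩ := (d.mem_U u).1 hu
  exact ⟨k + l, d.sq_z_mul k l⟩

theorem sq_mem_U (g : S) : g ^ 2 ∈ d.U := by
  rw [pow_two, Subgroup.mul_mem_iff_of_index_two d.U_index]

/-- uniqueness of the quaternion subgroup -/
theorem eq_Y0_of_quaternion (Y : Subgroup S) (hcard : Nat.card Y = 2 ^ (d.n + 1))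
    (hY : Nonempty (Y ≃* QuaternionGroup (2 ^ (d.n - 1)))) : Y = d.Y0 := by
  haveI := d.finite
  have hn := d.hn
  obtain ⟨φ⟩ := hY
  have hm : 2 ≤ 2 ^ (d.n - 1) := by
    calc 2 = 2 ^ 1 := rfl
      _ ≤ 2 ^ (d.n - 1) := Nat.pow_le_pow_right (by norm_num) (by omega)
  obtain ⟨ι, β, hβ, hι1, hι2, hinv, hcen, g0, h0, hnc⟩ := quat_structure _ hm φ
  -- ι lies in U
  have hιU : (ι : S) ∈ d.U := by
    rw [← hβ]
    simp only [Subgroup.coe_pow]
    exact d.sq_mem_U _
  -- elements of Y outside U square to zeta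
  have hkey : ∀ g ∈ Y, g ∉ d.U → g ^ 2 = d.zeta := by
    intro g hgY hgU
    obtain ⟨i, hi⟩ := d.sq_mem_center_of_not_mem g hgU
    have hcent : g ^ 2 ∈ Subgroup.center S := by rw [hi]; exact d.xy_zpow_mem_center i
    have h1 : (⟨g, hgY⟩ : Y) ^ 2 = 1 ∨ (⟨g, hgY⟩ : Y) ^ 2 = ι := by
      apply hcen
      intro q
      apply Subtype.ext
      simp only [Subgroup.coe_mul, Subgroup.coe_pow]
      exact (Subgroup.mem_center_iff.1 hcent q).symm
    rcases h1 with h1 | h1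
    · exfalso
      rcases hinv _ h1 with h2 | h2
      · apply hgU
        have := congrArg Subtype.val h2
        simp only [Subgroup.coe_one] at this
        rw [this]; exact Subgroup.one_mem _
      · apply hgU
        have := congrArg Subtype.val h2
        simp only at this
        rw [this]; exact hιU
    · have h2 : g ^ 2 = (ι : S) := by
        have := congrArg Subtype.val h1
        simpa using this
      have h3 : ((ι : S)) ^ 2 = 1 := by
        have := congrArg Subtype.val hι2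
        simpa using this
      rw [h2]
      rw [hi] at h2
      rcases d.xy_zpow_sq i (by rw [h2]; exact h3) with h4 | h4
      · exfalso
        apply hι1
        apply Subtype.ext
        rw [← h2, h4]; rfl
      · rw [← h2, h4]
  obtain ⟨h, hhY, hhU⟩ : ∃ h ∈ Y, h ∉ d.U := by
    by_contra hcon
    push Not at hcon
    apply hnc
    apply Subtype.ext
    simp only [Subgroup.coe_mul]
    exact d.U_comm _ _ (hcon _ g0.2) (hcon _ h0.2)
  have hle : Y ≤ d.Y0 := by
    intro g hgY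
    by_cases hgU : g ∈ d.U
    · have h1 : h⁻¹ * g ∉ d.U := by
        rw [Subgroup.mul_mem_iff_of_index_two d.U_index]
        intro hiff
        apply hhU
        have := hiff.2 hgU
        simpa using Subgroup.inv_mem _ this
      have h2 : h⁻¹ * g ∈ Y := Y.mul_mem (Y.inv_mem hhY) hgY
      have h3 := d.mem_Y0_of_sq _ h1 (hkey _ h2 h1)
      have h4 := d.mem_Y0_of_sq _ hhU (hkey _ hhY hhU)
      have := Subgroup.mul_mem _ h4 h3
      simpa using this
    · exact d.mem_Y0_of_sq g hgU (hkey g hgY hgU)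
  apply Subgroup.eq_of_le_of_card_ge hle
  rw [hcard, d.Y0_card]

end WDat

end Cfsg.Agent.Lib.Helper6
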