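import Mathlib
import Cfsg.Prelude.Def_CaseTheorems
import Cfsg.Agent.S1196
import Cfsg.Agent.Lib.Helper6.W4
import Cfsg.Agent.Lib.Helper6.QDF

set_option autoImplicit false

namespace Cfsg.Agent.Lib.Helper6.WF
open Cfsg.Agent.Lib.Helper6 Subgroup

set_option linter.unusedVariables false
set_option linter.unusedSectionVars false
set_option linter.style.haveILetI false

theorem q8_comm4 : ∀ a b : QuaternionGroup 2, a * a ≠ 1 → b * b ≠ 1 → a * b = b * a →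
    b = a ∨ b = a⁻¹ := by decide

theorem q8_ncomm_inv : ∀ a b : QuaternionGroup 2, a * a ≠ 1 → b * b ≠ 1 → b ≠ a → b ≠ a⁻¹ →
    b * a * b⁻¹ = a⁻¹ := by decide

theorem q8_central : ∀ g : QuaternionGroup 2, (∀ h : QuaternionGroup 2, g * h = h * g) →
    g = 1 ∨ g = QuaternionGroup.a 1 * QuaternionGroup.a 1 := by decide

theorem q8_cent_elt : ∀ a g : QuaternionGroup 2, a * a ≠ 1 → g * a = a * g →
    g = 1 ∨ g = a ∨ g = a * a ∨ g = a⁻¹ := by decide

theorem q8_facts : (QuaternionGroup.a 1 : QuaternionGroup 2) * QuaternionGroup.a 1 ≠ 1 ∧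
    (QuaternionGroup.xa 0 : QuaternionGroup 2) * QuaternionGroup.xa 0 ≠ 1 ∧
    ((QuaternionGroup.a 1 : QuaternionGroup 2) * QuaternionGroup.xa 0) *
      (QuaternionGroup.a 1 * QuaternionGroup.xa 0) ≠ 1 ∧
    (QuaternionGroup.a 1 : QuaternionGroup 2) * QuaternionGroup.xa 0 ≠
      QuaternionGroup.xa 0 * QuaternionGroup.a 1 := by decide

theorem q8_sq_sq' : ∀ g : QuaternionGroup 2, (g * g) * (g * g) = 1 := by decide

section generic
variable {G : Type*} [Group G]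

/-- an element of odd order normalizing a cyclic `2`-group centralizes it -/
theorem odd_cent_cyclic [Finite G] (c μ : G) (k : ℕ) (hc : orderOf c = 2 ^ k)
    (hμ : Odd (orderOf μ)) (hN : μ * c * μ⁻¹ ∈ Subgroup.zpowers c) : μ * c * μ⁻¹ = c := by
  have hμN : μ ∈ Subgroup.normalizer ((Subgroup.zpowers c : Subgroup G) : Set G) := by
    apply Subgroup.mem_normalizer_fintype
    intro y hy
    obtain ⟨j, hj⟩ := Subgroup.mem_zpowers_iff.mp hy
    rw [← hj, ← conj_zpow]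
    show (μ * c * μ⁻¹) ^ j ∈ Subgroup.zpowers c
    exact Subgroup.zpow_mem _ hN j
  obtain ⟨φ, hφ⟩ : ∃ φ : MulAut ↥(Subgroup.zpowers c),
      φ = (Subgroup.zpowers c).normalizerMonoidHom ⟨μ, hμN⟩ := ⟨_, rfl⟩
  have h1 : orderOf φ ∣ orderOf μ := by
    rw [hφ]
    have h := orderOf_map_dvd (Subgroup.zpowers c).normalizerMonoidHom
      (⟨μ, hμN⟩ : ↥(Subgroup.normalizer ((Subgroup.zpowers c : Subgroup G) : Set G)))
    rwa [Subgroup.orderOf_mk] at h
  have htot : Nat.totient (2 ^ k) ∣ 2 ^ k := by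
    rcases Nat.eq_zero_or_pos k with h0 | h0
    · rw [h0]; simp
    · rw [Nat.totient_prime_pow Nat.prime_two h0]
      simp only [Nat.add_one_sub_one, mul_one]
      exact pow_dvd_pow 2 (Nat.sub_le k 1)
  have h2 : orderOf φ ∣ 2 ^ k := by
    have h3 : orderOf φ ∣ Nat.card (MulAut ↥(Subgroup.zpowers c)) := orderOf_dvd_natCard φ
    rw [IsCyclic.card_mulAut, Nat.card_zpowers, hc] at h3
    exact h3.trans htot
  have h4 : orderOf φ = 1 :=
    Nat.eq_one_of_dvd_coprimes (Nat.Coprime.pow_right k (Nat.coprime_two_right.mpr hμ)) h1 h2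
  have h5 : φ = 1 := orderOf_eq_one_iff.mp h4
  have h6 : (⟨μ, hμN⟩ : ↥(Subgroup.normalizer ((Subgroup.zpowers c : Subgroup G) : Set G))) ∈
      (Subgroup.zpowers c).normalizerMonoidHom.ker := by
    rw [MonoidHom.mem_ker, ← hφ, h5]
  rw [Subgroup.normalizerMonoidHom_ker, Subgroup.mem_subgroupOf, Subgroup.mem_centralizer_iff] at h6
  have h7 : c * μ = μ * c := h6 c (Subgroup.mem_zpowers c)
  rw [← h7]; group

theorem odd_fix (μ u t : G) (b m : ℕ) (hb : Odd b) (hμ : μ ^ b = 1)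
    (h1 : μ * u * μ⁻¹ = t * u) (h2 : μ * t * μ⁻¹ = t) (ht : t ^ 2 ^ m = 1) : t = 1 := by
  have key : ∀ k : ℕ, μ ^ k * u * (μ ^ k)⁻¹ = t ^ k * u := by
    intro k
    induction k with
    | zero => simp
    | succ k ih =>
      have e : μ ^ (k + 1) * u * (μ ^ (k + 1))⁻¹ = μ * (μ ^ k * u * (μ ^ k)⁻¹) * μ⁻¹ := by
        rw [pow_succ']; group
      have e2 : μ * (t ^ k * u) * μ⁻¹ = (μ * t * μ⁻¹) ^ k * (μ * u * μ⁻¹) := by
        rw [conj_pow]; group
      rw [e, ih, e2, h2, h1, pow_succ, mul_assoc]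
  have h3 := key b
  rw [hμ] at h3
  have h4 : t ^ b = 1 := by
    have h5 : 1 * u = t ^ b * u := by simpa using h3
    exact (mul_right_cancel h5).symm
  have h5 : orderOf t ∣ b := orderOf_dvd_of_pow_eq_one h4
  have h6 : orderOf t ∣ 2 ^ m := orderOf_dvd_of_pow_eq_one ht
  have h7 : orderOf t = 1 :=
    Nat.eq_one_of_dvd_coprimes (Nat.Coprime.pow_right m (Nat.coprime_two_right.mpr hb)) h5 h6
  exact orderOf_eq_one_iff.mp h7

theorem odd_swap (μ a a' : G) (b : ℕ) (hb : Odd b) (hμ : μ ^ b = 1)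
    (h1 : μ * a * μ⁻¹ = a') (h2 : μ * a' * μ⁻¹ = a) : a' = a := by
  have key : ∀ k : ℕ, μ ^ (2 * k) * a * (μ ^ (2 * k))⁻¹ = a := by
    intro k
    induction k with
    | zero => simp
    | succ k ih =>
      have e : μ ^ (2 * (k + 1)) * a * (μ ^ (2 * (k + 1)))⁻¹ =
          μ * (μ * (μ ^ (2 * k) * a * (μ ^ (2 * k))⁻¹) * μ⁻¹) * μ⁻¹ := by
        rw [show 2 * (k + 1) = 2 * k + 1 + 1 by ring, pow_succ', pow_succ']; group
      rw [e, ih, h1, h2]
  obtain ⟨k, hk⟩ := hb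
  have h3 : μ ^ b * a * (μ ^ b)⁻¹ = a' := by
    rw [hk, pow_succ']
    calc μ * μ ^ (2 * k) * a * (μ * μ ^ (2 * k))⁻¹
        = μ * (μ ^ (2 * k) * a * (μ ^ (2 * k))⁻¹) * μ⁻¹ := by group
      _ = a' := by rw [key k, h1]
  rw [hμ] at h3
  simpa using h3.symm

theorem odd_mem_index_two (K : Subgroup G) (hKi : K.index = 2) (g : G) (hg : Odd (orderOf g)) :
    g ∈ K := by
  have hsq' : g ^ 2 ∈ K := Subgroup.sq_mem_of_index_two hKi g
  obtain ⟨k, hk⟩ := hg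
  have e : g = (g ^ 2) ^ (k + 1) := by
    rw [← pow_mul]
    have e2 : 2 * (k + 1) = orderOf g + 1 := by omega
    rw [e2, pow_succ, pow_orderOf_eq_one, one_mul]
  rw [e]
  exact Subgroup.pow_mem _ hsq' _

/-- the product of two elementwise commuting subgroups -/
def prodSub (A B : Subgroup G) (h : ∀ a ∈ A, ∀ b ∈ B, a * b = b * a) : Subgroup G where
  carrier := {v | ∃ a ∈ A, ∃ b ∈ B, v = a * b}
  one_mem' := ⟨1, A.one_mem, 1, B.one_mem, (mul_one 1).symm⟩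
  mul_mem' := by
    rintro _ _ ⟨a₁, ha₁, b₁, hb₁, rfl⟩ ⟨a₂, ha₂, b₂, hb₂, rfl⟩
    refine ⟨a₁ * a₂, A.mul_mem ha₁ ha₂, b₁ * b₂, B.mul_mem hb₁ hb₂, ?_⟩
    calc a₁ * b₁ * (a₂ * b₂) = a₁ * (b₁ * a₂) * b₂ := by group
      _ = a₁ * (a₂ * b₁) * b₂ := by rw [← h a₂ ha₂ b₁ hb₁]
      _ = a₁ * a₂ * (b₁ * b₂) := by group
  inv_mem' := by
    rintro _ ⟨a, ha, b, hb, rfl⟩
    refine ⟨a⁻¹, A.inv_mem ha, b⁻¹, B.inv_mem hb, ?_⟩
    rw [mul_inv_rev, h a⁻¹ (A.inv_mem ha) b⁻¹ (B.inv_mem hb)]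

theorem mem_sup_comm (A B : Subgroup G) (h : ∀ a ∈ A, ∀ b ∈ B, a * b = b * a) (v : G) :
    v ∈ A ⊔ B ↔ ∃ a ∈ A, ∃ b ∈ B, v = a * b := by
  constructor
  · intro hv
    have hle : A ⊔ B ≤ prodSub A B h := by
      apply sup_le
      · intro a ha; exact ⟨a, ha, 1, B.one_mem, (mul_one a).symm⟩
      · intro b hb; exact ⟨1, A.one_mem, b, hb, (one_mul b).symm⟩
    exact hle hv
  · rintro ⟨a, ha, b, hb, rfl⟩
    exact Subgroup.mul_mem _ (Subgroup.mem_sup_left ha) (Subgroup.mem_sup_right hb)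

end generic

/-- facts about a wreathed Sylow `2`-subgroup, stated inside the ambient group -/
structure WG {G : Type*} [Group G] (S : Sylow 2 G) (U : Subgroup G) (n : ℕ) where
  zh : G
  wx : G
  wy : G
  zeta : G
  ch : G
  hn2 : 2 ≤ n
  hUS : U ≤ (S : Subgroup G)
  hUcomm : ∀ a ∈ U, ∀ b ∈ U, a * b = b * a
  hUidx : U.relIndex (S : Subgroup G) = 2
  hzhS : zh ∈ (S : Subgroup G)
  hzhU : zh ∉ U
  hzh2 : zh * zh = 1
  hwxU : wx ∈ U
  hwyU : wy ∈ U
  hwx2 : wx * wx = 1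
  hwy2 : wy * wy = 1
  hwx1 : wx ≠ 1
  hwy1 : wy ≠ 1
  hwxy : wx ≠ wy
  hzeta : zeta = wx * wy
  hzeta1 : zeta ≠ 1
  hzetax : zeta ≠ wx
  hconj : zh * wx * zh⁻¹ = wy
  hinvU : ∀ t ∈ U, t * t = 1 → t = 1 ∨ t = wx ∨ t = wy ∨ t = zeta
  hinvO : ∀ t ∈ (S : Subgroup G), t ∉ U → t * t = 1 → ∃ s ∈ (S : Subgroup G), s * zh * s⁻¹ = t
  hZS : (Subgroup.center (S : Subgroup G)).map (S : Subgroup G).subtype = Subgroup.zpowers ch
  hcho : orderOf ch = 2 ^ n
  hchU : ch ∈ U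
  hchc : ∀ s ∈ (S : Subgroup G), s * ch = ch * s
  hchz : ch ^ 2 ^ (n - 1) = zeta
  hsqO : ∀ s ∈ (S : Subgroup G), s ∉ U → s * s ∈ Subgroup.zpowers ch

theorem wg_data {G : Type*} [Group G] [Finite G] (S : Sylow 2 G)
    (hS : Cfsg.IsWreathed (S : Subgroup G)) (n : ℕ) (hn : Nat.card S = 2 ^ (2 * n + 1))
    (U : Subgroup G) (hUS : U ≤ S) (hUab : IsMulCommutative U) (hUcard : Nat.card U = 2 ^ (2 * n)) :
    Nonempty (WG S U n) := by
  obtain ⟨d⟩ := Cfsg.Agent.S1196.wdat_of_isWreathed hS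
  have hn' : Nat.card ↥(S : Subgroup G) = 2 ^ (2 * n + 1) := hn
  have hdn : d.n = n := by
    have h1 := d.card
    rw [hn'] at h1
    have h2 := Nat.pow_right_injective (le_refl 2) h1
    omega
  subst hdn
  have hUd : U.subgroupOf (S : Subgroup G) = d.U := by
    apply Cfsg.Agent.S1196.U_unique d
    · refine ⟨⟨fun a b => ?_⟩⟩
      apply Subtype.ext
      apply Subtype.ext
      have h := hUab.is_comm.comm ⟨(a : ↥(S : Subgroup G)).1, a.2⟩ ⟨(b : ↥(S : Subgroup G)).1, b.2⟩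
      show (a : ↥(S : Subgroup G)).1 * (b : ↥(S : Subgroup G)).1 =
        (b : ↥(S : Subgroup G)).1 * (a : ↥(S : Subgroup G)).1
      exact congrArg Subtype.val h
    · rw [Nat.card_congr (Subgroup.subgroupOfEquivOfLe hUS).toEquiv]; exact hUcard
  have hmemU : ∀ (s : G) (hs : s ∈ (S : Subgroup G)),
      s ∈ U ↔ (⟨s, hs⟩ : ↥(S : Subgroup G)) ∈ d.U := by
    intro s hs; rw [← hUd, Subgroup.mem_subgroupOf]
  have hcoeU : ∀ s : ↥(S : Subgroup G), s ∈ d.U → (s : G) ∈ U :=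
    fun s hs => (hmemU s.1 s.2).mpr hs
  exact ⟨{
    zh := (d.z : G)
    wx := (d.wx : G)
    wy := (d.wy : G)
    zeta := (d.zeta : G)
    ch := ((d.x * d.y : ↥(S : Subgroup G)) : G)
    hn2 := d.hn
    hUS := hUS
    hUcomm := fun a ha b hb => congrArg Subtype.val (hUab.is_comm.comm ⟨a, ha⟩ ⟨b, hb⟩)
    hUidx := by
      show (U.subgroupOf (S : Subgroup G)).index = 2
      rw [hUd]; exact d.U_index
    hzhS := d.z.2
    hzhU := fun h => d.z_not_mem_U ((hmemU _ d.z.2).mp h)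
    hzh2 := by
      have h := d.z_sq
      rw [pow_two] at h
      exact congrArg Subtype.val h
    hwxU := hcoeU _ d.wx_mem_U
    hwyU := hcoeU _ d.wy_mem_U
    hwx2 := by
      have h := d.wx_sq
      rw [pow_two] at h
      exact congrArg Subtype.val h
    hwy2 := by
      have h := d.wy_sq
      rw [pow_two] at h
      exact congrArg Subtype.val h
    hwx1 := fun h => d.wx_ne_one (Subtype.ext h)
    hwy1 := fun h => d.wy_ne_one (Subtype.ext h)
    hwxy := fun h => d.wx_ne_wy (Subtype.ext h)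
    hzeta := rfl
    hzeta1 := fun h => d.zeta_ne_one (Subtype.ext h)
    hzetax := fun h => d.zeta_ne_wx (Subtype.ext h)
    hconj := congrArg Subtype.val d.conj_z_wx
    hinvU := by
      intro t ht htt
      have h := d.involution_of_mem_U ⟨t, hUS ht⟩ ((hmemU t (hUS ht)).mp ht)
        (by rw [pow_two]; exact Subtype.ext htt)
      rcases h with h | h | h | h
      · exact Or.inl (congrArg Subtype.val h)
      · exact Or.inr (Or.inl (congrArg Subtype.val h))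
      · exact Or.inr (Or.inr (Or.inl (congrArg Subtype.val h)))
      · exact Or.inr (Or.inr (Or.inr (congrArg Subtype.val h)))
    hinvO := by
      intro t htS htU htt
      have h := d.isConj_z_of_involution ⟨t, htS⟩ (fun h => htU ((hmemU t htS).mpr h))
        (by rw [pow_two]; exact Subtype.ext htt)
      obtain ⟨c, hc⟩ := isConj_iff.mp h
      exact ⟨c, c.2, congrArg Subtype.val hc⟩
    hZS := by rw [d.center_eq, MonoidHom.map_zpowers]; rfl
    hcho := by rw [Subgroup.orderOf_coe]; exact d.orderOf_xy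
    hchU := hcoeU _ (d.U.mul_mem d.x_mem_U d.y_mem_U)
    hchc := by
      intro s hs
      have h := d.xy_zpow_mem_center 1
      rw [zpow_one, Subgroup.mem_center_iff] at h
      exact congrArg Subtype.val (h ⟨s, hs⟩)
    hchz := by
      rw [← Subgroup.coe_pow]
      exact (congrArg Subtype.val d.zeta_eq).symm
    hsqO := by
      intro s hs hsU
      obtain ⟨i, hi⟩ := d.sq_mem_center_of_not_mem ⟨s, hs⟩ (fun h => hsU ((hmemU s hs).mpr h))
      rw [pow_two] at hi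
      have h2 := congrArg Subtype.val hi
      refine Subgroup.mem_zpowers_iff.mpr ⟨i, ?_⟩
      rw [← Subgroup.coe_zpow]
      exact h2.symm }⟩


namespace WG
variable {G : Type*} [Group G] {S : Sylow 2 G} {U : Subgroup G} {n : ℕ} (w : WG S U n)

theorem hzetaU : w.zeta ∈ U := by rw [w.hzeta]; exact U.mul_mem w.hwxU w.hwyU

theorem hcomm_xy : w.wx * w.wy = w.wy * w.wx := w.hUcomm _ w.hwxU _ w.hwyU

theorem hzeta2 : w.zeta * w.zeta = 1 := by
  rw [w.hzeta]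
  calc w.wx * w.wy * (w.wx * w.wy) = w.wx * (w.wy * w.wx) * w.wy := by group
    _ = w.wx * (w.wx * w.wy) * w.wy := by rw [← w.hcomm_xy]
    _ = (w.wx * w.wx) * (w.wy * w.wy) := by group
    _ = 1 := by rw [w.hwx2, w.hwy2, one_mul]

theorem hzetay : w.zeta ≠ w.wy := by
  intro h
  rw [w.hzeta] at h
  apply w.hwx1
  exact mul_right_cancel (h.trans (one_mul w.wy).symm)

theorem hzeta_wx : w.zeta * w.wx = w.wy := by
  calc w.zeta * w.wx = w.wx * (w.wy * w.wx) := by rw [w.hzeta, mul_assoc]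
    _ = w.wx * (w.wx * w.wy) := by rw [← w.hcomm_xy]
    _ = w.wy := by rw [← mul_assoc, w.hwx2, one_mul]

theorem hconj' : w.zh * w.wy * w.zh⁻¹ = w.wx := by
  rw [← w.hconj]
  have hinv : w.zh⁻¹ = w.zh := inv_eq_of_mul_eq_one_right w.hzh2
  calc w.zh * (w.zh * w.wx * w.zh⁻¹) * w.zh⁻¹
      = (w.zh * w.zh) * w.wx * (w.zh⁻¹ * w.zh⁻¹) := by group
    _ = w.wx := by rw [hinv, w.hzh2, one_mul, mul_one]

theorem hZc (s : G) (hs : s ∈ Subgroup.zpowers w.ch) (t : G) (ht : t ∈ (S : Subgroup G)) :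
    s * t = t * s := by
  obtain ⟨k, hk⟩ := Subgroup.mem_zpowers_iff.mp hs
  have hc : Commute w.ch t := (w.hchc t ht).symm
  rw [← hk]; exact (hc.zpow_left k).eq

theorem hZU (s : G) (hs : s ∈ Subgroup.zpowers w.ch) : s ∈ U := by
  obtain ⟨k, hk⟩ := Subgroup.mem_zpowers_iff.mp hs
  rw [← hk]; exact U.zpow_mem w.hchU k

theorem hZinv (s : G) (hs : s ∈ Subgroup.zpowers w.ch) (hss : s * s = 1) (hs1 : s ≠ 1) :
    s = w.zeta := by
  rcases w.hinvU s (w.hZU s hs) hss with h | h | h | h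
  · exact absurd h hs1
  · exfalso
    apply w.hwxy
    have hc := w.hZc s hs w.zh w.hzhS
    rw [h] at hc
    rw [← w.hconj, ← hc]; group
  · exfalso
    apply w.hwxy
    have hc := w.hZc s hs w.zh w.hzhS
    rw [h] at hc
    rw [← w.hconj', ← hc]; group
  · exact h

theorem hprod (w : WG S U n) (a : G) (ha : a ∈ (S : Subgroup G)) (b : G) (hb : b ∈ (S : Subgroup G))
    (haU : a ∉ U) (hbU : b ∉ U) : a * b ∈ U := by
  have hUidx : (U.subgroupOf (S : Subgroup G)).index = 2 := w.hUidx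
  have h := (Subgroup.mul_mem_iff_of_index_two hUidx (a := ⟨a, ha⟩) (b := ⟨b, hb⟩)).2
    (iff_of_false (by rw [Subgroup.mem_subgroupOf]; exact haU)
      (by rw [Subgroup.mem_subgroupOf]; exact hbU))
  rw [Subgroup.mem_subgroupOf] at h
  exact h

end WG

theorem three_fix {G : Type*} [Group G] (ν a b c : G) (bo : ℕ) (hbo : Odd bo) (hν : ν ^ bo = 1)
    (haa : a * a = 1) (hab : a ≠ b) (hbc : b ≠ c) (hc : c = a * b)
    (hperm : ν * b * ν⁻¹ = a ∨ ν * b * ν⁻¹ = b ∨ ν * b * ν⁻¹ = c)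
    (hPa : ν * a * ν⁻¹ = a) : ν * b * ν⁻¹ = b ∧ ν * c * ν⁻¹ = c := by
  have hcc : ∀ x y : G, ν * (x * y) * ν⁻¹ = (ν * x * ν⁻¹) * (ν * y * ν⁻¹) := by intro x y; group
  rcases hperm with h | h | h
  · exfalso
    apply hab
    have h1 : ν * a * ν⁻¹ = ν * b * ν⁻¹ := by rw [hPa, h]
    have h2 := congrArg (fun u => ν⁻¹ * u * ν) h1
    simpa [mul_assoc] using h2
  · refine ⟨h, ?_⟩
    rw [hc, hcc, hPa, h]
  · exfalso
    apply hbc
    have h1 : ν * c * ν⁻¹ = b := by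
      rw [hc, hcc, hPa, h, hc, ← mul_assoc, haa, one_mul]
    exact (odd_swap ν b c bo hbo hν h h1).symm

theorem part_i {G : Type*} [Group G] [Finite G] (S : Sylow 2 G) (U : Subgroup G) (n : ℕ)
    (w : WG S U n)
    (h₁ : (Subgroup.centralizer (U : Set G)).relIndex (Subgroup.normalizer (U : Set G)) = 6) :
    ∃ ν : G, ν ∈ Subgroup.normalizer (U : Set G) ∧ Odd (orderOf ν) ∧
      ∀ u ∈ U, ν * u * ν⁻¹ = u → u = 1 := by
  classical
  haveI : Fact (Nat.Prime 3) := ⟨Nat.prime_three⟩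
  haveI : Fact (Nat.Prime 2) := ⟨Nat.prime_two⟩
  obtain ⟨P₃⟩ : Nonempty (Sylow 3 ↥(Subgroup.normalizer (U : Set G))) := inferInstance
  have hidx : ((Subgroup.centralizer (U : Set G)).subgroupOf
      (Subgroup.normalizer (U : Set G))).index = 6 := h₁
  have hnle : ¬ (P₃ : Subgroup ↥(Subgroup.normalizer (U : Set G))) ≤
      (Subgroup.centralizer (U : Set G)).subgroupOf (Subgroup.normalizer (U : Set G)) := by
    intro hle
    have h1 := Subgroup.index_dvd_of_le hle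
    rw [hidx] at h1
    exact P₃.not_dvd_index (dvd_trans (by norm_num : 3 ∣ 6) h1)
  obtain ⟨ν', hν'P, hν'C⟩ := SetLike.not_le_iff_exists.mp hnle
  obtain ⟨ν, hν⟩ : ∃ ν : G, ν = (ν' : G) := ⟨_, rfl⟩
  have hνN : ν ∈ Subgroup.normalizer (U : Set G) := by rw [hν]; exact ν'.2
  have hνodd : Odd (orderOf ν) := by
    obtain ⟨k, hk⟩ := P₃.2 ⟨ν', hν'P⟩
    have h1 : ν ^ 3 ^ k = 1 := by
      have h2 := congrArg (fun z : ↥(P₃ : Subgroup ↥(Subgroup.normalizer (U : Set G))) =>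
        ((z : ↥(Subgroup.normalizer (U : Set G))) : G)) hk
      simpa [hν] using h2
    exact Odd.of_dvd_nat (Odd.pow (by decide)) (orderOf_dvd_of_pow_eq_one h1)
  have hνC : ν ∉ Subgroup.centralizer (U : Set G) := by
    intro h
    apply hν'C
    rw [Subgroup.mem_subgroupOf]
    rw [hν] at h
    exact h
  obtain ⟨bo, hbo⟩ : ∃ bo, bo = orderOf ν := ⟨_, rfl⟩
  have hboodd : Odd bo := by rw [hbo]; exact hνodd
  have hνb : ν ^ bo = 1 := by rw [hbo]; exact pow_orderOf_eq_one ν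
  have hνU : ∀ u ∈ U, ν * u * ν⁻¹ ∈ U :=
    fun u hu => (Subgroup.mem_normalizer_iff.mp hνN u).mp hu
  have hcc : ∀ x y : G, ν * (x * y) * ν⁻¹ = (ν * x * ν⁻¹) * (ν * y * ν⁻¹) := by intro x y; group
  have himg : ∀ t ∈ U, t * t = 1 → t ≠ 1 →
      ν * t * ν⁻¹ = w.wx ∨ ν * t * ν⁻¹ = w.wy ∨ ν * t * ν⁻¹ = w.zeta := by
    intro t ht htt ht1
    have h1 : (ν * t * ν⁻¹) * (ν * t * ν⁻¹) = 1 := by rw [← hcc, htt]; group
    rcases w.hinvU _ (hνU t ht) h1 with h | h | h | h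
    · exact absurd (conj_eq_one_iff.mp h) ht1
    · exact Or.inl h
    · exact Or.inr (Or.inl h)
    · exact Or.inr (Or.inr h)
  have hall : (∀ t ∈ U, t * t = 1 → ν * t * ν⁻¹ = t) → False := by
    intro hfixed
    have hk : ∀ k : ℕ, ∀ u ∈ U, u ^ 2 ^ k = 1 → ν * u * ν⁻¹ = u := by
      intro k
      induction k with
      | zero =>
        intro u hu h
        rw [pow_zero, pow_one] at h
        rw [h]; group
      | succ k ih =>
        intro u hu h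
        have h1 : (u * u) ^ 2 ^ k = 1 := by
          rw [← pow_two, ← pow_mul, ← pow_succ']; exact h
        have h2 := ih (u * u) (U.mul_mem hu hu) h1
        have htU : ν * u * ν⁻¹ * u⁻¹ ∈ U := U.mul_mem (hνU u hu) (U.inv_mem hu)
        have htt : (ν * u * ν⁻¹ * u⁻¹) * (ν * u * ν⁻¹ * u⁻¹) = 1 := by
          have hc := w.hUcomm u⁻¹ (U.inv_mem hu) (ν * u * ν⁻¹) (hνU u hu)
          calc (ν * u * ν⁻¹ * u⁻¹) * (ν * u * ν⁻¹ * u⁻¹)
              = ν * u * ν⁻¹ * (u⁻¹ * (ν * u * ν⁻¹)) * u⁻¹ := by group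
            _ = ν * u * ν⁻¹ * ((ν * u * ν⁻¹) * u⁻¹) * u⁻¹ := by rw [hc]
            _ = ν * (u * u) * ν⁻¹ * (u * u)⁻¹ := by group
            _ = 1 := by rw [h2]; group
        have hfix := hfixed _ htU htt
        have h3 := odd_fix ν u (ν * u * ν⁻¹ * u⁻¹) bo 1 hboodd hνb (by group) hfix
          (by rw [pow_one, pow_two]; exact htt)
        exact mul_inv_eq_one.mp h3
    apply hνC
    rw [Subgroup.mem_centralizer_iff]
    intro u hu
    obtain ⟨k, hk'⟩ := S.2 ⟨u, w.hUS hu⟩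
    have h1 : u ^ 2 ^ k = 1 := by
      have := congrArg Subtype.val hk'
      simpa using this
    have h2 := hk k u hu h1
    calc u * ν = (ν * u * ν⁻¹) * ν := by rw [h2]
      _ = ν * u := by group
  have hnofix : ∀ t ∈ U, t * t = 1 → t ≠ 1 → ν * t * ν⁻¹ ≠ t := by
    intro t ht htt ht1 hfix
    have hx := himg w.wx w.hwxU w.hwx2 w.hwx1
    have hy := himg w.wy w.hwyU w.hwy2 w.hwy1
    have hx2 : ν * w.wx * ν⁻¹ = w.wy ∨ ν * w.wx * ν⁻¹ = w.wx ∨ ν * w.wx * ν⁻¹ = w.zeta := by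
      rcases hx with h | h | h
      · exact Or.inr (Or.inl h)
      · exact Or.inl h
      · exact Or.inr (Or.inr h)
    have hx3 : ν * w.wx * ν⁻¹ = w.zeta ∨ ν * w.wx * ν⁻¹ = w.wx ∨ ν * w.wx * ν⁻¹ = w.wy := by
      rcases hx with h | h | h
      · exact Or.inr (Or.inl h)
      · exact Or.inr (Or.inr h)
      · exact Or.inl h
    have hthree : ν * w.wx * ν⁻¹ = w.wx ∧ ν * w.wy * ν⁻¹ = w.wy ∧
        ν * w.zeta * ν⁻¹ = w.zeta := by
      rcases w.hinvU t ht htt with h | h | h | h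
      · exact absurd h ht1
      · rw [h] at hfix
        obtain ⟨h1, h2⟩ := three_fix ν w.wx w.wy w.zeta bo hboodd hνb w.hwx2 w.hwxy
          w.hzetay.symm w.hzeta hy hfix
        exact ⟨hfix, h1, h2⟩
      · rw [h] at hfix
        obtain ⟨h1, h2⟩ := three_fix ν w.wy w.wx w.zeta bo hboodd hνb w.hwy2 w.hwxy.symm
          w.hzetax.symm (by rw [w.hzeta, w.hcomm_xy]) hx2 hfix
        exact ⟨h1, hfix, h2⟩
      · rw [h] at hfix
        obtain ⟨h1, h2⟩ := three_fix ν w.zeta w.wx w.wy bo hboodd hνb w.hzeta2 w.hzetax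
          w.hwxy w.hzeta_wx.symm hx3 hfix
        exact ⟨h1, h2, hfix⟩
    apply hall
    intro t' ht' htt'
    rcases w.hinvU t' ht' htt' with h | h | h | h
    · rw [h]; group
    · rw [h]; exact hthree.1
    · rw [h]; exact hthree.2.1
    · rw [h]; exact hthree.2.2
  refine ⟨ν, hνN, hνodd, ?_⟩
  intro u hu hfix
  by_contra hu1
  obtain ⟨k, hk⟩ := (IsPGroup.iff_orderOf.mp S.2) ⟨u, w.hUS hu⟩
  rw [Subgroup.orderOf_mk] at hk
  have hk0 : k ≠ 0 := by
    intro h; rw [h, pow_zero] at hk; exact hu1 (orderOf_eq_one_iff.mp hk)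
  obtain ⟨t, ht⟩ : ∃ t, t = u ^ 2 ^ (k - 1) := ⟨_, rfl⟩
  have htU : t ∈ U := by rw [ht]; exact U.pow_mem hu _
  have htt : t * t = 1 := by
    rw [ht, ← pow_add]
    have e : 2 ^ (k - 1) + 2 ^ (k - 1) = 2 ^ k := by
      have e1 : k = (k - 1) + 1 := by omega
      conv_rhs => rw [e1, pow_succ]
      ring
    rw [e, ← hk]; exact pow_orderOf_eq_one u
  have ht1 : t ≠ 1 := by
    rw [ht]
    apply pow_ne_one_of_lt_orderOf (by positivity)
    rw [hk]
    exact Nat.pow_lt_pow_right (by norm_num) (by omega)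
  apply hnofix t htU htt ht1
  rw [ht, ← conj_pow, hfix]

theorem fuse_U {G : Type*} [Group G] [Finite G] (S : Sylow 2 G) (U : Subgroup G) (n : ℕ)
    (w : WG S U n) (ν : G) (hνN : ν ∈ Subgroup.normalizer (U : Set G)) (hνodd : Odd (orderOf ν))
    (hνC : ∀ u ∈ U, ν * u * ν⁻¹ = u → u = 1) : ∃ g : G, g * w.wx * g⁻¹ = w.zeta := by
  have hνU : ∀ u ∈ U, ν * u * ν⁻¹ ∈ U :=
    fun u hu => (Subgroup.mem_normalizer_iff.mp hνN u).mp hu
  have hcc : ∀ x y : G, ν * (x * y) * ν⁻¹ = (ν * x * ν⁻¹) * (ν * y * ν⁻¹) := by intro x y; group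
  have himg : ∀ t ∈ U, t * t = 1 → t ≠ 1 →
      ν * t * ν⁻¹ = w.wx ∨ ν * t * ν⁻¹ = w.wy ∨ ν * t * ν⁻¹ = w.zeta := by
    intro t ht htt ht1
    have h1 : (ν * t * ν⁻¹) * (ν * t * ν⁻¹) = 1 := by rw [← hcc, htt]; group
    rcases w.hinvU _ (hνU t ht) h1 with h | h | h | h
    · exact absurd (conj_eq_one_iff.mp h) ht1
    · exact Or.inl h
    · exact Or.inr (Or.inl h)
    · exact Or.inr (Or.inr h)
  rcases himg w.wx w.hwxU w.hwx2 w.hwx1 with h | h | h
  · exact absurd (hνC _ w.hwxU h) w.hwx1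
  · rcases himg w.wy w.hwyU w.hwy2 w.hwy1 with h' | h' | h'
    · exfalso
      apply w.hwxy
      exact (odd_swap ν w.wx w.wy (orderOf ν) hνodd (pow_orderOf_eq_one ν) h h').symm
    · exact absurd (hνC _ w.hwyU h') w.hwy1
    · refine ⟨ν * w.zh, ?_⟩
      calc ν * w.zh * w.wx * (ν * w.zh)⁻¹ = ν * (w.zh * w.wx * w.zh⁻¹) * ν⁻¹ := by group
        _ = w.zeta := by rw [w.hconj, h']
  · exact ⟨ν, h⟩

theorem U_le_K {G : Type*} [Group G] [Finite G] (S : Sylow 2 G) (U : Subgroup G) (n : ℕ)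
    (w : WG S U n) (ν : G) (hνN : ν ∈ Subgroup.normalizer (U : Set G)) (hνodd : Odd (orderOf ν))
    (hνC : ∀ u ∈ U, ν * u * ν⁻¹ = u → u = 1) (K : Subgroup G) (hKi : K.index = 2) : U ≤ K := by
  haveI hKn : K.Normal := Subgroup.normal_of_index_eq_two hKi
  have hνK : ν ∈ K := odd_mem_index_two K hKi ν hνodd
  have hνU : ∀ u ∈ U, ν * u * ν⁻¹ ∈ U :=
    fun u hu => (Subgroup.mem_normalizer_iff.mp hνN u).mp hu
  obtain ⟨ψ, hψ⟩ : ∃ ψ : ↥U → ↥U, ∀ u : ↥U, ((ψ u : ↥U) : G) = (u : G)⁻¹ * (ν * u * ν⁻¹) :=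
    ⟨fun u => ⟨(u : G)⁻¹ * (ν * u * ν⁻¹), U.mul_mem (U.inv_mem u.2) (hνU u u.2)⟩, fun u => rfl⟩
  have hinj : Function.Injective ψ := by
    intro u u' h
    have h1 : (u : G)⁻¹ * (ν * u * ν⁻¹) = (u' : G)⁻¹ * (ν * u' * ν⁻¹) := by
      rw [← hψ u, ← hψ u', h]
    have h2 : ν * ((u : G) * (u' : G)⁻¹) * ν⁻¹ = (u : G) * (u' : G)⁻¹ := by
      calc ν * ((u : G) * (u' : G)⁻¹) * ν⁻¹
          = (u : G) * ((u : G)⁻¹ * (ν * u * ν⁻¹)) * (ν * u' * ν⁻¹)⁻¹ := by group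
        _ = (u : G) * ((u' : G)⁻¹ * (ν * u' * ν⁻¹)) * (ν * u' * ν⁻¹)⁻¹ := by rw [h1]
        _ = (u : G) * (u' : G)⁻¹ := by group
    have h3 := hνC _ (U.mul_mem u.2 (U.inv_mem u'.2)) h2
    exact Subtype.ext (mul_inv_eq_one.mp h3)
  have hsurj : Function.Surjective ψ := Finite.injective_iff_surjective.mp hinj
  intro u hu
  obtain ⟨u₀, hu₀⟩ := hsurj ⟨u, hu⟩
  have h1 : u = (u₀ : G)⁻¹ * (ν * u₀ * ν⁻¹) := by
    rw [← hψ u₀, hu₀]
  rw [h1]
  have e : (u₀ : G)⁻¹ * (ν * u₀ * ν⁻¹) = ((u₀ : G)⁻¹ * ν * (u₀ : G)⁻¹⁻¹) * ν⁻¹ := by group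
  rw [e]
  exact K.mul_mem (hKn.conj_mem ν hνK _) (K.inv_mem hνK)

end Cfsg.Agent.Lib.Helper6.WF
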