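import Mathlib
import Cfsg.Agent.Lib.Helper6.WF
import Cfsg.Agent.S1204

set_option autoImplicit false
namespace Cfsg.Agent.Lib.Helper6.WF2
open Cfsg.Agent.Lib.Helper6 Cfsg.Agent.Lib.Helper6.WF Cfsg.Agent.Lib.Helper6.QDF
open Cfsg.Agent.Lib.Helper4

set_option linter.unusedVariables false
set_option linter.style.haveILetI false

theorem perm3_index_dvd {N : Type*} [Group N] [Finite N] (D : Subgroup N)
    (R : N → Fin 3 → Fin 3 → Prop)
    (tot : ∀ g i, ∃ j, R g i j)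
    (uniq : ∀ g i j j', R g i j → R g i j' → j = j')
    (one : ∀ i, R 1 i i)
    (mul : ∀ g h i j k, R h i j → R g j k → R (g * h) i k)
    (hodd : ∀ g : N, (∀ i, R g i i) → Odd (orderOf g) → g ∈ D)
    (h2 : ∀ g : N, (∀ i, R g i i) → (∃ k : ℕ, g ^ 2 ^ k = 1) → g ∈ D) :
    D.index ∣ 6 := by
  classical
  choose σ hσ using tot
  have hσu : ∀ g i j, R g i j → σ g i = j := fun g i j h => uniq g i _ _ (hσ g i) h
  let F : N →* Function.End (Fin 3) :=
    { toFun := fun g => σ g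
      map_one' := by
        funext i
        exact hσu 1 i i (one i)
      map_mul' := by
        intro g h
        funext i
        exact hσu (g * h) i _ (mul g h i _ _ (hσ h i) (hσ g _)) }
  obtain ⟨ρ, hρ⟩ : ∃ ρ : N →* Equiv.Perm (Fin 3), ρ = F.toHomPerm := ⟨_, rfl⟩
  have hker : ∀ g, g ∈ ρ.ker → ∀ i, R g i i := by
    intro g hg i
    rw [MonoidHom.mem_ker] at hg
    have h1 : ρ g i = i := by rw [hg]; rfl
    have h2 : ρ g i = σ g i := by rw [hρ]; rfl
    have h3 := hσ g i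
    rw [← h2, h1] at h3
    exact h3
  have hle : ρ.ker ≤ D := by
    intro g hg
    obtain ⟨a, m, hm, hgo⟩ := Nat.exists_eq_two_pow_mul_odd (orderOf_pos g).ne'
    have hcop : IsCoprime ((2 ^ a : ℕ) : ℤ) (m : ℤ) := by
      rw [Nat.isCoprime_iff_coprime]
      exact Nat.Coprime.pow_left a (Nat.coprime_two_left.mpr hm)
    obtain ⟨α, β, hαβ⟩ := hcop
    have hg1 : (g ^ (2 ^ a)) ^ α ∈ ρ.ker := Subgroup.zpow_mem _ (Subgroup.pow_mem _ hg _) _
    have hg2 : (g ^ m) ^ β ∈ ρ.ker := Subgroup.zpow_mem _ (Subgroup.pow_mem _ hg _) _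
    have hsplit : g = (g ^ (2 ^ a)) ^ α * (g ^ m) ^ β := by
      rw [← zpow_natCast g (2 ^ a), ← zpow_natCast g m, ← zpow_mul, ← zpow_mul, ← zpow_add]
      have e : ((2 ^ a : ℕ) : ℤ) * α + (m : ℤ) * β = 1 := by rw [← hαβ]; ring
      rw [e, zpow_one]
    have ho1 : Odd (orderOf ((g ^ (2 ^ a)) ^ α)) := by
      have h1 : ((g ^ (2 ^ a)) ^ α) ^ m = 1 := by
        rw [← zpow_natCast, ← zpow_mul, mul_comm, zpow_mul, zpow_natCast, ← pow_mul, ← hgo,
          pow_orderOf_eq_one, one_zpow]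
      exact Odd.of_dvd_nat hm (orderOf_dvd_of_pow_eq_one h1)
    have ho2 : ((g ^ m) ^ β) ^ 2 ^ a = 1 := by
      have e : m * 2 ^ a = orderOf g := by rw [hgo]; ring
      rw [← zpow_natCast, ← zpow_mul, mul_comm, zpow_mul, zpow_natCast, ← pow_mul, e,
        pow_orderOf_eq_one, one_zpow]
    rw [hsplit]
    exact D.mul_mem (hodd _ (hker _ hg1) ho1) (h2 _ (hker _ hg2) ⟨a, ho2⟩)
  have h1 : D.index ∣ ρ.ker.index := Subgroup.index_dvd_of_le hle
  have h2' : ρ.ker.index = Nat.card ρ.range := Subgroup.index_ker ρ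
  have h3 : Nat.card ρ.range ∣ Nat.card (Equiv.Perm (Fin 3)) := Subgroup.card_subgroup_dvd_card _
  have h4 : Nat.card (Equiv.Perm (Fin 3)) = 6 := by
    rw [Nat.card_eq_fintype_card, Fintype.card_perm]; rfl
  rw [h2'] at h1
  rw [h4] at h3
  exact h1.trans h3

theorem two_dvd_index {N : Type*} [Group N] [Finite N] (D : Subgroup N) [D.Normal] (t : N)
    (ht : t ∉ D) (k : ℕ) (ht2 : t ^ 2 ^ k ∈ D) : 2 ∣ D.index := by
  have h1 : (QuotientGroup.mk t : N ⧸ D) ≠ 1 := by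
    intro h
    exact ht ((QuotientGroup.eq_one_iff t).mp h)
  have h2 : (QuotientGroup.mk t : N ⧸ D) ^ 2 ^ k = 1 := by
    rw [← QuotientGroup.mk_pow]
    exact (QuotientGroup.eq_one_iff _).mpr ht2
  have h3 : orderOf (QuotientGroup.mk t : N ⧸ D) ∣ 2 ^ k := orderOf_dvd_of_pow_eq_one h2
  obtain ⟨j, hj, hj2⟩ := (Nat.dvd_prime_pow Nat.prime_two).mp h3
  have hj0 : j ≠ 0 := by
    intro h
    rw [h, pow_zero] at hj2
    exact h1 (orderOf_eq_one_iff.mp hj2)
  have h4 : 2 ∣ orderOf (QuotientGroup.mk t : N ⧸ D) := by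
    rw [hj2]; exact dvd_pow_self 2 hj0
  have h5 : orderOf (QuotientGroup.mk t : N ⧸ D) ∣ Nat.card (N ⧸ D) := orderOf_dvd_natCard _
  rw [Subgroup.index_eq_card]
  exact h4.trans h5

theorem two_or_six (h : ℕ) (h6 : h ∣ 6) (h2 : 2 ∣ h) : h = 2 ∨ h = 6 := by
  have hle : h ≤ 6 := Nat.le_of_dvd (by norm_num) h6
  interval_cases h <;> omega

theorem elt_conj_into_sylow' {G : Type*} [Group G] [Finite G] (S : Sylow 2 G) (a : G) (k : ℕ)
    (ha : a ^ 2 ^ k = 1) : ∃ c : G, c * a * c⁻¹ ∈ (S : Subgroup G) := by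
  obtain ⟨j, hj, hj2⟩ := (Nat.dvd_prime_pow Nat.prime_two).mp (orderOf_dvd_of_pow_eq_one ha)
  exact Cfsg.Agent.S1204.elt_conj_into_sylow S a j hj2

theorem pgroup_conj_into_sylow {G : Type*} [Group G] [Finite G] (S : Sylow 2 G) (T : Subgroup G)
    (hT : IsPGroup 2 T) : ∃ c : G, ∀ t ∈ T, c * t * c⁻¹ ∈ (S : Subgroup G) := by
  haveI : Fact (Nat.Prime 2) := ⟨Nat.prime_two⟩
  obtain ⟨P, hP⟩ := hT.exists_le_sylow
  obtain ⟨x, hx⟩ := MulAction.exists_smul_eq G P S
  have hPS : cj x (P : Subgroup G) = (S : Subgroup G) := by rw [← sylow_smul_eq_cj, hx]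
  refine ⟨x, fun t ht => ?_⟩
  rw [← hPS]
  exact conj_mem_cj x _ (hP ht)

section wg
variable {G : Type*} [Group G] [Finite G] {S : Sylow 2 G} {U : Subgroup G} {n : ℕ}

theorem S_le_normU (w : WG S U n) : (S : Subgroup G) ≤ Subgroup.normalizer (U : Set G) := by
  intro s hs
  by_cases hsU : s ∈ U
  · exact Subgroup.le_normalizer hsU
  · have key : ∀ s' ∈ (S : Subgroup G), s' ∉ U → ∀ u ∈ U, s' * u * s'⁻¹ ∈ U := by
      intro s' hs' hs'U u hu
      have h1 : s' * u ∉ U := by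
        intro h
        apply hs'U
        have e : s' = (s' * u) * u⁻¹ := by group
        rw [e]; exact U.mul_mem h (U.inv_mem hu)
      have h2 : s'⁻¹ ∉ U := fun h => hs'U (by simpa using U.inv_mem h)
      exact w.hprod _ ((S : Subgroup G).mul_mem hs' (w.hUS hu)) _ ((S : Subgroup G).inv_mem hs') h1 h2
    rw [Subgroup.mem_normalizer_iff]
    intro u
    constructor
    · exact key s hs hsU u
    · intro h
      have h3 := key s⁻¹ ((S : Subgroup G).inv_mem hs)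
        (fun h => hsU (by simpa using U.inv_mem h)) _ h
      have e : s⁻¹ * (s * u * s⁻¹) * s⁻¹⁻¹ = u := by group
      rwa [e] at h3

theorem conj_out (w : WG S U n) (s : G) (hs : s ∈ (S : Subgroup G)) (hsU : s ∉ U) :
    s * w.wx * s⁻¹ = w.wy := by
  have h1 := w.hprod w.zh w.hzhS s hs w.hzhU hsU
  have h2 : (w.zh * s) * w.wx * (w.zh * s)⁻¹ = w.wx := by
    have hc := w.hUcomm _ h1 _ w.hwxU
    rw [hc]; group
  have hinv : w.zh⁻¹ = w.zh := inv_eq_of_mul_eq_one_right w.hzh2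
  calc s * w.wx * s⁻¹ = w.zh⁻¹ * ((w.zh * s) * w.wx * (w.zh * s)⁻¹) * w.zh⁻¹⁻¹ := by group
    _ = w.zh * w.wx * w.zh⁻¹ := by rw [h2, inv_inv, hinv]
    _ = w.wy := w.hconj

theorem odd_cent_U (w : WG S U n) (ν : G) (hνN : ν ∈ Subgroup.normalizer (U : Set G))
    (hνodd : Odd (orderOf ν)) (hfixed : ∀ t ∈ U, t * t = 1 → ν * t * ν⁻¹ = t) :
    ν ∈ Subgroup.centralizer (U : Set G) := by
  obtain ⟨bo, hbo⟩ : ∃ bo, bo = orderOf ν := ⟨_, rfl⟩
  have hboodd : Odd bo := by rw [hbo]; exact hνodd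
  have hνb : ν ^ bo = 1 := by rw [hbo]; exact pow_orderOf_eq_one ν
  have hνU : ∀ u ∈ U, ν * u * ν⁻¹ ∈ U :=
    fun u hu => (Subgroup.mem_normalizer_iff.mp hνN u).mp hu
  have hk : ∀ k : ℕ, ∀ u ∈ U, u ^ 2 ^ k = 1 → ν * u * ν⁻¹ = u := by
    intro k
    induction k with
    | zero =>
      intro u hu h
      rw [pow_zero, pow_one] at h
      rw [h]; group
    | succ k ih =>
      intro u hu h
      have h1 : (u * u) ^ 2 ^ k = 1 := by
        rw [← pow_two, ← pow_mul, ← pow_succ']; exact h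
      have h2 := ih (u * u) (U.mul_mem hu hu) h1
      have htU : ν * u * ν⁻¹ * u⁻¹ ∈ U := U.mul_mem (hνU u hu) (U.inv_mem hu)
      have htt : (ν * u * ν⁻¹ * u⁻¹) * (ν * u * ν⁻¹ * u⁻¹) = 1 := by
        have hc := w.hUcomm u⁻¹ (U.inv_mem hu) (ν * u * ν⁻¹) (hνU u hu)
        calc (ν * u * ν⁻¹ * u⁻¹) * (ν * u * ν⁻¹ * u⁻¹)
            = ν * u * ν⁻¹ * (u⁻¹ * (ν * u * ν⁻¹)) * u⁻¹ := by group
          _ = ν * u * ν⁻¹ * ((ν * u * ν⁻¹) * u⁻¹) * u⁻¹ := by rw [hc]
          _ = ν * (u * u) * ν⁻¹ * (u * u)⁻¹ := by group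
          _ = 1 := by rw [h2]; group
      have hfix := hfixed _ htU htt
      have h3 := odd_fix ν u (ν * u * ν⁻¹ * u⁻¹) bo 1 hboodd hνb (by group) hfix
        (by rw [pow_one, pow_two]; exact htt)
      exact mul_inv_eq_one.mp h3
  rw [Subgroup.mem_centralizer_iff]
  intro u hu
  obtain ⟨k, hk'⟩ := S.2 ⟨u, w.hUS hu⟩
  have h1 : u ^ 2 ^ k = 1 := by
    have := congrArg Subtype.val hk'
    simpa using this
  have h2 := hk k u hu h1
  calc u * ν = (ν * u * ν⁻¹) * ν := by rw [h2]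
    _ = ν * u := by group

theorem q8_cls : ∀ a b : QuaternionGroup 2, a * a ≠ 1 → b * b ≠ 1 → b ≠ a → b ≠ a⁻¹ →
    ∀ g : QuaternionGroup 2, g * g ≠ 1 →
      g = a ∨ g = a⁻¹ ∨ g = b ∨ g = b⁻¹ ∨ g = a * b ∨ g = (a * b)⁻¹ := by decide

theorem q8_cls_ne : ∀ a b : QuaternionGroup 2, a * a ≠ 1 → b * b ≠ 1 → b ≠ a → b ≠ a⁻¹ →
    (a * b) * (a * b) ≠ 1 ∧ (a⁻¹ * b) * (a⁻¹ * b) ≠ 1 ∧ (b⁻¹ * a) * (b⁻¹ * a) ≠ 1 ∧
    (a⁻¹ * (a * b)) * (a⁻¹ * (a * b)) ≠ 1 ∧ ((a * b)⁻¹ * a) * ((a * b)⁻¹ * a) ≠ 1 ∧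
    (b⁻¹ * (a * b)) * (b⁻¹ * (a * b)) ≠ 1 ∧ ((a * b)⁻¹ * b) * ((a * b)⁻¹ * b) ≠ 1 := by decide

theorem q8_central_sq : ∀ g : QuaternionGroup 2, (∀ h : QuaternionGroup 2, g * h = h * g) →
    g * g = 1 := by decide

theorem q8_sq_one : ∀ g : QuaternionGroup 2, g * g = 1 →
    g = 1 ∨ g = QuaternionGroup.a 1 * QuaternionGroup.a 1 := by decide

theorem q8_pick (w : WG S U n) (f : QuaternionGroup 2 →* G) (hfi : Function.Injective f)
    (hfS : ∀ g, f g ∈ (S : Subgroup G)) :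
    ∃ gU gO : QuaternionGroup 2, gU * gU ≠ 1 ∧ gO * gO ≠ 1 ∧ f gU ∈ U ∧ f gO ∉ U ∧
      gO ≠ gU ∧ gO ≠ gU⁻¹ ∧ (∀ g, g * g ≠ 1 → f g * f g = w.zeta) := by
  obtain ⟨hq1, hq2, hq3, hq4⟩ := q8_facts
  obtain ⟨gU, gO, hgU2, hgO2, hgUU, hgOU⟩ : ∃ gU gO : QuaternionGroup 2,
      gU * gU ≠ 1 ∧ gO * gO ≠ 1 ∧ f gU ∈ U ∧ f gO ∉ U := by
    by_cases hA : f (QuaternionGroup.a 1) ∈ U
    · by_cases hB : f (QuaternionGroup.xa 0) ∈ U
      · exfalso
        apply hq4
        apply hfi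
        rw [map_mul, map_mul]
        exact w.hUcomm _ hA _ hB
      · exact ⟨_, _, hq1, hq2, hA, hB⟩
    · by_cases hB : f (QuaternionGroup.xa 0) ∈ U
      · exact ⟨_, _, hq2, hq1, hB, hA⟩
      · refine ⟨_, _, hq3, hq1, ?_, hA⟩
        rw [map_mul]
        exact w.hprod _ (hfS _) _ (hfS _) hA hB
  have hne1 : gO ≠ gU := fun h => hgOU (h ▸ hgUU)
  have hne2 : gO ≠ gU⁻¹ := fun h => hgOU (by rw [h, map_inv]; exact U.inv_mem hgUU)
  have hsqO : f gO * f gO = w.zeta := by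
    apply w.hZinv _ (w.hsqO _ (hfS gO) hgOU)
    · rw [← map_mul, ← map_mul, q8_sq_sq', map_one]
    · rw [← map_mul]; intro h; exact hgO2 (hfi (h.trans (map_one f).symm))
  refine ⟨gU, gO, hgU2, hgO2, hgUU, hgOU, hne1, hne2, ?_⟩
  intro g hg
  rw [← map_mul, q8_sq_eq g hg, ← q8_sq_eq gO hgO2, map_mul]; exact hsqO

theorem cent_q8 (w : WG S U n) (f : QuaternionGroup 2 →* G) (hfi : Function.Injective f)
    (hfS : ∀ g, f g ∈ (S : Subgroup G)) (s : G) (hs : s ∈ (S : Subgroup G))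
    (hc : ∀ g, s * f g = f g * s) : s ∈ Subgroup.zpowers w.ch := by
  obtain ⟨gU, gO, hgU2, hgO2, hgUU, hgOU, hne1, hne2, hsq⟩ := q8_pick w f hfi hfS
  have hou : f gO * f gU * (f gO)⁻¹ = (f gU)⁻¹ := by
    rw [← map_inv, ← map_mul, ← map_mul, q8_ncomm_inv gU gO hgU2 hgO2 hne1 hne2, map_inv]
  have hncomm : f gO * f gU ≠ f gU * f gO := by
    intro h
    have h1 : f gO * f gU * (f gO)⁻¹ = f gU := by rw [h]; group
    rw [hou] at h1
    have h2 : f gU * f gU = 1 := by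
      calc f gU * f gU = (f gU)⁻¹ * f gU := by rw [h1]
        _ = 1 := inv_mul_cancel _
    rw [hsq gU hgU2] at h2
    exact w.hzeta1 h2
  have hsU : s ∈ U := by
    by_contra hn
    have h1 := w.hprod s hs (f gO) (hfS gO) hn hgOU
    have h2 := w.hUcomm _ h1 _ hgUU
    apply hncomm
    have h3 : s * (f gO * f gU) = s * (f gU * f gO) := by
      calc s * (f gO * f gU) = (s * f gO) * f gU := by group
        _ = f gU * (s * f gO) := h2
        _ = (f gU * s) * f gO := by group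
        _ = (s * f gU) * f gO := by rw [hc gU]
        _ = s * (f gU * f gO) := by group
    exact mul_left_cancel h3
  have hcen : (⟨s, hs⟩ : ↥(S : Subgroup G)) ∈ Subgroup.center ↥(S : Subgroup G) := by
    rw [Subgroup.mem_center_iff]
    intro t
    apply Subtype.ext
    show (t : G) * s = s * (t : G)
    by_cases htU : (t : G) ∈ U
    · exact w.hUcomm _ htU _ hsU
    · have h1 := w.hprod (t : G) t.2 (f gO) (hfS gO) htU hgOU
      have h2 := w.hUcomm _ h1 _ hsU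
      have h3 : (t : G) * s * f gO = s * (t : G) * f gO := by
        calc (t : G) * s * f gO = (t : G) * (s * f gO) := by group
          _ = (t : G) * (f gO * s) := by rw [hc gO]
          _ = ((t : G) * f gO) * s := by group
          _ = s * ((t : G) * f gO) := h2
          _ = s * (t : G) * f gO := by group
      exact mul_right_cancel h3
  have h4 : s ∈ (Subgroup.center ↥(S : Subgroup G)).map (S : Subgroup G).subtype :=
    Subgroup.mem_map.mpr ⟨⟨s, hs⟩, hcen, rfl⟩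
  rw [w.hZS] at h4
  exact h4

theorem partA (w : WG S U n) :
    (Subgroup.centralizer (U : Set G)).relIndex (Subgroup.normalizer (U : Set G)) = 2 ∨
    (Subgroup.centralizer (U : Set G)).relIndex (Subgroup.normalizer (U : Set G)) = 6 := by
  classical
  haveI : Fact (Nat.Prime 2) := ⟨Nat.prime_two⟩
  obtain ⟨D, hD⟩ : ∃ D : Subgroup ↥(Subgroup.normalizer (U : Set G)),
      D = (Subgroup.centralizer (U : Set G)).subgroupOf (Subgroup.normalizer (U : Set G)) :=
    ⟨_, rfl⟩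
  have hgoal : (Subgroup.centralizer (U : Set G)).relIndex (Subgroup.normalizer (U : Set G)) =
      D.index := by rw [hD]; rfl
  rw [hgoal]
  haveI hDn : D.Normal := by
    rw [hD, ← Subgroup.normalizerMonoidHom_ker]; exact MonoidHom.normal_ker _
  have hSN : (S : Subgroup G) ≤ Subgroup.normalizer (U : Set G) := S_le_normU w
  have hmemD : ∀ g : ↥(Subgroup.normalizer (U : Set G)),
      g ∈ D ↔ ∀ u ∈ U, (g : G) * u * (g : G)⁻¹ = u := by
    intro g
    rw [hD, Subgroup.mem_subgroupOf, Subgroup.mem_centralizer_iff]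
    constructor
    · intro h u hu
      have h1 := h u hu
      rw [← h1]; group
    · intro h u hu
      have h1 := h u hu
      calc u * (g : G) = ((g : G) * u * (g : G)⁻¹) * (g : G) := by rw [h1]
        _ = (g : G) * u := by group
  obtain ⟨e, he0, he1, he2⟩ : ∃ e : Fin 3 → G, e 0 = w.wx ∧ e 1 = w.wy ∧ e 2 = w.zeta :=
    ⟨![w.wx, w.wy, w.zeta], rfl, rfl, rfl⟩
  have hfin : ∀ i : Fin 3, i = 0 ∨ i = 1 ∨ i = 2 := by decide
  have he_mem : ∀ i, e i ∈ U ∧ e i * e i = 1 ∧ e i ≠ 1 := by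
    intro i
    rcases hfin i with rfl | rfl | rfl
    · rw [he0]; exact ⟨w.hwxU, w.hwx2, w.hwx1⟩
    · rw [he1]; exact ⟨w.hwyU, w.hwy2, w.hwy1⟩
    · rw [he2]; exact ⟨w.hzetaU, w.hzeta2, w.hzeta1⟩
  have he_inj : ∀ i j, e i = e j → i = j := by
    intro i j h
    rcases hfin i with rfl | rfl | rfl <;> rcases hfin j with rfl | rfl | rfl <;>
      first
      | rfl
      | (rw [he0, he1] at h; exact absurd h w.hwxy)
      | (rw [he0, he2] at h; exact absurd h.symm w.hzetax)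
      | (rw [he1, he0] at h; exact absurd h.symm w.hwxy)
      | (rw [he1, he2] at h; exact absurd h.symm w.hzetay)
      | (rw [he2, he0] at h; exact absurd h w.hzetax)
      | (rw [he2, he1] at h; exact absurd h w.hzetay)
  have he_all : ∀ t ∈ U, t * t = 1 → t ≠ 1 → ∃ i, t = e i := by
    intro t ht htt ht1
    rcases w.hinvU t ht htt with h | h | h | h
    · exact absurd h ht1
    · exact ⟨0, by rw [he0]; exact h⟩
    · exact ⟨1, by rw [he1]; exact h⟩
    · exact ⟨2, by rw [he2]; exact h⟩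
  have hconjU : ∀ g ∈ Subgroup.normalizer (U : Set G), ∀ u ∈ U, g * u * g⁻¹ ∈ U :=
    fun g hg u hu => (Subgroup.mem_normalizer_iff.mp hg u).mp hu
  have hconj_e : ∀ g ∈ Subgroup.normalizer (U : Set G), ∀ i, ∃ j, g * e i * g⁻¹ = e j := by
    intro g hg i
    obtain ⟨h1, h2, h3⟩ := he_mem i
    apply he_all _ (hconjU g hg _ h1)
    · calc g * e i * g⁻¹ * (g * e i * g⁻¹) = g * (e i * e i) * g⁻¹ := by group
        _ = 1 := by rw [h2]; group
    · intro h
      exact h3 (conj_eq_one_iff.mp h)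
  obtain ⟨R, hR⟩ : ∃ R : ↥(Subgroup.normalizer (U : Set G)) → Fin 3 → Fin 3 → Prop,
      ∀ g i j, R g i j ↔ (g : G) * e i * (g : G)⁻¹ = e j :=
    ⟨fun g i j => (g : G) * e i * (g : G)⁻¹ = e j, fun _ _ _ => Iff.rfl⟩
  have h6 : D.index ∣ 6 := by
    apply perm3_index_dvd D R
    · intro g i
      obtain ⟨j, hj⟩ := hconj_e g g.2 i
      exact ⟨j, (hR g i j).mpr hj⟩
    · intro g i j j' h1 h2
      rw [hR] at h1 h2
      exact he_inj j j' (h1.symm.trans h2)
    · intro i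
      rw [hR]
      simp
    · intro g h i j k h1 h2
      rw [hR] at h1 h2 ⊢
      rw [Subgroup.coe_mul]
      calc (g : G) * (h : G) * e i * ((g : G) * (h : G))⁻¹
          = (g : G) * ((h : G) * e i * (h : G)⁻¹) * (g : G)⁻¹ := by group
        _ = e k := by rw [h1, h2]
    · intro g hg hodd
      rw [hD, Subgroup.mem_subgroupOf]
      apply odd_cent_U w (g : G) g.2
      · rw [Subgroup.orderOf_coe]; exact hodd
      · intro t ht htt
        by_cases ht1 : t = 1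
        · rw [ht1]; group
        · obtain ⟨i, hi⟩ := he_all t ht htt ht1
          rw [hi]
          exact (hR g i i).mp (hg i)
    · intro g hg hk
      obtain ⟨k, hgk⟩ := hk
      obtain ⟨c', hc'⟩ := elt_conj_into_sylow' (S.subtype hSN) g k hgk
      obtain ⟨c, hc⟩ : ∃ c : G, c = (c' : G) := ⟨_, rfl⟩
      obtain ⟨γ, hγ⟩ : ∃ γ : G, γ = (g : G) := ⟨_, rfl⟩
      have hcN : c ∈ Subgroup.normalizer (U : Set G) := by rw [hc]; exact c'.2
      have hcN' : c⁻¹ ∈ Subgroup.normalizer (U : Set G) := Subgroup.inv_mem _ hcN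
      have htS : c * γ * c⁻¹ ∈ (S : Subgroup G) := by
        rw [hc, hγ]; exact hc'
      have hfixe : ∀ i, γ * e i * γ⁻¹ = e i := by
        intro i; rw [hγ]; exact (hR g i i).mp (hg i)
      have htfix : ∀ j, (c * γ * c⁻¹) * e j * (c * γ * c⁻¹)⁻¹ = e j := by
        intro j
        obtain ⟨i, hi⟩ := hconj_e c⁻¹ hcN' j
        rw [inv_inv] at hi
        calc (c * γ * c⁻¹) * e j * (c * γ * c⁻¹)⁻¹
            = c * (γ * (c⁻¹ * e j * c) * γ⁻¹) * c⁻¹ := by group
          _ = c * (c⁻¹ * e j * c) * c⁻¹ := by rw [hi, hfixe i]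
          _ = e j := by group
      have htU : c * γ * c⁻¹ ∈ U := by
        by_contra hn
        have h1 := conj_out w _ htS hn
        have h2 := htfix 0
        rw [he0] at h2
        exact w.hwxy (h2.symm.trans h1)
      rw [hmemD]
      intro u hu
      rw [← hγ]
      have hcu : c * u * c⁻¹ ∈ U := hconjU c hcN u hu
      have hcomm := w.hUcomm _ htU _ hcu
      calc γ * u * γ⁻¹ = c⁻¹ * ((c * γ * c⁻¹) * (c * u * c⁻¹)) * (c * γ⁻¹) := by group
        _ = c⁻¹ * ((c * u * c⁻¹) * (c * γ * c⁻¹)) * (c * γ⁻¹) := by rw [hcomm]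
        _ = u := by group
  have h2 : 2 ∣ D.index := by
    apply two_dvd_index D ⟨w.zh, hSN w.hzhS⟩ _ 1
    · rw [pow_one, pow_two]
      have e1 : (⟨w.zh, hSN w.hzhS⟩ : ↥(Subgroup.normalizer (U : Set G))) *
          ⟨w.zh, hSN w.hzhS⟩ = 1 := Subtype.ext w.hzh2
      rw [e1]; exact D.one_mem
    · intro h
      rw [hmemD] at h
      have h1 := h w.wx w.hwxU
      exact w.hwxy (h1.symm.trans w.hconj)
  exact two_or_six _ h6 h2

set_option maxHeartbeats 2000000 in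
theorem partB (w : WG S U n) (hcard : Nat.card S = 2 ^ (2 * n + 1)) (Q : Subgroup G)
    (hQS : Q ≤ S) (eQ : Q ≃* QuaternionGroup 2) :
    ((Q ⊔ Subgroup.zpowers w.ch) ⊔
      Subgroup.centralizer ((Q ⊔ Subgroup.zpowers w.ch : Subgroup G) : Set G)).relIndex
      (Subgroup.normalizer ((Q ⊔ Subgroup.zpowers w.ch : Subgroup G) : Set G)) = 2 ∨
    ((Q ⊔ Subgroup.zpowers w.ch) ⊔
      Subgroup.centralizer ((Q ⊔ Subgroup.zpowers w.ch : Subgroup G) : Set G)).relIndex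
      (Subgroup.normalizer ((Q ⊔ Subgroup.zpowers w.ch : Subgroup G) : Set G)) = 6 := by
  classical
  haveI : Fact (Nat.Prime 2) := ⟨Nat.prime_two⟩
  obtain ⟨ZS, hZSdef⟩ : ∃ ZS : Subgroup G, ZS = Subgroup.zpowers w.ch := ⟨_, rfl⟩
  obtain ⟨V, hVdef⟩ : ∃ V : Subgroup G, V = Q ⊔ ZS := ⟨_, rfl⟩
  rw [← hZSdef, ← hVdef]
  have hZc : ∀ s ∈ ZS, ∀ t ∈ (S : Subgroup G), s * t = t * s := by
    intro s hs t ht; rw [hZSdef] at hs; exact w.hZc s hs t ht
  have hZU : ∀ s ∈ ZS, s ∈ U := by intro s hs; rw [hZSdef] at hs; exact w.hZU s hs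
  have hZinv : ∀ s ∈ ZS, s * s = 1 → s ≠ 1 → s = w.zeta := by
    intro s hs; rw [hZSdef] at hs; exact w.hZinv s hs
  have hmemV : ∀ v, v ∈ V ↔ ∃ q ∈ Q, ∃ s ∈ ZS, v = q * s := by
    intro v; rw [hVdef]
    exact mem_sup_comm Q ZS (fun a ha b hb => (hZc b hb a (hQS ha)).symm) v
  have hVS : V ≤ (S : Subgroup G) := by
    intro v hv
    obtain ⟨q, hq, s, hs, rfl⟩ := (hmemV v).mp hv
    exact (S : Subgroup G).mul_mem (hQS hq) (w.hUS (hZU s hs))
  obtain ⟨D, hD⟩ : ∃ D : Subgroup ↥(Subgroup.normalizer (V : Set G)),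
      D = (V ⊔ Subgroup.centralizer (V : Set G)).subgroupOf (Subgroup.normalizer (V : Set G)) :=
    ⟨_, rfl⟩
  have hgoal : (V ⊔ Subgroup.centralizer (V : Set G)).relIndex
      (Subgroup.normalizer (V : Set G)) = D.index := by rw [hD]; rfl
  rw [hgoal]
  have hNV : ∀ μ ∈ Subgroup.normalizer (V : Set G), ∀ v ∈ V, μ * v * μ⁻¹ ∈ V :=
    fun μ hμ v hv => (Subgroup.mem_normalizer_iff.mp hμ v).mp hv
  have h2pow : ∀ s ∈ (S : Subgroup G), ∃ m : ℕ, s ^ 2 ^ m = 1 := by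
    intro s hs
    obtain ⟨k, hk'⟩ := S.2 ⟨s, hs⟩
    refine ⟨k, ?_⟩
    have := congrArg Subtype.val hk'
    simpa using this
  -- the quaternion subgroup
  obtain ⟨f, hfdef⟩ : ∃ f : QuaternionGroup 2 →* G, f = Q.subtype.comp eQ.symm.toMonoidHom :=
    ⟨_, rfl⟩
  have hfQ : ∀ g, f g ∈ Q := by intro g; rw [hfdef]; exact (eQ.symm g).2
  have hfs : ∀ q ∈ Q, ∃ g, f g = q := by
    intro q hq; exact ⟨eQ ⟨q, hq⟩, by rw [hfdef]; simp⟩
  have hfi : Function.Injective f := by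
    rw [hfdef]; exact (Subgroup.subtype_injective _).comp eQ.symm.injective
  have hfS : ∀ g, f g ∈ (S : Subgroup G) := fun g => hQS (hfQ g)
  have hfV : ∀ g, f g ∈ V := by
    intro g; rw [hVdef]; exact Subgroup.mem_sup_left (hfQ g)
  have hZV : ∀ s ∈ ZS, s ∈ V := by
    intro s hs; rw [hVdef]; exact Subgroup.mem_sup_right hs
  have hVdec : ∀ v ∈ V, ∃ g : QuaternionGroup 2, ∃ s ∈ ZS, v = f g * s := by
    intro v hv
    obtain ⟨q, hq, s, hs, rfl⟩ := (hmemV v).mp hv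
    obtain ⟨g, rfl⟩ := hfs q hq
    exact ⟨g, s, hs, rfl⟩
  obtain ⟨gU, gO, hgU2, hgO2, hgUU, hgOU, hne1, hne2, hsqz⟩ := q8_pick w f hfi hfS
  obtain ⟨hc1, hc2, hc3, hc4, hc5, hc6, hc7⟩ := q8_cls_ne gU gO hgU2 hgO2 hne1 hne2
  have hne3 : gU ≠ gO⁻¹ := fun h => hne2 (by rw [h, inv_inv])
  have hzetaZ : w.zeta ∈ ZS := by
    rw [hZSdef, ← w.hchz]; exact Subgroup.pow_mem _ (Subgroup.mem_zpowers _) _
  have hfZ1 : ∀ g, f g ∈ ZS → g * g = 1 := by
    intro g hg
    apply q8_central_sq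
    intro h
    apply hfi
    rw [map_mul, map_mul]
    exact hZc (f g) hg (f h) (hfS h)
  have hfZ2 : ∀ g, g * g = 1 → f g ∈ ZS := by
    intro g hg
    rcases q8_sq_one g hg with h | h
    · rw [h, map_one]; exact ZS.one_mem
    · rw [h, map_mul, hsqz _ q8_facts.1]; exact hzetaZ
  have hNZ : ∀ μ ∈ Subgroup.normalizer (V : Set G), ∀ s ∈ ZS, μ * s * μ⁻¹ ∈ ZS := by
    intro μ hμ s hs
    have hμ' : μ⁻¹ ∈ Subgroup.normalizer (V : Set G) := Subgroup.inv_mem _ hμ
    obtain ⟨g, s', hs', hgs⟩ := hVdec _ (hNV μ hμ s (hZV s hs))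
    have hcen : ∀ h : QuaternionGroup 2, g * h = h * g := by
      intro h
      apply hfi
      rw [map_mul, map_mul]
      have hv' : μ⁻¹ * f h * μ ∈ (S : Subgroup G) := by
        have h5 := hNV μ⁻¹ hμ' (f h) (hfV h)
        rw [inv_inv] at h5
        exact hVS h5
      have hc := hZc s hs _ hv'
      have hc2 : (μ * s * μ⁻¹) * f h = f h * (μ * s * μ⁻¹) := by
        calc (μ * s * μ⁻¹) * f h = μ * (s * (μ⁻¹ * f h * μ)) * μ⁻¹ := by group
          _ = μ * ((μ⁻¹ * f h * μ) * s) * μ⁻¹ := by rw [hc]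
          _ = f h * (μ * s * μ⁻¹) := by group
      rw [hgs] at hc2
      have hs1 := hZc s' hs' (f h) (hfS h)
      have h3 : f g * f h * s' = f h * f g * s' := by
        calc f g * f h * s' = f g * (f h * s') := by group
          _ = f g * (s' * f h) := by rw [hs1]
          _ = (f g * s') * f h := by group
          _ = f h * (f g * s') := hc2
          _ = f h * f g * s' := by group
      exact mul_right_cancel h3
    rw [hgs]
    exact ZS.mul_mem (hfZ2 g (q8_central_sq g hcen)) hs'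
  -- the three classes
  obtain ⟨e, he0, he1, he2⟩ : ∃ e : Fin 3 → QuaternionGroup 2,
      e 0 = gU ∧ e 1 = gO ∧ e 2 = gU * gO := ⟨![gU, gO, gU * gO], rfl, rfl, rfl⟩
  have hfin : ∀ i : Fin 3, i = 0 ∨ i = 1 ∨ i = 2 := by decide
  have he_nc : ∀ i, e i * e i ≠ 1 := by
    intro i; rcases hfin i with rfl | rfl | rfl
    · rw [he0]; exact hgU2
    · rw [he1]; exact hgO2
    · rw [he2]; exact hc1
  have he_all : ∀ g, g * g ≠ 1 → ∃ j, g = e j ∨ g = (e j)⁻¹ := by
    intro g hg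
    rcases q8_cls gU gO hgU2 hgO2 hne1 hne2 g hg with h | h | h | h | h | h
    · exact ⟨0, Or.inl (by rw [he0]; exact h)⟩
    · exact ⟨0, Or.inr (by rw [he0]; exact h)⟩
    · exact ⟨1, Or.inl (by rw [he1]; exact h)⟩
    · exact ⟨1, Or.inr (by rw [he1]; exact h)⟩
    · exact ⟨2, Or.inl (by rw [he2]; exact h)⟩
    · exact ⟨2, Or.inr (by rw [he2]; exact h)⟩
  have he_inj : ∀ j j', ((e j')⁻¹ * e j) * ((e j')⁻¹ * e j) = 1 → j = j' := by
    intro j j' h
    rcases hfin j with rfl | rfl | rfl <;> rcases hfin j' with rfl | rfl | rfl <;>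
      first
      | rfl
      | (exfalso; rw [he1, he0] at h; exact hc3 h)
      | (exfalso; rw [he0, he1] at h; exact hc2 h)
      | (exfalso; rw [he2, he0] at h; exact hc5 h)
      | (exfalso; rw [he0, he2] at h; exact hc4 h)
      | (exfalso; rw [he2, he1] at h; exact hc7 h)
      | (exfalso; rw [he1, he2] at h; exact hc6 h)
  have hsplitv : ∀ v ∈ V, v ∈ ZS ∨ ∃ j, ∃ s ∈ ZS, v = f (e j) * s := by
    intro v hv
    obtain ⟨g, s, hs, hgs⟩ := hVdec v hv
    by_cases hg : g * g = 1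
    · left; rw [hgs]; exact ZS.mul_mem (hfZ2 g hg) hs
    · right
      obtain ⟨j, hj⟩ := he_all g hg
      rcases hj with hj | hj
      · exact ⟨j, s, hs, by rw [hgs, hj]⟩
      · refine ⟨j, w.zeta⁻¹ * s, ZS.mul_mem (ZS.inv_mem hzetaZ) hs, ?_⟩
        have hz := hsqz (e j) (he_nc j)
        rw [hgs, hj, map_inv, ← hz]; group
  obtain ⟨R, hR⟩ : ∃ R : ↥(Subgroup.normalizer (V : Set G)) → Fin 3 → Fin 3 → Prop,
      ∀ g i j, R g i j ↔ ∃ s ∈ ZS, (g : G) * f (e i) * (g : G)⁻¹ = f (e j) * s :=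
    ⟨fun g i j => ∃ s ∈ ZS, (g : G) * f (e i) * (g : G)⁻¹ = f (e j) * s, fun _ _ _ => Iff.rfl⟩
  have hVC : ∀ a ∈ V, ∀ b ∈ Subgroup.centralizer (V : Set G), a * b = b * a := by
    intro a ha b hb
    exact (Subgroup.mem_centralizer_iff.mp hb) a ha
  have h6 : D.index ∣ 6 := by
    apply perm3_index_dvd D R
    · intro μ i
      have hμ := μ.2
      rcases hsplitv _ (hNV _ hμ _ (hfV (e i))) with hv | ⟨j, s, hs, hjs⟩
      · exfalso
        have h2 := hNZ (μ : G)⁻¹ (Subgroup.inv_mem _ hμ) _ hv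
        have e3 : (μ : G)⁻¹ * ((μ : G) * f (e i) * (μ : G)⁻¹) * (μ : G)⁻¹⁻¹ = f (e i) := by group
        rw [e3] at h2
        exact he_nc i (hfZ1 _ h2)
      · exact ⟨j, (hR μ i j).mpr ⟨s, hs, hjs⟩⟩
    · intro μ i j j' h1 h2
      rw [hR] at h1 h2
      obtain ⟨s₁, hs₁, h1⟩ := h1
      obtain ⟨s₂, hs₂, h2⟩ := h2
      apply he_inj j j'
      apply hfZ1
      have h3 : f (e j) * s₁ = f (e j') * s₂ := h1.symm.trans h2
      have h4 : f ((e j')⁻¹ * e j) = s₂ * s₁⁻¹ := by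
        rw [map_mul, map_inv]
        calc (f (e j'))⁻¹ * f (e j) = (f (e j'))⁻¹ * (f (e j) * s₁) * s₁⁻¹ := by group
          _ = (f (e j'))⁻¹ * (f (e j') * s₂) * s₁⁻¹ := by rw [h3]
          _ = s₂ * s₁⁻¹ := by group
      rw [h4]; exact ZS.mul_mem hs₂ (ZS.inv_mem hs₁)
    · intro i
      rw [hR]
      exact ⟨1, ZS.one_mem, by simp⟩
    · intro g h i j k h1 h2
      rw [hR] at h1 h2 ⊢
      obtain ⟨s₁, hs₁, h1⟩ := h1
      obtain ⟨s₂, hs₂, h2⟩ := h2
      refine ⟨s₂ * ((g : G) * s₁ * (g : G)⁻¹), ZS.mul_mem hs₂ (hNZ _ g.2 _ hs₁), ?_⟩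
      rw [Subgroup.coe_mul]
      calc (g : G) * (h : G) * f (e i) * ((g : G) * (h : G))⁻¹
          = (g : G) * ((h : G) * f (e i) * (h : G)⁻¹) * (g : G)⁻¹ := by group
        _ = (g : G) * (f (e j) * s₁) * (g : G)⁻¹ := by rw [h1]
        _ = ((g : G) * f (e j) * (g : G)⁻¹) * ((g : G) * s₁ * (g : G)⁻¹) := by group
        _ = f (e k) * s₂ * ((g : G) * s₁ * (g : G)⁻¹) := by rw [h2]
        _ = f (e k) * (s₂ * ((g : G) * s₁ * (g : G)⁻¹)) := by group
    · -- odd order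
      intro μ' hμR hodd
      obtain ⟨μ, hμdef⟩ : ∃ μ : G, μ = (μ' : G) := ⟨_, rfl⟩
      have hμN : μ ∈ Subgroup.normalizer (V : Set G) := by rw [hμdef]; exact μ'.2
      have hμodd : Odd (orderOf μ) := by rw [hμdef, Subgroup.orderOf_coe]; exact hodd
      obtain ⟨bo, hbo⟩ : ∃ bo, bo = orderOf μ := ⟨_, rfl⟩
      have hboodd : Odd bo := by rw [hbo]; exact hμodd
      have hμb : μ ^ bo = 1 := by rw [hbo]; exact pow_orderOf_eq_one μ
      have hcc : ∀ x y : G, μ * (x * y) * μ⁻¹ = (μ * x * μ⁻¹) * (μ * y * μ⁻¹) := by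
        intro x y; group
      have hμch : μ * w.ch * μ⁻¹ ∈ Subgroup.zpowers w.ch := by
        have h5 := hNZ μ hμN w.ch (by rw [hZSdef]; exact Subgroup.mem_zpowers _)
        rw [hZSdef] at h5; exact h5
      have hμch' : μ * w.ch * μ⁻¹ = w.ch := odd_cent_cyclic w.ch μ n w.hcho hμodd hμch
      have hμZ : ∀ s ∈ ZS, μ * s * μ⁻¹ = s := by
        intro s hs
        rw [hZSdef] at hs
        obtain ⟨k, hk⟩ := Subgroup.mem_zpowers_iff.mp hs
        rw [← hk, ← conj_zpow, hμch']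
      have hfix : ∀ i, μ * f (e i) * μ⁻¹ = f (e i) := by
        intro i
        obtain ⟨s, hs, h1⟩ := (hR μ' i i).mp (hμR i)
        rw [← hμdef] at h1
        obtain ⟨m, hm⟩ := h2pow s (w.hUS (hZU s hs))
        have hcomm : f (e i) * s = s * f (e i) := (hZc s hs _ (hfS _)).symm
        have h3 := odd_fix μ (f (e i)) s bo m hboodd hμb (by rw [h1, hcomm]) (hμZ s hs) hm
        rw [h1, h3, mul_one]
      have hfixu := hfix 0
      rw [he0] at hfixu
      have hfixo := hfix 1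
      rw [he1] at hfixo
      rw [hD, Subgroup.mem_subgroupOf]
      apply Subgroup.mem_sup_right
      rw [← hμdef, Subgroup.mem_centralizer_iff]
      intro v hv
      obtain ⟨q, s, hs, hqs⟩ := hVdec v hv
      obtain ⟨i, j, hij⟩ := q8_gen2 gU gO hgU2 hgO2 hne1 hne2 q
      have hfq : μ * f q * μ⁻¹ = f q := by
        rw [hij, map_mul, map_pow, map_pow, hcc, ← conj_pow, ← conj_pow, hfixu, hfixo]
      have hv' : μ * v * μ⁻¹ = v := by rw [hqs, hcc, hfq, hμZ s hs]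
      calc v * μ = (μ * v * μ⁻¹) * μ := by rw [hv']
        _ = μ * v := by group
    · -- 2-power order
      intro μ' hμR hk
      obtain ⟨k, hμk⟩ := hk
      obtain ⟨γ, hγdef⟩ : ∃ γ : G, γ = (μ' : G) := ⟨_, rfl⟩
      have hγN : γ ∈ Subgroup.normalizer (V : Set G) := by rw [hγdef]; exact μ'.2
      have hγk : γ ^ 2 ^ k = 1 := by
        rw [hγdef, ← Subgroup.coe_pow, hμk]; rfl
      have hTp : IsPGroup 2 ↥(Subgroup.zpowers γ ⊔ V : Subgroup G) := by
        apply IsPGroup.to_sup_of_normal_right'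
        · intro y
          obtain ⟨j, hj⟩ := Subgroup.mem_zpowers_iff.mp y.2
          refine ⟨k, Subtype.ext ?_⟩
          rw [Subgroup.coe_pow, ← hj, ← zpow_natCast, ← zpow_mul, mul_comm, zpow_mul,
            zpow_natCast, hγk, one_zpow]; rfl
        · exact S.2.to_le hVS
        · exact Subgroup.zpowers_le.mpr hγN
      obtain ⟨c, hc⟩ := pgroup_conj_into_sylow S _ hTp
      have hcγ : c * γ * c⁻¹ ∈ (S : Subgroup G) :=
        hc γ (Subgroup.mem_sup_left (Subgroup.mem_zpowers γ))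
      have hcV : ∀ v ∈ V, c * v * c⁻¹ ∈ (S : Subgroup G) :=
        fun v hv => hc v (Subgroup.mem_sup_right hv)
      obtain ⟨f', hf'⟩ : ∃ f' : QuaternionGroup 2 →* G, ∀ g, f' g = c * f g * c⁻¹ :=
        ⟨(MulAut.conj c).toMonoidHom.comp f, fun g => by simp [MulAut.conj_apply]⟩
      have hf'i : Function.Injective f' := by
        intro a b hab
        rw [hf', hf'] at hab
        apply hfi
        have h5 := congrArg (fun x => c⁻¹ * x * c) hab
        simpa [mul_assoc] using h5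
      have hf'S : ∀ g, f' g ∈ (S : Subgroup G) := fun g => by rw [hf']; exact hcV _ (hfV g)
      have hcZ : ∀ s ∈ ZS, c * s * c⁻¹ ∈ ZS := by
        intro s hs
        rw [hZSdef]
        apply cent_q8 w f' hf'i hf'S _ (hcV s (hZV s hs))
        intro g
        rw [hf']
        have h1 := hZc s hs (f g) (hfS g)
        calc c * s * c⁻¹ * (c * f g * c⁻¹) = c * (s * f g) * c⁻¹ := by group
          _ = c * (f g * s) * c⁻¹ := by rw [h1]
          _ = c * f g * c⁻¹ * (c * s * c⁻¹) := by group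
      have hczeta : c * w.zeta * c⁻¹ = w.zeta := by
        apply hZinv _ (hcZ _ hzetaZ)
        · calc c * w.zeta * c⁻¹ * (c * w.zeta * c⁻¹) = c * (w.zeta * w.zeta) * c⁻¹ := by group
            _ = 1 := by rw [w.hzeta2]; group
        · intro h; exact w.hzeta1 (conj_eq_one_iff.mp h)
      have hcZs : ∀ s ∈ ZS, ∃ s₀ ∈ ZS, c * s₀ * c⁻¹ = s := by
        obtain ⟨φ, hφ⟩ : ∃ φ : ↥ZS → ↥ZS, ∀ s : ↥ZS, ((φ s : ↥ZS) : G) = c * (s : G) * c⁻¹ :=
          ⟨fun s => ⟨c * (s : G) * c⁻¹, hcZ s s.2⟩, fun s => rfl⟩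
        have hinj : Function.Injective φ := by
          intro a b hab
          have h1 : c * (a : G) * c⁻¹ = c * (b : G) * c⁻¹ := by rw [← hφ a, ← hφ b, hab]
          apply Subtype.ext
          have h5 := congrArg (fun x => c⁻¹ * x * c) h1
          simpa [mul_assoc] using h5
        have hsurj : Function.Surjective φ := Finite.injective_iff_surjective.mp hinj
        intro s hs
        obtain ⟨s₀, hs₀⟩ := hsurj ⟨s, hs⟩
        exact ⟨s₀, s₀.2, by rw [← hφ s₀, hs₀]⟩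
      obtain ⟨t, htdef⟩ : ∃ t, t = c * γ * c⁻¹ := ⟨_, rfl⟩
      have htS : t ∈ (S : Subgroup G) := by rw [htdef]; exact hcγ
      obtain ⟨u', hu'⟩ : ∃ u', u' = f' gU := ⟨_, rfl⟩
      obtain ⟨o', ho'⟩ : ∃ o', o' = f' gO := ⟨_, rfl⟩
      have hu'S : u' ∈ (S : Subgroup G) := by rw [hu']; exact hf'S gU
      have ho'S : o' ∈ (S : Subgroup G) := by rw [ho']; exact hf'S gO
      have hf'sq : ∀ g, g * g ≠ 1 → f' g * f' g = w.zeta := by
        intro g hg
        rw [hf']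
        calc c * f g * c⁻¹ * (c * f g * c⁻¹) = c * (f g * f g) * c⁻¹ := by group
          _ = w.zeta := by rw [hsqz g hg, hczeta]
      have hu'2 : u' * u' = w.zeta := by rw [hu']; exact hf'sq gU hgU2
      have ho'2 : o' * o' = w.zeta := by rw [ho']; exact hf'sq gO hgO2
      have ho'u' : o' * u' * o'⁻¹ = u'⁻¹ := by
        rw [hu', ho', ← map_inv, ← map_mul, ← map_mul,
          q8_ncomm_inv gU gO hgU2 hgO2 hne1 hne2, map_inv]
      have hu'o' : u' * o' * u'⁻¹ = o'⁻¹ := by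
        rw [hu', ho', ← map_inv, ← map_mul, ← map_mul,
          q8_ncomm_inv gO gU hgO2 hgU2 hne1.symm hne3, map_inv]
      have hzc : ∀ x ∈ (S : Subgroup G), w.zeta * x = x * w.zeta := hZc w.zeta hzetaZ
      have hinvz : ∀ x ∈ (S : Subgroup G), x * x = w.zeta → (x * w.zeta)⁻¹ = x := by
        intro x hx hxx
        apply inv_eq_of_mul_eq_one_right
        calc x * w.zeta * x = x * (w.zeta * x) := by group
          _ = x * (x * w.zeta) := by rw [hzc x hx]
          _ = (x * x) * w.zeta := by group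
          _ = 1 := by rw [hxx, w.hzeta2]
      -- what t does
      have htrel : ∀ g, g * g ≠ 1 → (∃ s ∈ ZS, γ * f g * γ⁻¹ = f g * s) →
          t * f' g * t⁻¹ = f' g ∨ t * f' g * t⁻¹ = f' g * w.zeta := by
        intro g hg hs
        obtain ⟨s, hs, h1⟩ := hs
        have hs' := hcZ s hs
        have h2 : t * f' g * t⁻¹ = f' g * (c * s * c⁻¹) := by
          rw [htdef, hf']
          calc c * γ * c⁻¹ * (c * f g * c⁻¹) * (c * γ * c⁻¹)⁻¹
              = c * (γ * f g * γ⁻¹) * c⁻¹ := by group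
            _ = c * (f g * s) * c⁻¹ := by rw [h1]
            _ = c * f g * c⁻¹ * (c * s * c⁻¹) := by group
        have hfS' := hf'S g
        have h3 : (c * s * c⁻¹) * (c * s * c⁻¹) = 1 := by
          have h4 : (t * f' g * t⁻¹) * (t * f' g * t⁻¹) = w.zeta := by
            calc (t * f' g * t⁻¹) * (t * f' g * t⁻¹) = t * (f' g * f' g) * t⁻¹ := by group
              _ = t * w.zeta * t⁻¹ := by rw [hf'sq g hg]
              _ = (w.zeta * t) * t⁻¹ := by rw [hzc t htS]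
              _ = w.zeta := by group
          rw [h2] at h4
          have hcs := hZc _ hs' (f' g) hfS'
          have h5 : w.zeta * ((c * s * c⁻¹) * (c * s * c⁻¹)) = w.zeta * 1 := by
            rw [mul_one]
            calc w.zeta * ((c * s * c⁻¹) * (c * s * c⁻¹))
                = (f' g * f' g) * ((c * s * c⁻¹) * (c * s * c⁻¹)) := by rw [hf'sq g hg]
              _ = f' g * (f' g * (c * s * c⁻¹)) * (c * s * c⁻¹) := by group
              _ = f' g * ((c * s * c⁻¹) * f' g) * (c * s * c⁻¹) := by rw [hcs]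
              _ = (f' g * (c * s * c⁻¹)) * (f' g * (c * s * c⁻¹)) := by group
              _ = w.zeta := h4
          exact mul_left_cancel h5
        by_cases h6 : c * s * c⁻¹ = 1
        · left; rw [h2, h6, mul_one]
        · right; rw [h2, hZinv _ hs' h3 h6]
      have hL0 : ∀ t₁ ∈ (S : Subgroup G), t₁ * u' * t₁⁻¹ = u' → t₁ * o' * t₁⁻¹ = o' →
          t₁ ∈ ZS := by
        intro t₁ ht₁ h1 h2
        rw [hZSdef]
        apply cent_q8 w f' hf'i hf'S t₁ ht₁
        intro g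
        obtain ⟨i, j, hij⟩ := q8_gen2 gU gO hgU2 hgO2 hne1 hne2 g
        have cu : Commute t₁ u' := by
          show t₁ * u' = u' * t₁
          calc t₁ * u' = (t₁ * u' * t₁⁻¹) * t₁ := by group
            _ = u' * t₁ := by rw [h1]
        have co : Commute t₁ o' := by
          show t₁ * o' = o' * t₁
          calc t₁ * o' = (t₁ * o' * t₁⁻¹) * t₁ := by group
            _ = o' * t₁ := by rw [h2]
        rw [hij, map_mul, map_pow, map_pow, ← hu', ← ho']
        exact ((cu.pow_right _).mul_right (co.pow_right _)).eq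
      have hL1 : ∀ t₁ ∈ (S : Subgroup G), t₁ * o' * t₁⁻¹ = o' →
          (t₁ * u' * t₁⁻¹ = u' ∨ t₁ * u' * t₁⁻¹ = u' * w.zeta) →
          ∃ g, ∃ s ∈ ZS, t₁ = f' g * s := by
        intro t₁ ht₁ h1 h2
        rcases h2 with h2 | h2
        · exact ⟨1, t₁, hL0 t₁ ht₁ h2 h1, by rw [map_one, one_mul]⟩
        · have h3 : (t₁ * o') * u' * (t₁ * o')⁻¹ = u' := by
            calc (t₁ * o') * u' * (t₁ * o')⁻¹ = t₁ * (o' * u' * o'⁻¹) * t₁⁻¹ := by group
              _ = t₁ * u'⁻¹ * t₁⁻¹ := by rw [ho'u']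
              _ = (t₁ * u' * t₁⁻¹)⁻¹ := by group
              _ = u' := by rw [h2, hinvz u' hu'S hu'2]
          have h4 : (t₁ * o') * o' * (t₁ * o')⁻¹ = o' := by
            calc (t₁ * o') * o' * (t₁ * o')⁻¹ = t₁ * o' * t₁⁻¹ := by group
              _ = o' := h1
          have h5 := hL0 (t₁ * o') ((S : Subgroup G).mul_mem ht₁ ho'S) h3 h4
          refine ⟨gO⁻¹, t₁ * o', h5, ?_⟩
          rw [map_inv, ← ho']
          have h6 := hZc _ h5 o'⁻¹ ((S : Subgroup G).inv_mem ho'S)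
          rw [← h6]; group
      have hL2 : ∀ t₁ ∈ (S : Subgroup G),
          (t₁ * o' * t₁⁻¹ = o' ∨ t₁ * o' * t₁⁻¹ = o' * w.zeta) →
          (t₁ * u' * t₁⁻¹ = u' ∨ t₁ * u' * t₁⁻¹ = u' * w.zeta) →
          ∃ g, ∃ s ∈ ZS, t₁ = f' g * s := by
        intro t₁ ht₁ h1 h2
        rcases h1 with h1 | h1
        · exact hL1 t₁ ht₁ h1 h2
        · have h3 : (t₁ * u') * o' * (t₁ * u')⁻¹ = o' := by
            calc (t₁ * u') * o' * (t₁ * u')⁻¹ = t₁ * (u' * o' * u'⁻¹) * t₁⁻¹ := by group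
              _ = t₁ * o'⁻¹ * t₁⁻¹ := by rw [hu'o']
              _ = (t₁ * o' * t₁⁻¹)⁻¹ := by group
              _ = o' := by rw [h1, hinvz o' ho'S ho'2]
          have h4 : (t₁ * u') * u' * (t₁ * u')⁻¹ = t₁ * u' * t₁⁻¹ := by group
          obtain ⟨g, s, hs, hgs⟩ := hL1 (t₁ * u') ((S : Subgroup G).mul_mem ht₁ hu'S) h3
            (by rw [h4]; exact h2)
          refine ⟨g * gU⁻¹, s, hs, ?_⟩
          rw [map_mul, map_inv, ← hu']
          have h6 := hZc s hs u'⁻¹ ((S : Subgroup G).inv_mem hu'S)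
          calc t₁ = (t₁ * u') * u'⁻¹ := by group
            _ = f' g * s * u'⁻¹ := by rw [hgs]
            _ = f' g * (s * u'⁻¹) := by group
            _ = f' g * (u'⁻¹ * s) := by rw [h6]
            _ = f' g * u'⁻¹ * s := by group
      have hRu := (hR μ' 0 0).mp (hμR 0)
      have hRo := (hR μ' 1 1).mp (hμR 1)
      rw [he0, ← hγdef] at hRu
      rw [he1, ← hγdef] at hRo
      have htu := htrel gU hgU2 hRu
      have hto := htrel gO hgO2 hRo
      rw [← hu'] at htu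
      rw [← ho'] at hto
      obtain ⟨g, s, hs, hgs⟩ := hL2 t htS hto htu
      obtain ⟨s₀, hs₀, hs₀s⟩ := hcZs s hs
      have hγV : γ = f g * s₀ := by
        have h7 : c * γ * c⁻¹ = c * f g * c⁻¹ * (c * s₀ * c⁻¹) := by
          rw [← htdef, hgs, hf', hs₀s]
        calc γ = c⁻¹ * (c * γ * c⁻¹) * c := by group
          _ = c⁻¹ * (c * f g * c⁻¹ * (c * s₀ * c⁻¹)) * c := by rw [h7]
          _ = f g * s₀ := by group
      rw [hD, Subgroup.mem_subgroupOf]
      apply Subgroup.mem_sup_left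
      rw [← hγdef, hγV]
      exact V.mul_mem (hfV g) (hZV s₀ hs₀)
  haveI hDn : D.Normal := by
    rw [hD]
    constructor
    intro d hd μ
    rw [Subgroup.mem_subgroupOf] at hd ⊢
    obtain ⟨v, hv, c₀, hc₀, hdv⟩ :=
      (mem_sup_comm V (Subgroup.centralizer (V : Set G)) hVC _).mp hd
    apply (mem_sup_comm V (Subgroup.centralizer (V : Set G)) hVC _).mpr
    refine ⟨(μ : G) * v * (μ : G)⁻¹, hNV _ μ.2 v hv, (μ : G) * c₀ * (μ : G)⁻¹, ?_, ?_⟩
    · rw [Subgroup.mem_centralizer_iff]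
      intro x hx
      have hx' : (μ : G)⁻¹ * x * (μ : G)⁻¹⁻¹ ∈ V := hNV _ (Subgroup.inv_mem _ μ.2) x hx
      have h1 := (Subgroup.mem_centralizer_iff.mp hc₀) _ hx'
      calc x * ((μ : G) * c₀ * (μ : G)⁻¹)
          = (μ : G) * (((μ : G)⁻¹ * x * (μ : G)⁻¹⁻¹) * c₀) * (μ : G)⁻¹ := by group
        _ = (μ : G) * (c₀ * ((μ : G)⁻¹ * x * (μ : G)⁻¹⁻¹)) * (μ : G)⁻¹ := by rw [h1]
        _ = (μ : G) * c₀ * (μ : G)⁻¹ * x := by group
    · rw [Subgroup.coe_mul, Subgroup.coe_mul, Subgroup.coe_inv, hdv]; group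
  have h2 : 2 ∣ D.index := by
    have hVcard : Nat.card ↥V ≤ 4 * 2 ^ n := by
      let Ψ : Option (Fin 3) × ↥ZS → ↥V := fun p =>
        match p.1 with
        | none => ⟨(p.2 : G), hZV _ p.2.2⟩
        | some j => ⟨f (e j) * (p.2 : G), V.mul_mem (hfV _) (hZV _ p.2.2)⟩
      have hsurj : Function.Surjective Ψ := by
        rintro ⟨v, hv⟩
        rcases hsplitv v hv with h | ⟨j, s, hs, hjs⟩
        · exact ⟨(none, ⟨v, h⟩), rfl⟩
        · exact ⟨(some j, ⟨s, hs⟩), Subtype.ext hjs.symm⟩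
      have h1 := Nat.card_le_card_of_surjective Ψ hsurj
      have h3 : Nat.card (Option (Fin 3) × ↥ZS) = 4 * 2 ^ n := by
        rw [Nat.card_prod]
        have h4 : Nat.card (Option (Fin 3)) = 4 := by
          rw [Nat.card_eq_fintype_card]; rfl
        have h5 : Nat.card ↥ZS = 2 ^ n := by rw [hZSdef, Nat.card_zpowers, w.hcho]
        rw [h4, h5]
      rw [h3] at h1; exact h1
    have hn2 := w.hn2
    have hlt : Nat.card ↥V < Nat.card ↥(S : Subgroup G) := by
      have hcard' : Nat.card ↥(S : Subgroup G) = 2 ^ (2 * n + 1) := hcard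
      rw [hcard']
      calc Nat.card ↥V ≤ 4 * 2 ^ n := hVcard
        _ = 2 ^ (n + 2) := by ring
        _ < 2 ^ (2 * n + 1) := Nat.pow_lt_pow_right (by norm_num) (by omega)
    haveI : Group.IsNilpotent ↥(S : Subgroup G) := S.2.isNilpotent
    have hNC := Group.normalizerCondition_of_isNilpotent (G := ↥(S : Subgroup G))
    have hltop : V.subgroupOf (S : Subgroup G) < ⊤ := by
      rw [lt_top_iff_ne_top]
      intro h
      have h1 : Nat.card ↥(V.subgroupOf (S : Subgroup G)) = Nat.card ↥(S : Subgroup G) := by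
        rw [h]; exact Subgroup.card_top
      rw [Nat.card_congr (Subgroup.subgroupOfEquivOfLe hVS).toEquiv] at h1
      omega
    have h3 := hNC _ hltop
    obtain ⟨t', ht'N, ht'V⟩ := SetLike.exists_of_lt h3
    have htN : (t' : G) ∈ Subgroup.normalizer (V : Set G) := by
      apply Subgroup.mem_normalizer_fintype
      intro v hv
      have h4 := (Subgroup.mem_normalizer_iff.mp ht'N ⟨v, hVS hv⟩).mp
        (Subgroup.mem_subgroupOf.mpr hv)
      exact Subgroup.mem_subgroupOf.mp h4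
    have htV : (t' : G) ∉ V := fun h => ht'V (Subgroup.mem_subgroupOf.mpr h)
    have htD : (⟨(t' : G), htN⟩ : ↥(Subgroup.normalizer (V : Set G))) ∉ D := by
      rw [hD, Subgroup.mem_subgroupOf]
      intro h
      obtain ⟨v, hv, c₀, hc₀, hvc⟩ :=
        (mem_sup_comm V (Subgroup.centralizer (V : Set G)) hVC _).mp h
      have hvc' : (t' : G) = v * c₀ := hvc
      have hc₀S : c₀ ∈ (S : Subgroup G) := by
        have e1 : c₀ = v⁻¹ * (t' : G) := by rw [hvc']; group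
        rw [e1]; exact (S : Subgroup G).mul_mem ((S : Subgroup G).inv_mem (hVS hv)) t'.2
      have hc₀Z : c₀ ∈ ZS := by
        rw [hZSdef]
        apply cent_q8 w f hfi hfS c₀ hc₀S
        intro g
        exact ((Subgroup.mem_centralizer_iff.mp hc₀) (f g) (hfV g)).symm
      apply htV
      rw [hvc']; exact V.mul_mem hv (hZV _ hc₀Z)
    obtain ⟨m, hm⟩ := h2pow (t' : G) t'.2
    apply two_dvd_index D ⟨(t' : G), htN⟩ htD m
    have h5 : (⟨(t' : G), htN⟩ : ↥(Subgroup.normalizer (V : Set G))) ^ 2 ^ m = 1 :=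
      Subtype.ext (by rw [Subgroup.coe_pow]; exact hm)
    rw [h5]; exact D.one_mem
  exact two_or_six _ h6 h2

end wg
end Cfsg.Agent.Lib.Helper6.WF2
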