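import Mathlib
import Cfsg.Prelude.Def_LieExceptional
import Cfsg.Prelude.Def_Solvable
import Cfsg.Agent.Lib.Helper1.Zassenhaus
import Cfsg.Agent.S0035
import Cfsg.Agent.S0042

set_option autoImplicit false

namespace Cfsg.Agent.Lib.Helper6

open Cfsg MulAction Cfsg.Agent.Lib.Helper1
open scoped Pointwise

section ZassFrob

variable {G Ω : Type*} [Group G] [MulAction G Ω]

theorem zass_frobComp (hZ : Cfsg.IsZassenhausGroup G Ω) {a b : Ω} (hab : a ≠ b) :
    IsFrobeniusComplement ((stabilizer G b).subgroupOf (stabilizer G a)) := by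
  refine ⟨?_, ?_, ?_⟩
  · intro hbot
    obtain ⟨g, hg1, x, y, hxy, hgx, hgy⟩ := hZ.2.2.2.1
    obtain ⟨h, hha, hhb⟩ := zass_exists_map hZ hxy hab
    have hx : h⁻¹ • a = x := by rw [← hha, inv_smul_smul]
    have hy : h⁻¹ • b = y := by rw [← hhb, inv_smul_smul]
    have hea : (h * g * h⁻¹) • a = a := by
      rw [mul_smul, mul_smul, hx, hgx, hha]
    have heb : (h * g * h⁻¹) • b = b := by
      rw [mul_smul, mul_smul, hy, hgy, hhb]
    have hmem : (⟨h * g * h⁻¹, hea⟩ : stabilizer G a) ∈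
        (stabilizer G b).subgroupOf (stabilizer G a) := by
      rw [Subgroup.mem_subgroupOf]
      exact heb
    rw [hbot, Subgroup.mem_bot] at hmem
    have h1 : h * g * h⁻¹ = 1 := congrArg Subtype.val hmem
    apply hg1
    have : g = h⁻¹ * (h * g * h⁻¹) * h := by group
    rw [this, h1]; group
  · intro htop
    obtain ⟨c, hca, hcb⟩ := zass_exists_third hZ a b
    obtain ⟨g, hga, hgb⟩ := zass_exists_map hZ hab (Ne.symm hca)
    have hmem : (⟨g, hga⟩ : stabilizer G a) ∈ (stabilizer G b).subgroupOf (stabilizer G a) := by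
      rw [htop]; trivial
    rw [Subgroup.mem_subgroupOf] at hmem
    have : g • b = b := hmem
    rw [hgb] at this
    exact hcb this
  · intro g hg
    rw [eq_bot_iff]
    intro x hx
    rw [Subgroup.mem_inf] at hx
    obtain ⟨hx1, hx2⟩ := hx
    rw [Subgroup.mem_subgroupOf] at hx1 hg
    rw [Subgroup.mem_pointwise_smul_iff_inv_smul_mem, Subgroup.mem_subgroupOf] at hx2
    have hx1' : (x : G) • b = b := hx1
    have hg' : (g : G) • b ≠ b := hg
    have hx2' : ((g : G)⁻¹ * (x : G) * (g : G)) • b = b := by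
      have : ((MulAut.conj g)⁻¹ • x : stabilizer G a) = g⁻¹ * x * g := by
        simp [MulAut.smul_def]
      rw [this] at hx2
      exact hx2
    have hx3 : (x : G) • ((g : G) • b) = (g : G) • b := by
      rw [mul_smul, mul_smul, inv_smul_eq_iff] at hx2'
      exact hx2'
    have hga : (g : G) • a = a := g.2
    have hne : a ≠ (g : G) • b := by
      intro h
      have h' : (g : G) • a = (g : G) • b := hga.trans h
      exact hab (MulAction.injective _ h')
    rw [Subgroup.mem_bot]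
    apply Subtype.ext
    exact hZ.2.2.1 x a b ((g : G) • b) hab (Ne.symm hg') hne x.2 hx1' hx3

theorem zass_mem_kernel (hZ : Cfsg.IsZassenhausGroup G Ω) {a b : Ω} (hab : a ≠ b)
    (x : stabilizer G a) :
    x ∈ frobeniusKernel ((stabilizer G b).subgroupOf (stabilizer G a)) ↔
      x = 1 ∨ ∀ c, c ≠ a → (x : G) • c ≠ c := by
  have key : ∀ g : stabilizer G a, x ∈ MulAut.conj g • ((stabilizer G b).subgroupOf (stabilizer G a)) ↔
      (x : G) • ((g : G) • b) = (g : G) • b := by
    intro g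
    rw [Subgroup.mem_pointwise_smul_iff_inv_smul_mem, Subgroup.mem_subgroupOf]
    have : ((MulAut.conj g)⁻¹ • x : stabilizer G a) = g⁻¹ * x * g := by
      simp [MulAut.smul_def]
    rw [this]
    show ((g : G)⁻¹ * (x : G) * (g : G)) • b = b ↔ _
    rw [mul_smul, mul_smul, inv_smul_eq_iff]
  constructor
  · rintro (h | h)
    · left; exact h
    · right
      intro c hca hxc
      obtain ⟨g, hga, hgb⟩ := zass_exists_map hZ hab (Ne.symm hca)
      apply h ⟨g, hga⟩
      rw [key]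
      show (x : G) • (g • b) = g • b
      rw [hgb, hxc]
  · rintro (h | h)
    · left; exact h
    · right
      intro g hg
      rw [key] at hg
      refine h _ ?_ hg
      intro h'
      have hga : (g : G) • a = a := g.2
      have h'' : (g : G) • b = (g : G) • a := h'.trans hga.symm
      exact hab (MulAction.injective _ h'').symm

/-- the Frobenius kernel of a point stabilizer in a Zassenhaus group -/
structure ZKernel (a : Ω) (K : Subgroup G) : Prop where
  le : K ≤ stabilizer G a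
  normal : ∀ g ∈ stabilizer G a, ∀ k ∈ K, g * k * g⁻¹ ∈ K
  free : ∀ k ∈ K, ∀ c, c ≠ a → k • c = c → k = 1
  mem : ∀ g ∈ stabilizer G a, (∀ c, c ≠ a → g • c ≠ c) → g ∈ K
  trans : ∀ b c, b ≠ a → c ≠ a → ∃ k ∈ K, k • b = c
  nilp : Group.IsNilpotent K

theorem exists_zkernel [Finite G] (hZ : Cfsg.IsZassenhausGroup G Ω) (a : Ω) :
    ∃ K : Subgroup G, ZKernel a K := by
  obtain ⟨b, hba, -⟩ := zass_exists_third hZ a a
  have hab : a ≠ b := Ne.symm hba
  have hF := zass_frobComp hZ hab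
  obtain ⟨N, hNk, hNn, hNc⟩ := Cfsg.Agent.S0035.result _ hF
  obtain ⟨N', hN'k, -, hnil⟩ := Cfsg.Agent.S0042.result _ hF
  have hNN : N' = N := SetLike.coe_injective (hN'k.trans hNk.symm)
  subst hNN
  have hmemN : ∀ x : stabilizer G a, x ∈ N' ↔ x = 1 ∨ ∀ c, c ≠ a → (x : G) • c ≠ c := by
    intro x
    rw [← zass_mem_kernel hZ hab x, ← hNk]
    rfl
  have hfreeN : ∀ x : stabilizer G a, x ∈ N' → ∀ c, c ≠ a → (x : G) • c = c → x = 1 := by
    intro x hx c hca hxc
    rcases (hmemN x).1 hx with h | h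
    · exact h
    · exact absurd hxc (h c hca)
  -- transitivity on the orbit of b
  have htb : ∀ c, c ≠ a → ∃ k ∈ N', (k : G) • b = c := by
    intro c hca
    obtain ⟨g, hga, hgb⟩ := zass_exists_map hZ hab (Ne.symm hca)
    obtain ⟨⟨⟨k, hk⟩, ⟨δ, hδ⟩⟩, hkδ, -⟩ := hNc.existsUnique (⟨g, hga⟩ : stabilizer G a)
    refine ⟨k, hk, ?_⟩
    have hδb : (δ : G) • b = b := hδ
    have e : (k : G) * (δ : G) = g := congrArg Subtype.val hkδ
    rw [← hgb, ← e, mul_smul, hδb]
  refine ⟨N'.map (stabilizer G a).subtype, ?_, ?_, ?_, ?_, ?_, ?_⟩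
  · rintro _ ⟨x, -, rfl⟩
    exact x.2
  · rintro g hg _ ⟨k, hk, rfl⟩
    exact ⟨⟨g, hg⟩ * k * ⟨g, hg⟩⁻¹, hNn.conj_mem k hk ⟨g, hg⟩, rfl⟩
  · rintro _ ⟨k, hk, rfl⟩ c hca hkc
    rw [hfreeN k hk c hca hkc]
    rfl
  · intro g hg hfree
    exact ⟨⟨g, hg⟩, (hmemN _).2 (Or.inr hfree), rfl⟩
  · intro b' c hb' hc
    obtain ⟨k₁, hk₁, e₁⟩ := htb b' hb'
    obtain ⟨k₂, hk₂, e₂⟩ := htb c hc
    refine ⟨((k₂ * k₁⁻¹ : stabilizer G a) : G), ⟨k₂ * k₁⁻¹, N'.mul_mem hk₂ (N'.inv_mem hk₁), rfl⟩, ?_⟩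
    show ((k₂ : G) * (k₁ : G)⁻¹) • b' = c
    rw [mul_smul, ← e₁, inv_smul_smul, e₂]
  · exact Group.nilpotent_of_mulEquiv
      (N'.equivMapOfInjective (stabilizer G a).subtype (Subgroup.subtype_injective _))

theorem zass_normal_trans (hZ : Cfsg.IsZassenhausGroup G Ω) (N : Subgroup G) [N.Normal]
    (hN : N ≠ ⊥) (x y : Ω) : ∃ n ∈ N, n • x = y := by
  haveI : IsPreprimitive G Ω := isPreprimitive_of_is_two_pretransitive hZ.2.1
  have hfix : fixedPoints N Ω ≠ Set.univ := by
    intro h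
    apply hN
    rw [eq_bot_iff]
    intro n hn
    rw [Subgroup.mem_bot]
    apply hZ.1.eq_of_smul_eq_smul
    intro z
    have hz : z ∈ fixedPoints N Ω := by rw [h]; trivial
    rw [one_smul]
    exact hz ⟨n, hn⟩
  haveI := IsQuasiPreprimitive.isPretransitive_of_normal (G := G) (X := Ω) (N := N) hfix
  obtain ⟨n, hn⟩ := MulAction.exists_smul_eq N x y
  exact ⟨n.1, n.2, hn⟩

namespace ZKernel

variable {a : Ω} {K : Subgroup G}

/-- dichotomy for normal subgroups of the point stabilizer -/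
theorem le_of_not_le [Finite G] (hZ : Cfsg.IsZassenhausGroup G Ω) (hK : ZKernel a K)
    (M : Subgroup G) (hM : M ≤ stabilizer G a)
    (hMn : ∀ g ∈ stabilizer G a, ∀ m ∈ M, g * m * g⁻¹ ∈ M) (hMK : ¬ M ≤ K) : K ≤ M := by
  obtain ⟨m, hmM, hmK⟩ := SetLike.not_le_iff_exists.1 hMK
  have hma : m • a = a := hM hmM
  obtain ⟨c, hca, hmc⟩ : ∃ c, c ≠ a ∧ m • c = c := by
    by_contra hcon
    push Not at hcon
    exact hmK (hK.mem m hma hcon)
  have hm1 : m ≠ 1 := fun h => hmK (h ▸ K.one_mem)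
  have hψK : ∀ k ∈ K, k * m * k⁻¹ * m⁻¹ ∈ K := by
    intro k hk
    have h1 := hK.normal m hma k⁻¹ (K.inv_mem hk)
    have := K.mul_mem hk h1
    have e : k * (m * k⁻¹ * m⁻¹) = k * m * k⁻¹ * m⁻¹ := by group
    rwa [e] at this
  have hψM : ∀ k ∈ K, k * m * k⁻¹ * m⁻¹ ∈ M := by
    intro k hk
    exact M.mul_mem (hMn k (hK.le hk) m hmM) (M.inv_mem hmM)
  let ψ : K → K := fun k => ⟨k.1 * m * k.1⁻¹ * m⁻¹, hψK k.1 k.2⟩
  have hinj : Function.Injective ψ := by
    intro k k' hkk
    have h1 : k.1 * m * k.1⁻¹ * m⁻¹ = k'.1 * m * k'.1⁻¹ * m⁻¹ := congrArg Subtype.val hkk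
    have h2 : (k'.1⁻¹ * k.1) * m = m * (k'.1⁻¹ * k.1) := by
      have h3 : k.1 * m * k.1⁻¹ = k'.1 * m * k'.1⁻¹ := mul_right_cancel h1
      calc (k'.1⁻¹ * k.1) * m = k'.1⁻¹ * (k.1 * m * k.1⁻¹) * k.1 := by group
        _ = k'.1⁻¹ * (k'.1 * m * k'.1⁻¹) * k.1 := by rw [h3]
        _ = m * (k'.1⁻¹ * k.1) := by group
    have hjK : k'.1⁻¹ * k.1 ∈ K := K.mul_mem (K.inv_mem k'.2) k.2
    have hja : (k'.1⁻¹ * k.1) • a = a := hK.le hjK
    have hmj : m • ((k'.1⁻¹ * k.1) • c) = (k'.1⁻¹ * k.1) • c := by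
      rw [← mul_smul, ← h2, mul_smul, hmc]
    have hjc : (k'.1⁻¹ * k.1) • c = c := by
      by_contra hne
      apply hm1
      refine hZ.2.2.1 m a c ((k'.1⁻¹ * k.1) • c) (Ne.symm hca) (Ne.symm hne) ?_ hma hmc hmj
      intro h
      have h' : (k'.1⁻¹ * k.1) • a = (k'.1⁻¹ * k.1) • c := hja.trans h
      exact hca (MulAction.injective _ h').symm
    have := hK.free _ hjK c hca hjc
    apply Subtype.ext
    have e : k.1 = k'.1 * (k'.1⁻¹ * k.1) := by group
    rw [e, this, mul_one]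
  have hsurj : Function.Surjective ψ := Finite.surjective_of_injective hinj
  intro k hk
  obtain ⟨k', hk'⟩ := hsurj ⟨k, hk⟩
  have : k'.1 * m * k'.1⁻¹ * m⁻¹ = k := congrArg Subtype.val hk'
  rw [← this]
  exact hψM k'.1 k'.2

/-- factorization of the point stabilizer -/
theorem exists_factor (hK : ZKernel a K) {b : Ω} (hab : a ≠ b) (g : G) (hg : g • a = a) :
    ∃ k ∈ K, (k⁻¹ * g) • a = a ∧ (k⁻¹ * g) • b = b := by
  have hgb : g • b ≠ a := by
    intro h
    have h' : g • b = g • a := h.trans hg.symm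
    exact hab (MulAction.injective _ h').symm
  obtain ⟨k, hk, hkb⟩ := hK.trans b (g • b) (Ne.symm hab) hgb
  refine ⟨k, hk, ?_, ?_⟩
  · rw [mul_smul, hg, inv_smul_eq_iff]
    exact (hK.le hk).symm
  · rw [mul_smul, inv_smul_eq_iff]
    exact hkb.symm

/-- a nontrivial normal subgroup contains the kernel and meets the complement -/
theorem le_normal [Finite G] (hZ : Cfsg.IsZassenhausGroup G Ω) (hK : ZKernel a K)
    (N : Subgroup G) [hNn : N.Normal] (hN : N ≠ ⊥) :
    K ≤ N ∧ ¬ (N ⊓ stabilizer G a ≤ K) := by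
  have hsecond : ¬ (N ⊓ stabilizer G a ≤ K) := by
    intro hle
    have htrans := zass_normal_trans hZ N hN
    haveI : IsPretransitive N Ω := ⟨fun x y => by
      obtain ⟨n, hn, h⟩ := htrans x y
      exact ⟨⟨n, hn⟩, h⟩⟩
    -- a nontrivial element of `N` fixing `a`
    obtain ⟨n₀, hn₀N, hn₀a, hn₀1⟩ : ∃ n ∈ N, n • a = a ∧ n ≠ 1 := by
      obtain ⟨a', ha'⟩ := hZ.2.2.2.2 N hNn inferInstance
      obtain ⟨⟨⟨n, hn⟩, hns⟩, hn1⟩ := (Subgroup.ne_bot_iff_exists_ne_one).1 ha'
      have hna' : n • a' = a' := hns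
      haveI := zass_isPretransitive hZ
      obtain ⟨g, hg⟩ := MulAction.exists_smul_eq G a' a
      refine ⟨g * n * g⁻¹, hNn.conj_mem n hn g, ?_, ?_⟩
      · have : g⁻¹ • a = a' := by rw [← hg, inv_smul_smul]
        rw [mul_smul, mul_smul, this, hna', hg]
      · intro h
        apply hn1
        have : n = g⁻¹ * (g * n * g⁻¹) * g := by group
        apply Subtype.ext
        apply Subtype.ext
        show n = 1
        rw [this, h]; group
    have hF : IsFrobeniusComplement ((stabilizer G a).subgroupOf N) := by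
      refine ⟨?_, ?_, ?_⟩
      · intro hbot
        have : (⟨n₀, hn₀N⟩ : N) ∈ (stabilizer G a).subgroupOf N := by
          rw [Subgroup.mem_subgroupOf]; exact hn₀a
        rw [hbot, Subgroup.mem_bot] at this
        exact hn₀1 (congrArg Subtype.val this)
      · intro htop
        obtain ⟨b, hba, -⟩ := zass_exists_third hZ a a
        obtain ⟨n, hn, hnab⟩ := htrans a b
        have : (⟨n, hn⟩ : N) ∈ (stabilizer G a).subgroupOf N := by rw [htop]; trivial
        rw [Subgroup.mem_subgroupOf] at this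
        have h' : n • a = a := this
        rw [hnab] at h'
        exact hba h'
      · intro g hg
        rw [eq_bot_iff]
        intro x hx
        rw [Subgroup.mem_inf] at hx
        obtain ⟨hx1, hx2⟩ := hx
        rw [Subgroup.mem_subgroupOf] at hx1 hg
        rw [Subgroup.mem_pointwise_smul_iff_inv_smul_mem, Subgroup.mem_subgroupOf] at hx2
        have hx1' : (x : G) • a = a := hx1
        have hg' : (g : G) • a ≠ a := hg
        have hx2' : ((g : G)⁻¹ * (x : G) * (g : G)) • a = a := by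
          have : ((MulAut.conj g)⁻¹ • x : N) = g⁻¹ * x * g := by
            simp [MulAut.smul_def]
          rw [this] at hx2
          exact hx2
        have hx3 : (x : G) • ((g : G) • a) = (g : G) • a := by
          rw [mul_smul, mul_smul, inv_smul_eq_iff] at hx2'
          exact hx2'
        have hxK : (x : G) ∈ K := hle (Subgroup.mem_inf.2 ⟨x.2, hx1'⟩)
        rw [Subgroup.mem_bot]
        apply Subtype.ext
        exact hK.free _ hxK _ hg' hx3
    obtain ⟨R, hRk, hRn, hRc⟩ := Cfsg.Agent.S0035.result _ hF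
    have hmemR : ∀ x : N, x ∈ R ↔ x = 1 ∨ ∀ c : Ω, (x : G) • c ≠ c := by
      intro x
      have key : ∀ g : N, x ∈ MulAut.conj g • ((stabilizer G a).subgroupOf N) ↔
          (x : G) • ((g : G) • a) = (g : G) • a := by
        intro g
        rw [Subgroup.mem_pointwise_smul_iff_inv_smul_mem, Subgroup.mem_subgroupOf]
        have : ((MulAut.conj g)⁻¹ • x : N) = g⁻¹ * x * g := by
          simp [MulAut.smul_def]
        rw [this]
        show ((g : G)⁻¹ * (x : G) * (g : G)) • a = a ↔ _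
        rw [mul_smul, mul_smul, inv_smul_eq_iff]
      have : x ∈ R ↔ x ∈ frobeniusKernel ((stabilizer G a).subgroupOf N) := by
        rw [← hRk]; rfl
      rw [this]
      constructor
      · rintro (h | h)
        · left; exact h
        · right
          intro c hxc
          obtain ⟨n, hn, hnc⟩ := htrans a c
          apply h ⟨n, hn⟩
          rw [key]
          show (x : G) • (n • a) = n • a
          rw [hnc, hxc]
      · rintro (h | h)
        · left; exact h
        · right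
          intro g hg
          rw [key] at hg
          exact h _ hg
    -- the image of `R` in `G`
    have hR'n : (R.map N.subtype).Normal := by
      constructor
      rintro _ ⟨x, hx, rfl⟩ g
      have hmem : g * (x : G) * g⁻¹ ∈ N := hNn.conj_mem _ x.2 g
      refine ⟨⟨g * (x : G) * g⁻¹, hmem⟩, ?_, rfl⟩
      refine (hmemR _).2 ?_
      rcases (hmemR x).1 hx with h | h
      · left
        apply Subtype.ext
        show g * (x : G) * g⁻¹ = 1
        rw [h]; simp
      · right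
        intro c hc
        apply h (g⁻¹ • c)
        have hc' : (g * (x : G) * g⁻¹) • c = c := hc
        rw [mul_smul, mul_smul] at hc'
        exact eq_inv_smul_iff.2 hc' 
    have hR'a : ∀ c, ∃ r ∈ R.map N.subtype, r • a = c := by
      intro c
      obtain ⟨n, hn, hnc⟩ := htrans a c
      obtain ⟨⟨⟨r, hr⟩, ⟨h, hh⟩⟩, hrh, -⟩ := hRc.existsUnique (⟨n, hn⟩ : N)
      have hha : (h : G) • a = a := hh
      have e : (r : G) * (h : G) = n := congrArg Subtype.val hrh
      refine ⟨(r : G), ⟨r, hr, rfl⟩, ?_⟩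
      rw [← hnc, ← e, mul_smul, hha]
    haveI hR't : IsPretransitive (R.map N.subtype) Ω := by
      refine ⟨fun x y => ?_⟩
      obtain ⟨r₁, hr₁, e₁⟩ := hR'a x
      obtain ⟨r₂, hr₂, e₂⟩ := hR'a y
      refine ⟨⟨r₂ * r₁⁻¹, Subgroup.mul_mem _ hr₂ (Subgroup.inv_mem _ hr₁)⟩, ?_⟩
      show (r₂ * r₁⁻¹) • x = y
      rw [mul_smul, ← e₁, inv_smul_smul, e₂]
    obtain ⟨c, hc⟩ := hZ.2.2.2.2 _ hR'n hR't
    apply hc
    rw [eq_bot_iff]
    rintro ⟨_, ⟨x, hx, rfl⟩⟩ hxc
    have hxc' : (x : G) • c = c := hxc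
    rw [Subgroup.mem_bot]
    apply Subtype.ext
    rcases (hmemR x).1 hx with h | h
    · show (x : G) = 1
      rw [h]; rfl
    · exact absurd hxc' (h c)
  refine ⟨?_, hsecond⟩
  have := hK.le_of_not_le hZ (N ⊓ stabilizer G a) inf_le_right ?_ hsecond
  · exact this.trans inf_le_left
  · intro g hg m hm
    rw [Subgroup.mem_inf] at hm ⊢
    refine ⟨hNn.conj_mem m hm.1 g, ?_⟩
    exact Subgroup.mul_mem _ (Subgroup.mul_mem _ hg hm.2) (Subgroup.inv_mem _ hg)

end ZKernel

end ZassFrob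

end Cfsg.Agent.Lib.Helper6
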