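import Mathlib
import Cfsg.Prelude.Def_LieExceptional
import Cfsg.Prelude.Def_Solvable
import Cfsg.Agent.Lib.Helper6.ZassFrob

/-! Zassenhaus-type groups without the assumption on regular normal subgroups: the Frobenius kernel
of a point stabilizer. -/

set_option autoImplicit false

namespace Cfsg.Agent.Lib.Helper6

open Cfsg MulAction
open scoped Pointwise

/-- the first four Zassenhaus conditions -/
def IsWeakZass (G Ω : Type*) [Group G] [MulAction G Ω] : Prop :=
  FaithfulSMul G Ω ∧ MulAction.IsMultiplyPretransitive G Ω 2 ∧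
  (∀ g : G, ∀ a b c : Ω, a ≠ b → b ≠ c → a ≠ c → g • a = a → g • b = b → g • c = c → g = 1) ∧
  (∃ g : G, g ≠ 1 ∧ ∃ a b : Ω, a ≠ b ∧ g • a = a ∧ g • b = b) ∧ True

section WeakZass

variable {G Ω : Type*} [Group G] [MulAction G Ω]

/-- three distinct points exist in a Zassenhaus group -/
theorem wz_exists_three (hZ : IsWeakZass G Ω) :
    ∃ x y z : Ω, x ≠ y ∧ x ≠ z ∧ y ≠ z := by
  obtain ⟨hf, h2, h3, ⟨g, hg1, x, y, hxy, hgx, hgy⟩, hreg⟩ := hZ
  have : ∃ z : Ω, g • z ≠ z := by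
    by_contra hcon
    push Not at hcon
    apply hg1
    apply hf.eq_of_smul_eq_smul
    intro z
    rw [hcon z, one_smul]
  obtain ⟨z, hz⟩ := this
  refine ⟨x, y, z, hxy, ?_, ?_⟩
  · rintro rfl
    exact hz hgx
  · rintro rfl
    exact hz hgy

theorem wz_exists_third (hZ : IsWeakZass G Ω) (a b : Ω) :
    ∃ c : Ω, c ≠ a ∧ c ≠ b := by
  obtain ⟨x, y, z, hxy, hxz, hyz⟩ := wz_exists_three hZ
  by_cases h1 : x ≠ a ∧ x ≠ b
  · exact ⟨x, h1⟩
  by_cases h2 : y ≠ a ∧ y ≠ b
  · exact ⟨y, h2⟩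
  refine ⟨z, ?_, ?_⟩
  · rintro rfl
    rw [not_and_or, not_not, not_not] at h1 h2
    rcases h1 with h1 | h1
    · exact hxz h1
    · rcases h2 with h2 | h2
      · exact hyz h2
      · exact hxy (h1.trans h2.symm)
  · rintro rfl
    rw [not_and_or, not_not, not_not] at h1 h2
    rcases h1 with h1 | h1
    · rcases h2 with h2 | h2
      · exact hxy (h1.trans h2.symm)
      · exact hyz h2
    · exact hxz h1

theorem wz_exists_map (hZ : IsWeakZass G Ω) {a b c d : Ω} (hab : a ≠ b)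
    (hcd : c ≠ d) : ∃ g : G, g • a = c ∧ g • b = d :=
  (is_two_pretransitive_iff.1 hZ.2.1) hab hcd

theorem wz_frobComp (hZ : IsWeakZass G Ω) {a b : Ω} (hab : a ≠ b) :
    IsFrobeniusComplement ((stabilizer G b).subgroupOf (stabilizer G a)) := by
  refine ⟨?_, ?_, ?_⟩
  · intro hbot
    obtain ⟨g, hg1, x, y, hxy, hgx, hgy⟩ := hZ.2.2.2.1
    obtain ⟨h, hha, hhb⟩ := wz_exists_map hZ hxy hab
    have hx : h⁻¹ • a = x := by rw [← hha, inv_smul_smul]
    have hy : h⁻¹ • b = y := by rw [← hhb, inv_smul_smul]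
    have hea : (h * g * h⁻¹) • a = a := by
      rw [mul_smul, mul_smul, hx, hgx, hha]
    have heb : (h * g * h⁻¹) • b = b := by
      rw [mul_smul, mul_smul, hy, hgy, hhb]
    have hmem : (⟨h * g * h⁻¹, hea⟩ : stabilizer G a) ∈
        (stabilizer G b).subgroupOf (stabilizer G a) := by
      rw [Subgroup.mem_subgroupOf]
      exact heb
    rw [hbot, Subgroup.mem_bot] at hmem
    have h1 : h * g * h⁻¹ = 1 := congrArg Subtype.val hmem
    apply hg1
    have : g = h⁻¹ * (h * g * h⁻¹) * h := by group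
    rw [this, h1]; group
  · intro htop
    obtain ⟨c, hca, hcb⟩ := wz_exists_third hZ a b
    obtain ⟨g, hga, hgb⟩ := wz_exists_map hZ hab (Ne.symm hca)
    have hmem : (⟨g, hga⟩ : stabilizer G a) ∈ (stabilizer G b).subgroupOf (stabilizer G a) := by
      rw [htop]; trivial
    rw [Subgroup.mem_subgroupOf] at hmem
    have : g • b = b := hmem
    rw [hgb] at this
    exact hcb this
  · intro g hg
    rw [eq_bot_iff]
    intro x hx
    rw [Subgroup.mem_inf] at hx
    obtain ⟨hx1, hx2⟩ := hx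
    rw [Subgroup.mem_subgroupOf] at hx1 hg
    rw [Subgroup.mem_pointwise_smul_iff_inv_smul_mem, Subgroup.mem_subgroupOf] at hx2
    have hx1' : (x : G) • b = b := hx1
    have hg' : (g : G) • b ≠ b := hg
    have hx2' : ((g : G)⁻¹ * (x : G) * (g : G)) • b = b := by
      have : ((MulAut.conj g)⁻¹ • x : stabilizer G a) = g⁻¹ * x * g := by
        simp [MulAut.smul_def]
      rw [this] at hx2
      exact hx2
    have hx3 : (x : G) • ((g : G) • b) = (g : G) • b := by
      rw [mul_smul, mul_smul, inv_smul_eq_iff] at hx2'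
      exact hx2'
    have hga : (g : G) • a = a := g.2
    have hne : a ≠ (g : G) • b := by
      intro h
      have h' : (g : G) • a = (g : G) • b := hga.trans h
      exact hab (MulAction.injective _ h')
    rw [Subgroup.mem_bot]
    apply Subtype.ext
    exact hZ.2.2.1 x a b ((g : G) • b) hab (Ne.symm hg') hne x.2 hx1' hx3

theorem wz_mem_kernel (hZ : IsWeakZass G Ω) {a b : Ω} (hab : a ≠ b)
    (x : stabilizer G a) :
    x ∈ frobeniusKernel ((stabilizer G b).subgroupOf (stabilizer G a)) ↔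
      x = 1 ∨ ∀ c, c ≠ a → (x : G) • c ≠ c := by
  have key : ∀ g : stabilizer G a, x ∈ MulAut.conj g • ((stabilizer G b).subgroupOf (stabilizer G a)) ↔
      (x : G) • ((g : G) • b) = (g : G) • b := by
    intro g
    rw [Subgroup.mem_pointwise_smul_iff_inv_smul_mem, Subgroup.mem_subgroupOf]
    have : ((MulAut.conj g)⁻¹ • x : stabilizer G a) = g⁻¹ * x * g := by
      simp [MulAut.smul_def]
    rw [this]
    show ((g : G)⁻¹ * (x : G) * (g : G)) • b = b ↔ _
    rw [mul_smul, mul_smul, inv_smul_eq_iff]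
  constructor
  · rintro (h | h)
    · left; exact h
    · right
      intro c hca hxc
      obtain ⟨g, hga, hgb⟩ := wz_exists_map hZ hab (Ne.symm hca)
      apply h ⟨g, hga⟩
      rw [key]
      show (x : G) • (g • b) = g • b
      rw [hgb, hxc]
  · rintro (h | h)
    · left; exact h
    · right
      intro g hg
      rw [key] at hg
      refine h _ ?_ hg
      intro h'
      have hga : (g : G) • a = a := g.2
      have h'' : (g : G) • b = (g : G) • a := h'.trans hga.symm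
      exact hab (MulAction.injective _ h'').symm

theorem wz_exists_zkernel [Finite G] (hZ : IsWeakZass G Ω) (a : Ω) :
    ∃ K : Subgroup G, ZKernel a K := by
  obtain ⟨b, hba, -⟩ := wz_exists_third hZ a a
  have hab : a ≠ b := Ne.symm hba
  have hF := wz_frobComp hZ hab
  obtain ⟨N, hNk, hNn, hNc⟩ := Cfsg.Agent.S0035.result _ hF
  obtain ⟨N', hN'k, -, hnil⟩ := Cfsg.Agent.S0042.result _ hF
  have hNN : N' = N := SetLike.coe_injective (hN'k.trans hNk.symm)
  subst hNN
  have hmemN : ∀ x : stabilizer G a, x ∈ N' ↔ x = 1 ∨ ∀ c, c ≠ a → (x : G) • c ≠ c := by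
    intro x
    rw [← wz_mem_kernel hZ hab x, ← hNk]
    rfl
  have hfreeN : ∀ x : stabilizer G a, x ∈ N' → ∀ c, c ≠ a → (x : G) • c = c → x = 1 := by
    intro x hx c hca hxc
    rcases (hmemN x).1 hx with h | h
    · exact h
    · exact absurd hxc (h c hca)
  -- transitivity on the orbit of b
  have htb : ∀ c, c ≠ a → ∃ k ∈ N', (k : G) • b = c := by
    intro c hca
    obtain ⟨g, hga, hgb⟩ := wz_exists_map hZ hab (Ne.symm hca)
    obtain ⟨⟨⟨k, hk⟩, ⟨δ, hδ⟩⟩, hkδ, -⟩ := hNc.existsUnique (⟨g, hga⟩ : stabilizer G a)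
    refine ⟨k, hk, ?_⟩
    have hδb : (δ : G) • b = b := hδ
    have e : (k : G) * (δ : G) = g := congrArg Subtype.val hkδ
    rw [← hgb, ← e, mul_smul, hδb]
  refine ⟨N'.map (stabilizer G a).subtype, ?_, ?_, ?_, ?_, ?_, ?_⟩
  · rintro _ ⟨x, -, rfl⟩
    exact x.2
  · rintro g hg _ ⟨k, hk, rfl⟩
    exact ⟨⟨g, hg⟩ * k * ⟨g, hg⟩⁻¹, hNn.conj_mem k hk ⟨g, hg⟩, rfl⟩
  · rintro _ ⟨k, hk, rfl⟩ c hca hkc
    rw [hfreeN k hk c hca hkc]
    rfl
  · intro g hg hfree
    exact ⟨⟨g, hg⟩, (hmemN _).2 (Or.inr hfree), rfl⟩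
  · intro b' c hb' hc
    obtain ⟨k₁, hk₁, e₁⟩ := htb b' hb'
    obtain ⟨k₂, hk₂, e₂⟩ := htb c hc
    refine ⟨((k₂ * k₁⁻¹ : stabilizer G a) : G), ⟨k₂ * k₁⁻¹, N'.mul_mem hk₂ (N'.inv_mem hk₁), rfl⟩, ?_⟩
    show ((k₂ : G) * (k₁ : G)⁻¹) • b' = c
    rw [mul_smul, ← e₁, inv_smul_smul, e₂]
  · exact Group.nilpotent_of_mulEquiv
      (N'.equivMapOfInjective (stabilizer G a).subtype (Subgroup.subtype_injective _))

end WeakZass

end Cfsg.Agent.Lib.Helper6
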