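import Mathlib
import Cfsg.Prelude.Def_Involutions
import Cfsg.Agent.Lib.Helper6.SE
import Cfsg.Agent.S1226
import Cfsg.Agent.S1225

set_option autoImplicit false

namespace Cfsg.Agent.Lib.Helper6

open Cfsg Cfsg.Agent.Lib.Helper1

/-- the normalizer of a Sylow `2`-subgroup -/
abbrev NT {G : Type*} [Group G] (T : Sylow 2 G) : Subgroup G :=
  Subgroup.normalizer ((T : Subgroup G) : Set G)

/-- the two point stabilizer -/
abbrev DT {G : Type*} [Group G] (T : Sylow 2 G) (u : G) : Subgroup G :=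
  NT T ⊓ (NT T).map (MulAut.conj u).toMonoidHom

/-- hypotheses of the Brauer-Suzuki-Wall situation -/
structure ZHyp {G : Type*} [Group G] (T : Sylow 2 G) : Prop where
  hnc : ¬ IsCyclic (T : Subgroup G)
  hnn : ¬ (T : Subgroup G).Normal
  hC : ∀ t : G, orderOf t = 2 → IsMulCommutative (Subgroup.centralizer ({t} : Set G)) ∧
    ∀ c ∈ Subgroup.centralizer ({t} : Set G), c ^ 2 = 1

namespace ZHyp

variable {G : Type*} [Group G] [Finite G] {T : Sylow 2 G}

theorem se (h : ZHyp T) : IsStronglyEmbedded (NT T) :=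
  Cfsg.Agent.S1226.result T h.hnc h.hnn h.hC

theorem cent_isPGroup (h : ZHyp T) (t : G) (ht : orderOf t = 2) :
    IsPGroup 2 (Subgroup.centralizer ({t} : Set G)) := by
  intro c
  refine ⟨1, ?_⟩
  apply Subtype.ext
  have := (h.hC t ht).2 c.1 c.2
  simpa using this

theorem T_nontrivial (h : ZHyp T) : Nontrivial (T : Subgroup G) := by
  by_contra h2
  rw [not_nontrivial_iff_subsingleton] at h2
  exact h.hnc inferInstance

/-- a central involution of `T` -/
theorem exists_central_inv (h : ZHyp T) :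
    ∃ z ∈ (T : Subgroup G), orderOf z = 2 ∧ ∀ t ∈ (T : Subgroup G), t * z = z * t := by
  haveI : Fact (Nat.Prime 2) := ⟨Nat.prime_two⟩
  haveI := h.T_nontrivial
  have hTp : IsPGroup 2 (T : Subgroup G) := T.2
  have hcnt : Nontrivial (Subgroup.center (T : Subgroup G)) := hTp.center_nontrivial
  have hcp : IsPGroup 2 (Subgroup.center (T : Subgroup G)) := hTp.to_subgroup _
  have h2dvd : 2 ∣ Nat.card (Subgroup.center (T : Subgroup G)) := by
    rcases hcp.card_eq_or_dvd with h3 | h3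
    · exfalso
      have := Finite.one_lt_card_iff_nontrivial.mpr hcnt
      omega
    · exact h3
  obtain ⟨z', hz'⟩ := exists_prime_orderOf_dvd_card' 2 h2dvd
  refine ⟨((z' : (T : Subgroup G)) : G), (z' : (T : Subgroup G)).2, ?_, ?_⟩
  · rw [Subgroup.orderOf_coe, Subgroup.orderOf_coe]; exact hz'
  · intro t ht
    have := Subgroup.mem_center_iff.mp z'.2 ⟨t, ht⟩
    exact congrArg Subtype.val this

theorem T_sq (h : ZHyp T) (a : G) (ha : a ∈ (T : Subgroup G)) : a ^ 2 = 1 := by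
  obtain ⟨z, -, hz, hzc⟩ := h.exists_central_inv
  exact (h.hC z hz).2 a (Subgroup.mem_centralizer_singleton_iff.2 (hzc a ha))

theorem T_comm (h : ZHyp T) (a b : G) (ha : a ∈ (T : Subgroup G)) (hb : b ∈ (T : Subgroup G)) :
    a * b = b * a := by
  obtain ⟨z, -, hz, hzc⟩ := h.exists_central_inv
  have hcomm := (h.hC z hz).1
  have := hcomm.is_comm.comm
    (⟨a, Subgroup.mem_centralizer_singleton_iff.2 (hzc a ha)⟩ :
      Subgroup.centralizer ({z} : Set G))
    ⟨b, Subgroup.mem_centralizer_singleton_iff.2 (hzc b hb)⟩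
  exact congrArg Subtype.val this

theorem cent_eq (h : ZHyp T) (t : G) (htT : t ∈ (T : Subgroup G)) (ht : orderOf t = 2) :
    Subgroup.centralizer ({t} : Set G) = (T : Subgroup G) := by
  apply T.is_maximal' (h.cent_isPGroup t ht)
  intro a ha
  exact Subgroup.mem_centralizer_singleton_iff.2 (h.T_comm a t ha htT)

theorem orderOf_of_mem (h : ZHyp T) (t : G) (htT : t ∈ (T : Subgroup G)) (ht1 : t ≠ 1) :
    orderOf t = 2 := orderOf_eq_prime (h.T_sq t htT) ht1

theorem inv_mem_T (_h : ZHyp T) (t : G) (ht : orderOf t = 2) (htH : t ∈ NT T) :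
    t ∈ (T : Subgroup G) := Cfsg.Agent.S1226.invol_mem_of_mem_normalizer T t ht htH

theorem T_le (_h : ZHyp T) : (T : Subgroup G) ≤ NT T := Subgroup.le_normalizer

/-- the involutions of `N(T)` are the nontrivial elements of `T` -/
theorem card_inv (h : ZHyp T) :
    Nat.card {t : G // orderOf t = 2 ∧ t ∈ NT T} = Nat.card (T : Subgroup G) - 1 := by
  have e : Nat.card {t : G // orderOf t = 2 ∧ t ∈ NT T} =
      Nat.card ↥(((T : Subgroup G) : Set G) \ {1}) := by
    apply Nat.card_congr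
    refine Equiv.subtypeEquivRight ?_
    intro t
    constructor
    · rintro ⟨ht, htH⟩
      refine ⟨h.inv_mem_T t ht htH, ?_⟩
      intro h1
      rw [Set.mem_singleton_iff] at h1
      rw [h1, orderOf_one] at ht
      omega
    · rintro ⟨htT, ht1⟩
      exact ⟨h.orderOf_of_mem t htT ht1, h.T_le htT⟩
  rw [e, Nat.card_coe_set_eq, Set.ncard_sdiff_singleton_of_mem (Subgroup.one_mem _),
    ← Nat.card_coe_set_eq]
  rfl

theorem two_lt_card (h : ZHyp T) : 2 < Nat.card (T : Subgroup G) := by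
  haveI : Fact (Nat.Prime 2) := ⟨Nat.prime_two⟩
  obtain ⟨k, hk⟩ := (IsPGroup.iff_card.1 T.2)
  by_contra hle
  push Not at hle
  apply h.hnc
  rcases Nat.lt_or_ge k 2 with h2 | h2
  · have hk' : k = 0 ∨ k = 1 := by omega
    rcases hk' with rfl | rfl
    · rw [pow_zero] at hk
      haveI : Subsingleton (T : Subgroup G) := (Nat.card_eq_one_iff_unique.1 hk).1
      infer_instance
    · rw [pow_one] at hk
      exact isCyclic_of_prime_card hk
  · exfalso
    have : 2 ^ 2 ≤ 2 ^ k := Nat.pow_le_pow_right (by norm_num) h2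
    omega

section D

variable (h : ZHyp T) (u : G) (hu : orderOf u = 2) (huH : u ∉ NT T)

include h hu huH

omit hu in
theorem D_odd : Odd (Nat.card (DT T u)) := h.se.2.2 u huH

theorem D_inter_T (d : G) (hd : d ∈ DT T u) (hdT : d ∈ (T : Subgroup G)) : d = 1 := by
  have h2 := h.T_sq d hdT
  have h3 := orderOf_dvd_of_pow_eq_one h2
  have h4 := Subgroup.orderOf_dvd_natCard _ hd
  have hodd := h.D_odd u huH
  have h5 : orderOf d = 1 := by
    rcases (Nat.dvd_prime Nat.prime_two).1 h3 with h6 | h6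
    · exact h6
    · exfalso
      rw [h6] at h4
      exact (Nat.not_even_iff_odd.2 hodd) (even_iff_two_dvd.2 h4)
  exact orderOf_eq_one_iff.1 h5

theorem D_free (d : G) (hd : d ∈ DT T u) (t : G) (htT : t ∈ (T : Subgroup G)) (ht1 : t ≠ 1)
    (hdt : d * t * d⁻¹ = t) : d = 1 := by
  apply h.D_inter_T u hu huH d hd
  rw [← h.cent_eq t htT (h.orderOf_of_mem t htT ht1), Subgroup.mem_centralizer_singleton_iff]
  calc d * t = (d * t * d⁻¹) * d := by group
    _ = t * d := by rw [hdt]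

theorem D_trans (s t : G) (hsT : s ∈ (T : Subgroup G)) (hs1 : s ≠ 1) (htT : t ∈ (T : Subgroup G))
    (ht1 : t ≠ 1) : ∃ d ∈ DT T u, d * s * d⁻¹ = t :=
  (Cfsg.Agent.S1225.result (NT T) h.se u hu huH s t (h.orderOf_of_mem s hsT hs1) (h.T_le hsT)
    (h.orderOf_of_mem t htT ht1) (h.T_le htT)).1

omit h hu huH in
theorem conj_mem_T' (d : G) (hd : d ∈ NT T) (t : G) (htT : t ∈ (T : Subgroup G)) :
    d * t * d⁻¹ ∈ (T : Subgroup G) :=
  (Subgroup.mem_normalizer_iff.1 hd t).1 htT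

theorem card_D : Nat.card (DT T u) = Nat.card (T : Subgroup G) - 1 := by
  obtain ⟨z, hzT, hz, -⟩ := h.exists_central_inv
  have hz1 : z ≠ 1 := by
    intro h1; rw [h1, orderOf_one] at hz; omega
  have e : Nat.card (DT T u) = Nat.card ↥(((T : Subgroup G) : Set G) \ {1}) := by
    apply Nat.card_congr
    refine Equiv.ofBijective (fun d => ⟨d.1 * z * d.1⁻¹, ?_, ?_⟩) ⟨?_, ?_⟩
    · exact conj_mem_T' d.1 (Subgroup.mem_inf.1 d.2).1 z hzT
    · intro h1
      rw [Set.mem_singleton_iff] at h1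
      apply hz1
      have : z = d.1⁻¹ * (d.1 * z * d.1⁻¹) * d.1 := by group
      rw [this, h1]; group
    · intro d₁ d₂ h12
      have h3 : d₁.1 * z * d₁.1⁻¹ = d₂.1 * z * d₂.1⁻¹ := congrArg Subtype.val h12
      have h4 : (d₂.1⁻¹ * d₁.1) * z * (d₂.1⁻¹ * d₁.1)⁻¹ = z := by
        have : (d₂.1⁻¹ * d₁.1) * z * (d₂.1⁻¹ * d₁.1)⁻¹ =
            d₂.1⁻¹ * (d₁.1 * z * d₁.1⁻¹) * d₂.1 := by group
        rw [this, h3]; group
      have h5 := h.D_free u hu huH _ ((DT T u).mul_mem ((DT T u).inv_mem d₂.2) d₁.2) z hzT hz1 h4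
      apply Subtype.ext
      have : d₁.1 = d₂.1 * (d₂.1⁻¹ * d₁.1) := by group
      rw [this, h5, mul_one]
    · rintro ⟨t, htT, ht1⟩
      rw [Set.mem_singleton_iff] at ht1
      obtain ⟨d, hd, hdz⟩ := h.D_trans u hu huH z t hzT hz1 htT ht1
      exact ⟨⟨d, hd⟩, Subtype.ext hdz⟩
  rw [e, Nat.card_coe_set_eq, Set.ncard_sdiff_singleton_of_mem (Subgroup.one_mem _),
    ← Nat.card_coe_set_eq]
  rfl

/-- every element of `N(T)` is a product of an element of `D` and an element of `T` -/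
theorem exists_mul (x : G) (hx : x ∈ NT T) :
    ∃ d ∈ DT T u, ∃ t ∈ (T : Subgroup G), d * t = x := by
  obtain ⟨z, hzT, hz, -⟩ := h.exists_central_inv
  have hz1 : z ≠ 1 := by
    intro h1; rw [h1, orderOf_one] at hz; omega
  have h1 : x * z * x⁻¹ ∈ (T : Subgroup G) := conj_mem_T' x hx z hzT
  have h2 : x * z * x⁻¹ ≠ 1 := by
    intro h3
    apply hz1
    have : z = x⁻¹ * (x * z * x⁻¹) * x := by group
    rw [this, h3]; group
  obtain ⟨d, hd, hdz⟩ := h.D_trans u hu huH z _ hzT hz1 h1 h2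
  refine ⟨d, hd, d⁻¹ * x, ?_, by group⟩
  rw [← h.cent_eq z hzT hz, Subgroup.mem_centralizer_singleton_iff]
  have : d⁻¹ * x * z = d⁻¹ * (x * z * x⁻¹) * x := by group
  rw [this, ← hdz]; group

theorem complement : Subgroup.IsComplement' ((DT T u).subgroupOf (NT T))
    ((T : Subgroup G).subgroupOf (NT T)) := by
  apply Subgroup.isComplement'_of_disjoint_and_mul_eq_univ
  · rw [Subgroup.disjoint_def]
    intro x hx1 hx2
    rw [Subgroup.mem_subgroupOf] at hx1 hx2
    apply Subtype.ext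
    exact h.D_inter_T u hu huH x.1 hx1 hx2
  · rw [Set.eq_univ_iff_forall]
    intro x
    obtain ⟨d, hd, t, ht, hdt⟩ := h.exists_mul u hu huH x.1 x.2
    refine ⟨⟨d, (Subgroup.mem_inf.1 hd).1⟩, ?_, ⟨t, h.T_le ht⟩, ?_, ?_⟩
    · exact Subgroup.mem_subgroupOf.2 hd
    · exact Subgroup.mem_subgroupOf.2 ht
    · exact Subtype.ext hdt

theorem card_NT : Nat.card (NT T) = Nat.card (T : Subgroup G) * (Nat.card (T : Subgroup G) - 1) := by
  have h1 := (h.complement u hu huH).card_mul_card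
  rw [Nat.card_congr (Subgroup.subgroupOfEquivOfLe (inf_le_left : DT T u ≤ NT T)).toEquiv,
    Nat.card_congr (Subgroup.subgroupOfEquivOfLe h.T_le).toEquiv, h.card_D u hu huH] at h1
  rw [← h1, mul_comm]

/-- `u` inverts `D` -/
theorem inverts (d : G) (hd : d ∈ DT T u) : u * d * u⁻¹ = d⁻¹ := by
  have hu2 := sq_of_orderOf_two u hu
  have hui := Cfsg.Agent.S1922.inv_eq_self_of_sq u hu2
  -- the map from involutions in `u H` to `D`
  have e0 : u⁻¹ * u⁻¹ = 1 := by rw [hui, ← pow_two, hu2]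
  have hmem : ∀ s : {s : G // orderOf s = 2 ∧ u⁻¹ * s ∈ NT T}, u⁻¹ * s.1 ∈ DT T u := by
    rintro ⟨s, hso, hsH⟩
    refine Subgroup.mem_inf.2 ⟨hsH, ?_⟩
    rw [mem_map_conj_iff]
    have hsi := Cfsg.Agent.S1922.inv_eq_self_of_sq s (sq_of_orderOf_two s hso)
    have e : u⁻¹ * (u⁻¹ * s) * u = (u⁻¹ * s)⁻¹ := by
      calc u⁻¹ * (u⁻¹ * s) * u = (u⁻¹ * u⁻¹) * s * u := by group
        _ = s * u := by rw [e0, one_mul]
        _ = (u⁻¹ * s)⁻¹ := by rw [mul_inv_rev, inv_inv, hsi]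
    rw [e]
    exact (NT T).inv_mem hsH
  have hinj : Function.Injective
      (fun s : {s : G // orderOf s = 2 ∧ u⁻¹ * s ∈ NT T} => (⟨u⁻¹ * s.1, hmem s⟩ : DT T u)) := by
    intro s₁ s₂ h12
    have := congrArg Subtype.val h12
    exact Subtype.ext (mul_left_cancel this)
  have hcard : Nat.card (DT T u) ≤ Nat.card {s : G // orderOf s = 2 ∧ u⁻¹ * s ∈ NT T} := by
    rw [se_card_swap h.se u huH, h.card_D u hu huH]
    have e3 : Nat.card {b : G // orderOf b = 2 ∧ u⁻¹ * b * u ∈ NT T} =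
        Nat.card {t : G // orderOf t = 2 ∧ t ∈ NT T} := by
      apply Nat.card_congr
      refine Equiv.subtypeEquiv (MulAut.conj u⁻¹).toEquiv ?_
      intro b
      have h1 : (MulAut.conj u⁻¹).toEquiv b = u⁻¹ * b * u := by
        show u⁻¹ * b * u⁻¹⁻¹ = _
        rw [inv_inv]
      rw [h1]
      have h2 : orderOf (u⁻¹ * b * u) = orderOf b := by
        have := orderOf_conj u⁻¹ b
        rw [inv_inv] at this
        exact this
      rw [h2]
    rw [e3, h.card_inv]
  obtain ⟨⟨s, hso, hsH⟩, hs⟩ := (hinj.bijective_of_nat_card_le hcard).2 ⟨d, hd⟩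
  have hds : d = u⁻¹ * s := (congrArg Subtype.val hs).symm
  have hsi := Cfsg.Agent.S1922.inv_eq_self_of_sq s (sq_of_orderOf_two s hso)
  rw [hds]
  calc u * (u⁻¹ * s) * u⁻¹ = s * u⁻¹ := by group
    _ = s * u := by rw [hui]
    _ = (u⁻¹ * s)⁻¹ := by rw [mul_inv_rev, inv_inv, hsi]

end D

end ZHyp

end Cfsg.Agent.Lib.Helper6
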