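import Mathlib
import Cfsg.Agent.Lib.Helper6.Zass

set_option autoImplicit false

namespace Cfsg.Agent.Lib.Helper6

open Cfsg Cfsg.Agent.Lib.Helper1

namespace ZHyp

variable {G : Type*} [Group G] [Finite G] {T : Sylow 2 G}

/-- every coset other than `H` contains an involution -/
theorem exists_inv_swap (h : ZHyp T) (g : G) (hg : g ∉ NT T) :
    ∃ v : G, orderOf v = 2 ∧ g⁻¹ * v ∈ NT T := by
  have h1 := se_card_swap h.se g hg
  have e3 : Nat.card {b : G // orderOf b = 2 ∧ g⁻¹ * b * g ∈ NT T} =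
      Nat.card {t : G // orderOf t = 2 ∧ t ∈ NT T} := by
    apply Nat.card_congr
    refine Equiv.subtypeEquiv (MulAut.conj g⁻¹).toEquiv ?_
    intro b
    have h1 : (MulAut.conj g⁻¹).toEquiv b = g⁻¹ * b * g := by
      show g⁻¹ * b * g⁻¹⁻¹ = _
      rw [inv_inv]
    rw [h1]
    have h2 : orderOf (g⁻¹ * b * g) = orderOf b := by
      have := orderOf_conj g⁻¹ b
      rw [inv_inv] at this
      exact this
    rw [h2]
  rw [e3, h.card_inv] at h1
  have h2 := h.two_lt_card
  have h3 : 0 < Nat.card {s : G // orderOf s = 2 ∧ g⁻¹ * s ∈ NT T} := by omega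
  obtain ⟨⟨v, hv1, hv2⟩⟩ := (Nat.card_pos_iff.1 h3).1
  exact ⟨v, hv1, hv2⟩

section D

variable (h : ZHyp T) (u : G) (hu : orderOf u = 2) (huH : u ∉ NT T)

include h hu huH

theorem exists_ne_one : ∃ d ∈ DT T u, d ≠ 1 := by
  have h1 := h.card_D u hu huH
  have h2 := h.two_lt_card
  have h3 : 1 < Nat.card (DT T u) := by omega
  haveI : Nontrivial (DT T u) := Finite.one_lt_card_iff_nontrivial.1 h3
  obtain ⟨d, hd⟩ := exists_ne (1 : DT T u)
  refine ⟨d.1, d.2, ?_⟩
  intro h4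
  exact hd (Subtype.ext h4)

/-- the normalizer of `D` inside `N(T)` is `D` -/
theorem norm_H_eq (x : G) (hx : x ∈ NT T) (hxD : ∀ d ∈ DT T u, x * d * x⁻¹ ∈ DT T u) :
    x ∈ DT T u := by
  obtain ⟨d₀, hd₀, t₀, ht₀, hx0⟩ := h.exists_mul u hu huH x hx
  by_cases ht1 : t₀ = 1
  · rw [← hx0, ht1, mul_one]; exact hd₀
  · exfalso
    obtain ⟨d, hd, hd1⟩ := h.exists_ne_one u hu huH
    have ht₀D : ∀ d ∈ DT T u, t₀ * d * t₀⁻¹ ∈ DT T u := by
      intro d hd
      have h1 := hxD d hd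
      have h2 := (DT T u).mul_mem ((DT T u).mul_mem ((DT T u).inv_mem hd₀) h1) hd₀
      have e : d₀⁻¹ * (x * d * x⁻¹) * d₀ = t₀ * d * t₀⁻¹ := by rw [← hx0]; group
      rw [e] at h2
      exact h2
    -- the commutator lies in `D ∩ T`
    have h3 : t₀ * d * t₀⁻¹ * d⁻¹ ∈ DT T u := (DT T u).mul_mem (ht₀D d hd) ((DT T u).inv_mem hd)
    have h4 : t₀ * d * t₀⁻¹ * d⁻¹ ∈ (T : Subgroup G) := by
      have h5 : d * t₀⁻¹ * d⁻¹ ∈ (T : Subgroup G) :=
        conj_mem_T' d (Subgroup.mem_inf.1 hd).1 _ ((T : Subgroup G).inv_mem ht₀)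
      have := (T : Subgroup G).mul_mem ht₀ h5
      have e : t₀ * (d * t₀⁻¹ * d⁻¹) = t₀ * d * t₀⁻¹ * d⁻¹ := by group
      rw [e] at this
      exact this
    have h6 := h.D_inter_T u hu huH _ h3 h4
    -- so `d` commutes with `t₀`
    have h7 : d⁻¹ * t₀ * d⁻¹⁻¹ = t₀ := by
      rw [inv_inv]
      have : t₀ * d * t₀⁻¹ = d := by
        have := mul_eq_one_iff_eq_inv.1 h6
        rw [inv_inv] at this
        exact this
      calc d⁻¹ * t₀ * d = d⁻¹ * (t₀ * d * t₀⁻¹) * t₀ := by group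
        _ = t₀ := by rw [this]; group
    have h8 := h.D_free u hu huH d⁻¹ ((DT T u).inv_mem hd) t₀ ht₀ ht1 h7
    exact hd1 (inv_eq_one.1 h8)

/-- an element of `N(T)` inverting `D` cannot exist -/
theorem no_inverter_in_H (y : G) (hy : y ∈ NT T) (hyD : ∀ d ∈ DT T u, y * d * y⁻¹ = d⁻¹) :
    False := by
  have hyD' : y ∈ DT T u := by
    apply h.norm_H_eq u hu huH y hy
    intro d hd
    rw [hyD d hd]; exact (DT T u).inv_mem hd
  have hodd := h.D_odd u huH
  have hno2 : ∀ d ∈ DT T u, d ^ 2 = 1 → d = 1 := by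
    intro d hd hd2
    have h3 := orderOf_dvd_of_pow_eq_one hd2
    have h4 := Subgroup.orderOf_dvd_natCard _ hd
    have h5 : orderOf d = 1 := by
      rcases (Nat.dvd_prime Nat.prime_two).1 h3 with h6 | h6
      · exact h6
      · exfalso
        rw [h6] at h4
        exact (Nat.not_even_iff_odd.2 hodd) (even_iff_two_dvd.2 h4)
    exact orderOf_eq_one_iff.1 h5
  have hy1 : y = 1 := by
    apply hno2 y hyD'
    have := hyD y hyD'
    rw [mul_inv_cancel_right] at this
    rw [pow_two]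
    nth_rewrite 2 [this]
    exact mul_inv_cancel y
  obtain ⟨d, hd, hd1⟩ := h.exists_ne_one u hu huH
  apply hd1
  apply hno2 d hd
  have := hyD d hd
  rw [hy1, one_mul, inv_one, mul_one] at this
  rw [pow_two]
  nth_rewrite 2 [this]
  exact mul_inv_cancel d

/-- if `D` fixes the coset `g H ≠ H`, some involution of `g H` inverts `D` -/
theorem fix_inverts (g : G) (hg : g ∉ NT T) (hfix : ∀ d ∈ DT T u, g⁻¹ * d * g ∈ NT T) :
    ∃ v : G, orderOf v = 2 ∧ g⁻¹ * v ∈ NT T ∧ ∀ d ∈ DT T u, v * d * v⁻¹ = d⁻¹ := by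
  obtain ⟨v, hv, hgv⟩ := h.exists_inv_swap g hg
  have hvH : v ∉ NT T := by
    intro hvH
    apply hg
    have := (NT T).mul_mem hvH ((NT T).inv_mem hgv)
    have e : v * (g⁻¹ * v)⁻¹ = g := by group
    rw [e] at this
    exact this
  have hle : DT T u ≤ DT T v := by
    intro d hd
    refine Subgroup.mem_inf.2 ⟨(Subgroup.mem_inf.1 hd).1, ?_⟩
    rw [mem_map_conj_iff]
    have h1 := hfix d hd
    have := (NT T).mul_mem ((NT T).mul_mem ((NT T).inv_mem hgv) h1) hgv
    have e : (g⁻¹ * v)⁻¹ * (g⁻¹ * d * g) * (g⁻¹ * v) = v⁻¹ * d * v := by group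
    rw [e] at this
    exact this
  have heq : DT T u = DT T v := by
    apply Subgroup.eq_of_le_of_card_ge hle
    rw [h.card_D u hu huH, h.card_D v hv hvH]
  refine ⟨v, hv, hgv, ?_⟩
  intro d hd
  exact h.inverts v hv hvH d (heq ▸ hd)

/-- the fixed points of `D` -/
theorem fix_D (g : G) (hfix : ∀ d ∈ DT T u, g⁻¹ * d * g ∈ NT T) :
    g ∈ NT T ∨ g⁻¹ * u ∈ NT T := by
  by_contra hcon
  push Not at hcon
  obtain ⟨hg, hgu⟩ := hcon
  have hu2 := sq_of_orderOf_two u hu
  have hui := Cfsg.Agent.S1922.inv_eq_self_of_sq u hu2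
  obtain ⟨v, hv, hgv, hvD⟩ := h.fix_inverts u hu huH g hg hfix
  have hg' : u⁻¹ * g ∉ NT T := by
    intro h1
    apply hgu
    have := (NT T).inv_mem h1
    have e : (u⁻¹ * g)⁻¹ = g⁻¹ * u := by group
    rw [e] at this
    exact this
  have hfix' : ∀ d ∈ DT T u, (u⁻¹ * g)⁻¹ * d * (u⁻¹ * g) ∈ NT T := by
    intro d hd
    have h1 := h.inverts u hu huH d hd
    have h2 := hfix d⁻¹ ((DT T u).inv_mem hd)
    have e : (u⁻¹ * g)⁻¹ * d * (u⁻¹ * g) = g⁻¹ * (u * d * u⁻¹) * g := by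
      rw [mul_inv_rev, inv_inv]; group
    rw [e, h1]
    exact h2
  obtain ⟨w, hw, hgw, hwD⟩ := h.fix_inverts u hu huH (u⁻¹ * g) hg' hfix'
  have hvi := Cfsg.Agent.S1922.inv_eq_self_of_sq v (sq_of_orderOf_two v hv)
  apply h.no_inverter_in_H u hu huH (v * u * w)
  · have := (NT T).mul_mem ((NT T).inv_mem hgv) hgw
    have e : (g⁻¹ * v)⁻¹ * ((u⁻¹ * g)⁻¹ * w) = v⁻¹ * u * w := by
      rw [mul_inv_rev, mul_inv_rev, inv_inv, inv_inv]; group
    rw [e, hvi] at this
    exact this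
  · intro d hd
    have h1 := hwD d hd
    have h2 := h.inverts u hu huH d⁻¹ ((DT T u).inv_mem hd)
    rw [inv_inv] at h2
    have h3 := hvD d hd
    calc v * u * w * d * (v * u * w)⁻¹ = v * (u * (w * d * w⁻¹) * u⁻¹) * v⁻¹ := by group
      _ = d⁻¹ := by rw [h1, h2, h3]

/-- the normalizer of `D` -/
theorem normalizer_D :
    Subgroup.normalizer ((DT T u : Subgroup G) : Set G) = DT T u ⊔ Subgroup.zpowers u := by
  have hu2 := sq_of_orderOf_two u hu
  have hui := Cfsg.Agent.S1922.inv_eq_self_of_sq u hu2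
  have huN : u ∈ Subgroup.normalizer ((DT T u : Subgroup G) : Set G) := by
    rw [Subgroup.mem_normalizer_iff]
    intro d
    constructor
    · intro hd
      rw [h.inverts u hu huH d hd]; exact (DT T u).inv_mem hd
    · intro hd
      have h1 := h.inverts u hu huH _ hd
      have e : u * (u * d * u⁻¹) * u⁻¹ = d := by
        rw [hui]
        have : u * (u * d * u) * u = (u * u) * d * (u * u) := by group
        rw [this, ← pow_two, hu2, one_mul, mul_one]
      rw [e] at h1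
      rw [h1]
      exact (DT T u).inv_mem hd
  apply le_antisymm
  · intro x hx
    have hx' : x⁻¹ ∈ Subgroup.normalizer ((DT T u : Subgroup G) : Set G) := Subgroup.inv_mem _ hx
    have hfix : ∀ d ∈ DT T u, x⁻¹ * d * x ∈ NT T := by
      intro d hd
      have := (Subgroup.mem_normalizer_iff.1 hx' d).1 hd
      rw [inv_inv] at this
      exact (Subgroup.mem_inf.1 this).1
    have hnorm : ∀ y ∈ Subgroup.normalizer ((DT T u : Subgroup G) : Set G), y ∈ NT T →
        y ∈ DT T u := by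
      intro y hy hyH
      apply h.norm_H_eq u hu huH y hyH
      intro d hd
      exact (Subgroup.mem_normalizer_iff.1 hy d).1 hd
    rcases h.fix_D u hu huH x hfix with hxH | hxu
    · exact Subgroup.mem_sup_left (hnorm x hx hxH)
    · have h1 : u⁻¹ * x ∈ DT T u := by
        apply hnorm
        · exact Subgroup.mul_mem _ (Subgroup.inv_mem _ huN) hx
        · have := (NT T).inv_mem hxu
          have e : (x⁻¹ * u)⁻¹ = u⁻¹ * x := by group
          rw [e] at this
          exact this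
      have e : x = u * (u⁻¹ * x) := by group
      rw [e]
      exact Subgroup.mul_mem _ (Subgroup.mem_sup_right (Subgroup.mem_zpowers u))
        (Subgroup.mem_sup_left h1)
  · apply sup_le Subgroup.le_normalizer
    rw [Subgroup.zpowers_le]
    exact huN

end D

end ZHyp

end Cfsg.Agent.Lib.Helper6
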