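import Mathlib
import Cfsg.Agent.Lib.Helper6.Zass2

set_option autoImplicit false

namespace Cfsg.Agent.Lib.Helper6

open Cfsg Cfsg.Agent.Lib.Helper1

namespace ZHyp

variable {G : Type*} [Group G] [Finite G] {T : Sylow 2 G}

/-- there is an involution outside `N(T)` -/
theorem exists_inv_not_mem (h : ZHyp T) : ∃ u : G, orderOf u = 2 ∧ u ∉ NT T := by
  obtain ⟨g, hg⟩ : ∃ g : G, g ∉ NT T := by
    by_contra hall
    push Not at hall
    exact h.se.1 (eq_top_iff.2 (fun g _ => hall g))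
  obtain ⟨v, hv, hgv⟩ := h.exists_inv_swap g hg
  refine ⟨v, hv, ?_⟩
  intro hvH
  apply hg
  have := (NT T).mul_mem hvH ((NT T).inv_mem hgv)
  have e : v * (g⁻¹ * v)⁻¹ = g := by group
  rw [e] at this
  exact this

section D

variable (h : ZHyp T) (u : G) (hu : orderOf u = 2) (huH : u ∉ NT T)

include h hu huH

theorem D_comm (d₁ d₂ : G) (h1 : d₁ ∈ DT T u) (h2 : d₂ ∈ DT T u) : d₁ * d₂ = d₂ * d₁ := by
  have e1 := h.inverts u hu huH d₁ h1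
  have e2 := h.inverts u hu huH d₂ h2
  have e3 := h.inverts u hu huH (d₁ * d₂) ((DT T u).mul_mem h1 h2)
  have e4 : u * (d₁ * d₂) * u⁻¹ = (u * d₁ * u⁻¹) * (u * d₂ * u⁻¹) := by group
  rw [e4, e1, e2, mul_inv_rev] at e3
  have e5 := congrArg (fun x => x⁻¹) e3
  simp only [mul_inv_rev, inv_inv] at e5
  exact e5.symm

/-- elements of `N(T)` commuting with a nontrivial element of `D` lie in `D` -/
theorem cent_D (x : G) (hx : x ∈ DT T u) (hx1 : x ≠ 1) (y : G) (hy : y ∈ NT T)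
    (hxy : y * x = x * y) : y ∈ DT T u := by
  obtain ⟨δ, hδ, τ, hτ, hy0⟩ := h.exists_mul u hu huH y hy
  by_cases hτ1 : τ = 1
  · rw [← hy0, hτ1, mul_one]; exact hδ
  · exfalso
    have hδx := h.D_comm u hu huH δ x hδ hx
    have h1 : τ * x = x * τ := by
      rw [← hy0] at hxy
      have : δ * (τ * x) = δ * (x * τ) := by
        calc δ * (τ * x) = δ * τ * x := by group
          _ = x * (δ * τ) := hxy
          _ = (x * δ) * τ := by group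
          _ = (δ * x) * τ := by rw [hδx]
          _ = δ * (x * τ) := by group
      exact mul_left_cancel this
    have h2 : x⁻¹ * τ * x⁻¹⁻¹ = τ := by
      rw [inv_inv, mul_assoc, h1]; group
    have h3 := h.D_free u hu huH x⁻¹ ((DT T u).inv_mem hx) τ hτ hτ1 h2
    exact hx1 (inv_eq_one.1 h3)

/-- every element of `N(T)` outside `T` is `T`-conjugate into `D` -/
theorem exists_conj_mem_D (x : G) (hx : x ∈ NT T) (hxT : x ∉ (T : Subgroup G)) :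
    ∃ t ∈ (T : Subgroup G), t⁻¹ * x * t ∈ DT T u := by
  obtain ⟨δ, hδ, τ, hτ, hx0⟩ := h.exists_mul u hu huH x hx
  have hδ1 : δ ≠ 1 := by
    intro h1
    apply hxT
    rw [← hx0, h1, one_mul]; exact hτ
  have hδH : δ ∈ NT T := (Subgroup.mem_inf.1 hδ).1
  -- the map `t ↦ (δ⁻¹ t δ) t⁻¹`
  have hmem : ∀ t : ↥(T : Subgroup G), δ⁻¹ * t.1 * δ * t.1⁻¹ ∈ (T : Subgroup G) := by
    intro t
    have := conj_mem_T' δ⁻¹ ((NT T).inv_mem hδH) t.1 t.2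
    rw [inv_inv] at this
    exact (T : Subgroup G).mul_mem this ((T : Subgroup G).inv_mem t.2)
  have hinj : Function.Injective
      (fun t : ↥(T : Subgroup G) => (⟨δ⁻¹ * t.1 * δ * t.1⁻¹, hmem t⟩ : ↥(T : Subgroup G))) := by
    intro t₁ t₂ h12
    have h3 : δ⁻¹ * t₁.1 * δ * t₁.1⁻¹ = δ⁻¹ * t₂.1 * δ * t₂.1⁻¹ := congrArg Subtype.val h12
    have hc1 : δ⁻¹ * t₁.1 * δ ∈ (T : Subgroup G) := by
      have := conj_mem_T' δ⁻¹ ((NT T).inv_mem hδH) t₁.1 t₁.2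
      rw [inv_inv] at this; exact this
    have hc2 : δ⁻¹ * t₂.1 * δ ∈ (T : Subgroup G) := by
      have := conj_mem_T' δ⁻¹ ((NT T).inv_mem hδH) t₂.1 t₂.2
      rw [inv_inv] at this; exact this
    -- δ⁻¹ (t₂⁻¹ t₁) δ = t₂⁻¹ t₁
    have h4 : δ⁻¹ * (t₂.1⁻¹ * t₁.1) * δ⁻¹⁻¹ = t₂.1⁻¹ * t₁.1 := by
      rw [inv_inv]
      have e1 : δ⁻¹ * (t₂.1⁻¹ * t₁.1) * δ = (δ⁻¹ * t₂.1 * δ)⁻¹ * (δ⁻¹ * t₁.1 * δ) := by group
      have e2 : δ⁻¹ * t₁.1 * δ = δ⁻¹ * t₂.1 * δ * t₂.1⁻¹ * t₁.1 := by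
        rw [← h3]; group
      rw [e1, e2]; group
    by_contra hne
    have h5 : t₂.1⁻¹ * t₁.1 ≠ 1 := by
      intro h6
      apply hne
      apply Subtype.ext
      have := inv_mul_eq_one.1 h6
      exact this.symm
    have h6 := h.D_free u hu huH δ⁻¹ ((DT T u).inv_mem hδ) _
      ((T : Subgroup G).mul_mem ((T : Subgroup G).inv_mem t₂.2) t₁.2) h5 h4
    exact hδ1 (inv_eq_one.1 h6)
  obtain ⟨t, ht⟩ := (Finite.injective_iff_surjective.1 hinj) ⟨τ, hτ⟩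
  have ht' : δ⁻¹ * t.1 * δ * t.1⁻¹ = τ := congrArg Subtype.val ht
  refine ⟨t.1, t.2, ?_⟩
  have hcomm : (δ⁻¹ * t.1⁻¹ * δ) * (δ⁻¹ * t.1 * δ * t.1⁻¹) =
      (δ⁻¹ * t.1 * δ * t.1⁻¹) * (δ⁻¹ * t.1⁻¹ * δ) := by
    apply h.T_comm
    · have := conj_mem_T' δ⁻¹ ((NT T).inv_mem hδH) t.1⁻¹ ((T : Subgroup G).inv_mem t.2)
      rw [inv_inv] at this; exact this
    · exact hmem t
  have e : t.1⁻¹ * x * t.1 = δ := by
    rw [← hx0, ← ht']
    calc t.1⁻¹ * (δ * (δ⁻¹ * t.1 * δ * t.1⁻¹)) * t.1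
        = δ * ((δ⁻¹ * t.1⁻¹ * δ) * (δ⁻¹ * t.1 * δ * t.1⁻¹)) * t.1 := by group
      _ = δ * ((δ⁻¹ * t.1 * δ * t.1⁻¹) * (δ⁻¹ * t.1⁻¹ * δ)) * t.1 := by rw [hcomm]
      _ = δ * (δ⁻¹ * t.1 * δ * t.1⁻¹ * δ⁻¹ * t.1⁻¹ * δ * t.1) := by group
      _ = δ := by
        have h7 : δ⁻¹ * t.1 * δ * t.1⁻¹ * δ⁻¹ * t.1⁻¹ * δ * t.1 =
            (δ⁻¹ * t.1 * δ * t.1⁻¹) * ((δ⁻¹ * t.1⁻¹ * δ) * t.1) := by group
        have h8 : (δ⁻¹ * t.1⁻¹ * δ) * t.1 = (δ⁻¹ * t.1 * δ * t.1⁻¹)⁻¹ := by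
          rw [mul_inv_rev, mul_inv_rev, mul_inv_rev, inv_inv, inv_inv]
          have h9 : δ⁻¹ * t.1⁻¹ * δ ∈ (T : Subgroup G) := by
            have := conj_mem_T' δ⁻¹ ((NT T).inv_mem hδH) t.1⁻¹ ((T : Subgroup G).inv_mem t.2)
            rw [inv_inv] at this; exact this
          have := h.T_comm _ _ h9 t.2
          rw [this]; group
        rw [h7, h8, mul_inv_cancel, mul_one]
  rw [e]; exact hδ

/-- `T` is transitive on the cosets other than `N(T)` -/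
theorem T_transitive (g : G) (hg : g ∉ NT T) : ∃ t ∈ (T : Subgroup G), g⁻¹ * (t * u) ∈ NT T := by
  obtain ⟨v, hv, hgv⟩ := h.exists_inv_swap g hg
  have hvH : v ∉ NT T := by
    intro hvH
    apply hg
    have := (NT T).mul_mem hvH ((NT T).inv_mem hgv)
    have e : v * (g⁻¹ * v)⁻¹ = g := by group
    rw [e] at this
    exact this
  obtain ⟨d', hd', hd'1⟩ := h.exists_ne_one v hv hvH
  have hd'H : d' ∈ NT T := (Subgroup.mem_inf.1 hd').1
  have hd'T : d' ∉ (T : Subgroup G) := fun h1 => hd'1 (h.D_inter_T v hv hvH d' hd' h1)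
  obtain ⟨t, ht, htx⟩ := h.exists_conj_mem_D u hu huH d' hd'H hd'T
  have htH : t ∈ NT T := h.T_le ht
  have hx1 : t⁻¹ * d' * t ≠ 1 := by
    intro h1
    apply hd'1
    have : d' = t * (t⁻¹ * d' * t) * t⁻¹ := by group
    rw [this, h1]; group
  -- conjugation by `t⁻¹` maps `D'` into `D`
  have hle : (DT T v).map (MulAut.conj t⁻¹).toMonoidHom ≤ DT T u := by
    rintro _ ⟨e, he, rfl⟩
    show t⁻¹ * e * t⁻¹⁻¹ ∈ DT T u
    rw [inv_inv]
    apply h.cent_D u hu huH _ htx hx1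
    · exact (NT T).mul_mem ((NT T).mul_mem ((NT T).inv_mem htH) (Subgroup.mem_inf.1 he).1) htH
    · have := h.D_comm v hv hvH e d' he hd'
      calc t⁻¹ * e * t * (t⁻¹ * d' * t) = t⁻¹ * (e * d') * t := by group
        _ = t⁻¹ * (d' * e) * t := by rw [this]
        _ = t⁻¹ * d' * t * (t⁻¹ * e * t) := by group
  have heq : (DT T v).map (MulAut.conj t⁻¹).toMonoidHom = DT T u := by
    apply Subgroup.eq_of_le_of_card_ge hle
    rw [Subgroup.card_map_of_injective (MulAut.conj t⁻¹).injective, h.card_D u hu huH,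
      h.card_D v hv hvH]
  have hfix : ∀ d ∈ DT T u, (t⁻¹ * g)⁻¹ * d * (t⁻¹ * g) ∈ NT T := by
    intro d hd
    rw [← heq] at hd
    obtain ⟨e, he, rfl⟩ := hd
    have he2 : v⁻¹ * e * v ∈ NT T := mem_map_conj_iff.1 (Subgroup.mem_inf.1 he).2
    have := (NT T).mul_mem ((NT T).mul_mem hgv he2) ((NT T).inv_mem hgv)
    have e1 : g⁻¹ * v * (v⁻¹ * e * v) * (g⁻¹ * v)⁻¹ =
        (t⁻¹ * g)⁻¹ * (t⁻¹ * e * t⁻¹⁻¹) * (t⁻¹ * g) := by group
    rw [e1] at this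
    exact this
  rcases h.fix_D u hu huH (t⁻¹ * g) hfix with h1 | h1
  · exfalso
    apply hg
    have := (NT T).mul_mem htH h1
    rw [mul_inv_cancel_left] at this
    exact this
  · refine ⟨t, ht, ?_⟩
    have e : (t⁻¹ * g)⁻¹ * u = g⁻¹ * (t * u) := by group
    rw [e] at h1
    exact h1

/-- uniqueness in the regular action of `T` -/
theorem T_free (t₁ t₂ : G) (h1 : t₁ ∈ (T : Subgroup G)) (h2 : t₂ ∈ (T : Subgroup G))
    (h12 : (t₁ * u)⁻¹ * (t₂ * u) ∈ NT T) : t₁ = t₂ := by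
  by_contra hne
  have hs : t₁⁻¹ * t₂ ∈ (T : Subgroup G) := (T : Subgroup G).mul_mem ((T : Subgroup G).inv_mem h1) h2
  have hs1 : t₁⁻¹ * t₂ ≠ 1 := by
    intro h3
    exact hne (inv_mul_eq_one.1 h3)
  apply huH
  apply se_mem_of_conj_mem h.se (t₁⁻¹ * t₂) (h.T_le hs) (h.orderOf_of_mem _ hs hs1) u
  have e : u⁻¹ * (t₁⁻¹ * t₂) * u = (t₁ * u)⁻¹ * (t₂ * u) := by group
  rw [e]; exact h12

end D

end ZHyp

end Cfsg.Agent.Lib.Helper6
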