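import Mathlib
import Cfsg.Agent.Lib.Helper6.ZassFrob

set_option autoImplicit false

namespace Cfsg.Agent.Lib.Helper6

open Cfsg MulAction Cfsg.Agent.Lib.Helper1

section ZassFrob2

variable {G Ω : Type*} [Group G] [MulAction G Ω]

namespace ZKernel

variable {a : Ω} {K : Subgroup G}

/-- an involution in a two point stabilizer inverts the kernel -/
theorem inv_inverts [Finite G] (hZ : Cfsg.IsZassenhausGroup G Ω) (hK : ZKernel a K) {b : Ω}
    (hab : a ≠ b) {z : G} (hz : orderOf z = 2) (hza : z • a = a) (hzb : z • b = b)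
    (k : G) (hk : k ∈ K) : z * k * z⁻¹ = k⁻¹ := by
  have hzz : z * z = 1 := by rw [← pow_two, ← hz, pow_orderOf_eq_one]
  have hzinv : z⁻¹ = z := inv_eq_of_mul_eq_one_right hzz
  have hz1 : z ≠ 1 := by
    intro h
    rw [h, orderOf_one] at hz
    norm_num at hz
  let φ : K →* K := MonoidHom.mk' (fun k => ⟨z * k.1 * z⁻¹, hK.normal z hza k.1 k.2⟩) (by
    intro x y
    apply Subtype.ext
    show z * (x.1 * y.1) * z⁻¹ = (z * x.1 * z⁻¹) * (z * y.1 * z⁻¹)
    group)
  have hφ : ∀ k : K, ((φ k : K) : G) = z * k.1 * z⁻¹ := fun k => rfl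
  have hfpf : MonoidHom.FixedPointFree φ := by
    intro k hk'
    have h1 : z * k.1 * z⁻¹ = k.1 := by rw [← hφ, hk']
    have h2 : z * k.1 = k.1 * z := by
      calc z * k.1 = (z * k.1 * z⁻¹) * z := by group
        _ = k.1 * z := by rw [h1]
    have h3 : z • (k.1 • b) = k.1 • b := by
      rw [← mul_smul, h2, mul_smul, hzb]
    have hka : k.1 • a = a := hK.le k.2
    have h4 : k.1 • b = b := by
      by_contra hne
      apply hz1
      refine hZ.2.2.1 z a b (k.1 • b) hab (Ne.symm hne) ?_ hza hzb h3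
      intro h
      have h' : k.1 • a = k.1 • b := hka.trans h
      exact hab (MulAction.injective _ h')
    apply Subtype.ext
    exact hK.free k.1 k.2 b (Ne.symm hab) h4
  have hinv : Function.Involutive φ := by
    intro k
    apply Subtype.ext
    rw [hφ, hφ, hzinv]
    calc z * (z * k.1 * z) * z = (z * z) * k.1 * (z * z) := by group
      _ = k.1 := by rw [hzz, one_mul, mul_one]
  have := congrFun (hfpf.coe_eq_inv_of_involutive hinv) ⟨k, hk⟩
  exact congrArg Subtype.val this

/-- the involution in a two point stabilizer is unique -/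
theorem inv_unique [Finite G] (hZ : Cfsg.IsZassenhausGroup G Ω) {a b : Ω}
    (hab : a ≠ b) {z z' : G} (hz : orderOf z = 2) (hza : z • a = a) (hzb : z • b = b)
    (hz' : orderOf z' = 2) (hz'a : z' • a = a) (hz'b : z' • b = b) : z = z' := by
  obtain ⟨K, hK⟩ := exists_zkernel hZ a
  have hzz : z' * z' = 1 := by rw [← pow_two, ← hz', pow_orderOf_eq_one]
  have hzinv : z'⁻¹ = z' := inv_eq_of_mul_eq_one_right hzz
  obtain ⟨c, hca, hcb⟩ := zass_exists_third hZ a b
  obtain ⟨k, hk, hkb⟩ := hK.trans b c (Ne.symm hab) hca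
  have h1 := hK.inv_inverts hZ hab hz hza hzb
  have h2 := hK.inv_inverts hZ hab hz' hz'a hz'b
  have hcomm : (z * z') * k = k * (z * z') := by
    have e1 : z' * k * z'⁻¹ = k⁻¹ := h2 k hk
    have e2 : z * k⁻¹ * z⁻¹ = k⁻¹⁻¹ := h1 k⁻¹ (K.inv_mem hk)
    rw [inv_inv] at e2
    calc (z * z') * k = z * (z' * k * z'⁻¹) * z' := by group
      _ = z * k⁻¹ * z' := by rw [e1]
      _ = (z * k⁻¹ * z⁻¹) * (z * z') := by group
      _ = k * (z * z') := by rw [e2]
  have hfa : (z * z') • a = a := by rw [mul_smul, hz'a, hza]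
  have hfb : (z * z') • b = b := by rw [mul_smul, hz'b, hzb]
  have hfc : (z * z') • c = c := by
    rw [← hkb, ← mul_smul, hcomm, mul_smul, hfb]
  have := hZ.2.2.1 (z * z') a b c hab (Ne.symm hcb) (Ne.symm hca) hfa hfb hfc
  calc z = (z * z') * z'⁻¹ := by group
    _ = z' := by rw [this, one_mul, hzinv]

end ZKernel

end ZassFrob2

end Cfsg.Agent.Lib.Helper6
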