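import Mathlib
import Cfsg.Agent.Lib.Helper6.ZassFrob2
import Cfsg.Agent.S0740
import Cfsg.Agent.S1875

set_option autoImplicit false

namespace Cfsg.Agent.Lib.Helper6

open Cfsg MulAction Cfsg.Agent.Lib.Helper1

section ZassInv

variable {G Ω : Type*} [Group G] [MulAction G Ω]

/-- in odd degree an involution has exactly one fixed point -/
theorem zass_invol_fix_one [Finite G] [Fintype Ω] (hZ : Cfsg.IsZassenhausGroup G Ω)
    (hodd : Odd (Fintype.card Ω)) {x : G} (hx : orderOf x = 2) :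
    ∃ c : Ω, ∀ y : Ω, x • y = y ↔ y = c := by
  have hx1 : x ≠ 1 := by
    intro h
    rw [h, orderOf_one] at hx
    norm_num at hx
  have hxx : x * x = 1 := by rw [← pow_two, ← hx, pow_orderOf_eq_one]
  obtain ⟨a₁, ha₁⟩ := Cfsg.Agent.S0740.exists_moved hZ hx1
  have hswap : x • (x • a₁) = a₁ := by rw [← mul_smul, hxx, one_smul]
  obtain ⟨-, hfix, -⟩ := Cfsg.Agent.S0740.result hZ (Ne.symm ha₁)
  have hcard1 := (hfix x hx rfl hswap).1 hodd
  rw [Nat.card_eq_one_iff_unique] at hcard1
  obtain ⟨hsub, ⟨c, hc⟩⟩ := hcard1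
  refine ⟨c, fun y => ⟨fun hy => ?_, fun hy => ?_⟩⟩
  · have := @Subsingleton.elim _ hsub (⟨y, hy⟩ : fixedBy Ω x) ⟨c, hc⟩
    exact congrArg Subtype.val this
  · rw [hy]; exact hc

/-- in odd degree all involutions are conjugate -/
theorem zass_invol_conj [Finite G] [Fintype Ω] (hZ : Cfsg.IsZassenhausGroup G Ω)
    (hodd : Odd (Fintype.card Ω)) {x y : G} (hx : orderOf x = 2) (hy : orderOf y = 2) :
    IsConj x y := by
  -- first the case of different fixed points
  have key : ∀ i j : G, orderOf i = 2 → orderOf j = 2 →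
      (∀ c c' : Ω, (∀ z, i • z = z ↔ z = c) → (∀ z, j • z = z ↔ z = c') → c ≠ c') →
      IsConj i j := by
    intro i j hi hj hne
    have hii : i ^ 2 = 1 := by rw [← hi, pow_orderOf_eq_one]
    have hjj : j ^ 2 = 1 := by rw [← hj, pow_orderOf_eq_one]
    have hii' : i * i = 1 := by rw [← pow_two]; exact hii
    have hjj' : j * j = 1 := by rw [← pow_two]; exact hjj
    have hiinv : i⁻¹ = i := inv_eq_of_mul_eq_one_right hii'
    have hjinv : j⁻¹ = j := inv_eq_of_mul_eq_one_right hjj'
    rcases Nat.even_or_odd' (orderOf (i * j)) with ⟨m, hm | hm⟩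
    · exfalso
      -- the central involution
      have hpos : 0 < orderOf (i * j) := orderOf_pos _
      have hm0 : 0 < m := by omega
      have hw2 : ((i * j) ^ m) ^ 2 = 1 := by
        rw [← pow_mul, mul_comm, ← hm, pow_orderOf_eq_one]
      have hw1 : (i * j) ^ m ≠ 1 := by
        intro h
        have := orderOf_dvd_of_pow_eq_one h
        have := Nat.le_of_dvd hm0 this
        omega
      have hwo : orderOf ((i * j) ^ m) = 2 := orderOf_eq_prime hw2 hw1
      have hwinv : ((i * j) ^ m)⁻¹ = (i * j) ^ m := by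
        apply inv_eq_of_mul_eq_one_right
        rw [← pow_two]; exact hw2
      have hci : i * (i * j) ^ m * i⁻¹ = (i * j) ^ m := by
        rw [← conj_pow]
        have : i * (i * j) * i⁻¹ = (i * j)⁻¹ := by
          rw [mul_inv_rev, hiinv, hjinv]
          calc i * (i * j) * i = (i * i) * j * i := by group
            _ = j * i := by rw [hii', one_mul]
        rw [this, inv_pow, hwinv]
      have hcj : j * (i * j) ^ m * j⁻¹ = (i * j) ^ m := by
        rw [← conj_pow]
        have : j * (i * j) * j⁻¹ = (i * j)⁻¹ := by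
          rw [mul_inv_rev, hiinv, hjinv]
          calc j * (i * j) * j = j * i * (j * j) := by group
            _ = j * i := by rw [hjj', mul_one]
        rw [this, inv_pow, hwinv]
      obtain ⟨cw, hcw⟩ := zass_invol_fix_one hZ hodd hwo
      obtain ⟨ci, hci'⟩ := zass_invol_fix_one hZ hodd hi
      obtain ⟨cj, hcj'⟩ := zass_invol_fix_one hZ hodd hj
      have h1 : i • cw = cw := by
        rw [← hcw]
        have e : (i * j) ^ m * i = i * (i * j) ^ m := by
          calc (i * j) ^ m * i = (i * (i * j) ^ m * i⁻¹) * i := by rw [hci]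
            _ = i * (i * j) ^ m := by group
        rw [← mul_smul, e, mul_smul, (hcw cw).2 rfl]
      have h2 : j • cw = cw := by
        rw [← hcw]
        have e : (i * j) ^ m * j = j * (i * j) ^ m := by
          calc (i * j) ^ m * j = (j * (i * j) ^ m * j⁻¹) * j := by rw [hcj]
            _ = j * (i * j) ^ m := by group
        rw [← mul_smul, e, mul_smul, (hcw cw).2 rfl]
      have e1 : cw = ci := (hci' cw).1 h1
      have e2 : cw = cj := (hcj' cw).1 h2
      exact hne ci cj hci' hcj' (e1.symm.trans e2)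
    · exact Cfsg.Agent.S1875.isConj_of_odd i j hii hjj m (by rw [← hm, pow_orderOf_eq_one])
  obtain ⟨cx, hcx⟩ := zass_invol_fix_one hZ hodd hx
  obtain ⟨cy, hcy⟩ := zass_invol_fix_one hZ hodd hy
  have huniq : ∀ (i : G) (c c' : Ω), (∀ z, i • z = z ↔ z = c) → (∀ z, i • z = z ↔ z = c') → c = c' := by
    intro i c c' h h'
    exact (h' c).1 ((h c).2 rfl)
  by_cases hxy : cx = cy
  · -- move `x` away
    obtain ⟨b, hb, -⟩ := zass_exists_third hZ cx cx
    haveI := zass_isPretransitive hZ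
    obtain ⟨g, hg⟩ := MulAction.exists_smul_eq G cx b
    have hgo : orderOf (g * x * g⁻¹) = 2 := by
      have := (MulAut.conj g).orderOf_eq x
      rw [MulAut.conj_apply] at this
      rw [this, hx]
    have hgfix : ∀ z, (g * x * g⁻¹) • z = z ↔ z = b := by
      intro z
      rw [mul_smul, mul_smul, ← eq_inv_smul_iff, hcx, inv_smul_eq_iff, hg]
    have h1 : IsConj x (g * x * g⁻¹) := isConj_iff.2 ⟨g, rfl⟩
    have h2 : IsConj (g * x * g⁻¹) y := by
      apply key _ _ hgo hy
      intro c c' hc hc'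
      rw [huniq _ _ _ hc hgfix, huniq _ _ _ hc' hcy, ← hxy]
      exact hb
    exact h1.trans h2
  · apply key x y hx hy
    intro c c' hc hc'
    rw [huniq _ _ _ hc hcx, huniq _ _ _ hc' hcy]
    exact hxy

/-- an involution of a nilpotent group commuting with all `2`-elements -/
theorem exists_two_central {K : Subgroup G} [Finite K] (hnil : Group.IsNilpotent K)
    (hev : ∃ x ∈ K, orderOf x = 2) :
    ∃ z ∈ K, orderOf z = 2 ∧ ∀ w ∈ K, (∃ k : ℕ, w ^ (2 ^ k) = 1) → z * w = w * z := by
  haveI : Fact (Nat.Prime 2) := ⟨Nat.prime_two⟩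
  obtain ⟨x, hxK, hx⟩ := hev
  obtain ⟨P⟩ : Nonempty (Sylow 2 K) := inferInstance
  have hPn : (P : Subgroup K).Normal := by
    have := ((Group.isNilpotent_of_finite_tfae (G := K)).out 0 3).1 hnil
    exact this 2 (_hp := ‹_›) P
  -- every `2`-element lies in `P`
  have hmemP : ∀ w : K, (∃ k : ℕ, w ^ (2 ^ k) = 1) → w ∈ (P : Subgroup K) := by
    intro w ⟨k, hk⟩
    have hpg : IsPGroup 2 (Subgroup.zpowers w) := by
      rw [IsPGroup.iff_orderOf]
      rintro ⟨y, hy⟩
      obtain ⟨j, rfl⟩ := Subgroup.mem_zpowers_iff.1 hy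
      have : (w ^ j) ^ (2 ^ k) = 1 := by
        rw [← zpow_natCast, ← zpow_mul, mul_comm, zpow_mul, zpow_natCast, hk, one_zpow]
      have hd := orderOf_dvd_of_pow_eq_one this
      obtain ⟨i, -, hi⟩ := (Nat.dvd_prime_pow Nat.prime_two).1 hd
      refine ⟨i, ?_⟩
      rw [Subgroup.orderOf_mk]
      exact hi
    obtain ⟨Q, hQ⟩ := hpg.exists_le_sylow
    haveI := hPn
    haveI : Unique (Sylow 2 K) := Sylow.unique_of_normal P hPn
    have : Q = P := Subsingleton.elim _ _
    rw [← this]
    exact hQ (Subgroup.mem_zpowers w)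
  have hxP : (⟨x, hxK⟩ : K) ∈ (P : Subgroup K) := by
    apply hmemP
    refine ⟨1, ?_⟩
    apply Subtype.ext
    show x ^ 2 ^ 1 = 1
    rw [pow_one, ← hx, pow_orderOf_eq_one]
  haveI : Nontrivial (P : Subgroup K) := by
    refine ⟨⟨⟨⟨x, hxK⟩, hxP⟩, 1, ?_⟩⟩
    intro h
    have : x = 1 := congrArg (fun y : (P : Subgroup K) => ((y : K) : G)) h
    rw [this, orderOf_one] at hx
    norm_num at hx
  haveI := P.2.center_nontrivial
  have hdvd : 2 ∣ Nat.card (Subgroup.center (P : Subgroup K)) := by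
    have hpg : IsPGroup 2 (Subgroup.center (P : Subgroup K)) := P.2.to_subgroup _
    obtain ⟨n, hn⟩ := hpg.exists_card_eq
    rw [hn]
    rcases n with _ | n
    · exfalso
      rw [pow_zero] at hn
      have := (Nat.card_eq_one_iff_unique.1 hn).1
      exact not_subsingleton _ this
    · exact dvd_pow_self 2 (Nat.succ_ne_zero n)
  obtain ⟨z, hz⟩ := exists_prime_orderOf_dvd_card' (G := Subgroup.center (P : Subgroup K)) 2 hdvd
  refine ⟨((z : (P : Subgroup K)) : K), (z : (P : Subgroup K)).1.2, ?_, ?_⟩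
  · have e1 : orderOf ((z : (P : Subgroup K)) : K) = orderOf (z : (P : Subgroup K)) :=
      Subgroup.orderOf_coe _
    have e2 : orderOf (z : (P : Subgroup K)) = orderOf z := Subgroup.orderOf_coe _
    have e3 : orderOf ((((z : (P : Subgroup K)) : K)) : G) = orderOf ((z : (P : Subgroup K)) : K) :=
      Subgroup.orderOf_coe _
    rw [e3, e1, e2, hz]
  · intro w hw hw2
    have hwP : (⟨w, hw⟩ : K) ∈ (P : Subgroup K) := by
      apply hmemP
      obtain ⟨k, hk⟩ := hw2
      exact ⟨k, Subtype.ext hk⟩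
    have := (Subgroup.mem_center_iff.1 z.2) ⟨⟨w, hw⟩, hwP⟩
    have h2 := congrArg (fun y : (P : Subgroup K) => ((y : K) : G)) this
    exact h2.symm

/-- in odd degree, involutions of the kernel commute -/
theorem ZKernel.invol_comm [Finite G] [Fintype Ω] (hZ : Cfsg.IsZassenhausGroup G Ω)
    (hodd : Odd (Fintype.card Ω)) {a : Ω} {K : Subgroup G} (hK : ZKernel a K)
    {x y : G} (hxK : x ∈ K) (hx : orderOf x = 2) (hyK : y ∈ K) (hy : orderOf y = 2) :
    x * y = y * x := by
  obtain ⟨z, hzK, hz, hzc⟩ := exists_two_central hK.nilp ⟨x, hxK, hx⟩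
  have hx1 : x ≠ 1 := by
    intro h
    rw [h, orderOf_one] at hx
    norm_num at hx
  have hz1 : z ≠ 1 := by
    intro h
    rw [h, orderOf_one] at hz
    norm_num at hz
  obtain ⟨b, hba, -⟩ := zass_exists_third hZ a a
  -- `x` is conjugate to `z` by an element of the stabilizer
  obtain ⟨g, hg⟩ := isConj_iff.1 (zass_invol_conj hZ hodd hz hx)
  have hza : z • a = a := hK.le hzK
  have hxa : x • a = a := hK.le hxK
  have hga : g • a = a := by
    by_contra hne
    have h1 : x • (g • a) = g • a := by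
      rw [← hg, mul_smul, mul_smul, inv_smul_smul, hza]
    exact hx1 (hK.free x hxK (g • a) hne h1)
  have hy2 : y ^ 2 ^ 1 = 1 := by rw [pow_one, ← hy, pow_orderOf_eq_one]
  -- transport `y` back
  have hy' : g⁻¹ * y * g⁻¹⁻¹ ∈ K := hK.normal g⁻¹ (Subgroup.inv_mem _ hga) y hyK
  have hy'2 : (g⁻¹ * y * g⁻¹⁻¹) ^ 2 ^ 1 = 1 := by
    rw [conj_pow, hy2]; group
  have := hzc _ hy' ⟨1, hy'2⟩
  rw [← hg]
  calc g * z * g⁻¹ * y = g * (z * (g⁻¹ * y * g⁻¹⁻¹)) * g⁻¹ := by group
    _ = g * ((g⁻¹ * y * g⁻¹⁻¹) * z) * g⁻¹ := by rw [this]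
    _ = y * (g * z * g⁻¹) := by group

end ZassInv

end Cfsg.Agent.Lib.Helper6
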