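import Mathlib
import Cfsg.Agent.Lib.Helper6.ZassInv
import Cfsg.Agent.Lib.Helper6.CoprimeAut
import Cfsg.Agent.S0040
import Cfsg.Agent.S0041

set_option autoImplicit false

namespace Cfsg.Agent.Lib.Helper6

open Cfsg MulAction Cfsg.Agent.Lib.Helper1
open scoped Pointwise

section InvSylow

variable {G : Type*} [Group G]

/-- an involution normalizing a subgroup of odd order normalizes one of its Sylow subgroups -/
theorem exists_inv_sylow [Finite G] (L : Subgroup G) (hL : Odd (Nat.card L)) (t : G)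
    (ht : t * t = 1) (htL : ∀ x ∈ L, t * x * t⁻¹ ∈ L) (r : ℕ) [Fact r.Prime] :
    ∃ R : Subgroup G, R ≤ L ∧ IsPGroup r R ∧ Nat.card R = r ^ (Nat.card L).factorization r ∧
      (∀ x ∈ R, t * x * t⁻¹ ∈ R) ∧
      (∀ R' : Subgroup G, R' ≤ L → IsPGroup r R' → ∃ g ∈ L, ∀ x ∈ R', g * x * g⁻¹ ∈ R) := by
  have htinv : t⁻¹ = t := inv_eq_of_mul_eq_one_right ht
  have htn : t ∈ Subgroup.normalizer (L : Set G) := by
    rw [Subgroup.mem_normalizer_iff]
    intro x
    refine ⟨htL x, fun h => ?_⟩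
    have := htL _ h
    rw [htinv] at this
    have e : t * (t * x * t) * t = (t * t) * x * (t * t) := by group
    rw [e, ht, one_mul, mul_one] at this
    exact this
  obtain ⟨τ, hτ⟩ : ∃ τ : MulAut L, τ = L.normalizerMonoidHom ⟨t, htn⟩ := ⟨_, rfl⟩
  have hτapp : ∀ x : L, ((τ x : L) : G) = t * x * t⁻¹ := by
    intro x; rw [hτ]; rfl
  have hτ2 : τ * τ = 1 := by
    ext x
    rw [MulAut.mul_apply, hτapp, hτapp, htinv]
    have e : t * (t * (x : G) * t) * t = (t * t) * x * (t * t) := by group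
    rw [e, ht, one_mul, mul_one]
    rfl
  have hS : IsPGroup 2 (Subgroup.zpowers τ) := by
    rintro ⟨s, hs⟩
    obtain ⟨j, rfl⟩ := Subgroup.mem_zpowers_iff.1 hs
    refine ⟨1, ?_⟩
    apply Subtype.ext
    show (τ ^ j) ^ 2 ^ 1 = 1
    rw [pow_one, ← zpow_natCast, ← zpow_mul, mul_comm, zpow_mul, zpow_natCast, pow_two, hτ2,
      one_zpow]
  have hcard : ¬ 2 ∣ Nat.card (Sylow r L) := by
    obtain ⟨P⟩ : Nonempty (Sylow r L) := inferInstance
    have h1 : Nat.card (Sylow r L) ∣ Nat.card L :=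
      (P.card_dvd_index).trans (Subgroup.index_dvd_card _)
    have h2 : Odd (Nat.card (Sylow r L)) := Odd.of_dvd_nat hL h1
    intro h
    exact (Nat.not_even_iff_odd.2 h2) (even_iff_two_dvd.2 h)
  obtain ⟨P, hP⟩ := hS.nonempty_fixed_point_of_prime_not_dvd_card (Sylow r L) hcard
  have hPτ : ∀ x ∈ (P : Subgroup L), τ x ∈ (P : Subgroup L) := by
    intro x hx
    have h1 := hP ⟨τ, Subgroup.mem_zpowers τ⟩
    have h2 : τ x ∈ ((⟨τ, Subgroup.mem_zpowers τ⟩ : Subgroup.zpowers τ) • P : Sylow r L) := by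
      show τ x ∈ (⟨τ, Subgroup.mem_zpowers τ⟩ : Subgroup.zpowers τ) • (P : Subgroup L)
      have : τ x = (⟨τ, Subgroup.mem_zpowers τ⟩ : Subgroup.zpowers τ) • x := rfl
      rw [this]
      exact Subgroup.smul_mem_pointwise_smul x _ _ hx
    rw [h1] at h2
    exact h2
  refine ⟨(P : Subgroup L).map L.subtype, Subgroup.map_subtype_le _, P.isPGroup'.map _, ?_, ?_, ?_⟩
  · rw [Subgroup.card_map_of_injective (Subgroup.subtype_injective _)]
    exact P.card_eq_multiplicity
  · rintro _ ⟨y, hy, rfl⟩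
    exact ⟨τ y, hPτ y hy, hτapp y⟩
  · intro R' hR'L hR'
    have hR'' : IsPGroup r (R'.subgroupOf L) :=
      hR'.comap_of_injective _ (Subgroup.subtype_injective _)
    obtain ⟨P', hP'⟩ := hR''.exists_le_sylow
    obtain ⟨g, hg⟩ := MulAction.exists_smul_eq L P' P
    refine ⟨g, g.2, fun x hx => ?_⟩
    have hxP' : (⟨x, hR'L hx⟩ : L) ∈ (P' : Subgroup L) := hP' (by
      rw [Subgroup.mem_subgroupOf]; exact hx)
    have : g * ⟨x, hR'L hx⟩ * g⁻¹ ∈ (P : Subgroup L) := by
      have h3 : (P : Subgroup L) = ((g • P' : Sylow r L) : Subgroup L) := by rw [hg]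
      rw [h3, Sylow.coe_subgroup_smul]
      have : g * ⟨x, hR'L hx⟩ * g⁻¹ = MulAut.conj g • (⟨x, hR'L hx⟩ : L) := by
        simp [MulAut.smul_def]
      rw [this]
      exact Subgroup.smul_mem_pointwise_smul _ _ _ hxP'
    exact ⟨_, this, rfl⟩

theorem inv_mem_normalizer (L : Subgroup G) (t : G)
    (ht : t * t = 1) (htL : ∀ x ∈ L, t * x * t⁻¹ ∈ L) : t ∈ Subgroup.normalizer (L : Set G) := by
  have htinv : t⁻¹ = t := inv_eq_of_mul_eq_one_right ht
  rw [Subgroup.mem_normalizer_iff]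
  intro x
  refine ⟨htL x, fun h => ?_⟩
  have := htL _ h
  rw [htinv] at this
  have e : t * (t * x * t) * t = (t * t) * x * (t * t) := by group
  rw [e, ht, one_mul, mul_one] at this
  exact this

theorem odd_orderOf_of_isPGroup {q : ℕ} [hq : Fact q.Prime] (hq2 : q ≠ 2) {P : Subgroup G}
    (hP : IsPGroup q P) {g : G} (hg : g ∈ P) : Odd (orderOf g) := by
  obtain ⟨k, hk⟩ := hP ⟨g, hg⟩
  have hk' : g ^ q ^ k = 1 := congrArg Subtype.val hk
  obtain ⟨j, -, hj⟩ := (Nat.dvd_prime_pow hq.out).1 (orderOf_dvd_of_pow_eq_one hk')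
  rw [hj]
  exact (hq.out.eq_two_or_odd'.resolve_left hq2).pow

/-- in a cyclic group the elements of order dividing `q` are the powers of one of order `q` -/
theorem cyclic_pow_mem_zpowers {Q : Subgroup G} [Finite Q] (hcyc : IsCyclic Q) {q : ℕ}
    (hq : q.Prime) {c : G} (hcQ : c ∈ Q) (hco : orderOf c = q) {y : G} (hyQ : y ∈ Q)
    (hy : y ^ q = 1) : y ∈ Subgroup.zpowers c := by
  classical
  haveI : Fintype Q := Fintype.ofFinite Q
  have hle := IsCyclic.card_pow_eq_one_le (α := Q) hq.pos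
  obtain ⟨T, hT⟩ : ∃ T : Finset Q, T = (Finset.range q).image (fun i => (⟨c, hcQ⟩ : Q) ^ i) :=
    ⟨_, rfl⟩
  have hTcard : T.card = q := by
    rw [hT, Finset.card_image_of_injOn, Finset.card_range]
    intro i hi j hj hij
    have hi' : i < orderOf c := by rw [hco]; exact Finset.mem_range.1 hi
    have hj' : j < orderOf c := by rw [hco]; exact Finset.mem_range.1 hj
    have hij' : c ^ i = c ^ j := by
      have := congrArg (fun z : Q => (z : G)) hij
      simpa using this
    exact pow_injOn_Iio_orderOf hi' hj' hij'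
  have hsub : T ⊆ Finset.univ.filter (fun a : Q => a ^ q = 1) := by
    intro z hz
    rw [hT, Finset.mem_image] at hz
    obtain ⟨i, -, rfl⟩ := hz
    rw [Finset.mem_filter]
    refine ⟨Finset.mem_univ _, ?_⟩
    apply Subtype.ext
    show (c ^ i) ^ q = 1
    rw [← pow_mul, mul_comm, pow_mul, ← hco, pow_orderOf_eq_one, one_pow]
  have heq := Finset.eq_of_subset_of_card_le hsub (by rw [hTcard]; exact hle)
  have hymem : (⟨y, hyQ⟩ : Q) ∈ Finset.univ.filter (fun a : Q => a ^ q = 1) := by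
    rw [Finset.mem_filter]
    exact ⟨Finset.mem_univ _, Subtype.ext hy⟩
  rw [← heq, hT, Finset.mem_image] at hymem
  obtain ⟨i, -, hi⟩ := hymem
  have : c ^ i = y := by
    have := congrArg (fun z : Q => (z : G)) hi
    simpa using this
  rw [← this]
  exact Subgroup.pow_mem _ (Subgroup.mem_zpowers c) i

/-- a fixed point free involutory conjugation inverts -/
theorem inverts_of_fpf [Finite G] (R : Subgroup G) (t : G) (ht : t * t = 1)
    (htR : ∀ x ∈ R, t * x * t⁻¹ ∈ R) (hfpf : ∀ x ∈ R, t * x * t⁻¹ = x → x = 1) :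
    ∀ x ∈ R, t * x * t⁻¹ = x⁻¹ := by
  have htinv : t⁻¹ = t := inv_eq_of_mul_eq_one_right ht
  let φ : R →* R := MonoidHom.mk' (fun k => ⟨t * k.1 * t⁻¹, htR k.1 k.2⟩) (by
    intro x y
    apply Subtype.ext
    show t * (x.1 * y.1) * t⁻¹ = (t * x.1 * t⁻¹) * (t * y.1 * t⁻¹)
    group)
  have hφ : ∀ k : R, ((φ k : R) : G) = t * k.1 * t⁻¹ := fun k => rfl
  have hf : MonoidHom.FixedPointFree φ := by
    intro k hk
    apply Subtype.ext
    apply hfpf k.1 k.2
    rw [← hφ, hk]
  have hinv : Function.Involutive φ := by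
    intro k
    apply Subtype.ext
    rw [hφ, hφ, htinv]
    calc t * (t * k.1 * t) * t = (t * t) * k.1 * (t * t) := by group
      _ = k.1 := by rw [ht, one_mul, mul_one]
  intro x hx
  have := congrFun (hf.coe_eq_inv_of_involutive hinv) ⟨x, hx⟩
  exact congrArg Subtype.val this

/-- an element of odd order inverted by an element centralizing `Q` centralizes `Q` -/
theorem cent_of_inverted (Q : Subgroup G) (t y : G)
    (htQ : ∀ z ∈ Q, t * z = z * t) (hyQ : ∀ z ∈ Q, y * z * y⁻¹ ∈ Q) (hty : t * y * t⁻¹ = y⁻¹)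
    (hodd : Odd (orderOf y)) : ∀ z ∈ Q, z * y = y * z := by
  intro z hz
  have h1 : t * (y * z * y⁻¹) = (y * z * y⁻¹) * t := htQ _ (hyQ z hz)
  have h2 : t * z = z * t := htQ z hz
  have hty' : t * y = y⁻¹ * t := by
    calc t * y = (t * y * t⁻¹) * t := by group
      _ = y⁻¹ * t := by rw [hty]
  have hty'' : t * y⁻¹ = y * t := by
    calc t * y⁻¹ = (t * y * t⁻¹)⁻¹ * t := by group
      _ = y * t := by rw [hty, inv_inv]
  have h3 : y⁻¹ * z * y = y * z * y⁻¹ := by
    have : (y⁻¹ * z * y) * t = (y * z * y⁻¹) * t := by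
      rw [← h1]
      calc (y⁻¹ * z * y) * t = y⁻¹ * z * (y * t) := by group
        _ = y⁻¹ * z * (t * y⁻¹) := by rw [hty'']
        _ = y⁻¹ * (z * t) * y⁻¹ := by group
        _ = y⁻¹ * (t * z) * y⁻¹ := by rw [h2]
        _ = (y⁻¹ * t) * z * y⁻¹ := by group
        _ = (t * y) * z * y⁻¹ := by rw [hty']
        _ = t * (y * z * y⁻¹) := by group
    exact mul_right_cancel this
  have h4 : z * y ^ 2 = y ^ 2 * z := by
    calc z * y ^ 2 = y * (y⁻¹ * z * y) * y := by rw [pow_two]; group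
      _ = y * (y * z * y⁻¹) * y := by rw [h3]
      _ = y ^ 2 * z := by rw [pow_two]; group
  obtain ⟨k, hk⟩ := hodd
  have hg : y = (y ^ 2) ^ (k + 1) := by
    rw [← pow_mul]
    have : 2 * (k + 1) = orderOf y + 1 := by omega
    rw [this, pow_succ, pow_orderOf_eq_one, one_mul]
  have h5 : Commute z (y ^ 2) := h4
  have h6 : Commute z ((y ^ 2) ^ (k + 1)) := h5.pow_right _
  rw [← hg] at h6
  exact h6

/-- an element of large prime power order normalizing a cyclic `q`-group centralizes it -/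
theorem cent_of_large_prime [Finite G] {q r : ℕ} (hq : q.Prime) (hr : r.Prime) (hqr : q < r)
    (Q : Subgroup G) (hcyc : IsCyclic Q) {k : ℕ} (hcard : Nat.card Q = q ^ k) {y : G}
    (hy : y ∈ Subgroup.normalizer (Q : Set G)) {j : ℕ} (hyo : orderOf y = r ^ j) :
    y ∈ Subgroup.centralizer (Q : Set G) := by
  obtain ⟨φ, hφ⟩ : ∃ φ : MulAut Q, φ = Q.normalizerMonoidHom ⟨y, hy⟩ := ⟨_, rfl⟩
  have h1 : orderOf φ ∣ r ^ j := by
    rw [hφ, ← hyo]
    have := orderOf_map_dvd Q.normalizerMonoidHom (⟨y, hy⟩ : Subgroup.normalizer (Q : Set G))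
    rwa [Subgroup.orderOf_mk] at this
  have h2 : orderOf φ ∣ Nat.card (MulAut Q) := orderOf_dvd_natCard φ
  rw [IsCyclic.card_mulAut, hcard] at h2
  have hcop : (r ^ j).Coprime (Nat.totient (q ^ k)) := by
    apply Nat.Coprime.pow_left
    rcases Nat.eq_zero_or_pos k with h0 | h0
    · rw [h0, pow_zero, Nat.totient_one]
      exact Nat.coprime_one_right _
    · rw [Nat.totient_prime_pow hq h0]
      apply Nat.Coprime.mul_right
      · apply Nat.Coprime.pow_right
        exact (Nat.coprime_primes hr hq).2 (by omega)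
      · rw [Nat.Prime.coprime_iff_not_dvd hr]
        intro hd
        have h1 := hq.two_le
        have := Nat.le_of_dvd (by omega) hd
        omega
  have h3 : orderOf φ = 1 := Nat.eq_one_of_dvd_coprimes hcop h1 h2
  rw [orderOf_eq_one_iff] at h3
  have hker : (⟨y, hy⟩ : Subgroup.normalizer (Q : Set G)) ∈ Q.normalizerMonoidHom.ker := by
    rw [MonoidHom.mem_ker, ← hφ, h3]
  rw [Subgroup.normalizerMonoidHom_ker, Subgroup.mem_subgroupOf] at hker
  exact hker

end InvSylow

section ZassOdd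

variable {G Ω : Type*} [Group G] [MulAction G Ω]

theorem zass_fix_ab (hZ : Cfsg.IsZassenhausGroup G Ω) {a b : Ω} (hab : a ≠ b) {x : G}
    (hxa : x • a = a) (hxb : x • b = b) (hx1 : x ≠ 1) {c : Ω} (hc : x • c = c) :
    c = a ∨ c = b := by
  by_contra h
  push Not at h
  exact hx1 (hZ.2.2.1 x a b c hab (Ne.symm h.2) (Ne.symm h.1) hxa hxb hc)

theorem zass_perm_ab (hZ : Cfsg.IsZassenhausGroup G Ω) {a b : Ω} (hab : a ≠ b) {x g : G}
    (hxa : x • a = a) (hxb : x • b = b) (hx1 : x ≠ 1) (hga : x • (g • a) = g • a)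
    (hgb : x • (g • b) = g • b) :
    (g • a = a ∧ g • b = b) ∨ (g • a = b ∧ g • b = a) := by
  have hne : g • a ≠ g • b := fun h => hab (MulAction.injective g h)
  rcases zass_fix_ab hZ hab hxa hxb hx1 hga with h1 | h1 <;>
  rcases zass_fix_ab hZ hab hxa hxb hx1 hgb with h2 | h2
  · exact absurd (h1.trans h2.symm) hne
  · exact Or.inl ⟨h1, h2⟩
  · exact Or.inr ⟨h1, h2⟩
  · exact absurd (h1.trans h2.symm) hne

theorem odd_order_fix_ab {a b : Ω} {g : G} (hodd : Odd (orderOf g))
    (h : (g • a = a ∧ g • b = b) ∨ (g • a = b ∧ g • b = a)) : g • a = a ∧ g • b = b := by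
  have h2a : (g ^ 2) • a = a := by
    rw [pow_two, mul_smul]
    rcases h with ⟨h1, h2⟩ | ⟨h1, h2⟩
    · rw [h1, h1]
    · rw [h1, h2]
  have h2b : (g ^ 2) • b = b := by
    rw [pow_two, mul_smul]
    rcases h with ⟨h1, h2⟩ | ⟨h1, h2⟩
    · rw [h2, h2]
    · rw [h2, h1]
  obtain ⟨k, hk⟩ := hodd
  have hg : g = (g ^ 2) ^ (k + 1) := by
    rw [← pow_mul]
    have : 2 * (k + 1) = orderOf g + 1 := by omega
    rw [this, pow_succ, pow_orderOf_eq_one, one_mul]
  have ha : ∀ m : ℕ, ((g ^ 2) ^ m) • a = a := by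
    intro m
    induction m with
    | zero => simp
    | succ m ih => rw [pow_succ, mul_smul, h2a, ih]
  have hb : ∀ m : ℕ, ((g ^ 2) ^ m) • b = b := by
    intro m
    induction m with
    | zero => simp
    | succ m ih => rw [pow_succ, mul_smul, h2b, ih]
  constructor
  · conv_lhs => rw [hg]
    exact ha _
  · conv_lhs => rw [hg]
    exact hb _

/-- subgroups of prime power order of the two point stabilizer are cyclic -/
theorem zass_qsub_cyclic [Finite G] (hZ : Cfsg.IsZassenhausGroup G Ω) {a b : Ω} (hab : a ≠ b)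
    {q : ℕ} [Fact q.Prime] (hq2 : q ≠ 2) (Q : Subgroup G)
    (hQD : Q ≤ stabilizer G a ⊓ stabilizer G b) (hQ : IsPGroup q Q) : IsCyclic Q := by
  obtain ⟨K, hK⟩ := exists_zkernel hZ a
  have hQA : Q ≤ stabilizer G a := hQD.trans inf_le_left
  haveI : (K.subgroupOf (stabilizer G a)).Normal := by
    constructor
    intro k hk g
    rw [Subgroup.mem_subgroupOf] at hk ⊢
    exact hK.normal g g.2 k hk
  have hKne : K.subgroupOf (stabilizer G a) ≠ ⊥ := by
    intro hbot
    obtain ⟨c, hca, hcb⟩ := zass_exists_third hZ a b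
    obtain ⟨k, hk, hkb⟩ := hK.trans b c (Ne.symm hab) hca
    have : (⟨k, hK.le hk⟩ : stabilizer G a) ∈ K.subgroupOf (stabilizer G a) := by
      rw [Subgroup.mem_subgroupOf]; exact hk
    rw [hbot, Subgroup.mem_bot] at this
    have hk1 : k = 1 := congrArg Subtype.val this
    rw [hk1, one_smul] at hkb
    exact hcb hkb.symm
  have hfpf : ∀ h ∈ (stabilizer G a ⊓ stabilizer G b).subgroupOf (stabilizer G a), h ≠ 1 →
      K.subgroupOf (stabilizer G a) ⊓ Subgroup.centralizer {h} = ⊥ := by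
    intro h hh hh1
    rw [eq_bot_iff]
    intro k hk
    rw [Subgroup.mem_inf, Subgroup.mem_subgroupOf, Subgroup.mem_centralizer_iff] at hk
    obtain ⟨hkK, hkc⟩ := hk
    have hkc' : h * k = k * h := hkc h rfl
    have hkc'' : (h : G) * (k : G) = (k : G) * (h : G) := congrArg Subtype.val hkc'
    rw [Subgroup.mem_subgroupOf] at hh
    have hha : (h : G) • a = a := hh.1
    have hhb : (h : G) • b = b := hh.2
    have hh1' : (h : G) ≠ 1 := fun e => hh1 (Subtype.ext e)
    have hfix : (h : G) • ((k : G) • b) = (k : G) • b := by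
      rw [← mul_smul, hkc'', mul_smul, hhb]
    rw [Subgroup.mem_bot]
    apply Subtype.ext
    rcases zass_fix_ab hZ hab hha hhb hh1' hfix with h1 | h1
    · exfalso
      have hka : (k : G) • a = a := k.2
      have : (k : G) • b = (k : G) • a := h1.trans hka.symm
      exact hab (MulAction.injective _ this).symm
    · exact hK.free k hkK b (Ne.symm hab) h1
  have huniq : ∀ H1 K1 : Subgroup Q, Nat.card H1 = q → Nat.card K1 = q → H1 = K1 := by
    by_contra hcon
    push Not at hcon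
    obtain ⟨H1, K1, hH1, hK1, hne⟩ := hcon
    obtain ⟨x, y, hx1, hxq, hyq, hxy, hy⟩ :=
      Cfsg.Agent.S0040.exists_comm_pair hQ H1 K1 hH1 hK1 hne
    apply Cfsg.Agent.S0040.key0040 (K.subgroupOf (stabilizer G a))
      ((stabilizer G a ⊓ stabilizer G b).subgroupOf (stabilizer G a)) hKne hfpf
      (Q.subgroupOf (stabilizer G a)) (hQ.comap_of_injective _ (Subgroup.subtype_injective _))
      (by
        intro z hz
        rw [Subgroup.mem_subgroupOf] at hz ⊢
        exact hQD hz)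
      (⟨x.1, hQA x.2⟩ : stabilizer G a) ⟨y.1, hQA y.2⟩
      (by rw [Subgroup.mem_subgroupOf]; exact x.2)
      (by rw [Subgroup.mem_subgroupOf]; exact y.2)
    · apply Subtype.ext
      have := congrArg (fun z : Q => (z : G)) hxy
      simpa using this
    · apply Subtype.ext
      have := congrArg Subtype.val hxq
      simpa using this
    · apply Subtype.ext
      have := congrArg Subtype.val hyq
      simpa using this
    · intro i j hij h
      apply Cfsg.Agent.S0040.pair_ne_one x y hx1 hxq hyq hy i j hij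
      apply Subtype.ext
      have := congrArg Subtype.val h
      simpa using this
  rcases Cfsg.Agent.S0016.result q hQ huniq with h | ⟨h, -⟩
  · exact h
  · exact absurd h hq2

/-- a Sylow subgroup of the two point stabilizer for an odd prime is a Sylow subgroup -/
theorem zass_sylow_of_sub [Finite G] (hZ : Cfsg.IsZassenhausGroup G Ω) {a b : Ω} (hab : a ≠ b)
    {q : ℕ} [hq : Fact q.Prime] (hq2 : q ≠ 2) (Q : Subgroup G)
    (hQD : Q ≤ stabilizer G a ⊓ stabilizer G b) (hQ : IsPGroup q Q)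
    (hcard : Nat.card Q = q ^ (Nat.card ↥(stabilizer G a ⊓ stabilizer G b)).factorization q)
    {c : G} (hcQ : c ∈ Q) (hc1 : c ≠ 1) : ∃ P : Sylow q G, (P : Subgroup G) = Q := by
  obtain ⟨P, hP⟩ := hQ.exists_le_sylow
  have hcP : c ∈ (P : Subgroup G) := hP hcQ
  have hcD := hQD hcQ
  have hca : c • a = a := hcD.1
  have hcb : c • b = b := hcD.2
  haveI : Nontrivial (P : Subgroup G) := by
    refine ⟨⟨⟨c, hcP⟩, 1, ?_⟩⟩
    intro e
    exact hc1 (congrArg Subtype.val e)
  haveI := P.2.center_nontrivial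
  obtain ⟨z, hz1⟩ := exists_ne (1 : Subgroup.center (P : Subgroup G))
  have hzc : ∀ g : (P : Subgroup G), g * (z : (P : Subgroup G)) = (z : (P : Subgroup G)) * g :=
    fun g => Subgroup.mem_center_iff.1 z.2 g
  have hzc' : ∀ g ∈ (P : Subgroup G), g * ((z : (P : Subgroup G)) : G) =
      ((z : (P : Subgroup G)) : G) * g := by
    intro g hg
    exact congrArg Subtype.val (hzc ⟨g, hg⟩)
  obtain ⟨z', hz'⟩ : ∃ z' : G, z' = ((z : (P : Subgroup G)) : G) := ⟨_, rfl⟩
  rw [← hz'] at hzc'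
  have hz'P : z' ∈ (P : Subgroup G) := by rw [hz']; exact (z : (P : Subgroup G)).2
  have hz'1 : z' ≠ 1 := by
    intro e
    apply hz1
    apply Subtype.ext
    apply Subtype.ext
    rw [← hz', e]
    rfl
  have hoddP : ∀ g ∈ (P : Subgroup G), Odd (orderOf g) :=
    fun g hg => odd_orderOf_of_isPGroup hq2 P.2 hg
  -- `z'` lies in the two point stabilizer
  have hz'D : z' • a = a ∧ z' • b = b := by
    apply odd_order_fix_ab (hoddP z' hz'P)
    apply zass_perm_ab hZ hab hca hcb hc1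
    · rw [← mul_smul, hzc' c hcP, mul_smul, hca]
    · rw [← mul_smul, hzc' c hcP, mul_smul, hcb]
  have hPD : (P : Subgroup G) ≤ stabilizer G a ⊓ stabilizer G b := by
    intro g hg
    have : g • a = a ∧ g • b = b := by
      apply odd_order_fix_ab (hoddP g hg)
      apply zass_perm_ab hZ hab hz'D.1 hz'D.2 hz'1
      · rw [← mul_smul, ← hzc' g hg, mul_smul, hz'D.1]
      · rw [← mul_smul, ← hzc' g hg, mul_smul, hz'D.2]
    exact ⟨this.1, this.2⟩
  refine ⟨P, ?_⟩
  symm
  apply Subgroup.eq_of_le_of_card_ge hP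
  obtain ⟨m, hm⟩ := P.2.exists_card_eq
  have hdvd : Nat.card (P : Subgroup G) ∣ Nat.card ↥(stabilizer G a ⊓ stabilizer G b) :=
    Subgroup.card_dvd_of_le hPD
  rw [hm] at hdvd
  have hle := (hq.out.pow_dvd_iff_le_factorization Nat.card_pos.ne').1 hdvd
  rw [hcard]
  show Nat.card (P : Subgroup G) ≤ _
  rw [hm]
  exact Nat.pow_le_pow_right hq.out.pos hle

/-- an involution `t` swapping `a` and `b`, the two point stabilizer being of odd order -/
structure ZOdd (a b : Ω) (t : G) : Prop where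
  hZ : Cfsg.IsZassenhausGroup G Ω
  hab : a ≠ b
  hodd : Odd (Nat.card ↥(stabilizer G a ⊓ stabilizer G b))
  ht : t * t = 1
  hta : t • a = b
  htb : t • b = a

namespace ZOdd

variable {a b : Ω} {t : G}

theorem tinv (h : ZOdd a b t) : t⁻¹ = t := inv_eq_of_mul_eq_one_right h.ht

theorem t_ne_one (h : ZOdd a b t) : t ≠ 1 := by
  intro e
  have := h.hta
  rw [e, one_smul] at this
  exact h.hab this

theorem orderOf_t (h : ZOdd a b t) : orderOf t = 2 :=
  orderOf_eq_prime (by rw [pow_two]; exact h.ht) h.t_ne_one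

theorem conj_fix (h : ZOdd a b t) {x : G} (hxa : x • a = a) (hxb : x • b = b) :
    (t * x * t⁻¹) • a = a ∧ (t * x * t⁻¹) • b = b := by
  rw [h.tinv]
  constructor
  · rw [mul_smul, mul_smul, h.hta, hxb, h.htb]
  · rw [mul_smul, mul_smul, h.htb, hxa, h.hta]

/-- an element conjugating a nonidentity element of the two point stabilizer into it
permutes the two points -/
theorem mem_of_conj (h : ZOdd a b t) {x g : G} (hxa : x • a = a) (hxb : x • b = b) (hx1 : x ≠ 1)
    (hga : (g⁻¹ * x * g) • a = a) (hgb : (g⁻¹ * x * g) • b = b) :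
    (g • a = a ∧ g • b = b) ∨ ((g * t) • a = a ∧ (g * t) • b = b) := by
  have h1 : x • (g • a) = g • a := by
    rw [mul_smul, mul_smul, inv_smul_eq_iff] at hga
    exact hga
  have h2 : x • (g • b) = g • b := by
    rw [mul_smul, mul_smul, inv_smul_eq_iff] at hgb
    exact hgb
  rcases zass_perm_ab h.hZ h.hab hxa hxb hx1 h1 h2 with h3 | h3
  · exact Or.inl h3
  · right
    rw [mul_smul, mul_smul, h.hta, h.htb]
    exact ⟨h3.2, h3.1⟩

/-- the involution centralizes nothing in the two point stabilizer -/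
theorem cent_trivial [Finite G] (h : ZOdd a b t)
    (hnil : ∀ q : ℕ, q.Prime → q ∣ Nat.card ↥(stabilizer G a ⊓ stabilizer G b) →
      ¬ ∃ N : Subgroup G, N.Normal ∧ N.index = q ^ (Nat.card G).factorization q)
    (x : G) (hxa : x • a = a) (hxb : x • b = b) (hxt : t * x = x * t) : x = 1 := by
  by_contra hx1
  have hZ := h.hZ
  have hab := h.hab
  have hodd := h.hodd
  have ht := h.ht
  have htinv := h.tinv
  obtain ⟨D, hD⟩ : ∃ D : Subgroup G, D = stabilizer G a ⊓ stabilizer G b := ⟨_, rfl⟩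
  rw [← hD] at hnil hodd
  have hmemD : ∀ g, g ∈ D ↔ g • a = a ∧ g • b = b := by
    intro g; rw [hD]; exact Subgroup.mem_inf
  have hDpos : Nat.card D ≠ 0 := Nat.card_pos.ne'
  have htD : ∀ y ∈ D, t * y * t⁻¹ ∈ D := by
    intro y hy
    rw [hmemD] at hy ⊢
    exact h.conj_fix hy.1 hy.2
  -- the centralizer of `t`
  obtain ⟨C₀, hC₀⟩ : ∃ C₀ : Subgroup G, C₀ = D ⊓ Subgroup.centralizer {t} := ⟨_, rfl⟩
  have hmemC₀ : ∀ g, g ∈ C₀ ↔ g ∈ D ∧ t * g = g * t := by
    intro g
    rw [hC₀, Subgroup.mem_inf, Subgroup.mem_centralizer_iff]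
    constructor
    · rintro ⟨h1, h2⟩
      exact ⟨h1, h2 t rfl⟩
    · rintro ⟨h1, h2⟩
      refine ⟨h1, ?_⟩
      intro y hy
      rw [Set.mem_singleton_iff] at hy
      rw [hy]; exact h2
  have hC₀D : C₀ ≤ D := by rw [hC₀]; exact inf_le_left
  have hxC₀ : x ∈ C₀ := (hmemC₀ x).2 ⟨(hmemD x).2 ⟨hxa, hxb⟩, hxt⟩
  have hC₀ne : Nat.card C₀ ≠ 1 := by
    intro h1
    have := (Nat.card_eq_one_iff_unique.1 h1).1
    have e := @Subsingleton.elim _ this (⟨x, hxC₀⟩ : C₀) 1
    exact hx1 (congrArg Subtype.val e)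
  obtain ⟨q, hqdef⟩ : ∃ q, q = (Nat.card C₀).minFac := ⟨_, rfl⟩
  have hq : q.Prime := by rw [hqdef]; exact Nat.minFac_prime hC₀ne
  haveI : Fact q.Prime := ⟨hq⟩
  have hqC₀ : q ∣ Nat.card C₀ := by rw [hqdef]; exact Nat.minFac_dvd _
  have hC₀dvd : Nat.card C₀ ∣ Nat.card D := Subgroup.card_dvd_of_le hC₀D
  have hqd : q ∣ Nat.card D := hqC₀.trans hC₀dvd
  have hq2 : q ≠ 2 := by
    intro e
    rw [e] at hqd
    exact (Nat.not_even_iff_odd.2 hodd) (even_iff_two_dvd.2 hqd)
  have hqmin : ∀ r : ℕ, r.Prime → r ∣ Nat.card C₀ → q ≤ r := by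
    intro r hr hrd
    rw [hqdef]
    exact Nat.minFac_le_of_dvd hr.two_le hrd
  -- an element of order `q`
  obtain ⟨c', hc'⟩ := exists_prime_orderOf_dvd_card' (G := C₀) q hqC₀
  obtain ⟨c, hcdef⟩ : ∃ c : G, c = (c' : G) := ⟨_, rfl⟩
  have hcC₀ : c ∈ C₀ := by rw [hcdef]; exact c'.2
  have hco : orderOf c = q := by rw [hcdef, Subgroup.orderOf_coe, hc']
  have hcD : c ∈ D := hC₀D hcC₀
  have hct : t * c = c * t := ((hmemC₀ c).1 hcC₀).2
  have hc1 : c ≠ 1 := by
    intro e
    rw [e, orderOf_one] at hco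
    exact hq.one_lt.ne hco
  have hca : c • a = a := ((hmemD c).1 hcD).1
  have hcb : c • b = b := ((hmemD c).1 hcD).2
  -- the centralizer of `c`
  obtain ⟨C₁, hC₁⟩ : ∃ C₁ : Subgroup G, C₁ = D ⊓ Subgroup.centralizer {c} := ⟨_, rfl⟩
  have hmemC₁ : ∀ g, g ∈ C₁ ↔ g ∈ D ∧ c * g = g * c := by
    intro g
    rw [hC₁, Subgroup.mem_inf, Subgroup.mem_centralizer_iff]
    constructor
    · rintro ⟨h1, h2⟩
      exact ⟨h1, h2 c rfl⟩
    · rintro ⟨h1, h2⟩
      refine ⟨h1, ?_⟩
      intro y hy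
      rw [Set.mem_singleton_iff] at hy
      rw [hy]; exact h2
  have hC₁D : C₁ ≤ D := by rw [hC₁]; exact inf_le_left
  have hC₁dvd : Nat.card C₁ ∣ Nat.card D := Subgroup.card_dvd_of_le hC₁D
  have hC₁odd : Odd (Nat.card C₁) := Odd.of_dvd_nat hodd hC₁dvd
  have htC₁ : ∀ y ∈ C₁, t * y * t⁻¹ ∈ C₁ := by
    intro y hy
    rw [hmemC₁] at hy ⊢
    refine ⟨htD y hy.1, ?_⟩
    have hct' : c * t = t * c := hct.symm
    have hct'' : t⁻¹ * c = c * t⁻¹ := by rw [htinv]; exact hct
    calc c * (t * y * t⁻¹) = (c * t) * y * t⁻¹ := by group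
      _ = (t * c) * y * t⁻¹ := by rw [hct']
      _ = t * (c * y) * t⁻¹ := by group
      _ = t * (y * c) * t⁻¹ := by rw [hy.2]
      _ = t * y * (c * t⁻¹) := by group
      _ = t * y * (t⁻¹ * c) := by rw [hct'']
      _ = t * y * t⁻¹ * c := by group
  obtain ⟨Q, hQC₁, hQ, hQcard, hQt, hQconj⟩ := exists_inv_sylow C₁ hC₁odd t ht htC₁ q
  have hQD : Q ≤ D := hQC₁.trans hC₁D
  have hQD' : Q ≤ stabilizer G a ⊓ stabilizer G b := by rw [← hD]; exact hQD
  -- the order of `Q`
  have hfac : (Nat.card C₁).factorization q = (Nat.card D).factorization q := by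
    apply le_antisymm
    · exact (Nat.factorization_le_iff_dvd Nat.card_pos.ne' hDpos).2 hC₁dvd q
    · have hzp : IsPGroup q (Subgroup.zpowers (⟨c, hcD⟩ : D)) := by
        apply IsPGroup.of_card (n := 1)
        rw [Nat.card_zpowers, Subgroup.orderOf_mk, hco, pow_one]
      obtain ⟨P₀, hP₀⟩ := hzp.exists_le_sylow
      obtain ⟨Q₀, hQ₀⟩ : ∃ Q₀ : Subgroup G, Q₀ = (P₀ : Subgroup D).map D.subtype := ⟨_, rfl⟩
      have hQ₀D : Q₀ ≤ D := by rw [hQ₀]; exact Subgroup.map_subtype_le _
      have hQ₀D' : Q₀ ≤ stabilizer G a ⊓ stabilizer G b := by rw [← hD]; exact hQ₀D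
      have hQ₀p : IsPGroup q Q₀ := by rw [hQ₀]; exact P₀.isPGroup'.map _
      have hQ₀card : Nat.card Q₀ = q ^ (Nat.card D).factorization q := by
        rw [hQ₀, Subgroup.card_map_of_injective (Subgroup.subtype_injective _)]
        exact P₀.card_eq_multiplicity
      have hcQ₀ : c ∈ Q₀ := by
        rw [hQ₀]
        exact ⟨⟨c, hcD⟩, hP₀ (Subgroup.mem_zpowers _), rfl⟩
      have hcyc₀ := zass_qsub_cyclic hZ hab hq2 Q₀ hQ₀D' hQ₀p
      have hQ₀C₁ : Q₀ ≤ C₁ := by
        intro y hy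
        rw [hmemC₁]
        refine ⟨hQ₀D hy, ?_⟩
        letI := IsCyclic.commGroup (α := Q₀)
        have := mul_comm (⟨c, hcQ₀⟩ : Q₀) ⟨y, hy⟩
        exact congrArg Subtype.val this
      have hdvd : Nat.card Q₀ ∣ Nat.card C₁ := Subgroup.card_dvd_of_le hQ₀C₁
      rw [hQ₀card] at hdvd
      exact (hq.pow_dvd_iff_le_factorization Nat.card_pos.ne').1 hdvd
  rw [hfac] at hQcard
  -- `c` lies in `Q`
  have hcC₁ : c ∈ C₁ := (hmemC₁ c).2 ⟨hcD, rfl⟩
  have hcQ : c ∈ Q := by
    have hzp : IsPGroup q (Subgroup.zpowers c) := by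
      apply IsPGroup.of_card (n := 1)
      rw [Nat.card_zpowers, hco, pow_one]
    have hzle : Subgroup.zpowers c ≤ C₁ := by
      rw [Subgroup.zpowers_le]; exact hcC₁
    obtain ⟨g, hgC₁, hg⟩ := hQconj _ hzle hzp
    have := hg c (Subgroup.mem_zpowers c)
    have hgc : c * g = g * c := ((hmemC₁ g).1 hgC₁).2
    have e : g * c * g⁻¹ = c := by
      rw [← hgc]; group
    rw [e] at this
    exact this
  have hcyc := zass_qsub_cyclic hZ hab hq2 Q hQD' hQ
  have hQcomm : ∀ y ∈ Q, ∀ z ∈ Q, y * z = z * y := by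
    intro y hy z hz
    letI := IsCyclic.commGroup (α := Q)
    have := mul_comm (⟨y, hy⟩ : Q) ⟨z, hz⟩
    exact congrArg Subtype.val this
  -- `t` centralizes `Q`
  have htnQ : t ∈ Subgroup.normalizer (Q : Set G) := inv_mem_normalizer Q t ht hQt
  have htQ : t ∈ Subgroup.centralizer (Q : Set G) := by
    apply mem_centralizer_of_commute_omega q (Or.inl ⟨rfl, hq2⟩) Q hQ t htnQ
    · rw [h.orderOf_t]
      exact (Nat.coprime_primes Nat.prime_two hq).2 (Ne.symm hq2)
    · intro y hy hyq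
      have := cyclic_pow_mem_zpowers hcyc hq hcQ hco hy hyq
      obtain ⟨j, rfl⟩ := Subgroup.mem_zpowers_iff.1 this
      have hc' : Commute t c := hct
      exact hc'.zpow_right j
  have htQ' : ∀ z ∈ Q, t * z = z * t := by
    intro z hz
    exact ((Subgroup.mem_centralizer_iff.1 htQ) z hz).symm
  -- `Q` is a Sylow subgroup of `G`
  obtain ⟨P, hPQ⟩ := zass_sylow_of_sub hZ hab hq2 Q hQD' hQ (by rw [← hD]; exact hQcard) hcQ hc1
  -- the normalizer of `Q` in `D`
  obtain ⟨N, hN⟩ : ∃ N : Subgroup G, N = Subgroup.normalizer (Q : Set G) ⊓ D := ⟨_, rfl⟩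
  have hND : N ≤ D := by rw [hN]; exact inf_le_right
  have hNdvd : Nat.card N ∣ Nat.card D := Subgroup.card_dvd_of_le hND
  have hNodd : Odd (Nat.card N) := Odd.of_dvd_nat hodd hNdvd
  have htN : ∀ y ∈ N, t * y * t⁻¹ ∈ N := by
    intro y hy
    rw [hN, Subgroup.mem_inf] at hy ⊢
    exact ⟨Subgroup.mul_mem _ (Subgroup.mul_mem _ htnQ hy.1) (Subgroup.inv_mem _ htnQ),
      htD y hy.2⟩
  have hNcent : N ≤ Subgroup.centralizer (Q : Set G) := by
    obtain ⟨C, hC⟩ : ∃ C : Subgroup G, C = N ⊓ Subgroup.centralizer (Q : Set G) := ⟨_, rfl⟩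
    have hCN : C ≤ N := by rw [hC]; exact inf_le_left
    have hQC : Q ≤ C := by
      intro y hy
      rw [hC, hN]
      refine ⟨⟨Subgroup.le_normalizer hy, hQD hy⟩, ?_⟩
      show y ∈ Subgroup.centralizer (Q : Set G)
      rw [Subgroup.mem_centralizer_iff]
      intro z hz
      exact hQcomm z hz y hy
    have hdvd : Nat.card N ∣ Nat.card C := by
      rw [← Nat.factorization_le_iff_dvd Nat.card_pos.ne' Nat.card_pos.ne']
      intro r
      by_cases hr : r.Prime
      · rw [← hr.pow_dvd_iff_le_factorization Nat.card_pos.ne']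
        haveI : Fact r.Prime := ⟨hr⟩
        by_cases hrq : r = q
        · rw [hrq]
          have h1 : (Nat.card N).factorization q ≤ (Nat.card D).factorization q :=
            (Nat.factorization_le_iff_dvd Nat.card_pos.ne' hDpos).2 hNdvd q
          have h2 : q ^ (Nat.card N).factorization q ∣ Nat.card Q := by
            rw [hQcard]; exact pow_dvd_pow q h1
          exact h2.trans (Subgroup.card_dvd_of_le hQC)
        · obtain ⟨R, hRN, hR, hRcard, hRt, -⟩ := exists_inv_sylow N hNodd t ht htN r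
          rw [← hRcard]
          apply Subgroup.card_dvd_of_le
          intro y hy
          have hyN : y ∈ N := hRN hy
          have hyn : y ∈ Subgroup.normalizer (Q : Set G) := by
            rw [hN] at hyN; exact hyN.1
          have hyD : y ∈ D := hND hyN
          rw [hC]
          refine ⟨hyN, ?_⟩
          show y ∈ Subgroup.centralizer (Q : Set G)
          obtain ⟨j, hj⟩ := hR ⟨y, hy⟩
          have hj' : y ^ r ^ j = 1 := congrArg Subtype.val hj
          obtain ⟨i, -, hi⟩ := (Nat.dvd_prime_pow hr).1 (orderOf_dvd_of_pow_eq_one hj')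
          by_cases hrC₀ : r ∣ Nat.card C₀
          · have hqr : q < r := lt_of_le_of_ne (hqmin r hr hrC₀) (Ne.symm hrq)
            obtain ⟨k, hk⟩ := hQ.exists_card_eq
            exact cent_of_large_prime hq hr hqr Q hcyc hk hyn hi
          · have hfpf : ∀ z ∈ R, t * z * t⁻¹ = z → z = 1 := by
              intro z hz hzt
              have hzD : z ∈ D := hND (hRN hz)
              have hzC₀ : z ∈ C₀ := by
                rw [hmemC₀]
                refine ⟨hzD, ?_⟩
                calc t * z = (t * z * t⁻¹) * t := by group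
                  _ = z * t := by rw [hzt]
              obtain ⟨j', hj'⟩ := hR ⟨z, hz⟩
              have hj'' : z ^ r ^ j' = 1 := congrArg Subtype.val hj'
              obtain ⟨i', -, hi'⟩ := (Nat.dvd_prime_pow hr).1 (orderOf_dvd_of_pow_eq_one hj'')
              have hd : orderOf z ∣ Nat.card C₀ := Subgroup.orderOf_dvd_natCard _ hzC₀
              rcases Nat.eq_zero_or_pos i' with h0 | h0
              · rw [h0, pow_zero, orderOf_eq_one_iff] at hi'
                exact hi'
              · exfalso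
                apply hrC₀
                refine dvd_trans ?_ hd
                rw [hi']
                exact dvd_pow_self r (by omega)
            have hinv := inverts_of_fpf R t ht hRt hfpf y hy
            have hyodd : Odd (orderOf y) := by
              have : orderOf y ∣ Nat.card D := Subgroup.orderOf_dvd_natCard _ hyD
              exact Odd.of_dvd_nat hodd this
            rw [Subgroup.mem_centralizer_iff]
            intro z hz
            refine cent_of_inverted Q t y htQ' ?_ hinv hyodd z hz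
            intro z hz
            exact (Subgroup.mem_normalizer_iff.1 hyn z).1 hz
      · rw [Nat.factorization_eq_zero_of_not_prime _ hr]
        exact Nat.zero_le _
    have : C = N := Subgroup.eq_of_le_of_card_ge hCN (Nat.le_of_dvd Nat.card_pos hdvd)
    rw [← this, hC]
    exact inf_le_right
  -- Burnside's transfer theorem
  have hPn : Subgroup.normalizer ((P : Subgroup G) : Set G) ≤
      Subgroup.centralizer ((P : Subgroup G) : Set G) := by
    rw [hPQ]
    intro g hg
    have hginv : g⁻¹ ∈ Subgroup.normalizer (Q : Set G) := Subgroup.inv_mem _ hg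
    have hconj : g⁻¹ * c * g ∈ Q := by
      have := (Subgroup.mem_normalizer_iff.1 hginv c).1 hcQ
      rwa [inv_inv] at this
    have hconjD := (hmemD _).1 (hQD hconj)
    rcases h.mem_of_conj hca hcb hc1 hconjD.1 hconjD.2 with h1 | h1
    · apply hNcent
      rw [hN]
      exact ⟨hg, (hmemD g).2 h1⟩
    · have h2 : g * t ∈ N := by
        rw [hN]
        exact ⟨Subgroup.mul_mem _ hg htnQ, (hmemD _).2 h1⟩
      have h3 := hNcent h2
      have h4 : g = (g * t) * t⁻¹ := by group
      rw [h4]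
      exact Subgroup.mul_mem _ h3 (Subgroup.inv_mem _ htQ)
  have hcompl := MonoidHom.ker_transferSylow_isComplement' P hPn
  apply hnil q hq hqd
  refine ⟨(MonoidHom.transferSylow P hPn).ker, inferInstance, ?_⟩
  rw [hcompl.symm.index_eq_card]
  exact P.card_eq_multiplicity

end ZOdd

end ZassOdd

end Cfsg.Agent.Lib.Helper6
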