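import Mathlib
import Cfsg.Agent.Lib.Helper6.ZassOdd

set_option autoImplicit false

namespace Cfsg.Agent.Lib.Helper6

open Cfsg MulAction Cfsg.Agent.Lib.Helper1
open scoped Pointwise

section ZassCount

variable {G Ω : Type*} [Group G] [MulAction G Ω]

/-- in a nilpotent group an element of `2`-power order commuting with all `2`-elements
is central -/
theorem nilp_central_of_comm {K : Subgroup G} [Finite K] (hnil : Group.IsNilpotent K)
    {x : G} (hxK : x ∈ K) (hx2 : ∃ k : ℕ, x ^ (2 ^ k) = 1)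
    (hcomm : ∀ w ∈ K, (∃ k : ℕ, w ^ (2 ^ k) = 1) → x * w = w * x) :
    ∀ w ∈ K, x * w = w * x := by
  haveI : Fact (Nat.Prime 2) := ⟨Nat.prime_two⟩
  have hnorm : ∀ (p : ℕ) [Fact p.Prime] (P : Sylow p K), (P : Subgroup K).Normal :=
    ((Group.isNilpotent_of_finite_tfae (G := K)).out 0 3).1 hnil
  obtain ⟨C, hC⟩ : ∃ C : Subgroup K, C = Subgroup.centralizer {(⟨x, hxK⟩ : K)} := ⟨_, rfl⟩
  have hmemC : ∀ w : K, w ∈ C ↔ (⟨x, hxK⟩ : K) * w = w * ⟨x, hxK⟩ := by
    intro w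
    rw [hC, Subgroup.mem_centralizer_iff]
    constructor
    · intro h; exact h _ rfl
    · intro h y hy
      rw [Set.mem_singleton_iff] at hy
      rw [hy]; exact h
  -- the Sylow `2`-subgroup contains `x`
  obtain ⟨S⟩ : Nonempty (Sylow 2 K) := inferInstance
  have hSn : (S : Subgroup K).Normal := hnorm 2 S
  have hxS : (⟨x, hxK⟩ : K) ∈ (S : Subgroup K) := by
    obtain ⟨k, hk⟩ := hx2
    have hpg : IsPGroup 2 (Subgroup.zpowers (⟨x, hxK⟩ : K)) := by
      rw [IsPGroup.iff_orderOf]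
      rintro ⟨y, hy⟩
      obtain ⟨j, rfl⟩ := Subgroup.mem_zpowers_iff.1 hy
      have hk' : (⟨x, hxK⟩ : K) ^ (2 ^ k) = 1 := Subtype.ext hk
      have : ((⟨x, hxK⟩ : K) ^ j) ^ (2 ^ k) = 1 := by
        rw [← zpow_natCast, ← zpow_mul, mul_comm, zpow_mul, zpow_natCast, hk', one_zpow]
      have hd := orderOf_dvd_of_pow_eq_one this
      obtain ⟨i, -, hi⟩ := (Nat.dvd_prime_pow Nat.prime_two).1 hd
      refine ⟨i, ?_⟩
      rw [Subgroup.orderOf_mk]
      exact hi
    obtain ⟨Q, hQ⟩ := hpg.exists_le_sylow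
    haveI : Unique (Sylow 2 K) := Sylow.unique_of_normal S hSn
    have : Q = S := Subsingleton.elim _ _
    rw [← this]
    exact hQ (Subgroup.mem_zpowers _)
  have hdvd : Nat.card K ∣ Nat.card C := by
    rw [← Nat.factorization_le_iff_dvd Nat.card_pos.ne' Nat.card_pos.ne']
    intro r
    by_cases hr : r.Prime
    · rw [← hr.pow_dvd_iff_le_factorization Nat.card_pos.ne']
      haveI : Fact r.Prime := ⟨hr⟩
      obtain ⟨P⟩ : Nonempty (Sylow r K) := inferInstance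
      rw [← P.card_eq_multiplicity]
      apply Subgroup.card_dvd_of_le
      intro w hw
      rw [hmemC]
      by_cases hr2 : r = 2
      · subst hr2
        obtain ⟨k, hk⟩ := P.2 ⟨w, hw⟩
        have hk' : (w : G) ^ (2 ^ k) = 1 := by
          have := congrArg (fun z : (P : Subgroup K) => ((z : K) : G)) hk
          simpa using this
        apply Subtype.ext
        exact hcomm w.1 w.2 ⟨k, hk'⟩
      · have hPn : (P : Subgroup K).Normal := hnorm r P
        have hdis : Disjoint (S : Subgroup K) (P : Subgroup K) :=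
          IsPGroup.disjoint_of_ne 2 r (Ne.symm hr2) _ _ S.2 P.2
        exact Subgroup.commute_of_normal_of_disjoint _ _ hSn hPn hdis _ _ hxS hw
    · rw [Nat.factorization_eq_zero_of_not_prime _ hr]
      exact Nat.zero_le _
  have hCtop : C = ⊤ := by
    apply Subgroup.eq_top_of_card_eq
    exact Nat.dvd_antisymm (Subgroup.card_subgroup_dvd_card _) hdvd
  intro w hw
  have : (⟨w, hw⟩ : K) ∈ C := by rw [hCtop]; trivial
  rw [hmemC] at this
  exact congrArg Subtype.val this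

/-- in odd degree, involutions of the kernel are central in the kernel -/
theorem ZKernel.invol_central [Finite G] [Fintype Ω] (hZ : Cfsg.IsZassenhausGroup G Ω)
    (hodd : Odd (Fintype.card Ω)) {a : Ω} {K : Subgroup G} (hK : ZKernel a K)
    {x : G} (hxK : x ∈ K) (hx : orderOf x = 2) : ∀ w ∈ K, x * w = w * x := by
  obtain ⟨z, hzK, hz, hzc⟩ := exists_two_central hK.nilp ⟨x, hxK, hx⟩
  have hx1 : x ≠ 1 := by
    intro h
    rw [h, orderOf_one] at hx
    norm_num at hx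
  obtain ⟨g, hg⟩ := isConj_iff.1 (zass_invol_conj hZ hodd hz hx)
  have hza : z • a = a := hK.le hzK
  have hga : g • a = a := by
    by_contra hne
    have h1 : x • (g • a) = g • a := by
      rw [← hg, mul_smul, mul_smul, inv_smul_smul, hza]
    exact hx1 (hK.free x hxK (g • a) hne h1)
  apply nilp_central_of_comm hK.nilp hxK ⟨1, by rw [pow_one, ← hx, pow_orderOf_eq_one]⟩
  intro w hw ⟨k, hk⟩
  have hw' : g⁻¹ * w * g⁻¹⁻¹ ∈ K := hK.normal g⁻¹ (Subgroup.inv_mem _ hga) w hw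
  have hw'2 : (g⁻¹ * w * g⁻¹⁻¹) ^ 2 ^ k = 1 := by
    rw [conj_pow, hk]; group
  have := hzc _ hw' ⟨k, hw'2⟩
  rw [← hg]
  calc g * z * g⁻¹ * w = g * (z * (g⁻¹ * w * g⁻¹⁻¹)) * g⁻¹ := by group
    _ = g * ((g⁻¹ * w * g⁻¹⁻¹) * z) * g⁻¹ := by rw [this]
    _ = w * (g * z * g⁻¹) := by group

/-- all two point stabilizers have the same order -/
theorem zass_card_stab2 (hZ : Cfsg.IsZassenhausGroup G Ω) {a b c d : Ω} (hab : a ≠ b)
    (hcd : c ≠ d) : Nat.card ↥(stabilizer G c ⊓ stabilizer G d) =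
      Nat.card ↥(stabilizer G a ⊓ stabilizer G b) := by
  obtain ⟨g, hga, hgb⟩ := zass_exists_map hZ hab hcd
  have hginv_c : g⁻¹ • c = a := by rw [← hga, inv_smul_smul]
  have hginv_d : g⁻¹ • d = b := by rw [← hgb, inv_smul_smul]
  refine Nat.card_congr ⟨fun x => ⟨g⁻¹ * x.1 * g, ?_⟩, fun y => ⟨g * y.1 * g⁻¹, ?_⟩, ?_, ?_⟩
  · have hx := x.2
    refine ⟨?_, ?_⟩
    · show (g⁻¹ * x.1 * g) • a = a
      rw [mul_smul, mul_smul, hga, hx.1, hginv_c]
    · show (g⁻¹ * x.1 * g) • b = b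
      rw [mul_smul, mul_smul, hgb, hx.2, hginv_d]
  · have hy := y.2
    refine ⟨?_, ?_⟩
    · show (g * y.1 * g⁻¹) • c = c
      rw [mul_smul, mul_smul, hginv_c, hy.1, hga]
    · show (g * y.1 * g⁻¹) • d = d
      rw [mul_smul, mul_smul, hginv_d, hy.2, hgb]
  · intro x
    apply Subtype.ext
    show g * (g⁻¹ * x.1 * g) * g⁻¹ = x.1
    group
  · intro y
    apply Subtype.ext
    show g⁻¹ * (g * y.1 * g⁻¹) * g = y.1
    group

/-- in odd degree, the number of involutions fixing a given point -/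
theorem zass_card_invol_fix [Finite G] [Fintype Ω] (hZ : Cfsg.IsZassenhausGroup G Ω)
    (hodd : Odd (Fintype.card Ω)) {c c' : Ω} (hcc' : c ≠ c') :
    Nat.card {x : G // orderOf x = 2 ∧ x • c = c} =
      Nat.card ↥(stabilizer G c ⊓ stabilizer G c') := by
  obtain ⟨K, hK⟩ := exists_zkernel hZ c
  haveI := zass_isPretransitive hZ
  -- an involution fixing `c`
  obtain ⟨z, hz, hzc⟩ : ∃ z : G, orderOf z = 2 ∧ z • c = c := by
    obtain ⟨⟨s, hs, -, -⟩, -, -⟩ := Cfsg.Agent.S0740.result hZ hcc'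
    obtain ⟨c₀, hc₀⟩ := zass_invol_fix_one hZ hodd hs
    obtain ⟨g, hg⟩ := MulAction.exists_smul_eq G c₀ c
    refine ⟨g * s * g⁻¹, ?_, ?_⟩
    · have := (MulAut.conj g).orderOf_eq s
      rw [MulAut.conj_apply] at this
      rw [this, hs]
    · rw [mul_smul, mul_smul, ← hg, inv_smul_smul, (hc₀ c₀).2 rfl]
  have hfixonly : ∀ x : G, orderOf x = 2 → x • c = c → ∀ c'', c'' ≠ c → x • c'' ≠ c'' := by
    intro x hx hxc c'' hne hfix
    obtain ⟨c₀, hc₀⟩ := zass_invol_fix_one hZ hodd hx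
    have h1 := (hc₀ c).1 hxc
    have h2 := (hc₀ c'').1 hfix
    exact hne (h2.trans h1.symm)
  have hinK : ∀ x : G, orderOf x = 2 → x • c = c → x ∈ K :=
    fun x hx hxc => hK.mem x hxc (hfixonly x hx hxc)
  have hzK := hinK z hz hzc
  have hz1 : z ≠ 1 := by
    intro h
    rw [h, orderOf_one] at hz
    norm_num at hz
  have hconj_ord : ∀ g : G, orderOf (g * z * g⁻¹) = 2 := by
    intro g
    have := (MulAut.conj g).orderOf_eq z
    rw [MulAut.conj_apply] at this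
    rw [this, hz]
  symm
  refine Nat.card_congr (Equiv.ofBijective
    (fun δ : ↥(stabilizer G c ⊓ stabilizer G c') => (⟨δ.1 * z * δ.1⁻¹, hconj_ord _, ?_⟩ :
      {x : G // orderOf x = 2 ∧ x • c = c})) ⟨?_, ?_⟩)
  · have hδc : δ.1 • c = c := δ.2.1
    rw [mul_smul, mul_smul, inv_smul_eq_iff.2 hδc.symm, hzc, hδc]
  · intro δ δ' hδδ'
    have h1 : δ.1 * z * δ.1⁻¹ = δ'.1 * z * δ'.1⁻¹ := congrArg (fun y => y.1) hδδ'
    obtain ⟨ε, hε⟩ : ∃ ε : G, ε = δ'.1⁻¹ * δ.1 := ⟨_, rfl⟩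
    have hεc : ε • c = c := by
      rw [hε, mul_smul, δ.2.1, inv_smul_eq_iff, δ'.2.1]
    have hεc' : ε • c' = c' := by
      rw [hε, mul_smul, δ.2.2, inv_smul_eq_iff, δ'.2.2]
    have hcomm : ε * z = z * ε := by
      rw [hε]
      calc δ'.1⁻¹ * δ.1 * z = δ'.1⁻¹ * (δ.1 * z * δ.1⁻¹) * δ.1 := by group
        _ = δ'.1⁻¹ * (δ'.1 * z * δ'.1⁻¹) * δ.1 := by rw [h1]
        _ = z * (δ'.1⁻¹ * δ.1) := by group
    have hfix3 : ε • (z • c') = z • c' := by
      rw [← mul_smul, hcomm, mul_smul, hεc']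
    have hzc'1 : z • c' ≠ c' := hfixonly z hz hzc c' (Ne.symm hcc')
    have hzc'2 : c ≠ z • c' := by
      intro h
      have : z • c = z • c' := hzc.trans h
      exact hcc' (MulAction.injective z this)
    have hε1 : ε = 1 := hZ.2.2.1 ε c c' (z • c') hcc' (Ne.symm hzc'1) hzc'2 hεc hεc' hfix3
    apply Subtype.ext
    have : δ.1 = δ'.1 * ε := by rw [hε]; group
    rw [this, hε1, mul_one]
  · rintro ⟨x, hx, hxc⟩
    have hxK := hinK x hx hxc
    have hx1 : x ≠ 1 := by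
      intro h
      rw [h, orderOf_one] at hx
      norm_num at hx
    obtain ⟨g, hg⟩ := isConj_iff.1 (zass_invol_conj hZ hodd hz hx)
    have hgc : g • c = c := by
      by_contra hne
      have h1 : x • (g • c) = g • c := by
        rw [← hg, mul_smul, mul_smul, inv_smul_smul, hzc]
      exact hx1 (hK.free x hxK (g • c) hne h1)
    obtain ⟨k, hkK, hkc, hkc'⟩ := hK.exists_factor hcc' g hgc
    refine ⟨⟨k⁻¹ * g, hkc, hkc'⟩, ?_⟩
    apply Subtype.ext
    show (k⁻¹ * g) * z * (k⁻¹ * g)⁻¹ = x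
    have e : (k⁻¹ * g) * z * (k⁻¹ * g)⁻¹ = k⁻¹ * (g * z * g⁻¹) * k := by group
    rw [e, hg]
    have := ZKernel.invol_central hZ hodd hK hxK hx k hkK
    calc k⁻¹ * x * k = k⁻¹ * (x * k) := by group
      _ = k⁻¹ * (k * x) := by rw [this]
      _ = x := by group

/-- in odd degree, the number of involutions -/
theorem zass_card_invol_odd [Finite G] [Fintype Ω] (hZ : Cfsg.IsZassenhausGroup G Ω)
    (hodd : Odd (Fintype.card Ω)) {a b : Ω} (hab : a ≠ b) :
    Nat.card {x : G // orderOf x = 2} =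
      Fintype.card Ω * Nat.card ↥(stabilizer G a ⊓ stabilizer G b) := by
  classical
  have hex : ∀ x : {x : G // orderOf x = 2}, ∃ c : Ω, ∀ y : Ω, x.1 • y = y ↔ y = c :=
    fun x => zass_invol_fix_one hZ hodd x.2
  choose f hf using hex
  rw [← Nat.card_congr (Equiv.sigmaFiberEquiv f), Nat.card_sigma]
  have hfib : ∀ c : Ω, Nat.card {x : {x : G // orderOf x = 2} // f x = c} =
      Nat.card ↥(stabilizer G a ⊓ stabilizer G b) := by
    intro c
    obtain ⟨c', hc', -⟩ := zass_exists_third hZ c c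
    rw [← zass_card_stab2 hZ hab (Ne.symm hc'), ← zass_card_invol_fix hZ hodd (Ne.symm hc')]
    refine Nat.card_congr ⟨fun y => ⟨y.1.1, y.1.2, ?_⟩, fun y => ⟨⟨y.1, y.2.1⟩, ?_⟩, ?_, ?_⟩
    · exact (hf y.1 c).2 y.2.symm
    · exact ((hf ⟨y.1, y.2.1⟩ c).1 y.2.2).symm
    · intro y; rfl
    · intro y; rfl
  rw [Finset.sum_congr rfl (fun c _ => hfib c), Finset.sum_const, Finset.card_univ, smul_eq_mul]

/-- in even degree with two point stabilizers of odd order, involutions fix no point -/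
theorem zass_invol_fpf [Finite G] [Fintype Ω] (hZ : Cfsg.IsZassenhausGroup G Ω)
    (hev : Even (Fintype.card Ω)) {a b : Ω} (hab : a ≠ b)
    (hodd : Odd (Nat.card ↥(stabilizer G a ⊓ stabilizer G b))) {x : G} (hx : orderOf x = 2)
    (c : Ω) : x • c ≠ c := by
  intro hxc
  have hx1 : x ≠ 1 := by
    intro h
    rw [h, orderOf_one] at hx
    norm_num at hx
  have hxx : x * x = 1 := by rw [← pow_two, ← hx, pow_orderOf_eq_one]
  obtain ⟨c₁, hc₁⟩ := Cfsg.Agent.S0740.exists_moved hZ hx1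
  have hswap : x • (x • c₁) = c₁ := by rw [← mul_smul, hxx, one_smul]
  obtain ⟨-, hf, -⟩ := Cfsg.Agent.S0740.result hZ (Ne.symm hc₁)
  have h02 := (hf x hx rfl hswap).2 hev
  by_cases hex : ∃ c₂, c₂ ≠ c ∧ x • c₂ = c₂
  · obtain ⟨c₂, hc₂, hxc₂⟩ := hex
    have hmem : x ∈ stabilizer G c ⊓ stabilizer G c₂ := ⟨hxc, hxc₂⟩
    have hd := Subgroup.orderOf_dvd_natCard _ hmem
    rw [hx, zass_card_stab2 hZ hab (Ne.symm hc₂)] at hd
    exact (Nat.not_even_iff_odd.2 hodd) (even_iff_two_dvd.2 hd)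
  · push Not at hex
    have hsub : ∀ z : fixedBy Ω x, z = ⟨c, hxc⟩ := by
      rintro ⟨z, hz⟩
      apply Subtype.ext
      show z = c
      by_contra hne
      exact hex z hne hz
    have h1 : Nat.card (fixedBy Ω x) = 1 := by
      rw [Nat.card_eq_one_iff_unique]
      exact ⟨⟨fun p q => (hsub p).trans (hsub q).symm⟩, ⟨⟨c, hxc⟩⟩⟩
    omega

/-- in even degree, the involutions moving `a` to `c` correspond to the two point stabilizer -/
theorem zass_card_invol_swap [Finite G] [Fintype Ω] (hZ : Cfsg.IsZassenhausGroup G Ω)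
    {a c : Ω} (hac : a ≠ c)
    (hinv : ∀ s : G, s • a = c → s • c = a → ∀ y ∈ stabilizer G a ⊓ stabilizer G c,
      s * y * s⁻¹ = y⁻¹) :
    Nat.card {x : G // orderOf x = 2 ∧ x • a = c} =
      Nat.card ↥(stabilizer G a ⊓ stabilizer G c) := by
  obtain ⟨⟨s, hs, hsa, hsc⟩, -, -⟩ := Cfsg.Agent.S0740.result hZ hac
  have hss : s * s = 1 := by rw [← pow_two, ← hs, pow_orderOf_eq_one]
  have hsinv : s⁻¹ = s := inv_eq_of_mul_eq_one_right hss
  symm
  refine Nat.card_congr ⟨fun δ => ⟨δ.1 * s, ?_, ?_⟩, fun x => ⟨x.1 * s⁻¹, ?_, ?_⟩, ?_, ?_⟩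
  · apply orderOf_eq_prime
    · have h1 := hinv s hsa hsc δ.1 δ.2
      rw [pow_two]
      calc δ.1 * s * (δ.1 * s) = δ.1 * (s * δ.1 * s⁻¹) * (s * s) := by group
        _ = 1 := by rw [h1, hss, mul_inv_cancel, one_mul]
    · intro e
      have : (δ.1 * s) • a = c := by
        rw [mul_smul, hsa]; exact δ.2.2
      rw [e, one_smul] at this
      exact hac this
  · rw [mul_smul, hsa]; exact δ.2.2
  · show (x.1 * s⁻¹) • a = a
    obtain ⟨x, hx, hxa⟩ := x
    have hxx : x * x = 1 := by rw [← pow_two, ← hx, pow_orderOf_eq_one]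
    show (x * s⁻¹) • a = a
    rw [hsinv, mul_smul, hsa, ← hxa, ← mul_smul, hxx, one_smul]
  · show (x.1 * s⁻¹) • c = c
    obtain ⟨x, hx, hxa⟩ := x
    show (x * s⁻¹) • c = c
    rw [hsinv, mul_smul, hsc, hxa]
  · intro δ
    apply Subtype.ext
    show δ.1 * s * s⁻¹ = δ.1
    group
  · intro x
    apply Subtype.ext
    show x.1 * s⁻¹ * s = x.1
    group

/-- in even degree, the number of involutions -/
theorem zass_card_invol_even [Finite G] [Fintype Ω] (hZ : Cfsg.IsZassenhausGroup G Ω)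
    (hev : Even (Fintype.card Ω)) {a b : Ω} (hab : a ≠ b)
    (hodd : Odd (Nat.card ↥(stabilizer G a ⊓ stabilizer G b)))
    (hinv : ∀ c, a ≠ c → ∀ s : G, s • a = c → s • c = a →
      ∀ y ∈ stabilizer G a ⊓ stabilizer G c, s * y * s⁻¹ = y⁻¹) :
    Nat.card {x : G // orderOf x = 2} =
      (Fintype.card Ω - 1) * Nat.card ↥(stabilizer G a ⊓ stabilizer G b) := by
  classical
  obtain ⟨f, hf⟩ : ∃ f : {x : G // orderOf x = 2} → {c : Ω // c ≠ a},
      ∀ x, (f x).1 = x.1 • a :=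
    ⟨fun x => ⟨x.1 • a, zass_invol_fpf hZ hev hab hodd x.2 a⟩, fun x => rfl⟩
  rw [← Nat.card_congr (Equiv.sigmaFiberEquiv f), Nat.card_sigma]
  have hfib : ∀ c : {c : Ω // c ≠ a}, Nat.card {x : {x : G // orderOf x = 2} // f x = c} =
      Nat.card ↥(stabilizer G a ⊓ stabilizer G b) := by
    intro c
    rw [← zass_card_stab2 hZ hab (Ne.symm c.2),
      ← zass_card_invol_swap hZ (Ne.symm c.2) (hinv c.1 (Ne.symm c.2))]
    refine Nat.card_congr ⟨fun y => ⟨y.1.1, y.1.2, ?_⟩, fun y => ⟨⟨y.1, y.2.1⟩, ?_⟩, ?_, ?_⟩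
    · rw [← hf, y.2]
    · apply Subtype.ext
      rw [hf]
      exact y.2.2
    · intro y; rfl
    · intro y; rfl
  rw [Finset.sum_congr rfl (fun c _ => hfib c), Finset.sum_const, Finset.card_univ, smul_eq_mul]
  congr 1
  exact Set.card_ne_eq a

/-- in even degree, all involutions are conjugate -/
theorem zass_invol_conj_even [Finite G] [Fintype Ω] (hZ : Cfsg.IsZassenhausGroup G Ω)
    (hev : Even (Fintype.card Ω)) {a b : Ω} (hab : a ≠ b)
    (hodd : Odd (Nat.card ↥(stabilizer G a ⊓ stabilizer G b)))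
    (hinv : ∀ s : G, s • a = b → s • b = a →
      ∀ y ∈ stabilizer G a ⊓ stabilizer G b, s * y * s⁻¹ = y⁻¹)
    {x y : G} (hx : orderOf x = 2) (hy : orderOf y = 2) : IsConj x y := by
  obtain ⟨⟨t, ht, hta, htb⟩, -, -⟩ := Cfsg.Agent.S0740.result hZ hab
  have htt : t * t = 1 := by rw [← pow_two, ← ht, pow_orderOf_eq_one]
  have htinv : t⁻¹ = t := inv_eq_of_mul_eq_one_right htt
  have key : ∀ x : G, orderOf x = 2 → IsConj x t := by
    intro x hx
    have hxx : x * x = 1 := by rw [← pow_two, ← hx, pow_orderOf_eq_one]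
    have hxinv : x⁻¹ = x := inv_eq_of_mul_eq_one_right hxx
    have hxa : x • a ≠ a := zass_invol_fpf hZ hev hab hodd hx a
    obtain ⟨g, hga, hgc⟩ := zass_exists_map hZ (Ne.symm hxa) hab
    -- the conjugate swaps `a` and `b`
    have h1 : (g * x * g⁻¹) • a = b := by
      rw [mul_smul, mul_smul, inv_smul_eq_iff.2 hga.symm, hgc]
    have h2 : (g * x * g⁻¹) • b = a := by
      rw [mul_smul, mul_smul, inv_smul_eq_iff.2 hgc.symm, ← mul_smul x x, hxx, one_smul, hga]
    obtain ⟨δ, hδ⟩ : ∃ δ : G, δ = g * x * g⁻¹ * t⁻¹ := ⟨_, rfl⟩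
    have hδD : δ ∈ stabilizer G a ⊓ stabilizer G b := by
      refine ⟨?_, ?_⟩
      · show δ • a = a
        rw [hδ, htinv, mul_smul, hta, h2]
      · show δ • b = b
        rw [hδ, htinv, mul_smul, htb, h1]
    have hx' : g * x * g⁻¹ = δ * t := by rw [hδ]; group
    -- a square root of `δ`
    have hδodd : Odd (orderOf δ) :=
      Odd.of_dvd_nat hodd (Subgroup.orderOf_dvd_natCard _ hδD)
    obtain ⟨k, hk⟩ := hδodd
    obtain ⟨ε, hε⟩ : ∃ ε : G, ε = δ ^ (k + 1) := ⟨_, rfl⟩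
    have hεD : ε ∈ stabilizer G a ⊓ stabilizer G b := by
      rw [hε]; exact Subgroup.pow_mem _ hδD _
    have hε2 : ε * ε = δ := by
      rw [hε, ← pow_add]
      have : k + 1 + (k + 1) = orderOf δ + 1 := by omega
      rw [this, pow_succ, pow_orderOf_eq_one, one_mul]
    have hεt : t * ε⁻¹ * t⁻¹ = ε := by
      have := hinv t hta htb ε⁻¹ (Subgroup.inv_mem _ hεD)
      rw [inv_inv] at this
      exact this
    have hconj : ε * t * ε⁻¹ = δ * t := by
      calc ε * t * ε⁻¹ = ε * (t * ε⁻¹ * t⁻¹) * t := by group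
        _ = ε * ε * t := by rw [hεt]
        _ = δ * t := by rw [hε2]
    have c1 : IsConj x (g * x * g⁻¹) := isConj_iff.2 ⟨g, rfl⟩
    have c2 : IsConj t (δ * t) := isConj_iff.2 ⟨ε, hconj⟩
    rw [hx'] at c1
    exact c1.trans c2.symm
  exact (key x hx).trans (key y hy).symm

end ZassCount

end Cfsg.Agent.Lib.Helper6
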