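import Mathlib
import Cfsg.Agent.Lib.Helper6.ZassCount
import Cfsg.Agent.S0157
import Cfsg.Agent.Lib.Helper8.CharOrth
import Cfsg.Agent.Lib.Helper8.BrauerSpan

set_option autoImplicit false

namespace Cfsg.Agent.Lib.Helper6

open Cfsg MulAction Cfsg.Agent.Lib.Helper1

section ZassCard


theorem zass_card_group {G Ω : Type*} [Group G] [Finite G] [MulAction G Ω] [Fintype Ω]
    (hZ : Cfsg.IsZassenhausGroup G Ω) {a b : Ω} (hab : a ≠ b) :
    Nat.card G = Fintype.card Ω * (Fintype.card Ω - 1) *
      Nat.card ↥(stabilizer G a ⊓ stabilizer G b) := by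
  classical
  haveI := hZ.2.1
  obtain ⟨x, hx0, hx1⟩ : ∃ x : Fin 2 ↪ Ω, x 0 = a ∧ x 1 = b := by
    refine ⟨⟨![a, b], ?_⟩, rfl, rfl⟩
    intro i j hij
    fin_cases i <;> fin_cases j <;> simp_all
  have h1 := MulAction.index_stabilizer_of_transitive G x
  have hst : stabilizer G x = stabilizer G a ⊓ stabilizer G b := by
    ext g
    rw [mem_stabilizer_iff, Subgroup.mem_inf, mem_stabilizer_iff, mem_stabilizer_iff]
    constructor
    · intro h
      have h0 := DFunLike.congr_fun h 0
      have h1 := DFunLike.congr_fun h 1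
      rw [Function.Embedding.smul_apply] at h0 h1
      rw [← hx0, ← hx1]
      exact ⟨h0, h1⟩
    · rintro ⟨h0, h1⟩
      ext i
      rw [Function.Embedding.smul_apply]
      fin_cases i
      · show g • x 0 = x 0
        rw [hx0]; exact h0
      · show g • x 1 = x 1
        rw [hx1]; exact h1
  have h2 : Nat.card (Fin 2 ↪ Ω) = (Fintype.card Ω).descFactorial 2 := by
    rw [Nat.card_eq_fintype_card, Fintype.card_embedding_eq, Fintype.card_fin]
  rw [← Subgroup.card_mul_index (stabilizer G x), h1, hst, h2]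
  have : (Fintype.card Ω).descFactorial 2 = Fintype.card Ω * (Fintype.card Ω - 1) := by
    simp [Nat.descFactorial]
    ring
  rw [this]
  ring

open scoped ComplexConjugate in
theorem zass_two_mul_card_fpf {G Ω : Type*} [Group G] [Finite G] [MulAction G Ω] [Fintype Ω]
    (hZ : Cfsg.IsZassenhausGroup G Ω) :
    2 * Nat.card {g : G // ∀ c : Ω, g • c ≠ c} + (Fintype.card Ω - 1) * (Fintype.card Ω - 2) =
      Nat.card G := by
  classical
  haveI : Fintype G := Fintype.ofFinite G
  haveI := zass_isPretransitive hZ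
  have hn3 := zass_card_ge_three hZ
  obtain ⟨p, hp⟩ : ∃ p : G → ℕ, ∀ g, p g = Nat.card (fixedBy Ω g) := ⟨_, fun g => rfl⟩
  have hp1 : p 1 = Fintype.card Ω := by
    rw [hp, fixedBy_one_eq_univ, Nat.card_eq_fintype_card]
    exact Fintype.card_congr (Equiv.Set.univ Ω)
  have hχ : IsIrrCharacter G (fun g => (p g : ℂ) - 1) := by
    have := (Cfsg.Agent.S0157.result (G := G) Ω (by
      rw [Nat.card_eq_fintype_card]; omega)).2 hZ.2.1
    convert this using 2
    rename_i g
    rw [hp]
  have h1 : IsIrrCharacter G (fun _ => (1 : ℂ)) := by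
    have := Cfsg.Agent.Lib.Helper8.isIrrCharacter_of_hom (1 : G →* ℂˣ)
    simpa using this
  have hne : (fun g => (p g : ℂ) - 1) ≠ fun _ : G => (1 : ℂ) := by
    intro h
    have := congrFun h 1
    simp only [hp1] at this
    have h2 : (Fintype.card Ω : ℂ) = 2 := by linear_combination this
    have h3 : Fintype.card Ω = 2 := by exact_mod_cast h2
    omega
  have hnorm := Cfsg.Agent.Lib.Helper8.irr_classInner hχ hχ
  have horth := Cfsg.Agent.Lib.Helper8.irr_classInner hχ h1
  rw [if_pos rfl] at hnorm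
  rw [if_neg hne] at horth
  unfold classInner at hnorm horth
  have hG0 : (Nat.card G : ℂ) ≠ 0 := Nat.cast_ne_zero.2 Nat.card_pos.ne'
  have hs1 : ∑ g : G, ((p g : ℂ) - 1) * ((p g : ℂ) - 1) = Nat.card G := by
    have : ∑ g : G, ((p g : ℂ) - 1) * conj ((p g : ℂ) - 1) = Nat.card G := by
      field_simp at hnorm
      exact hnorm
    simpa using this
  have hs2 : ∑ g : G, ((p g : ℂ) - 1) = 0 := by
    have : ∑ g : G, ((p g : ℂ) - 1) * conj (1 : ℂ) = 0 := by
      rcases mul_eq_zero.1 horth with h | h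
      · exact absurd (inv_eq_zero.1 h) hG0
      · exact h
    simpa using this
  have hs3 : ∑ g : G, ((p g : ℂ) - 1) * ((p g : ℂ) - 2) = Nat.card G := by
    rw [← hs1, ← sub_zero (∑ g : G, ((p g : ℂ) - 1) * ((p g : ℂ) - 1)), ← hs2,
      ← Finset.sum_sub_distrib]
    apply Finset.sum_congr rfl
    intro g _
    ring
  -- evaluate termwise
  have hterm : ∀ g : G, g ≠ 1 → ((p g : ℂ) - 1) * ((p g : ℂ) - 2) =
      if p g = 0 then 2 else 0 := by
    intro g hg
    have hle : p g ≤ 2 := by rw [hp]; exact card_fixedBy_le_two hZ hg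
    interval_cases h : p g
    · simp
    · simp
    · simp
  rw [← Finset.add_sum_erase Finset.univ _ (Finset.mem_univ (1 : G)), hp1] at hs3
  rw [Finset.sum_congr rfl (fun g hg => hterm g (Finset.ne_of_mem_erase hg))] at hs3
  rw [Finset.sum_ite, Finset.sum_const, Finset.sum_const_zero, add_zero, nsmul_eq_mul] at hs3
  have hfilter : ((Finset.univ.erase (1 : G)).filter (fun g => p g = 0)).card =
      Nat.card {g : G // ∀ c : Ω, g • c ≠ c} := by
    rw [Nat.card_eq_fintype_card, Fintype.card_subtype]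
    congr 1
    ext g
    simp only [Finset.mem_filter, Finset.mem_erase, Finset.mem_univ, and_true, true_and]
    constructor
    · rintro ⟨-, h0⟩ c hc
      rw [hp, Nat.card_eq_zero] at h0
      rcases h0 with h0 | h0
      · exact h0.false ⟨c, hc⟩
      · exact h0.false
    · intro hfpf
      have hg1 : g ≠ 1 := by
        intro e
        obtain ⟨a, -⟩ := zass_exists_three hZ
        exact hfpf a (by rw [e, one_smul])
      refine ⟨hg1, ?_⟩
      rw [hp, Nat.card_eq_zero]
      left
      exact ⟨fun ⟨c, hc⟩ => hfpf c hc⟩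
  rw [hfilter] at hs3
  have hcast : ((Fintype.card Ω : ℂ) - 1) * ((Fintype.card Ω : ℂ) - 2) =
      (((Fintype.card Ω - 1) * (Fintype.card Ω - 2) : ℕ) : ℂ) := by
    rw [Nat.cast_mul, Nat.cast_sub (by omega), Nat.cast_sub (by omega)]
    simp
  rw [hcast] at hs3
  have : (((Fintype.card Ω - 1) * (Fintype.card Ω - 2) +
      Nat.card {g : G // ∀ c : Ω, g • c ≠ c} * 2 : ℕ) : ℂ) = (Nat.card G : ℂ) := by
    rw [← hs3]
    push_cast
    ring
  have := Nat.cast_injective this
  omega


end ZassCard

end Cfsg.Agent.Lib.Helper6
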