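import Mathlib
import Cfsg.Agent.Lib.Helper6.ZassCount
import Cfsg.Agent.S0739

set_option autoImplicit false

namespace Cfsg.Agent.Lib.Helper6

open Cfsg MulAction Cfsg.Agent.Lib.Helper1

section ZassSimple

variable {G Ω : Type*} [Group G] [MulAction G Ω]

/-- the kernel has one element less than there are points -/
theorem ZKernel.card_add_one [Finite G] [Fintype Ω] (hZ : Cfsg.IsZassenhausGroup G Ω) {a : Ω}
    {K : Subgroup G} (hK : ZKernel a K) : Nat.card K + 1 = Fintype.card Ω := by
  classical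
  obtain ⟨b, hba, -⟩ := zass_exists_third hZ a a
  have h1 : Nat.card K = Nat.card {c : Ω // c ≠ a} := by
    refine Nat.card_congr (Equiv.ofBijective (fun k : K => (⟨k.1 • b, ?_⟩ : {c : Ω // c ≠ a}))
      ⟨?_, ?_⟩)
    · intro h
      have hka : k.1 • a = a := hK.le k.2
      exact hba (MulAction.injective k.1 (h.trans hka.symm))
    · intro k k' hkk'
      have h1 : k.1 • b = k'.1 • b := congrArg Subtype.val hkk'
      have h2 : (k'.1⁻¹ * k.1) • b = b := by rw [mul_smul, h1, inv_smul_smul]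
      have h3 := hK.free _ (K.mul_mem (K.inv_mem k'.2) k.2) b hba h2
      apply Subtype.ext
      calc k.1 = k'.1 * (k'.1⁻¹ * k.1) := by group
        _ = k'.1 := by rw [h3, mul_one]
    · rintro ⟨c, hc⟩
      obtain ⟨k, hk, hkb⟩ := hK.trans b c hba hc
      exact ⟨⟨k, hk⟩, Subtype.ext hkb⟩
  have h2 : Nat.card {c : Ω // c ≠ a} = Fintype.card Ω - 1 := by
    rw [Nat.card_eq_fintype_card]
    exact Set.card_ne_eq a
  have h3 : 0 < Fintype.card Ω := Fintype.card_pos_iff.2 ⟨a⟩
  omega

/-- a subgroup of the right order whose elements fix only `a` is the kernel -/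
theorem ZKernel.eq_of_card [Finite G] [Fintype Ω] (hZ : Cfsg.IsZassenhausGroup G Ω) {a : Ω}
    {K : Subgroup G} (hK : ZKernel a K) (H : Subgroup G) (hHa : H ≤ stabilizer G a)
    (hHcard : Nat.card H + 1 = Fintype.card Ω)
    (hHfix : ∀ u ∈ H, u ≠ 1 → ∀ c : Ω, u • c = c → c = a) : H = K := by
  have hle : H ≤ K := by
    intro u hu
    by_cases hu1 : u = 1
    · rw [hu1]; exact K.one_mem
    · exact hK.mem u (hHa hu) (fun c hca hc => hca (hHfix u hu hu1 c hc))
  apply Subgroup.eq_of_le_of_card_ge hle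
  have := hK.card_add_one hZ
  omega

/-- in a simple Zassenhaus group with two point stabilizers of odd order, elements swapping
two points invert their stabilizer -/
theorem zass_simple_invert [Finite G] [Fintype Ω] (hZ : Cfsg.IsZassenhausGroup G Ω)
    [IsSimpleGroup G] {a b : Ω} (hab : a ≠ b)
    (hodd : Odd (Nat.card ↥(stabilizer G a ⊓ stabilizer G b))) :
    ∀ c d : Ω, c ≠ d → ∀ s : G, s • c = d → s • d = c →
      ∀ y ∈ stabilizer G c ⊓ stabilizer G d, s * y * s⁻¹ = y⁻¹ := by
  obtain ⟨⟨t, ht, -, -⟩, -, -⟩ := Cfsg.Agent.S0740.result hZ hab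
  have h2G : 2 ∣ Nat.card G := by rw [← ht]; exact orderOf_dvd_natCard t
  intro c d hcd
  have hoddc : Odd (Nat.card ↥(stabilizer G c ⊓ stabilizer G d)) := by
    rw [zass_card_stab2 hZ hab hcd]; exact hodd
  refine (Cfsg.Agent.S0739.result hZ hcd hoddc ?_).2.2
  intro q hq hqd
  rintro ⟨N, hN, hNi⟩
  have hq2 : q ≠ 2 := by
    intro e2
    rw [e2] at hqd
    exact (Nat.not_even_iff_odd.2 hoddc) (even_iff_two_dvd.2 hqd)
  have hqG : q ∣ Nat.card G := hqd.trans (Subgroup.card_subgroup_dvd_card _)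
  have hv : 0 < (Nat.card G).factorization q :=
    hq.factorization_pos_of_dvd Nat.card_pos.ne' hqG
  rcases hN.eq_bot_or_eq_top with hb | htop
  · rw [hb, Subgroup.index_bot] at hNi
    have hoddG : Odd (Nat.card G) := by
      rw [hNi]
      exact (hq.eq_two_or_odd'.resolve_left hq2).pow
    exact (Nat.not_even_iff_odd.2 hoddG) (even_iff_two_dvd.2 h2G)
  · rw [htop, Subgroup.index_top] at hNi
    have : 1 < q ^ (Nat.card G).factorization q := Nat.one_lt_pow hv.ne' hq.one_lt
    omega

end ZassSimple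

end Cfsg.Agent.Lib.Helper6
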